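/-
Jordan's theorem on primitive groups containing a cycle of prime length, via the Frattini argument.
-/
import Mathlib

set_option autoImplicit false
set_option linter.style.haveILetI false

open Equiv MulAction
open scoped Pointwise

namespace CfsgLib.Perm

variable {α : Type*} [Fintype α] [DecidableEq α]

/-- The elements of a subgroup of `Perm α` fixing a set pointwise. -/
def fixedPart (G : Subgroup (Equiv.Perm α)) (s : Set α) : Subgroup (Equiv.Perm α) :=
  G ⊓ fixingSubgroup (Equiv.Perm α) s

omit [Fintype α] [DecidableEq α] in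
theorem mem_fixedPart_iff {G : Subgroup (Equiv.Perm α)} {s : Set α} {h : Equiv.Perm α} :
    h ∈ fixedPart G s ↔ h ∈ G ∧ ∀ y ∈ s, h y = y := by
  simp [fixedPart, mem_fixingSubgroup_iff]

/-- Frattini: if `g` generates a Sylow subgroup of the pointwise stabilizer of its fixed points and
`G` is highly enough transitive, `G` contains a 3-cycle on those fixed points. -/
theorem exists_isThreeCycle_of_normalizer {G : Subgroup (Equiv.Perm α)} {g : Equiv.Perm α}
    (hg : g ∈ G) {r k N : ℕ} (hr : r.Prime) (hor : orderOf g = r)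
    (hk : {x | g x = x}.ncard = k) (hk3 : 3 ≤ k) (htr : IsMultiplyPretransitive G α k)
    (hsyl : ¬ r ^ 2 ∣ Nat.card (fixedPart G {x | g x = x}))
    (hN : ¬ 3 ∣ N) (hcent : ∀ c ∈ G, Commute c g → ∀ x, g x ≠ x → (c ^ N) x = x) :
    ∃ t ∈ G, t.IsThreeCycle := by
  classical
  haveI := Fact.mk hr
  set s : Set α := {x | g x = x} with hs
  obtain ⟨e⟩ : Nonempty (Fin k ≃ s) :=
    Finite.card_eq.mp (by rw [Nat.card_fin, Nat.card_coe_set_eq, hk])
  let emb : Fin k ↪ α := ⟨fun i => e i, fun i j h => e.injective (Subtype.ext h)⟩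
  set K := fixedPart G s with hK
  have hgK : g ∈ K := mem_fixedPart_iff.mpr ⟨hg, fun y hy => hy⟩
  have hKfac : (Nat.card K).factorization r = 1 := by
    refine le_antisymm ?_ ?_
    · by_contra h
      exact hsyl ((hr.pow_dvd_iff_le_factorization Nat.card_pos.ne').mpr (by omega))
    · refine (hr.pow_dvd_iff_le_factorization Nat.card_pos.ne').mp ?_
      rw [pow_one, ← hor]
      exact K.orderOf_dvd_natCard hgK
  have hcard : ∀ z : K, orderOf z = r →
      Nat.card (Subgroup.zpowers z) = r ^ (Nat.card K).factorization r := fun z hz => by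
    rw [Nat.card_zpowers, hz, hKfac, pow_one]
  -- normalizing elements inducing a prescribed permutation of `s`
  have key : ∀ σ : Equiv.Perm (Fin k), ∃ n ∈ G, (∀ i, n (emb i) = emb (σ i)) ∧
      ∃ j : ℤ, n * g * n⁻¹ = g ^ j := by
    intro σ
    obtain ⟨h, hh⟩ := htr.exists_smul_eq emb (σ.toEmbedding.trans emb)
    have hh' : ∀ i, (h : Equiv.Perm α) (emb i) = emb (σ i) := fun i => DFunLike.congr_fun hh i
    have hfix : ∀ y ∈ s, (h : Equiv.Perm α) (g ((h : Equiv.Perm α)⁻¹ y)) = y := by
      intro y hy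
      have hy' : y = emb (e.symm ⟨y, hy⟩) := by
        show y = ((e (e.symm ⟨y, hy⟩) : s) : α); rw [Equiv.apply_symm_apply]
      have h1 : (h : Equiv.Perm α)⁻¹ y = emb (σ⁻¹ (e.symm ⟨y, hy⟩)) := by
        rw [Equiv.Perm.inv_eq_iff_eq, hh']
        simpa using hy'
      have h2 : ∀ i, g (emb i) = emb i := fun i => (e i).2
      rw [h1, h2, hh']
      simpa using hy'.symm
    set g' : Equiv.Perm α := h * g * (h : Equiv.Perm α)⁻¹ with hg'
    have hg'K : g' ∈ K := mem_fixedPart_iff.mpr
      ⟨mul_mem (mul_mem h.2 hg) (inv_mem h.2), fun y hy => by simpa [hg'] using hfix y hy⟩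
    have hor' : orderOf g' = r := by
      rw [← hor]
      exact orderOf_injective (MulAut.conj (h : Equiv.Perm α)).toMonoidHom
        (MulAut.conj (h : Equiv.Perm α)).injective g
    obtain ⟨P, hP⟩ : ∃ P : Sylow r K, (P : Subgroup K) = Subgroup.zpowers (⟨g, hgK⟩ : K) :=
      ⟨Sylow.ofCard _ (hcard _ (by rw [Subgroup.orderOf_mk, hor])), rfl⟩
    obtain ⟨Q, hQ⟩ : ∃ Q : Sylow r K, (Q : Subgroup K) = Subgroup.zpowers (⟨g', hg'K⟩ : K) :=
      ⟨Sylow.ofCard _ (hcard _ (by rw [Subgroup.orderOf_mk, hor'])), rfl⟩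
    obtain ⟨f, hf⟩ := MulAction.exists_smul_eq K Q P
    have hmem : f * ⟨g', hg'K⟩ * f⁻¹ ∈ Subgroup.zpowers (⟨g, hgK⟩ : K) := by
      rw [← hP, ← hf, Sylow.coe_subgroup_smul]
      have h1 : (⟨g', hg'K⟩ : K) ∈ (Q : Subgroup K) := by rw [hQ]; exact Subgroup.mem_zpowers _
      have h2 := Subgroup.smul_mem_pointwise_smul _ (MulAut.conj f) _ h1
      rw [MulAut.smul_def, MulAut.conj_apply] at h2
      exact h2
    obtain ⟨j, hj⟩ := Subgroup.mem_zpowers_iff.mp hmem
    refine ⟨(f : Equiv.Perm α) * h, mul_mem (mem_fixedPart_iff.mp f.2).1 h.2, fun i => ?_, j, ?_⟩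
    · rw [Equiv.Perm.mul_apply, hh']
      exact (mem_fixedPart_iff.mp f.2).2 _ (e (σ i)).2
    · have := congrArg (fun z : K => (z : Equiv.Perm α)) hj
      simp only [SubgroupClass.coe_zpow, Subgroup.coe_mul, InvMemClass.coe_inv] at this
      rw [this, hg']
      group
  let i0 : Fin k := ⟨0, by omega⟩
  let i1 : Fin k := ⟨1, by omega⟩
  let i2 : Fin k := ⟨2, by omega⟩
  obtain ⟨n, hnG, hn, a, ha⟩ := key (Equiv.swap i0 i1)
  obtain ⟨m, hmG, hm, b, hb⟩ := key (Equiv.swap i1 i2)
  set c := (m * n)⁻¹ * (n * m) with hc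
  have hcG : c ∈ G := mul_mem (inv_mem (mul_mem hmG hnG)) (mul_mem hnG hmG)
  have hcg : Commute c g := by
    have hconj : ∀ (u v : Equiv.Perm α) (x y : ℤ), u * g * u⁻¹ = g ^ x → v * g * v⁻¹ = g ^ y →
        (u * v) * g * (u * v)⁻¹ = g ^ (x * y) := by
      intro u v x y hu hv
      calc (u * v) * g * (u * v)⁻¹ = u * (v * g * v⁻¹) * u⁻¹ := by group
        _ = (u * g * u⁻¹) ^ y := by rw [hv, conj_zpow]
        _ = g ^ (x * y) := by rw [hu, ← zpow_mul]
    have h1 := hconj n m a b ha hb
    rw [mul_comm a b, ← hconj m n b a hb ha] at h1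
    show c * g = g * c
    calc c * g = (m * n)⁻¹ * ((n * m) * g * (n * m)⁻¹) * (n * m) := by rw [hc]; group
      _ = g * c := by rw [h1, hc]; group
  set π : Equiv.Perm (Fin k) :=
    (Equiv.swap i1 i2 * Equiv.swap i0 i1)⁻¹ * (Equiv.swap i0 i1 * Equiv.swap i1 i2) with hπ
  have hcπ : ∀ i, c (emb i) = emb (π i) := by
    intro i
    have h1 : ∀ i, (m * n) (emb i) = emb ((Equiv.swap i1 i2 * Equiv.swap i0 i1) i) := fun i => by
      rw [Equiv.Perm.mul_apply, Equiv.Perm.mul_apply, hn, hm]
    rw [hc, Equiv.Perm.mul_apply, Equiv.Perm.inv_eq_iff_eq, h1, hπ]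
    simp [Equiv.Perm.mul_apply, hn, hm]
  have hcN' : ∀ (j : ℕ) i, (c ^ j) (emb i) = emb ((π ^ j) i) := by
    intro j
    induction j with
    | zero => simp
    | succ j ih => intro i; rw [pow_succ, pow_succ, Equiv.Perm.mul_apply, hcπ, ih]; rfl
  have hcN := hcN' N
  have hπ3 : π.IsThreeCycle := by
    have h01 : i0 ≠ i1 := by simp [i0, i1]
    have h12 : i1 ≠ i2 := by simp [i1, i2]
    have h02 : i0 ≠ i2 := by simp [i0, i2]
    have : π = Equiv.swap i0 i1 * Equiv.swap i0 i2 := by
      rw [hπ, mul_inv_rev, Equiv.swap_inv, Equiv.swap_inv]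
      ext x
      simp only [Equiv.Perm.mul_apply, Equiv.swap_apply_def]
      grind
    rw [this]
    exact Equiv.Perm.isThreeCycle_swap_mul_swap_same h01 h02 h12
  have hπN : (π ^ N).IsThreeCycle := by
    rcases (show N % 3 = 1 ∨ N % 3 = 2 by omega) with h | h <;>
      rw [← pow_mod_orderOf, hπ3.orderOf, h]
    · rwa [pow_one]
    · rw [sq]; exact hπ3.isThreeCycle_sq
  refine ⟨c ^ N, pow_mem hcG N, ?_⟩
  rw [← card_support_eq_three_iff, ← hπN.card_support,
    ← Finset.card_map emb]
  congr 1
  ext x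
  rw [Equiv.Perm.mem_support, Finset.mem_map]
  constructor
  · intro hx
    have hxs : g x = x := by
      by_contra h
      exact hx (hcent c hcG hcg x h)
    have hx' : x = emb (e.symm ⟨x, hxs⟩) := by
      show x = ((e (e.symm ⟨x, hxs⟩) : s) : α); rw [Equiv.apply_symm_apply]
    refine ⟨e.symm ⟨x, hxs⟩, ?_, hx'.symm⟩
    rw [Equiv.Perm.mem_support]
    intro h
    apply hx
    rw [hx', hcN, h]
  · rintro ⟨i, hi, rfl⟩
    rw [hcN]
    exact fun h => Equiv.Perm.mem_support.mp hi (emb.injective h)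

/-- **Jordan.** A primitive group containing a cycle of prime length `p` with at least three fixed
points contains the alternating group. -/
theorem alternatingGroup_le_of_isCycle_prime {G : Subgroup (Equiv.Perm α)}
    (hG : IsPreprimitive G α) {p : ℕ} (hp : p.Prime) (hp3 : p + 3 ≤ Nat.card α)
    {g : Equiv.Perm α} (hgc : g.IsCycle) (hgp : g.support.card = p) (hg : g ∈ G) :
    alternatingGroup α ≤ G := by
  classical
  by_cases h3 : p = 3
  · exact Equiv.Perm.alternatingGroup_le_of_isPreprimitive_of_isThreeCycle_mem hG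
      (card_support_eq_three_iff.mp (hgp.trans h3)) hg
  have hs : {x | g x = x} = ((g.support : Set α))ᶜ := by
    ext x; simp
  have hcard : {x | g x = x}.ncard + p = Nat.card α := by
    rw [hs, ← hgp, ← Set.ncard_coe_finset, add_comm, Set.ncard_add_ncard_compl]
  have hp2 := hp.two_le
  set k := {x | g x = x}.ncard with hk
  have hsub : Nat.card (SubMulAction.ofFixingSubgroup G {x | g x = x}) = p := by
    rw [Nat.card_eq_fintype_card, Fintype.card_subtype, ← hgp]
    congr 1
    ext x
    simp [SubMulAction.mem_ofFixingSubgroup_iff]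
  haveI : IsPretransitive (fixingSubgroup G {x | g x = x})
      (SubMulAction.ofFixingSubgroup G {x | g x = x}) := by
    rw [hs]; exact Equiv.Perm.isPretransitive_of_isCycle_mem hgc hg
  have hmp : IsMultiplyPreprimitive G α (k - 1 + 2) :=
    hG.isMultiplyPreprimitive (s := {x | g x = x}) (n := k - 1) (by omega)
      (by omega) (IsPreprimitive.of_prime_card (hsub.symm ▸ hp))
  have htr : IsMultiplyPretransitive G α k := by
    have := hmp.isMultiplyPretransitive
    exact MulAction.isMultiplyPretransitive_of_le (n := k - 1 + 2) (by omega) (by omega)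
  have hor : orderOf g = p := by rw [hgc.orderOf, hgp]
  haveI := Fact.mk hp
  have hsyl : ¬ p ^ 2 ∣ Nat.card (fixedPart G {x | g x = x}) := by
    intro h
    have h1 : Nat.card (fixedPart G {x | g x = x}) ∣ Nat.card (Equiv.Perm {x // g x ≠ x}) := by
      let f : fixedPart G {x | g x = x} →* Equiv.Perm {x // g x ≠ x} :=
        { toFun := fun u => (u : Equiv.Perm α).subtypePerm fun x => by
            constructor
            · intro hx h'
              exact hx (by
                have := (mem_fixedPart_iff.mp u.2).2 x h'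
                rwa [this])
            · intro hx h'
              exact hx (by
                have hu := (mem_fixedPart_iff.mp u.2).2 _ h'
                rw [(u : Equiv.Perm α).injective hu] at h'
                exact h')
          map_one' := by ext x; rfl
          map_mul' := fun u v => by ext x; rfl }
      refine Subgroup.card_dvd_of_injective f fun u v huv => ?_
      ext x
      by_cases hx : g x = x
      · rw [(mem_fixedPart_iff.mp u.2).2 x hx, (mem_fixedPart_iff.mp v.2).2 x hx]
      · exact congrArg Subtype.val (Equiv.Perm.congr_fun huv ⟨x, hx⟩)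
    have h2 : Nat.card (Equiv.Perm {x // g x ≠ x}) = p.factorial := by
      rw [Nat.card_perm, Nat.card_eq_fintype_card, Fintype.card_subtype, ← hgp]
      congr 2
    have h3 := h.trans (h2 ▸ h1)
    rw [← Nat.mul_factorial_pred hp.ne_zero, sq] at h3
    exact (Nat.not_le.mpr (Nat.sub_lt hp.pos one_pos))
      (hp.dvd_factorial.mp (Nat.dvd_of_mul_dvd_mul_left hp.pos h3))
  have hcent : ∀ c ∈ G, Commute c g → ∀ x, g x ≠ x → (c ^ p) x = x := by
    intro c _ hc x hx
    have hcx : g (c x) ≠ c x := by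
      rw [← Equiv.Perm.mul_apply, ← hc.eq, Equiv.Perm.mul_apply]
      exact c.injective.ne hx
    obtain ⟨i, hi⟩ := hgc.sameCycle hx hcx
    have key : ∀ j : ℕ, (c ^ j) x = (g ^ (i * j)) x := by
      intro j
      induction j with
      | zero => simp
      | succ j ih =>
        rw [pow_succ', Equiv.Perm.mul_apply, ih, ← Equiv.Perm.mul_apply,
          (hc.zpow_right (i * j)).eq, Equiv.Perm.mul_apply, ← hi, ← Equiv.Perm.mul_apply, ← zpow_add]
        congr 2
        push_cast
        ring
    rw [key, zpow_mul, zpow_natCast, ← zpow_natCast, ← zpow_mul, mul_comm, zpow_mul, zpow_natCast,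
      ← hor, pow_orderOf_eq_one, one_zpow, Equiv.Perm.one_apply]
  obtain ⟨t, ht, ht3⟩ := exists_isThreeCycle_of_normalizer hg hp hor hk.symm (by omega) htr hsyl
    (fun h => h3 ((Nat.prime_dvd_prime_iff_eq Nat.prime_three hp).mp h).symm) hcent
  exact Equiv.Perm.alternatingGroup_le_of_isPreprimitive_of_isThreeCycle_mem hG ht3 ht

end CfsgLib.Perm
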