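import Mathlib

/-!
Automorphisms of the alternating groups: an automorphism preserving 3-cycles is conjugation by a
permutation; all automorphisms do for degree `≠ 6`.
-/

set_option autoImplicit false

namespace CfsgLib.AutAlternating

open Equiv Equiv.Perm
open scoped Nat

variable {α : Type*} [Fintype α] [DecidableEq α]

/-- the cycle `a → b → c → a` -/
def tc (a b c : α) : Perm α := swap a b * swap b c

theorem tc_fst {a b c : α} (hab : a ≠ b) (hac : a ≠ c) : tc a b c a = b := by
  rw [tc, Perm.mul_apply, swap_apply_of_ne_of_ne hab hac, swap_apply_left]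
theorem tc_snd {a b c : α} (hac : a ≠ c) (hbc : b ≠ c) : tc a b c b = c := by
  rw [tc, Perm.mul_apply, swap_apply_left, swap_apply_of_ne_of_ne hac.symm hbc.symm]
theorem tc_thd {a b c : α} : tc a b c c = a := by
  rw [tc, Perm.mul_apply, swap_apply_right, swap_apply_right]
theorem tc_other {a b c z : α} (ha : z ≠ a) (hb : z ≠ b) (hc : z ≠ c) : tc a b c z = z := by
  rw [tc, Perm.mul_apply, swap_apply_of_ne_of_ne hb hc, swap_apply_of_ne_of_ne ha hb]

theorem conj_tc (g : Perm α) (a b c : α) : g * tc a b c * g⁻¹ = tc (g a) (g b) (g c) := by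
  have e : ∀ i j : α, g * swap i j * g⁻¹ = swap (g i) (g j) := fun i j => by
    rw [Equiv.mul_swap_eq_swap_mul, mul_inv_cancel_right]
  rw [tc, tc, ← e, ← e]
  group

theorem isThree_tc {a b c : α} (hab : a ≠ b) (hac : a ≠ c) (hbc : b ≠ c) : (tc a b c).IsThreeCycle := by
  rw [tc, Equiv.swap_comm a b]
  exact isThreeCycle_swap_mul_swap_same hab.symm hbc hac

theorem three_eq_tc {y : Perm α} (hy : y.IsThreeCycle) {d : α} (hd : y d ≠ d) :
    y = tc d (y d) (y (y d)) ∧ y (y (y d)) = d ∧ y (y d) ≠ d ∧ y (y d) ≠ y d := by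
  have h3 : y ^ 3 = 1 := by rw [← hy.orderOf]; exact pow_orderOf_eq_one y
  have hc : y (y (y d)) = d := by
    have := congrArg (fun f : Perm α => f d) h3
    simpa [pow_succ, Perm.mul_apply] using this
  have h1 : y (y d) ≠ d := fun e => hd (by have := hc; rw [e] at this; exact this)
  have h2 : y (y d) ≠ y d := fun e => hd (y.injective e)
  refine ⟨?_, hc, h1, h2⟩
  have hsub : ({d, y d, y (y d)} : Finset α) ⊆ y.support := by
    intro z hz
    simp only [Finset.mem_insert, Finset.mem_singleton] at hz
    rw [mem_support]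
    rcases hz with rfl | rfl | rfl
    · exact hd
    · exact h2
    · rw [hc]; exact h1.symm
  have heq : ({d, y d, y (y d)} : Finset α) = y.support := Finset.eq_of_subset_of_card_le hsub (by
    rw [hy.card_support, Finset.card_insert_of_notMem (by simp [hd.symm, h1.symm]),
      Finset.card_pair h2.symm])
  apply Equiv.ext
  intro z
  by_cases hz1 : z = d
  · subst hz1; rw [tc_fst hd.symm h1.symm]
  by_cases hz2 : z = y d
  · subst hz2; rw [tc_snd h1.symm h2.symm]
  by_cases hz3 : z = y (y d)
  · subst hz3; rw [tc_thd, hc]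
  rw [tc_other hz1 hz2 hz3]
  by_contra hne
  have : z ∈ ({d, y d, y (y d)} : Finset α) := heq ▸ mem_support.mpr hne
  simp [hz1, hz2, hz3] at this

/-- two 3-cycles with product an involution share an oriented edge -/
theorem pair_edge {x y : Perm α} (hy : y.IsThreeCycle) (hprod : (x * y) * (x * y) = 1)
    {d : α} (hd : y d ≠ d) (hxd : x d = d) : x (y d) = y (y d) := by
  obtain ⟨-, hc, -, -⟩ := three_eq_tc hy hd
  have := congrArg (fun f : Perm α => f d) hprod
  simp only [Perm.mul_apply, Perm.one_apply] at this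
  -- `x (y (x (y d))) = d = x d`
  have h1 : y (x (y d)) = d := x.injective (by rw [this, hxd])
  exact y.injective (by rw [h1, hc])

theorem exists_edge {x y : Perm α} (hx : x.IsThreeCycle) (hy : y.IsThreeCycle)
    (hprod : (x * y) * (x * y) = 1) (hne : x * y ≠ 1) :
    ∃ e d, x e ≠ e ∧ x d = d ∧ y = tc e (x e) d ∧ y d = e := by
  obtain ⟨d, hd, hxd⟩ : ∃ d, y d ≠ d ∧ x d = d := by
    by_contra hall
    push Not at hall
    have hsupp : y.support = x.support := Finset.eq_of_subset_of_card_le
      (fun z hz => mem_support.mpr (hall z (mem_support.mp hz))) (by rw [hx.card_support, hy.card_support])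
    obtain ⟨p, hp⟩ : ∃ p, x p ≠ p := by
      have : x.support.Nonempty := Finset.card_pos.mp (by rw [hx.card_support]; norm_num)
      exact ⟨_, mem_support.mp this.choose_spec⟩
    obtain ⟨ex, hxc, hx1, hx2⟩ := three_eq_tc hx hp
    have hset : ({p, x p, x (x p)} : Finset α) = x.support := Finset.eq_of_subset_of_card_le (by
        intro z hz
        simp only [Finset.mem_insert, Finset.mem_singleton] at hz
        rw [mem_support]
        rcases hz with rfl | rfl | rfl
        · exact hp
        · exact hx2
        · rw [hxc]; exact hx1.symm) (by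
        rw [hx.card_support, Finset.card_insert_of_notMem (by simp [hp.symm, hx1.symm]), Finset.card_pair hx2.symm])
    have hyp : y p ≠ p := by
      rw [← mem_support, hsupp]; exact mem_support.mpr hp
    obtain ⟨ey, hyc, hy1, hy2⟩ := three_eq_tc hy hyp
    have m1 : y p ∈ ({p, x p, x (x p)} : Finset α) := by rw [hset, ← hsupp]; exact mem_support.mpr hy2
    have m2 : y (y p) ∈ ({p, x p, x (x p)} : Finset α) := by
      rw [hset, ← hsupp, mem_support, hyc]; exact hy1.symm
    simp only [Finset.mem_insert, Finset.mem_singleton] at m1 m2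
    rcases m1 with m1 | m1 | m1
    · exact hyp m1
    · rcases m2 with m2 | m2 | m2
      · exact hy1 m2
      · exact hy2 (m2.trans m1.symm)
      · have exy : y = x := by rw [ey, m1, ← m1]; rw [m1] at m2 ⊢; rw [m2]; exact ex.symm
        subst exy
        have h3 : y ^ 3 = 1 := by rw [← hy.orderOf]; exact pow_orderOf_eq_one y
        have h4 : y * y * (y * y) = y := by
          calc y * y * (y * y) = y ^ 3 * y := by simp [pow_succ, mul_assoc]
            _ = y := by rw [h3, one_mul]
        have hy1' : y = 1 := h4.symm.trans hprod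
        exact hp (by rw [hy1']; rfl)
    · rcases m2 with m2 | m2 | m2
      · exact hy1 m2
      · apply hne
        apply Equiv.ext
        intro z
        rw [Perm.mul_apply, Perm.one_apply]
        by_cases hz : y z = z
        · have : z ∉ x.support := by rw [← hsupp, mem_support, not_not]; exact hz
          rw [hz]; simpa using this
        · have : z ∈ ({p, x p, x (x p)} : Finset α) := by rw [hset, ← hsupp]; exact mem_support.mpr hz
          simp only [Finset.mem_insert, Finset.mem_singleton] at this
          rcases this with rfl | rfl | rfl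
          · rw [m1, hxc]
          · rw [← m2, hyc]; rw [m2]
          · rw [← m1, m2, m1]
      · exact hy2 (m2.trans m1.symm)
  obtain ⟨ey, hc, h1, h2⟩ := three_eq_tc hy hd
  have hedge := pair_edge hy hprod hd hxd
  refine ⟨y d, d, by rw [hedge]; exact h2, hxd, ?_, ?_⟩
  · rw [hedge]
    have h3 := (three_eq_tc hy (d := y d) h2).1
    rwa [hc] at h3
  · rfl

theorem card_centralizer_half {G : Type*} [Group G] [Finite G] (ψ : G →* ℤˣ) (x : G) (hx : ψ x = 1)
    (hodd : ∃ g ∈ Subgroup.centralizer ({x} : Set G), ψ g ≠ 1) :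
    2 * Nat.card (Subgroup.centralizer ({⟨x, hx⟩} : Set ψ.ker)) =
      Nat.card (Subgroup.centralizer ({x} : Set G)) := by
  let C := Subgroup.centralizer ({x} : Set G)
  let θ : C →* ℤˣ := ψ.comp C.subtype
  have hsurj : Function.Surjective θ := by
    intro u
    obtain ⟨g, hg, hg1⟩ := hodd
    rcases Int.units_eq_one_or u with rfl | rfl
    · exact ⟨1, map_one θ⟩
    · exact ⟨⟨g, hg⟩, (Int.units_eq_one_or _).resolve_left hg1⟩
  rw [← θ.ker.card_mul_index, Subgroup.index_ker, MonoidHom.range_eq_top.mpr hsurj, Subgroup.card_top]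
  rw [show Nat.card ℤˣ = 2 from by simp [Nat.card_eq_fintype_card], mul_comm]
  congr 1
  refine Nat.card_congr
    { toFun := fun g => ⟨⟨(g.1 : G), by
          have := Subgroup.mem_centralizer_singleton_iff.mp g.2
          exact Subgroup.mem_centralizer_singleton_iff.mpr (congrArg Subtype.val this)⟩, g.1.2⟩
      invFun := fun g => ⟨⟨(g.1 : G), g.2⟩, by
          exact Subgroup.mem_centralizer_singleton_iff.mpr
            (Subtype.ext (Subgroup.mem_centralizer_singleton_iff.mp g.1.2))⟩
      left_inv := fun g => rfl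
      right_inv := fun g => rfl }

theorem fac_ineq : ∀ k : ℕ, (k + 3)! * 3 ^ (k + 2) < (3 * k + 6)!
  | 0 => by decide
  | k + 1 => by
    have h := fac_ineq k
    have e1 : (k + 1 + 3)! = (k + 4) * (k + 3)! := Nat.factorial_succ _
    have e2 : (3 * (k + 1) + 6)! = (3 * k + 9) * ((3 * k + 8) * ((3 * k + 7) * (3 * k + 6)!)) := by
      rw [show 3 * (k + 1) + 6 = 3 * k + 8 + 1 by ring, Nat.factorial_succ, Nat.factorial_succ,
        Nat.factorial_succ]
    rw [e1, e2, show k + 1 + 2 = k + 2 + 1 by ring, pow_succ]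
    calc (k + 4) * (k + 3)! * (3 ^ (k + 2) * 3) = (3 * k + 12) * ((k + 3)! * 3 ^ (k + 2)) := by ring
      _ < (3 * k + 12) * (3 * k + 6)! := Nat.mul_lt_mul_of_pos_left h (by omega)
      _ ≤ _ := by
        rw [← mul_assoc, ← mul_assoc]
        exact Nat.mul_le_mul_right _ (Nat.le_trans (show 3 * k + 12 ≤ (3 * k + 9) * 2 by omega)
          (Nat.le_trans (Nat.mul_le_mul_left _ (show 2 ≤ 3 * k + 8 by omega)) (Nat.le_mul_of_pos_right _ (by omega))))

theorem numeric {n k : ℕ} (hk : 2 ≤ k) (hkn : 3 * k ≤ n) (h6 : n ≠ 6) :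
    (n - 3 * k)! * 3 ^ k * k ! ≠ (n - 3)! * 3 := by
  obtain ⟨r, rfl⟩ : ∃ r, n = 3 * k + r := ⟨n - 3 * k, by omega⟩
  rw [Nat.add_sub_cancel_left]
  intro he
  obtain ⟨j, rfl⟩ : ∃ j, k = j + 2 := ⟨k - 2, by omega⟩
  have hdvd := Nat.factorial_mul_factorial_dvd_factorial_add r (3 * j + 3)
  have hle := Nat.le_of_dvd (Nat.factorial_pos _) hdvd
  have e : 3 * (j + 2) + r - 3 = r + (3 * j + 3) := by omega
  rw [e, show j + 2 = j + 1 + 1 from rfl, pow_succ] at he
  have hr := Nat.factorial_pos r
  rcases Nat.eq_zero_or_pos j with rfl | hj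
  · obtain ⟨r', rfl⟩ : ∃ r', r = r' + 1 := ⟨r - 1, by omega⟩
    have h4 : (r' + 1 + (3 * 0 + 3))! = (r' + 4) * ((r' + 3) * ((r' + 2) * (r' + 1)!)) := by
      rw [show r' + 1 + (3 * 0 + 3) = r' + 3 + 1 by ring, Nat.factorial_succ, Nat.factorial_succ,
        Nat.factorial_succ]
    rw [h4] at he
    norm_num at he
    have h24 : 24 ≤ (r' + 4) * ((r' + 3) * (r' + 2)) := by
      calc 24 = 4 * (3 * 2) := by norm_num
        _ ≤ _ := Nat.mul_le_mul (by omega) (Nat.mul_le_mul (by omega) (by omega))
    nlinarith
  · obtain ⟨i, rfl⟩ : ∃ i, j = i + 1 := ⟨j - 1, by omega⟩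
    have h := fac_ineq i
    rw [show i + 1 + 1 + 1 = i + 3 by ring] at he
    rw [show 3 * (i + 1) + 3 = 3 * i + 6 by ring] at he hle
    have : r ! * ((i + 3)! * 3 ^ (i + 2)) < r ! * (3 * i + 6)! := Nat.mul_lt_mul_of_pos_left h hr
    nlinarith

theorem map_three_cycle {n : ℕ} (hn : 4 ≤ n) (h6 : n ≠ 6)
    (phi : MulAut (alternatingGroup (Fin n))) (x : alternatingGroup (Fin n))
    (hx : (x : Perm (Fin n)).IsThreeCycle) : ((phi x : alternatingGroup (Fin n)) : Perm (Fin n)).IsThreeCycle := by
  set y := phi x with hy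
  have hord : orderOf (y : Perm (Fin n)) = 3 := by
    rw [Subgroup.orderOf_coe, hy, MulEquiv.orderOf_eq, ← Subgroup.orderOf_coe]; exact hx.orderOf
  obtain ⟨k, hk⟩ := cycleType_prime_order (σ := (y : Perm (Fin n))) (by rw [hord]; norm_num)
  rw [hord] at hk
  rcases Nat.eq_zero_or_pos k with rfl | hk0
  · exact hk
  exfalso
  have hsum : 3 * (k + 1) ≤ n := by
    have := sum_cycleType (y : Perm (Fin n))
    rw [hk, Multiset.sum_replicate, smul_eq_mul] at this
    have h2 := (y : Perm (Fin n)).support.card_le_univ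
    rw [Fintype.card_fin] at h2
    omega
  have half : ∀ z : alternatingGroup (Fin n), ¬ Subgroup.centralizer {(z : Perm (Fin n))} ≤ alternatingGroup (Fin n) →
      2 * Nat.card (Subgroup.centralizer ({z} : Set (alternatingGroup (Fin n)))) =
        Nat.card (Subgroup.centralizer ({(z : Perm (Fin n))} : Set (Perm (Fin n)))) := fun z hz => by
    obtain ⟨g, hg, hg'⟩ := SetLike.not_le_iff_exists.mp hz
    exact card_centralizer_half (sign (α := Fin n)) (z : Perm (Fin n)) z.2 ⟨g, hg, fun e => hg' (mem_alternatingGroup.mpr e)⟩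
  have h1 := half x (fun h => by
    have := card_le_of_centralizer_le_alternating h
    rw [hx.cycleType, Fintype.card_fin] at this
    simp at this
    omega)
  have h2 := half y (fun h => by
    have := count_le_one_of_centralizer_le_alternating h 3
    rw [hk, Multiset.count_replicate_self] at this
    omega)
  have he : Nat.card (Subgroup.centralizer ({y} : Set (alternatingGroup (Fin n)))) =
      Nat.card (Subgroup.centralizer ({x} : Set (alternatingGroup (Fin n)))) := by
    refine (Nat.card_congr (Equiv.subtypeEquiv phi.toEquiv ?_)).symm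
    intro g
    simp only [Subgroup.mem_centralizer_singleton_iff, hy]
    show _ ↔ phi g * phi x = phi x * phi g
    rw [← map_mul, ← map_mul]
    exact phi.injective.eq_iff.symm
  have hx' : (x : Perm (Fin n)).cycleType = Multiset.replicate 1 3 := by
    rw [hx.cycleType, Multiset.replicate_one]
  rw [he, h1, nat_card_centralizer, nat_card_centralizer, hk, hx'] at h2
  simp only [Multiset.toFinset_replicate, Nat.add_eq_zero_iff, one_ne_zero, and_false, if_false,
    Finset.prod_singleton, Multiset.count_replicate_self, Multiset.prod_replicate, Multiset.sum_replicate,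
    smul_eq_mul, Fintype.card_fin, pow_one, Nat.factorial_one, mul_one, one_mul] at h2
  have := numeric (k := k + 1) (by omega) hsum h6
  apply this
  rw [h2, mul_comm 3 (k + 1)]

theorem eq_conj_of_three {n : ℕ} (hn : 4 ≤ n) (phi : MulAut (alternatingGroup (Fin n)))
    (hphi : ∀ x : alternatingGroup (Fin n), (x : Perm (Fin n)).IsThreeCycle →
      ((phi x : alternatingGroup (Fin n)) : Perm (Fin n)).IsThreeCycle) :
    ∃ σ : Perm (Fin n), MulAut.conjNormal σ = phi := by
  classical
  let p : Fin n := ⟨0, by omega⟩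
  let q : Fin n := ⟨1, by omega⟩
  have hpq : p ≠ q := by simp [p, q, Fin.ext_iff]
  let I := {i : Fin n // i ≠ p ∧ i ≠ q}
  let T : I → alternatingGroup (Fin n) := fun i =>
    ⟨tc p q i.1, (isThree_tc hpq i.2.1.symm i.2.2.symm).mem_alternatingGroup⟩
  let y : I → Perm (Fin n) := fun i => (phi (T i) : alternatingGroup (Fin n))
  have hy : ∀ i, (y i).IsThreeCycle := fun i =>
    hphi (T i) (isThree_tc hpq i.2.1.symm i.2.2.symm)
  have hT : ∀ i j : I, i ≠ j → (tc p q i.1 * tc p q j.1) * (tc p q i.1 * tc p q j.1) = 1 ∧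
      tc p q i.1 * tc p q j.1 ≠ 1 := by
    intro i j hij
    have hij' : i.1 ≠ j.1 := fun e => hij (Subtype.ext e)
    obtain ⟨i, hi1, hi2⟩ := i
    obtain ⟨j, hj1, hj2⟩ := j
    simp only at hij' ⊢
    have v1 : tc p q i (tc p q j p) = i := by rw [tc_fst hpq hj1.symm, tc_snd hi1.symm hi2.symm]
    have v2 : tc p q i (tc p q j i) = p := by rw [tc_other hi1 hi2 hij', tc_thd]
    have v3 : tc p q i (tc p q j q) = j := by rw [tc_snd hj1.symm hj2.symm, tc_other hj1 hj2 hij'.symm]
    have v4 : tc p q i (tc p q j j) = q := by rw [tc_thd, tc_fst hpq hi1.symm]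
    refine ⟨?_, fun e => hi1 ?_⟩
    · apply Equiv.ext
      intro z
      simp only [Perm.mul_apply, Perm.one_apply]
      by_cases h1 : z = p
      · subst h1; rw [v1, v2]
      by_cases h2 : z = i
      · subst h2; rw [v2, v1]
      by_cases h3 : z = q
      · subst h3; rw [v3, v4]
      by_cases h4 : z = j
      · subst h4; rw [v4, v3]
      rw [tc_other h1 h3 h4, tc_other h1 h3 h2, tc_other h1 h3 h4, tc_other h1 h3 h2]
    · have := congrArg (fun f : Perm (Fin n) => f p) e
      simp only [Perm.mul_apply, Perm.one_apply] at this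
      rw [v1] at this
      exact this
  have hyprod : ∀ i j : I, i ≠ j → (y i * y j) * (y i * y j) = 1 ∧ y i * y j ≠ 1 := by
    intro i j hij
    obtain ⟨a, b⟩ := hT i j hij
    have a' : (T i * T j) * (T i * T j) = 1 := Subtype.ext a
    refine ⟨?_, fun e => b ?_⟩
    · exact congrArg Subtype.val (show phi (T i) * phi (T j) * (phi (T i) * phi (T j)) = 1 by
        rw [← map_mul, ← map_mul, a', map_one])
    · have : phi (T i * T j) = phi 1 := by rw [map_mul, map_one]; exact Subtype.ext e
      exact congrArg Subtype.val (phi.injective this)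
  let i0 : I := ⟨⟨2, by omega⟩, by simp [p, q, Fin.ext_iff]⟩
  -- generation
  let H : Subgroup (Perm (Fin n)) := Subgroup.closure (Set.range fun i : I => tc p q i.1)
  have hgen : alternatingGroup (Fin n) ≤ H := by
    set s := swap p q with hs
    have hss : s * s = 1 := swap_mul_self p q
    have hn' : ∀ g ∈ H, s * g * s ∈ H := by
      intro g hg
      induction hg using Subgroup.closure_induction with
      | mem g hg =>
        obtain ⟨i, rfl⟩ := hg
        have e : s * tc p q i.1 * s = (tc p q i.1)⁻¹ := by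
          rw [show s * tc p q i.1 * s = s * tc p q i.1 * s⁻¹ by rw [swap_inv], conj_tc]
          rw [swap_apply_left, swap_apply_right, swap_apply_of_ne_of_ne i.2.1 i.2.2]
          refine eq_inv_of_mul_eq_one_left (Equiv.ext fun z => ?_)
          rw [Perm.mul_apply, Perm.one_apply]
          by_cases h1 : z = p
          · subst h1; rw [tc_fst hpq i.2.1.symm, tc_fst hpq.symm i.2.2.symm]
          by_cases h2 : z = q
          · subst h2; rw [tc_snd i.2.1.symm i.2.2.symm, tc_thd]
          by_cases h3 : z = i.1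
          · subst h3; rw [tc_thd, tc_snd i.2.2.symm i.2.1.symm]
          rw [tc_other h1 h2 h3, tc_other h2 h1 h3]
        rw [e]
        exact H.inv_mem (Subgroup.subset_closure ⟨i, rfl⟩)
      | one => simpa [hss] using H.one_mem
      | mul a b _ _ ha hb =>
        have : s * (a * b) * s = (s * a * s) * (s * b * s) := by
          simp only [mul_assoc]; rw [← mul_assoc s s, hss, one_mul]
        rw [this]; exact H.mul_mem ha hb
      | inv a _ ha =>
        have : s * a⁻¹ * s = (s * a * s)⁻¹ := by rw [mul_inv_rev, mul_inv_rev, swap_inv, ← mul_assoc]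
        rw [this]; exact H.inv_mem ha
    let K : Subgroup (Perm (Fin n)) :=
      { carrier := {g | g ∈ H ∨ g * s ∈ H}
        one_mem' := Or.inl H.one_mem
        mul_mem' := by
          rintro a b (ha | ha) (hb | hb)
          · exact Or.inl (H.mul_mem ha hb)
          · exact Or.inr (by rw [mul_assoc]; exact H.mul_mem ha hb)
          · refine Or.inr ?_
            have := H.mul_mem ha (hn' b hb)
            rwa [show a * s * (s * b * s) = a * b * s by
              simp only [mul_assoc]; rw [← mul_assoc s s, hss, one_mul]] at this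
          · refine Or.inl ?_
            have := H.mul_mem ha (hn' _ hb)
            rwa [show a * s * (s * (b * s) * s) = a * b by
              simp only [mul_assoc]; rw [← mul_assoc s s, hss, one_mul, mul_one]] at this
        inv_mem' := by
          rintro a (ha | ha)
          · exact Or.inl (H.inv_mem ha)
          · refine Or.inr ?_
            have := hn' _ (H.inv_mem ha)
            rwa [show s * (a * s)⁻¹ * s = a⁻¹ * s by
              rw [mul_inv_rev, swap_inv, ← mul_assoc s s, hss, one_mul]] at this }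
    have hswap : ∀ i, swap p i ∈ K := by
      intro i
      by_cases h1 : i = p
      · subst h1; rw [swap_self]; exact K.one_mem
      by_cases h2 : i = q
      · subst h2; exact Or.inr (by rw [hs, swap_mul_self]; exact H.one_mem)
      refine Or.inr ?_
      have e : swap p i * s = tc p q i := by
        apply Equiv.ext
        intro z
        rw [Perm.mul_apply]
        by_cases a1 : z = p
        · subst a1; rw [hs, swap_apply_left, swap_apply_of_ne_of_ne hpq.symm (Ne.symm h2), tc_fst hpq (Ne.symm h1)]
        by_cases a2 : z = q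
        · subst a2; rw [hs, swap_apply_right, swap_apply_left, tc_snd (Ne.symm h1) (Ne.symm h2)]
        by_cases a3 : z = i
        · subst a3; rw [hs, swap_apply_of_ne_of_ne h1 h2, swap_apply_right, tc_thd]
        rw [hs, swap_apply_of_ne_of_ne a1 a2, swap_apply_of_ne_of_ne a1 a3, tc_other a1 a2 a3]
      rw [e]
      exact Subgroup.subset_closure ⟨⟨i, h1, h2⟩, rfl⟩
    have hK : K = ⊤ := by
      rw [eq_top_iff, ← closure_isSwap, Subgroup.closure_le]
      rintro g ⟨a, b, hab, rfl⟩
      by_cases ha : a = p
      · subst ha; exact hswap b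
      by_cases hb : b = p
      · subst hb; rw [Equiv.swap_comm]; exact hswap a
      have : swap a b = swap p a * swap p b * swap p a := by
        rw [show swap p a * swap p b * swap p a = swap p a * swap p b * (swap p a)⁻¹ by rw [swap_inv],
          Equiv.mul_swap_eq_swap_mul, mul_inv_cancel_right, swap_apply_left,
          swap_apply_of_ne_of_ne hb (Ne.symm hab)]
      rw [this]
      exact K.mul_mem (K.mul_mem (hswap a) (hswap b)) (hswap a)
    have hHA : H ≤ alternatingGroup (Fin n) := by
      rw [Subgroup.closure_le]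
      rintro _ ⟨i, rfl⟩
      exact (T i).2
    intro g hg
    rcases (hK ▸ Subgroup.mem_top g : g ∈ K) with h | h
    · exact h
    · exfalso
      have := mem_alternatingGroup.mp (hHA h)
      rw [map_mul, mem_alternatingGroup.mp hg, hs, sign_swap hpq] at this
      exact absurd this (by decide)
  -- all images share an edge
  let x := y i0
  have hedge : ∀ i : {i : I // i ≠ i0}, ∃ e d, x e ≠ e ∧ x d = d ∧ y i.1 = tc e (x e) d ∧ y i.1 d = e :=
    fun i => exists_edge (hy i0) (hy i.1) (hyprod i0 i.1 i.2.symm).1 (hyprod i0 i.1 i.2.symm).2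
  choose e d he hd hyi hyd using hedge
  have hxx : ∀ i, x (x (e i)) ≠ e i ∧ x (x (e i)) ≠ x (e i) := fun i =>
    ⟨(three_eq_tc (hy i0) (he i)).2.2.1, (three_eq_tc (hy i0) (he i)).2.2.2⟩
  have hde : ∀ i j, d j ≠ e i ∧ d j ≠ x (e i) := fun i j =>
    ⟨fun h => he i (by rw [← h]; exact hd j), fun h => he i (x.injective (by rw [← h]; exact hd j))⟩
  have hpair : ∀ i j, i ≠ j → d i ≠ d j → e i = e j := by
    intro i j hij hdd
    have hne : i.1 ≠ j.1 := fun h => hij (Subtype.ext h)
    have hfix : y i.1 (d j) = d j := by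
      rw [hyi i]; exact tc_other (hde i j).1 (hde i j).2 (Ne.symm hdd)
    have hmov : y j.1 (d j) ≠ d j := by rw [hyd j]; exact (hde j j).1.symm
    have h := pair_edge (hy j.1) (hyprod i.1 j.1 hne).1 hmov hfix
    rw [hyd j, hyi i, hyi j, tc_fst (he j).symm (hde j j).1.symm] at h
    by_contra hee
    by_cases h1 : e j = x (e i)
    · rw [h1, tc_snd (hde i i).1.symm (hde i i).2.symm] at h
      exact (hde j i).2 (by rw [h1]; exact h)
    · rw [tc_other (Ne.symm hee) h1 (fun h2 => (hde j i).1 h2.symm)] at h
      exact he j h.symm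
  have hsame : ∀ i j, e i = e j → d i = d j → i = j := fun i j h1 h2 => by
    have e1 : y i.1 = y j.1 := by rw [hyi i, hyi j, h1, h2]
    have e2 : T i.1 = T j.1 := phi.injective (Subtype.ext e1)
    have e3 := congrArg (fun z : alternatingGroup (Fin n) => (z : Perm (Fin n)) q) e2
    simp only [T] at e3
    rw [tc_snd i.1.2.1.symm i.1.2.2.symm, tc_snd j.1.2.1.symm j.1.2.2.symm] at e3
    exact Subtype.ext (Subtype.ext e3)
  have hcardI : Fintype.card {i : I // i ≠ i0} = n - 3 := by
    have h2 : Fintype.card I = n - 2 := by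
      simp only [I]
      rw [Fintype.card_subtype, show (Finset.univ.filter fun i : Fin n => i ≠ p ∧ i ≠ q) = Finset.univ \ {p, q} by
        ext; simp, Finset.card_sdiff_of_subset (Finset.subset_univ _), Finset.card_pair hpq, Finset.card_univ, Fintype.card_fin]
    rw [Fintype.card_subtype_compl, Fintype.card_subtype_eq, h2]
    omega
  have hall : ∀ i j, e i = e j := by
    intro i j
    by_contra hne
    have hdij : d i = d j := by
      by_contra h
      exact hne (hpair i j (fun h' => h (by rw [h'])) h)
    have hD : ∀ m, d m = d i := by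
      intro m
      by_contra h
      have a1 := hpair m i (fun h' => h (by rw [h'])) h
      have a2 := hpair m j (fun h' => h (by rw [h', hdij])) (fun h' => h (by rw [h', hdij]))
      exact hne (a1.symm.trans a2)
    have hem : ∀ m, e m ∈ x.support := fun m => mem_support.mpr (he m)
    have hle : Fintype.card {i : I // i ≠ i0} ≤ 3 := by
      rw [← (hy i0).card_support, ← Fintype.card_coe]
      exact Fintype.card_le_of_injective (fun m => (⟨e m, hem m⟩ : x.support)) (fun a b hab =>
        hsame a b (congrArg Subtype.val hab) (by rw [hD a, hD b]))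
    have hge : 2 ≤ Fintype.card {i : I // i ≠ i0} :=
      Fintype.one_lt_card_iff.mpr ⟨i, j, fun h => hne (by rw [h])⟩
    have h5 : 5 ≤ n ∧ n ≤ 6 := by omega
    -- everything fixes a point
    obtain ⟨z, hz⟩ : ∃ z, z ∉ insert (d i) x.support := by
      refine (Finset.exists_mem_notMem_of_card_lt_card (s := insert (d i) x.support) (t := Finset.univ) ?_).imp fun z h => h.2
      rw [Finset.card_univ, Fintype.card_fin]
      exact (Finset.card_insert_le _ _).trans_lt (by rw [(hy i0).card_support]; omega)
    simp only [Finset.mem_insert, not_or] at hz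
    have hzx : x z = z := by simpa using hz.2
    have hfix : ∀ m, y m z = z := by
      intro m
      by_cases hm : m = i0
      · subst hm; exact hzx
      · rw [hyi ⟨m, hm⟩]
        refine tc_other ?_ ?_ (by rw [hD]; exact hz.1)
        · intro h; exact he ⟨m, hm⟩ (by rw [← h]; exact hzx)
        · intro h; exact he ⟨m, hm⟩ (x.injective (by rw [← h]; exact hzx))
    let L : Subgroup (alternatingGroup (Fin n)) :=
      (MulAction.stabilizer (Perm (Fin n)) z).comap ((alternatingGroup (Fin n)).subtype.comp phi.toMonoidHom)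
    have hTL : H ≤ L.map (alternatingGroup (Fin n)).subtype := by
      rw [Subgroup.closure_le]
      rintro _ ⟨m, rfl⟩
      exact ⟨T m, hfix m, rfl⟩
    obtain ⟨a, b, ha, hb, hab⟩ : ∃ a b : Fin n, a ≠ z ∧ b ≠ z ∧ a ≠ b := by
      obtain ⟨a, ha⟩ := Finset.exists_mem_notMem_of_card_lt_card (s := {z}) (t := (Finset.univ : Finset (Fin n))) (by
        rw [Finset.card_singleton, Finset.card_univ, Fintype.card_fin]; omega)
      obtain ⟨b, hb⟩ := Finset.exists_mem_notMem_of_card_lt_card (s := {z, a}) (t := (Finset.univ : Finset (Fin n))) (by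
        rw [Finset.card_univ, Fintype.card_fin]
        exact (Finset.card_le_two).trans_lt (by omega))
      simp only [Finset.mem_singleton, Finset.mem_insert, not_or] at ha hb
      exact ⟨a, b, ha.2, hb.2.1, Ne.symm hb.2.2⟩
    obtain ⟨g, hg⟩ := phi.surjective ⟨tc z a b, (isThree_tc ha.symm hb.symm hab).mem_alternatingGroup⟩
    obtain ⟨g', hg', hgg⟩ := hTL (hgen g.2)
    obtain rfl : g' = g := Subtype.ext hgg
    have : ((phi g' : alternatingGroup (Fin n)) : Perm (Fin n)) z = z := hg'
    rw [hg] at this
    exact ha (by simpa [tc_fst ha.symm hb.symm] using this)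
  obtain ⟨E, hE, hEall⟩ : ∃ E, x E ≠ E ∧ ∀ m, e m = E := by
    by_cases hne : Nonempty {i : I // i ≠ i0}
    · obtain ⟨m0⟩ := hne
      exact ⟨e m0, he m0, fun m => hall m m0⟩
    · obtain ⟨E, hE⟩ : x.support.Nonempty := Finset.card_pos.mp (by rw [(hy i0).card_support]; norm_num)
      exact ⟨E, mem_support.mp hE, fun m => absurd ⟨m⟩ hne⟩
  obtain ⟨hxE, -, hx1, hx2⟩ := three_eq_tc (hy i0) hE
  let f : Fin n → Fin n := fun z =>
    if h1 : z = p then E else if h2 : z = q then x E else
      if h3 : (⟨z, h1, h2⟩ : I) = i0 then x (x E) else d ⟨_, h3⟩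
  have hfp : f p = E := by simp [f]
  have hfq : f q = x E := by simp [f, hpq.symm]
  have hfI : ∀ m : I, y m = tc E (x E) (f m.1) ∧ f m.1 ≠ E ∧ f m.1 ≠ x E := by
    intro m
    by_cases hm : m = i0
    · subst hm
      have : f i0.1 = x (x E) := by simp [f, i0.2.1, i0.2.2]
      rw [this]
      exact ⟨hxE, hx1, hx2⟩
    · have : f m.1 = d ⟨m, hm⟩ := by simp [f, m.2.1, m.2.2, hm]
      rw [this, ← hEall ⟨m, hm⟩]
      exact ⟨hyi ⟨m, hm⟩, (hde ⟨m, hm⟩ ⟨m, hm⟩).1, (hde ⟨m, hm⟩ ⟨m, hm⟩).2⟩
  have hcase : ∀ z, z = p ∨ z = q ∨ ∃ m : I, z = m.1 := fun z => by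
    by_cases h1 : z = p
    · exact Or.inl h1
    by_cases h2 : z = q
    · exact Or.inr (Or.inl h2)
    exact Or.inr (Or.inr ⟨⟨z, h1, h2⟩, rfl⟩)
  have hfinj : Function.Injective f := by
    intro a b hab
    rcases hcase a with rfl | rfl | ⟨m, rfl⟩ <;> rcases hcase b with rfl | rfl | ⟨m', rfl⟩
    · rfl
    · rw [hfp, hfq] at hab; exact absurd hab.symm hE
    · rw [hfp] at hab; exact absurd hab.symm (hfI m').2.1
    · rw [hfp, hfq] at hab; exact absurd hab hE
    · rfl
    · rw [hfq] at hab; exact absurd hab.symm (hfI m').2.2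
    · rw [hfp] at hab; exact absurd hab (hfI m).2.1
    · rw [hfq] at hab; exact absurd hab (hfI m).2.2
    · have e1 : y m = y m' := by rw [(hfI m).1, (hfI m').1, hab]
      have e2 : T m = T m' := phi.injective (Subtype.ext e1)
      have e3 := congrArg (fun z : alternatingGroup (Fin n) => (z : Perm (Fin n)) q) e2
      simp only [T] at e3
      rw [tc_snd m.2.1.symm m.2.2.symm, tc_snd m'.2.1.symm m'.2.2.symm] at e3
      exact e3
  let σ := Equiv.ofBijective f hfinj.bijective_of_finite
  refine ⟨σ, ?_⟩
  let M : Subgroup (alternatingGroup (Fin n)) :=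
    MonoidHom.eqLocus (MulAut.conjNormal (H := alternatingGroup (Fin n)) σ).toMonoidHom phi.toMonoidHom
  have hTM : H ≤ M.map (alternatingGroup (Fin n)).subtype := by
    rw [Subgroup.closure_le]
    rintro _ ⟨m, rfl⟩
    refine ⟨T m, ?_, rfl⟩
    apply Subtype.ext
    show ((MulAut.conjNormal σ (T m) : alternatingGroup (Fin n)) : Perm (Fin n)) = y m
    rw [MulAut.conjNormal_apply, (hfI m).1]
    show σ * tc p q m.1 * σ⁻¹ = _
    rw [conj_tc]
    show tc (f p) (f q) (f m.1) = _
    rw [hfp, hfq]
  apply MulEquiv.ext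
  intro g
  obtain ⟨g', hg', hgg⟩ := hTM (hgen g.2)
  obtain rfl : g' = g := Subtype.ext hgg
  exact hg'

/-- Automorphisms of the alternating groups: for n ≥ 4 with n ≠ 6, every automorphism of the alternating group of degree n is conjugation by a unique permutation, i.e. conjugation induces an isomorphism from the symmetric group of degree n onto the automorphism group of the alternating group (so the outer automorphism group has order 2). -/

theorem eq_conj {n : ℕ} (hn : 4 ≤ n) (h6 : n ≠ 6) (phi : MulAut (alternatingGroup (Fin n))) :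
    ∃ σ : Equiv.Perm (Fin n), MulAut.conjNormal σ = phi :=
  eq_conj_of_three hn phi (map_three_cycle hn h6 phi)

theorem conjNormal_injective {n : ℕ} (hn : 4 ≤ n) :
    Function.Injective (MulAut.conjNormal : Equiv.Perm (Fin n) →* MulAut ↥(alternatingGroup (Fin n))) := by
  rw [injective_iff_map_eq_one]
  intro σ hσ
  apply Equiv.ext
  intro a
  rw [Equiv.Perm.one_apply]
  by_contra hne
  obtain ⟨c, hc⟩ := Finset.exists_mem_notMem_of_card_lt_card (s := {a, σ a}) (t := (Finset.univ : Finset (Fin n))) (by
    rw [Finset.card_univ, Fintype.card_fin]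
    exact Finset.card_le_two.trans_lt (by omega))
  obtain ⟨d, hd⟩ := Finset.exists_mem_notMem_of_card_lt_card (s := {a, σ a, c}) (t := (Finset.univ : Finset (Fin n))) (by
    rw [Finset.card_univ, Fintype.card_fin]
    exact Finset.card_le_three.trans_lt (by omega))
  simp only [Finset.mem_insert, Finset.mem_singleton, not_or] at hc hd
  have hac : a ≠ c := Ne.symm hc.2.1
  have had : a ≠ d := Ne.symm hd.2.1
  have hcd : c ≠ d := Ne.symm hd.2.2.2
  have h := congrArg (fun ψ : MulAut (alternatingGroup (Fin n)) =>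
    ((ψ ⟨tc a c d, (isThree_tc hac had hcd).mem_alternatingGroup⟩ : alternatingGroup (Fin n)) : Equiv.Perm (Fin n)) (σ a)) hσ
  simp only [MulAut.conjNormal_apply, MulAut.one_apply, conj_tc] at h
  rw [tc_fst (σ.injective.ne hac) (σ.injective.ne had), tc_other hne (Ne.symm hc.2.2) (Ne.symm hd.2.2.1)] at h
  exact hac (σ.injective h.symm)

end CfsgLib.AutAlternating
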