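import Mathlib.GroupTheory.GroupAction.MultipleTransitivity
import Mathlib.Data.Set.Card

/-!
Multiple transitivity from transitivity of pointwise stabilisers, and orbit counting.
-/

namespace Cfsg.Agent.Lib.Perm

open MulAction

variable {G : Type*} [Group G] {α : Type*} [MulAction G α]

theorem multiplyPretransitive_of_step (k : ℕ)
    (h : ∀ t : Set α, t.Finite → t.ncard < k → ∀ a b : α, a ∉ t → b ∉ t →
      ∃ g : G, (∀ x ∈ t, g • x = x) ∧ g • a = b) :
    IsMultiplyPretransitive G α k := by
  rw [isMultiplyPretransitive_iff]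
  suffices ∀ j, j ≤ k → ∀ x y : Fin k ↪ α, ∃ g : G, ∀ i : Fin k, (i : ℕ) < j → g • x i = y i by
    intro x y
    obtain ⟨g, hg⟩ := this k le_rfl x y
    exact ⟨g, Function.Embedding.ext fun i => hg i i.2⟩
  intro j
  induction j with
  | zero => intro _ x y; exact ⟨1, fun i hi => absurd hi (Nat.not_lt_zero _)⟩
  | succ j ih =>
    intro hj x y
    obtain ⟨g, hg⟩ := ih (by omega) x y
    let J : Set (Fin k) := {i | (i : ℕ) < j}
    let e : Fin k := ⟨j, hj⟩
    have hcard : (y '' J).ncard < k := by
      rw [Set.ncard_image_of_injective _ y.injective]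
      have : J.ncard < (Set.univ : Set (Fin k)).ncard := by
        apply Set.ncard_lt_ncard _ (Set.toFinite _)
        exact ⟨Set.subset_univ _, fun hu => lt_irrefl j (hu (Set.mem_univ e))⟩
      simpa using this
    have ha : g • x e ∉ y '' J := by
      rintro ⟨i, hi, he⟩
      rw [← hg i hi] at he
      have : i = e := x.injective (smul_left_cancel g he)
      rw [this] at hi
      exact lt_irrefl j hi
    have hb : y e ∉ y '' J := by
      rintro ⟨i, hi, he⟩
      rw [y.injective he] at hi
      exact lt_irrefl j hi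
    obtain ⟨h', hfix, hmove⟩ := h (y '' J) (Set.toFinite _) hcard _ _ ha hb
    refine ⟨h' * g, fun i hi => ?_⟩
    rcases Nat.lt_or_eq_of_le (Nat.lt_succ_iff.1 hi) with h1 | h1
    · rw [mul_smul, hg i h1]
      exact hfix _ ⟨i, h1, rfl⟩
    · have : i = e := Fin.ext h1
      rw [this, mul_smul, hmove]

/-- A finite invariant set is divisible by `c` if all its orbits are. -/
theorem dvd_ncard_of_orbits {c : ℕ} : ∀ (S : Set α), S.Finite → (∀ g : G, ∀ x ∈ S, g • x ∈ S) →
    (∀ x ∈ S, c ∣ (orbit G x).ncard) → c ∣ S.ncard := by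
  intro S hS
  induction hn : S.ncard using Nat.strong_induction_on generalizing S with
  | _ n ih =>
    intro hinv hdiv
    rcases S.eq_empty_or_nonempty with rfl | ⟨x, hx⟩
    · simp at hn
      simp [← hn]
    have hsub : orbit G x ⊆ S := by
      rintro _ ⟨g, rfl⟩
      exact hinv g x hx
    have hfin : (orbit G x).Finite := hS.subset hsub
    have hlt : (S \ orbit G x).ncard < n := by
      rw [← hn]
      exact Set.ncard_lt_ncard ⟨Set.sdiff_subset, fun hu => (hu hx).2 (mem_orbit_self x)⟩ hS
    have h1 := ih _ hlt (S \ orbit G x) hS.sdiff rfl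
      (fun g y hy => ⟨hinv g y hy.1, fun hc => hy.2 (by
        obtain ⟨h0, hh⟩ := hc
        exact ⟨g⁻¹ * h0, by simp only [mul_smul] at *; simp [hh]⟩)⟩)
      (fun y hy => hdiv y hy.1)
    rw [← hn, ← Set.ncard_sdiff_add_ncard_of_subset hsub hS]
    exact dvd_add h1 (hdiv x hx)

end Cfsg.Agent.Lib.Perm
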