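import Cfsg.Agent.Lib.Perm.SharplyThree
import Cfsg.Agent.Lib.ZStar.Recognize
import Cfsg.Agent.Lib.ZStar.Basic
import Mathlib.LinearAlgebra.Determinant
import Mathlib.Algebra.Module.ZMod
import Mathlib.LinearAlgebra.Dimension.Finite

/-!
# Commutativity of the two-point stabiliser of a sharply 3-transitive group
-/

namespace Cfsg.Agent.Lib.Perm.SharplyThree

open MulAction

variable {α : Type*} [Fintype α] [DecidableEq α] {G : Subgroup (Equiv.Perm α)}
  (h3 : IsMultiplyPretransitive G α 3) (hsharp : ∀ x : Fin 3 ↪ α, stabilizer G x = ⊥)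

include hsharp in
/-- An involution fixes at most two points. -/
theorem card_fixed_le {w : G} (hw : w ≠ 1) : (Finset.univ.filter fun x : α => w • x = x).card ≤ 2 := by
  apply Classical.byContradiction
  intro hc
  push Not at hc
  obtain ⟨x, y, z, hx, hy, hz, hxy, hxz, hyz⟩ := Finset.two_lt_card_iff.1 hc
  simp only [Finset.mem_filter, Finset.mem_univ, true_and] at hx hy hz
  exact hw (free hsharp hxy hyz hxz hx hy hz)

include hsharp in
theorem comm_of_odd {a b c : α} (hab : a ≠ b) (hac : a ≠ c) (hbc : b ≠ c) (hn : Odd (Fintype.card α))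
    {w : G} (wa : w • a = b) (wb : w • b = a) (wc : w • c = c) (ww : w * w = 1) :
    ∀ g h : G, g • a = a → g • b = b → h • a = a → h • b = b → g * h = h * g := by
  classical
  have hw1 : w ≠ 1 := fun h => hab (by simpa [h] using wa)
  have honly : ∀ x, w • x = x → x = c := by
    intro x hx
    by_contra hne
    have hP : IsPGroup 2 (Subgroup.zpowers w) := by
      intro ⟨y, hy⟩
      refine ⟨1, Subtype.ext ?_⟩
      obtain ⟨i, rfl⟩ := Subgroup.mem_zpowers_iff.1 hy
      show (w ^ i) ^ (2 ^ 1) = 1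
      rw [pow_one, ← zpow_natCast, ← zpow_mul, mul_comm, zpow_mul, zpow_natCast, sq, ww, one_zpow]
    haveI : Fact (Nat.Prime 2) := ⟨Nat.prime_two⟩
    have hmod := hP.card_modEq_card_fixedPoints α
    have he : fixedPoints (Subgroup.zpowers w) α = ↑(Finset.univ.filter fun x : α => w • x = x) := by
      ext y
      simp only [Finset.coe_filter, Finset.mem_univ, true_and]
      constructor
      · intro h; exact h ⟨w, Subgroup.mem_zpowers w⟩
      · rintro h ⟨u, hu⟩
        obtain ⟨i, rfl⟩ := Subgroup.mem_zpowers_iff.1 hu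
        exact mem_fixedBy_zpow (g := w) h i
    rw [he, Nat.card_eq_fintype_card (α := α), Nat.card_coe_set_eq, Set.ncard_coe_finset] at hmod
    have hle := card_fixed_le hsharp hw1
    have h2 : ({x, c} : Finset α).card ≤ (Finset.univ.filter fun x : α => w • x = x).card :=
      Finset.card_le_card (by intro y hy; simp at hy; rcases hy with rfl | rfl <;> simp [hx, wc])
    rw [Finset.card_pair hne] at h2
    have h3 : Fintype.card α % 2 = 1 := Nat.odd_iff.1 hn
    unfold Nat.ModEq at hmod
    omega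
  let H : Subgroup G := stabilizer G a ⊓ stabilizer G b
  have hσ : ∀ h ∈ H, w * h * w ∈ H := fun h hh => ⟨by
      show (w * h * w) • a = a
      rw [mul_smul, mul_smul, wa, show h • b = b from hh.2, wb], by
      show (w * h * w) • b = b
      rw [mul_smul, mul_smul, wb, show h • a = a from hh.1, wa]⟩
  have hfree : ∀ h ∈ H, w * h * w = h → h = 1 := by
    intro h hh he
    have h1 : w • h • c = h • c := by
      conv_rhs => rw [← he]
      rw [mul_smul, mul_smul, wc]
    exact free hsharp hab hbc hac hh.1 hh.2 (honly _ h1)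
  have hwinv : ∀ x : G, w * (w * x) = x := fun x => by rw [← mul_assoc, ww, one_mul]
  let f : H → H := fun h => ⟨(h : G)⁻¹ * (w * h * w), H.mul_mem (H.inv_mem h.2) (hσ _ h.2)⟩
  have hinj : Function.Injective f := by
    intro h k hhk
    have h1 : (h : G)⁻¹ * (w * h * w) = (k : G)⁻¹ * (w * k * w) := congrArg Subtype.val hhk
    have h2 := hfree _ (H.mul_mem k.2 (H.inv_mem h.2)) (by
      have : w * h * w = (h : G) * ((k : G)⁻¹ * (w * k * w)) := by rw [← h1, mul_inv_cancel_left]
      have h3 : w * ((k : G) * (h : G)⁻¹) * w = (w * k * w) * (w * h * w)⁻¹ := by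
        rw [mul_inv_rev, mul_inv_rev, inv_eq_of_mul_eq_one_right ww]
        simp [mul_assoc, hwinv]
      rw [h3, this]
      group)
    exact (Subtype.ext (mul_inv_eq_one.1 h2)).symm
  have hall : ∀ h ∈ H, w * h * w = h⁻¹ := by
    intro h hh
    obtain ⟨k, hk⟩ := Finite.injective_iff_surjective.1 hinj ⟨h, hh⟩
    have h1 : (k : G)⁻¹ * (w * k * w) = h := congrArg Subtype.val hk
    rw [← h1]
    simp [mul_assoc, hwinv, inv_eq_of_mul_eq_one_right ww, ww]
  intro g h ga gb ha hb
  have hg : g ∈ H := ⟨ga, gb⟩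
  have hh : h ∈ H := ⟨ha, hb⟩
  have h1 := hall _ (H.mul_mem hg hh)
  rw [show w * (g * h) * w = (w * g * w) * (w * h * w) by simp [mul_assoc, hwinv], hall g hg, hall h hh,
    ← mul_inv_rev] at h1
  exact (inv_injective h1).symm

/-- In odd dimension over `ZMod p`, `p` odd, two invertible maps do not anticommute. -/
theorem not_anticommute {A : Type*} [AddCommGroup A] [Finite A] {p f : ℕ} (hp : p.Prime) (hp2 : p ≠ 2) (hfo : Odd f)
    (hexp : ∀ x : A, p • x = 0) (hcard : Nat.card A = p ^ f) {k d : A →+ A}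
    (hk : Function.Injective k) (hd : Function.Injective d) (hanti : ∀ x, k (d x) = -(d (k x))) : False := by
  haveI : Fact p.Prime := ⟨hp⟩
  haveI : Module (ZMod p) A := AddCommGroup.zmodModule hexp
  set K := k.toZModLinearMap p with hK
  set D := d.toZModLinearMap p with hD
  have hdet : ∀ L : A →ₗ[ZMod p] A, Function.Injective ⇑L → LinearMap.det L ≠ 0 := fun L hL h0 =>
    (LinearMap.bot_lt_ker_of_det_eq_zero h0).ne' (LinearMap.ker_eq_bot.2 hL)
  have hrank : Module.finrank (ZMod p) A = f := by
    haveI : Module.Finite (ZMod p) A := Module.Finite.of_finite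
    have h := Module.natCard_eq_pow_finrank (K := ZMod p) (V := A)
    rw [Nat.card_zmod, hcard] at h
    exact (Nat.pow_right_injective hp.two_le h).symm
  have h := congrArg LinearMap.det (show K ∘ₗ D = ((-1 : ZMod p) • D) ∘ₗ K from LinearMap.ext fun x => by
    rw [neg_one_smul]
    exact hanti x)
  rw [LinearMap.det_comp, LinearMap.det_comp, LinearMap.det_smul, hrank, hfo.neg_one_pow] at h
  have h20 : (2 : ZMod p) ≠ 0 := by
    intro h'
    have h'' : ((2 : ℕ) : ZMod p) = 0 := by exact_mod_cast h'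
    rw [ZMod.natCast_eq_zero_iff] at h''
    exact hp2 ((Nat.prime_dvd_prime_iff_eq hp Nat.prime_two).1 h'')
  have h0 : (2 : ZMod p) * (LinearMap.det K * LinearMap.det D) = 0 := by linear_combination h
  exact mul_ne_zero h20 (mul_ne_zero (hdet K hk) (hdet D hd)) h0

include h3 hsharp in
/-- With `p` odd and degree `p ^ f + 1`, `f` odd, no element is inverted by conjugation, except involutions. -/
theorem sq_eq_one_of_inverted {p f : ℕ} (hp : p.Prime) (hp2 : p ≠ 2) (hfo : Odd f)
    (hα : Fintype.card α = p ^ f + 1) {a b : α} (hab : a ≠ b) :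
    (∀ g h : G, g • a = a → g • b = b → h • a = a → h • b = b → g * g = 1 → h * h = 1 → g ≠ 1 → h ≠ 1 → g = h) ∧
    ∀ g k : G, g • a = a → g • b = b → k • a = a → k • b = b → k * g * k⁻¹ = g⁻¹ → g * g = 1 := by
  classical
  have hf : 1 ≤ f := hfo.pos
  have hn : 3 ≤ Fintype.card α := by
    have : 1 < p ^ f := Nat.one_lt_pow (by omega) hp.one_lt
    omega
  obtain ⟨N, p', j, hp', hj, hpj, hN, hNc, hreg, hNcomm, hNexp, hNfree⟩ := exists_translations h3 hsharp hn a
  haveI := hN
  have hpp : p' ^ j = p ^ f := by omega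
  have hpeq : p' = p := (Nat.prime_dvd_prime_iff_eq hp' hp).1 (hp'.dvd_of_dvd_pow (hpp ▸ dvd_pow_self p' (by omega)))
  subst hpeq
  haveI : Fact p'.Prime := ⟨hp⟩
  letI : CommGroup N := { (inferInstance : Group N) with mul_comm := fun x y => Subtype.ext (hNcomm _ x.2 _ y.2) }
  have hexp : ∀ x : Additive N, p' • x = 0 := fun x =>
    Additive.toMul.injective (Subtype.ext (by
      show ((((Additive.toMul x) ^ p' : N)) : stabilizer G a) = 1
      rw [Subgroup.coe_pow]
      exact hNexp _ (Additive.toMul x).2))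
  let ρ : stabilizer G a → (Additive N →+ Additive N) := fun u =>
    (MulAut.conjNormal (H := N) u).toMonoidHom.toAdditive
  have hρ : ∀ (u : stabilizer G a) (x : Additive N), ((Additive.toMul (ρ u x) : N) : stabilizer G a)
      = u * ((Additive.toMul x : N) : stabilizer G a) * u⁻¹ := fun u x => rfl
  have hext : ∀ x y : Additive N, ((Additive.toMul x : N) : stabilizer G a) = ((Additive.toMul y : N) : stabilizer G a) → x = y :=
    fun x y h => Additive.toMul.injective (Subtype.ext h)
  -- fixed points of conjugation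
  have hfix : ∀ u : stabilizer G a, (u : G) • b = b → u ≠ 1 → ∀ x : Additive N, ρ u x = x → x = 0 := by
    intro u hub hu1 x hx
    by_contra hne
    set n : stabilizer G a := ((Additive.toMul x : N) : stabilizer G a)
    have hn1 : n ≠ 1 := fun h => hne (hext _ _ (h.trans rfl))
    have hc : u * n = n * u := by
      have h := congrArg (fun z => ((Additive.toMul z : N) : stabilizer G a)) hx
      simp only [hρ] at h
      exact mul_inv_eq_iff_eq_mul.1 h
    have hne' : (n : G) • b ≠ b := hNfree n (Additive.toMul x).2 hn1 b hab.symm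
    apply hu1
    refine Subtype.ext (free hsharp hab hne'.symm ?_ u.2 hub ?_)
    · intro h
      exact hab (smul_left_cancel (n : G) (show (n : G) • a = (n : G) • b from n.2.trans h))
    · rw [← mul_smul, ← Subgroup.coe_mul, hc, Subgroup.coe_mul, mul_smul, hub]
  have hmul : ∀ u v x, ρ (u * v) x = ρ u (ρ v x) := fun u v x => hext _ _ (by
    simp only [hρ]; group)
  have hone : ∀ x, ρ 1 x = x := fun x => hext _ _ (by simp [hρ])
  refine ⟨?_, ?_⟩
  · intro g h ga gb ha hb gg hh g1 h1
    have key : ∀ u : stabilizer G a, (u : G) • b = b → u ≠ 1 → u * u = 1 → ∀ x, ρ u x = -x := by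
      intro u hub hu1 huu x
      have := hfix u hub hu1 (ρ u x + x) (by rw [map_add, ← hmul, huu, hone, add_comm])
      exact eq_neg_of_add_eq_zero_left this
    set g' : stabilizer G a := ⟨g, ga⟩
    set h' : stabilizer G a := ⟨h, ha⟩
    have hx := key g' gb (fun e => g1 (congrArg Subtype.val e)) (Subtype.ext gg)
    have hy := key h' hb (fun e => h1 (congrArg Subtype.val e)) (Subtype.ext hh)
    by_contra hne
    have hu : g'⁻¹ * h' ≠ 1 := fun e => hne (congrArg Subtype.val (inv_mul_eq_one.1 e))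
    have hgi : g'⁻¹ = g' := inv_eq_of_mul_eq_one_right (Subtype.ext gg)
    have hNnt : Nontrivial N := by
      rw [← Finite.one_lt_card_iff_nontrivial, hNc]
      exact Nat.one_lt_pow (by omega) hp.one_lt
    obtain ⟨x, hx0⟩ := exists_ne (0 : Additive N)
    refine hx0 (hfix _ ?_ hu x ?_)
    · show (g⁻¹ * h) • b = b
      rw [mul_smul, hb, inv_smul_eq_iff, gb]
    · rw [hgi, hmul, hy, map_neg, hx, neg_neg]
  · intro g k ga gb ka kb hk
    by_contra hne
    set g' : stabilizer G a := ⟨g, ga⟩
    set k' : stabilizer G a := ⟨k, ka⟩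
    set δ := ρ g' - ρ g'⁻¹ with hδ
    have hk' : k' * g' = g'⁻¹ * k' := Subtype.ext (mul_inv_eq_iff_eq_mul.1 hk)
    have hanti : ∀ x, ρ k' (δ x) = -(δ (ρ k' x)) := by
      intro x
      simp only [hδ, AddMonoidHom.sub_apply, map_sub]
      rw [← hmul, ← hmul, ← hmul, ← hmul, hk', show k' * g'⁻¹ = g' * k' by
        rw [mul_inv_eq_iff_eq_mul, mul_assoc, hk', mul_inv_cancel_left]]
      abel
    have hinj : Function.Injective δ := by
      rw [injective_iff_map_eq_zero]
      intro x hx
      rw [hδ, AddMonoidHom.sub_apply, sub_eq_zero] at hx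
      refine hfix (g' * g') ?_ (fun e => hne (congrArg Subtype.val e)) x ?_
      · show (g * g) • b = b
        rw [mul_smul, gb, gb]
      · rw [hmul, hx, ← hmul, mul_inv_cancel, hone]
    have hk0 : Function.Injective (ρ k') := fun x y hxy => by
      have := congrArg (ρ k'⁻¹) hxy
      rwa [← hmul, ← hmul, inv_mul_cancel, hone, hone] at this
    exact not_anticommute hp hp2 hfo hexp (by
      rw [show Nat.card (Additive N) = Nat.card N from rfl, hNc, hpp]) hk0 hinj hanti

include h3 hsharp in
theorem comm_of_odd_exponent {p f : ℕ} (hp : p.Prime) (hp2 : p ≠ 2) (hfo : Odd f)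
    (hα : Fintype.card α = p ^ f + 1) {a b c : α} (hab : a ≠ b) (hac : a ≠ c) (hbc : b ≠ c)
    {w : G} (wa : w • a = b) (wb : w • b = a) (wc : w • c = c) (ww : w * w = 1) :
    ∀ g h : G, g • a = a → g • b = b → h • a = a → h • b = b → g * h = h * g := by
  classical
  obtain ⟨huniq, hsq⟩ := sq_eq_one_of_inverted h3 hsharp hp hp2 hfo hα hab
  let H : Subgroup G := stabilizer G a ⊓ stabilizer G b
  haveI : Fact (Nat.Prime 2) := ⟨Nat.prime_two⟩
  have hw1 : w ≠ 1 := fun h => hab (by simpa [h] using wa)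
  have hsq' : ∀ g k : H, k * g * k⁻¹ = g⁻¹ → g * g = 1 := fun g k h =>
    Subtype.ext (hsq g k g.2.1 g.2.2 k.2.1 k.2.2 (congrArg Subtype.val h))
  -- the Sylow 2-subgroup is cyclic
  let S : Sylow 2 H := Classical.arbitrary _
  have hScyc : IsCyclic (S : Subgroup H) := by
    rcases CfsgLib.ZStar.cyclic_or_quaternion S.2 (fun x y hx hy => by
      have hxx : ((x : H) : G) * ((x : H) : G) = 1 := by
        have h := congrArg (fun z : (S : Subgroup H) => ((z : H) : G)) (orderOf_dvd_iff_pow_eq_one.1 (dvd_of_eq hx) : x ^ 2 = 1)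
        simpa [sq] using h
      have hyy : ((y : H) : G) * ((y : H) : G) = 1 := by
        have h := congrArg (fun z : (S : Subgroup H) => ((z : H) : G)) (orderOf_dvd_iff_pow_eq_one.1 (dvd_of_eq hy) : y ^ 2 = 1)
        simpa [sq] using h
      refine Subtype.ext (Subtype.ext (huniq _ _ (x : H).2.1 (x : H).2.2 (y : H).2.1 (y : H).2.2 hxx hyy ?_ ?_))
      · intro e
        rw [show x = 1 from Subtype.ext (Subtype.ext e), orderOf_one] at hx
        omega
      · intro e
        rw [show y = 1 from Subtype.ext (Subtype.ext e), orderOf_one] at hy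
        omega) with hc | ⟨n, ⟨φ⟩⟩
    · exact hc
    · haveI : NeZero (2 ^ n) := ⟨by positivity⟩
      rcases Nat.eq_zero_or_pos n with rfl | hn
      · refine isCyclic_of_orderOf_eq_card (φ.symm (QuaternionGroup.xa 0)) ?_
        rw [MulEquiv.orderOf_eq, QuaternionGroup.orderOf_xa, Nat.card_congr φ.toEquiv, Nat.card_eq_fintype_card, QuaternionGroup.card]
        norm_num
      · exfalso
        set g : (S : Subgroup H) := φ.symm (QuaternionGroup.a 1)
        set k : (S : Subgroup H) := φ.symm (QuaternionGroup.xa 0)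
        have hrel : k * g * k⁻¹ = g⁻¹ := by
          rw [← map_inv, ← map_inv, ← map_mul, ← map_mul]
          congr 1
          rw [mul_inv_eq_iff_eq_mul, eq_inv_mul_iff_mul_eq]
          simp
        have h2 : g * g = 1 := Subtype.ext (hsq' (g : H) (k : H) (congrArg Subtype.val hrel))
        have h3 : (QuaternionGroup.a 1 : QuaternionGroup (2 ^ n)) ^ 2 = 1 := by
          apply φ.symm.injective
          rw [map_pow, map_one, sq]
          exact h2
        have h4 := orderOf_dvd_of_pow_eq_one h3
        rw [QuaternionGroup.orderOf_a_one] at h4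
        have h5 := Nat.le_of_dvd (by norm_num) h4
        have h6 : 2 ^ 1 ≤ 2 ^ n := Nat.pow_le_pow_right (by norm_num) hn
        omega
  obtain ⟨S', O, hOn, hOc⟩ := CfsgLib.ZStar.hasNormalPComplement_of_cyclic S hScyc
  haveI := hOn
  haveI hS'cyc : IsCyclic (S' : Subgroup H) := isCyclic_of_surjective (Sylow.equiv S S').toMonoidHom (Sylow.equiv S S').surjective
  have hOodd : ∀ x ∈ O, x * x = 1 → x = 1 := by
    intro x hx hxx
    have hd : orderOf x ∣ 2 := orderOf_dvd_of_pow_eq_one (by rw [sq, hxx])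
    rcases (Nat.dvd_prime Nat.prime_two).1 hd with h | h
    · exact orderOf_eq_one_iff.1 h
    · exfalso
      have h2 : 2 ∣ (S' : Subgroup H).index := by
        rw [Subgroup.IsComplement'.index_eq_card hOc, ← h]
        exact Subgroup.orderOf_dvd_natCard O hx
      exact S'.not_dvd_index h2
  have hodd : ∀ x : H, Odd (orderOf x) → x ∈ O := by
    intro x hx
    rw [← QuotientGroup.eq_one_iff (N := O), ← orderOf_eq_one_iff]
    have h1 : orderOf (x : H ⧸ O) ∣ orderOf x := orderOf_map_dvd (QuotientGroup.mk' O) x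
    have h2 : orderOf (x : H ⧸ O) ∣ Nat.card (S' : Subgroup H) := by
      rw [← Subgroup.IsComplement'.index_eq_card hOc.symm]
      exact orderOf_dvd_natCard _
    obtain ⟨m, hm⟩ := S'.2.exists_card_eq
    rw [hm] at h2
    obtain ⟨i, -, hi⟩ := (Nat.dvd_prime_pow Nat.prime_two).1 h2
    rcases Nat.eq_zero_or_pos i with rfl | hi0
    · exact hi
    · exfalso
      rw [hi] at h1
      exact Nat.not_even_iff_odd.2 hx (even_iff_two_dvd.2 ((dvd_pow_self 2 hi0.ne').trans h1))
  have hσ : ∀ h ∈ H, w * h * w ∈ H := fun h hh => ⟨by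
      show (w * h * w) • a = a
      rw [mul_smul, mul_smul, wa, show h • b = b from hh.2, wb], by
      show (w * h * w) • b = b
      rw [mul_smul, mul_smul, wb, show h • a = a from hh.1, wa]⟩
  have hwinv : ∀ x : G, w * (w * x) = x := fun x => by rw [← mul_assoc, ww, one_mul]
  let σ : H →* H := MonoidHom.mk' (fun h => ⟨w * h * w, hσ _ h.2⟩) (fun h k => Subtype.ext (by
    show w * ((h : G) * k) * w = (w * h * w) * (w * k * w)
    simp [mul_assoc, hwinv]))
  have hσσ : ∀ h, σ (σ h) = h := fun h => Subtype.ext (by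
    show w * (w * h * w) * w = h
    rw [show w * (w * (h : G) * w) * w = (w * w) * h * (w * w) by simp [mul_assoc], ww, one_mul, mul_one])
  have hσinj : Function.Injective σ := Function.LeftInverse.injective hσσ
  have hσO : ∀ x ∈ O, σ x ∈ O := by
    intro x hx
    refine hodd _ ?_
    rw [orderOf_injective σ hσinj]
    by_contra hev
    rw [Nat.not_odd_iff_even, even_iff_two_dvd] at hev
    have h := hOodd (x ^ (orderOf x / 2)) (O.pow_mem hx _) (by
      rw [← pow_add, ← two_mul, Nat.mul_div_cancel' hev, pow_orderOf_eq_one])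
    have := Nat.le_of_dvd (Nat.div_pos (Nat.le_of_dvd (orderOf_pos x) hev) two_pos) (orderOf_dvd_of_pow_eq_one h)
    have := orderOf_pos x
    omega
  -- fixed elements
  have hFixc : ∀ x : H, σ x = x → w • (x : G) • c = (x : G) • c := by
    intro x hx
    conv_rhs => rw [← hx]
    show _ = (w * x * w) • c
    rw [mul_smul, mul_smul, wc]
  have hmap : ∀ x y : H, (x : G) • c = (y : G) • c → x = y := fun x y h =>
    Subtype.ext (eq_of_three hsharp hab hbc hac (x.2.1.trans y.2.1.symm) (x.2.2.trans y.2.2.symm) h)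
  have hfix2 : ∀ x y : H, σ x = x → σ y = y → x ≠ 1 → y ≠ 1 → x = y := by
    intro x y hx hy hx1 hy1
    by_contra hne
    have h := card_fixed_le hsharp hw1
    have h' : ({c, (x : G) • c, (y : G) • c} : Finset α).card ≤ (Finset.univ.filter fun z : α => w • z = z).card :=
      Finset.card_le_card (by
        intro z hz
        simp at hz
        rcases hz with rfl | rfl | rfl
        · simp [wc]
        · simpa using hFixc x hx
        · simpa using hFixc y hy)
    rw [Finset.card_eq_three.2 ⟨c, (x : G) • c, (y : G) • c,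
      fun e => hx1 (hmap x 1 (e.symm.trans (one_smul _ c).symm)),
      fun e => hy1 (hmap y 1 (e.symm.trans (one_smul _ c).symm)), fun e => hne (hmap x y e), rfl⟩] at h'
    omega
  have hfixO : ∀ x ∈ O, σ x = x → x = 1 := by
    intro x hx hσx
    by_contra hx1
    have hx2 : x * x = 1 := by
      by_contra h2
      exact hx1 (mul_eq_left.1 (hfix2 _ _ (by rw [map_mul, hσx]) hσx h2 hx1))
    exact hx1 (hOodd x hx hx2)
  -- inversion on the complement
  have hOinv : ∀ x ∈ O, σ x = x⁻¹ := by
    let f : O → O := fun h => ⟨(h : H)⁻¹ * σ h, O.mul_mem (O.inv_mem h.2) (hσO _ h.2)⟩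
    have hinj : Function.Injective f := by
      intro h k hhk
      have h1 : (h : H)⁻¹ * σ h = (k : H)⁻¹ * σ k := congrArg Subtype.val hhk
      have h2 := hfixO _ (O.mul_mem k.2 (O.inv_mem h.2)) (by
        rw [map_mul, map_inv, show σ h = (h : H) * ((k : H)⁻¹ * σ k) by rw [← h1, mul_inv_cancel_left]]
        group)
      exact (Subtype.ext (mul_inv_eq_one.1 h2)).symm
    intro x hx
    obtain ⟨k, hk⟩ := Finite.injective_iff_surjective.1 hinj ⟨x, hx⟩
    have h1 : (k : H)⁻¹ * σ k = x := congrArg Subtype.val hk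
    rw [← h1, map_mul, map_inv, hσσ, mul_inv_rev, inv_inv]
  have hOcomm : ∀ x ∈ O, ∀ y ∈ O, x * y = y * x := by
    intro x hx y hy
    have h1 := hOinv _ (O.mul_mem hx hy)
    rw [map_mul, hOinv x hx, hOinv y hy, ← mul_inv_rev] at h1
    exact (inv_injective h1).symm
  set C := Subgroup.centralizer (O : Set H)
  have hI : ∀ h : H, h⁻¹ * σ h ∈ C := by
    intro h x hx
    have hx' : h * x * h⁻¹ ∈ O := hOn.conj_mem x hx h
    have h1 := hOinv _ hx'
    rw [map_mul, map_mul, map_inv, hOinv x hx] at h1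
    have h2 : σ h * x⁻¹ * (σ h)⁻¹ = h * x⁻¹ * h⁻¹ := by rw [h1]; group
    have h3 : σ h * x * (σ h)⁻¹ = h * x * h⁻¹ := by
      have := congrArg Inv.inv h2
      simpa [mul_assoc] using this
    calc x * (h⁻¹ * σ h) = h⁻¹ * (h * x * h⁻¹) * σ h := by group
      _ = h⁻¹ * (σ h * x * (σ h)⁻¹) * σ h := by rw [h3]
      _ = h⁻¹ * σ h * x := by group
  have hindex : C.index ≤ 2 := by
    have hle : Nat.card H ≤ 2 * Nat.card C := by
      haveI : Fintype H := Fintype.ofFinite H
      rw [Nat.card_eq_fintype_card, Nat.card_eq_fintype_card, ← Finset.card_univ, ← Finset.card_univ (α := C)]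
      refine Finset.card_le_mul_card_image_of_maps_to (f := fun h : H => (⟨h⁻¹ * σ h, hI h⟩ : C))
        (fun _ _ => Finset.mem_univ _) 2 fun z _ => ?_
      by_contra hc
      push Not at hc
      obtain ⟨x, y, v, hx, hy, hv, hxy, hxv, hyv⟩ := Finset.two_lt_card_iff.1 hc
      simp only [Finset.mem_filter, Finset.mem_univ, true_and] at hx hy hv
      have hfixed : ∀ y : H, y⁻¹ * σ y = x⁻¹ * σ x → σ (y * x⁻¹) = y * x⁻¹ := fun y hy => by
        rw [map_mul, map_inv, show σ y = y * (x⁻¹ * σ x) by rw [← hy, mul_inv_cancel_left]]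
        group
      exact hyv (mul_right_cancel (hfix2 _ _ (hfixed y (congrArg Subtype.val (hy.trans hx.symm)))
        (hfixed v (congrArg Subtype.val (hv.trans hx.symm))) (fun e => hxy (mul_inv_eq_one.1 e).symm)
        (fun e => hxv (mul_inv_eq_one.1 e).symm)))
    have hm := C.card_mul_index
    nlinarith [Nat.card_pos (α := C)]
  have hcent : ∀ h : H, h ∈ C := by
    intro h x hx
    have hsqC : h * h ∈ C := by
      rcases Nat.lt_or_ge C.index 2 with h1 | h1
      · have : C.index = 1 := by have := C.index_ne_zero_of_finite; omega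
        rw [Subgroup.index_eq_one.1 this]; trivial
      · exact Subgroup.mul_self_mem_of_index_two (le_antisymm hindex h1) h
    have hxc := hsqC x hx
    set u := h * x * h⁻¹ with hu
    have huO : u ∈ O := hOn.conj_mem x hx h
    have hu2 : h * u * h⁻¹ = x := by
      rw [hu, show h * (h * x * h⁻¹) * h⁻¹ = (h * h) * x * (h * h)⁻¹ by group, ← hxc]
      group
    have hy : h * (x * u⁻¹) * h⁻¹ = (x * u⁻¹)⁻¹ := by
      rw [show h * (x * u⁻¹) * h⁻¹ = (h * x * h⁻¹) * (h * u * h⁻¹)⁻¹ by group, hu2, ← hu, mul_inv_rev, inv_inv]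
    have := hOodd _ (O.mul_mem hx (O.inv_mem huO)) (hsq' _ h hy)
    rw [mul_inv_eq_one, hu, eq_mul_inv_iff_mul_eq] at this
    exact this
  intro g h ga gb ha hb
  suffices hc : ∀ x y : H, x * y = y * x from congrArg Subtype.val (hc ⟨g, ga, gb⟩ ⟨h, ha, hb⟩)
  letI := hS'cyc.commGroup
  intro x y
  obtain ⟨⟨o, s⟩, hx⟩ := hOc.2 x
  obtain ⟨⟨o', s'⟩, hy⟩ := hOc.2 y
  simp only at hx hy
  rw [← hx, ← hy]
  have e1 : (s : H) * s' = s' * s := congrArg Subtype.val (mul_comm s s')
  have e2 : (o : H) * o' = o' * o := hOcomm o o.2 o' o'.2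
  have e3 : ∀ (z : H) (w' : O), z * (w' : H) = (w' : H) * z := fun z w' => (hcent z w' w'.2).symm
  calc (o : H) * s * (o' * s') = (o : H) * ((s : H) * o') * s' := by simp [mul_assoc]
    _ = (o : H) * o' * ((s : H) * s') := by rw [e3 s o']; simp [mul_assoc]
    _ = (o' : H) * o * ((s' : H) * s) := by rw [e1, e2]
    _ = (o' : H) * ((o : H) * s') * s := by simp [mul_assoc]
    _ = (o' : H) * s' * (o * s) := by rw [← e3 s' o]; simp [mul_assoc]

end Cfsg.Agent.Lib.Perm.SharplyThree
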