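/-
Shift-invariant spaces of functions on `ZMod p` in characteristic `p`: spaces of polynomial
functions of bounded degree.
-/
import Mathlib

set_option autoImplicit false
set_option linter.style.haveILetI false

open Polynomial Module

namespace CfsgLib.PolyFun

variable {p : ℕ} [Fact p.Prime] {K : Type*} [Field K] [CharP K p]

theorem cast_injective : Function.Injective (fun j : ZMod p => (ZMod.cast j : K)) := by
  have h : (fun j : ZMod p => (ZMod.cast j : K)) = ZMod.castHom (dvd_refl p) K := by
    funext j; rfl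
  rw [h]
  exact (ZMod.castHom (dvd_refl p) K).injective

/-- Evaluation of polynomials at the elements of `ZMod p`. -/
noncomputable def evalMap : Polynomial K →ₗ[K] (ZMod p → K) :=
  LinearMap.pi fun j => Polynomial.leval (ZMod.cast j : K)

omit [Fact p.Prime] [CharP K p] in
theorem evalMap_apply (P : Polynomial K) (j : ZMod p) :
    evalMap P j = P.eval (ZMod.cast j : K) := rfl

theorem evalMap_inj {P Q : Polynomial K} (hP : P.natDegree < p) (hQ : Q.natDegree < p)
    (h : evalMap (p := p) P = evalMap Q) : P = Q := by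
  refine eq_of_natDegree_lt_card_of_eval_eq P Q (cast_injective (p := p) (K := K))
    (fun i => congrFun h i) ?_
  rw [ZMod.card]
  exact max_lt hP hQ

/-- Functions given by a polynomial of degree `< r`. -/
noncomputable def polySpace (r : ℕ) : Submodule K (ZMod p → K) :=
  (degreeLT K r).map evalMap

omit [Fact p.Prime] [CharP K p] in
theorem mem_polySpace {r : ℕ} {f : ZMod p → K} :
    f ∈ polySpace r ↔ ∃ P : Polynomial K, P.degree < r ∧ ∀ j : ZMod p, f j = P.eval (ZMod.cast j : K) := by
  simp only [polySpace, Submodule.mem_map, mem_degreeLT]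
  refine exists_congr fun P => and_congr_right fun _ => ?_
  exact ⟨fun h j => by rw [← h]; rfl, fun h => funext fun j => (h j).symm⟩

theorem finrank_polySpace {r : ℕ} (hr : r ≤ p) : finrank K (polySpace (p := p) (K := K) r) = r := by
  have hdeg : ∀ P : degreeLT K r, (P : Polynomial K).natDegree < p := fun P => by
    rcases eq_or_ne (P : Polynomial K) 0 with h0 | h0
    · rw [h0, natDegree_zero]; exact (Fact.out : p.Prime).pos
    · exact lt_of_lt_of_le ((natDegree_lt_iff_degree_lt h0).mpr (mem_degreeLT.mp P.2)) hr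
  have hinj : Function.Injective ((evalMap (p := p) (K := K)).domRestrict (degreeLT K r)) :=
    fun P Q h => Subtype.ext (evalMap_inj (hdeg P) (hdeg Q) h)
  rw [polySpace, ← LinearMap.range_domRestrict, LinearMap.finrank_range_of_inj hinj,
    (degreeLTEquiv K r).finrank_eq, finrank_pi, Fintype.card_fin]

theorem exists_poly (f : ZMod p → K) :
    ∃ P : Polynomial K, P.natDegree < p ∧ ∀ j : ZMod p, f j = P.eval (ZMod.cast j : K) := by
  have h : polySpace (p := p) (K := K) p = ⊤ :=
    Submodule.eq_top_of_finrank_eq (by rw [finrank_polySpace le_rfl, finrank_pi, ZMod.card])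
  obtain ⟨P, hP, hPf⟩ := mem_polySpace.mp (h ▸ Submodule.mem_top : f ∈ polySpace p)
  refine ⟨P, ?_, hPf⟩
  rcases eq_or_ne P 0 with h0 | h0
  · rw [h0, natDegree_zero]; exact (Fact.out : p.Prime).pos
  · exact (natDegree_lt_iff_degree_lt h0).mpr hP

/-- A shift-invariant space containing a polynomial of degree `d` contains all of smaller degree. -/
theorem polySpace_le {W : Submodule K (ZMod p → K)} (hW : ∀ f ∈ W, (fun j => f (j - 1)) ∈ W)
    {d : ℕ} : ∀ {P : Polynomial K}, P.natDegree = d → P ≠ 0 → d < p → evalMap P ∈ W →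
      polySpace (d + 1) ≤ W := by
  induction d with
  | zero =>
    intro P hd hP0 _ hPW f hf
    obtain ⟨Q, hQ, hQf⟩ := mem_polySpace.mp hf
    obtain ⟨a, rfl⟩ : ∃ a, P = C a := ⟨_, eq_C_of_natDegree_eq_zero hd⟩
    have hQ0 : Q.natDegree = 0 := by
      rcases eq_or_ne Q 0 with h0 | h0
      · simp [h0]
      · have := (natDegree_lt_iff_degree_lt h0).mpr hQ; omega
    obtain ⟨b, rfl⟩ : ∃ b, Q = C b := ⟨_, eq_C_of_natDegree_eq_zero hQ0⟩
    have ha : a ≠ 0 := fun h => hP0 (by rw [h, C_0])
    have : f = (b / a) • evalMap (p := p) (C a) := by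
      funext j
      simp [hQf j, evalMap_apply, div_mul_cancel₀ b ha]
    rw [this]
    exact W.smul_mem _ hPW
  | succ d ih =>
    intro P hd hP0 hdp hPW
    set D : Polynomial K := taylor (-1) P - P with hDdef
    have hc : ∀ n, (taylor (-1) P).coeff n = (hasseDeriv n P).eval (-1) := fun n => taylor_coeff _ _ n
    have htop : (taylor (-1 : K) P).coeff (d + 1) = P.coeff (d + 1) := by
      conv_lhs => rw [← hd, coeff_taylor_natDegree, leadingCoeff, hd]
    have hDd : D.coeff d = -((d + 1 : ℕ) : K) * P.coeff (d + 1) := by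
      rw [hDdef, coeff_sub, hc, eval_eq_sum_range' (n := 2) (by
        have := natDegree_hasseDeriv_le P d
        omega)]
      simp [Finset.sum_range_succ, hasseDeriv_coeff, Nat.choose_succ_self_right, add_comm 1 d]
      ring
    have hDne : D.coeff d ≠ 0 := by
      rw [hDd]
      refine mul_ne_zero (neg_ne_zero.mpr fun h => ?_) ?_
      · rw [CharP.cast_eq_zero_iff K p] at h
        have := Nat.le_of_dvd (by omega) h
        omega
      · rw [← hd]; exact leadingCoeff_ne_zero.mpr hP0
    have hDdeg : D.natDegree = d := by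
      refine le_antisymm (natDegree_le_iff_coeff_eq_zero.mpr fun n hn => ?_)
        (le_natDegree_of_ne_zero hDne)
      rw [hDdef, coeff_sub]
      rcases eq_or_lt_of_le (show d + 1 ≤ n by omega) with h | h
      · rw [← h, htop, sub_self]
      · rw [coeff_eq_zero_of_natDegree_lt (by rw [natDegree_taylor]; omega),
          coeff_eq_zero_of_natDegree_lt (by omega), sub_zero]
    have hDW : evalMap (p := p) D ∈ W := by
      have : evalMap (p := p) D = (fun j => evalMap P (j - 1)) - evalMap P := by
        funext j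
        simp [hDdef, evalMap_apply, taylor_eval, sub_eq_add_neg]
      rw [this]
      exact W.sub_mem (hW _ hPW) hPW
    have hlow := ih hDdeg (fun h => hDne (by simp [h])) (by omega) hDW
    intro f hf
    obtain ⟨Q, hQ, hQf⟩ := mem_polySpace.mp hf
    have hlc : P.coeff (d + 1) ≠ 0 := by rw [← hd]; exact leadingCoeff_ne_zero.mpr hP0
    set c : K := Q.coeff (d + 1) / P.coeff (d + 1)
    have hR : (Q - c • P).degree < (d + 1 : ℕ) := by
      rw [degree_lt_iff_coeff_zero]
      intro m hm
      rw [coeff_sub, coeff_smul, smul_eq_mul]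
      rcases eq_or_lt_of_le hm with h | h
      · subst h; simp [c, div_mul_cancel₀ _ hlc]
      · rw [(degree_lt_iff_coeff_zero Q _).mp hQ m (by omega),
          coeff_eq_zero_of_natDegree_lt (by omega : P.natDegree < m)]
        simp
    have h1 : evalMap (p := p) (Q - c • P) ∈ W := hlow (mem_polySpace.mpr ⟨_, hR, fun j => rfl⟩)
    have h2 := W.add_mem h1 (W.smul_mem c hPW)
    convert h2 using 1
    funext j
    simp [hQf j, evalMap_apply]

/-- The shift-invariant subspaces are the spaces of polynomial functions of bounded degree. -/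
theorem eq_polySpace {W : Submodule K (ZMod p → K)} (hW : ∀ f ∈ W, (fun j => f (j - 1)) ∈ W) :
    finrank K W ≤ p ∧ W = polySpace (finrank K W) := by
  classical
  suffices h : ∃ r ≤ p, W = polySpace r by
    obtain ⟨r, hr, rfl⟩ := h
    rw [finrank_polySpace hr]
    exact ⟨hr, rfl⟩
  let S : Set ℕ := {d | d < p ∧ ∃ P : Polynomial K, P ≠ 0 ∧ P.natDegree = d ∧ evalMap (p := p) P ∈ W}
  rcases S.eq_empty_or_nonempty with hS | hS
  · refine ⟨0, Nat.zero_le p, le_antisymm (fun f hf => ?_) (fun f hf => ?_)⟩
    · obtain ⟨P, hP, hPf⟩ := exists_poly f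
      rcases eq_or_ne P 0 with h0 | h0
      · refine mem_polySpace.mpr ⟨0, by rw [degree_zero]; exact WithBot.bot_lt_coe _, fun j => ?_⟩
        simp [hPf j, h0]
      · exfalso
        have : P.natDegree ∈ S := ⟨hP, P, h0, rfl, by
          have : evalMap P = f := funext fun j => (hPf j).symm
          rw [this]; exact hf⟩
        rw [hS] at this
        exact this
    · obtain ⟨Q, hQ, hQf⟩ := mem_polySpace.mp hf
      have : f = 0 := by
        funext j
        rw [hQf j, show Q = 0 from degree_eq_bot.mp (by
          by_contra h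
          rw [degree_eq_bot] at h
          exact absurd ((natDegree_lt_iff_degree_lt h).mpr hQ) (Nat.not_lt_zero _))]
        simp
      rw [this]; exact W.zero_mem
  · have hfin : S.Finite := (Set.finite_Iio p).subset fun d hd => hd.1
    obtain ⟨d, hd, hmax⟩ := hfin.exists_maximalFor id S hS
    obtain ⟨hdp, P, hP0, hPd, hPW⟩ := hd
    refine ⟨d + 1, hdp, le_antisymm (fun f hf => ?_) (polySpace_le hW hPd hP0 hdp hPW)⟩
    obtain ⟨Q, hQ, hQf⟩ := exists_poly f
    refine mem_polySpace.mpr ⟨Q, ?_, hQf⟩
    rcases eq_or_ne Q 0 with h0 | h0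
    · rw [h0, degree_zero]; exact WithBot.bot_lt_coe _
    · refine (natDegree_lt_iff_degree_lt h0).mp ?_
      have hmem : Q.natDegree ∈ S := ⟨hQ, Q, h0, rfl, by
        have : evalMap Q = f := funext fun j => (hQf j).symm
        rw [this]; exact hf⟩
      rcases le_total d Q.natDegree with h | h
      · have := hmax hmem h
        simp only [id] at this
        omega
      · omega

/-- If the permutation `σ` preserves the functions of degree `≤ m` with `2 m < p` and `1 ≤ m`, then
`σ` is affine. -/
theorem affine_of_invariant {m : ℕ} (hm1 : 1 ≤ m) (hm2 : 2 * m < p) {σ : ZMod p → ZMod p}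
    (hσ : ∀ f ∈ polySpace (p := p) (K := K) (m + 1), (fun j => f (σ j)) ∈ polySpace (p := p) (K := K) (m + 1))
    (j : ZMod p) : σ j = (σ 1 - σ 0) * j + σ 0 := by
  have hpow : ∀ i ≤ m, ∃ T : Polynomial K, T.natDegree ≤ m ∧
      ∀ j, (ZMod.cast (σ j) : K) ^ i = T.eval (ZMod.cast j : K) := by
    intro i hi
    have hmem : (fun j : ZMod p => (ZMod.cast j : K) ^ i) ∈ polySpace (p := p) (K := K) (m + 1) :=
      mem_polySpace.mpr ⟨X ^ i, by rw [degree_X_pow]; exact_mod_cast (by omega : i < m + 1),
        fun j => by simp⟩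
    obtain ⟨T, hT, hTe⟩ := mem_polySpace.mp (hσ _ hmem)
    refine ⟨T, ?_, hTe⟩
    rcases eq_or_ne T 0 with h0 | h0
    · simp [h0]
    · have := (natDegree_lt_iff_degree_lt h0).mpr hT; omega
  obtain ⟨S, hS, hSe⟩ := hpow 1 hm1
  simp only [pow_one] at hSe
  have hdeg : ∀ i ≤ m, i * S.natDegree ≤ m := by
    intro i
    induction i with
    | zero => intro _; simp
    | succ i ih =>
      intro hi
      have h1 := ih (by omega)
      obtain ⟨T, hT, hTe⟩ := hpow (i + 1) hi
      have hlt : (S ^ (i + 1)).natDegree < p := by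
        rw [natDegree_pow, Nat.add_mul, one_mul]
        omega
      have : S ^ (i + 1) = T := evalMap_inj hlt (by omega) (funext fun j => by
        simp [evalMap_apply, ← hTe, hSe])
      rw [← natDegree_pow, this]
      exact hT
  have hS1 : S.natDegree ≤ 1 := by
    have := hdeg m le_rfl
    by_contra h
    have : m * 2 ≤ m * S.natDegree := Nat.mul_le_mul_left m (by omega)
    omega
  obtain ⟨a, b, hab⟩ := exists_eq_X_add_C_of_natDegree_le_one hS1
  subst hab
  have he : ∀ j, (ZMod.cast (σ j) : K) = a * (ZMod.cast j : K) + b := fun j => by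
    simpa using hSe j
  refine cast_injective (p := p) (K := K) ?_
  show (ZMod.cast (σ j) : K) = ZMod.cast ((σ 1 - σ 0) * j + σ 0)
  have hh : ∀ z : ZMod p, (ZMod.cast z : K) = ZMod.castHom (dvd_refl p) K z := fun z => rfl
  simp only [hh] at he ⊢
  rw [map_add, map_mul, map_sub, he 1, he 0, he j, map_one, map_zero]
  ring

end CfsgLib.PolyFun
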