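/-
The permutation module in the characteristic dividing the prime-power degree: orthogonals, the
unique maximal submodule, 2-transitivity from the heart and affineness in prime degree.
-/
import Cfsg.Prelude.Def_Perm
import Cfsg.Agent.S0670
import Cfsg.Agent.Lib.Perm.PolyFun
import Mathlib

set_option autoImplicit false
set_option linter.style.haveILetI false

open Module Cfsg

namespace CfsgLib.PermModule

theorem isSolvable_perm_of_card_le_three {α : Type*} [Fintype α] [DecidableEq α]
    (h : Fintype.card α ≤ 3) : Group.IsSolvable (Equiv.Perm α) := by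
  haveI : Group.IsSolvable (alternatingGroup α) := by
    haveI := alternatingGroup.isMulCommutative_of_card_le_three (α := α)
      (by rwa [Nat.card_eq_fintype_card])
    exact Group.isSolvable_of_comm fun a b => Std.Commutative.comm a b
  exact Group.isSolvable_of_ker_le_range (alternatingGroup α).subtype Equiv.Perm.sign
    (by rw [Subgroup.range_subtype, alternatingGroup_eq_sign_ker])

variable {G : Type*} [Group G] {K : Type*} [Field K] {Ω : Type*} [Fintype Ω] [MulAction G Ω]

theorem rep_apply (g : G) (v : Ω → K) (x : Ω) : permRep K G Ω g v x = v (g⁻¹ • x) := rfl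

theorem mem_sumZero {v : Ω → K} : v ∈ (permSumZero K G Ω).toSubmodule ↔ ∑ x, v x = 0 := Iff.rfl

theorem sum_rep (g : G) (v : Ω → K) : ∑ x, permRep K G Ω g v x = ∑ x, v x :=
  Fintype.sum_equiv (MulAction.toPerm g⁻¹) _ _ fun _ => rfl

/-- The orthogonal of a subrepresentation for the standard form. -/
def orth (W : Subrepresentation (permRep K G Ω)) : Subrepresentation (permRep K G Ω) where
  toSubmodule :=
    { carrier := {f | ∀ w ∈ W.toSubmodule, ∑ x, f x * w x = 0}
      add_mem' := fun h₁ h₂ w hw => by simp [add_mul, Finset.sum_add_distrib, h₁ w hw, h₂ w hw]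
      zero_mem' := fun w _ => by simp
      smul_mem' := fun c f h w hw => by simp [mul_assoc, ← Finset.mul_sum, h w hw] }
  apply_mem_toSubmodule g v hv := fun w hw => by
    rw [← hv _ (W.apply_mem_toSubmodule g⁻¹ hw)]
    refine Fintype.sum_equiv (MulAction.toPerm g⁻¹) _ _ fun x => ?_
    show v (g⁻¹ • x) * w x = v (g⁻¹ • x) * w (g⁻¹⁻¹ • (g⁻¹ • x))
    rw [inv_inv, smul_inv_smul]

theorem mem_orth {W : Subrepresentation (permRep K G Ω)} {f : Ω → K} :
    f ∈ (orth W).toSubmodule ↔ ∀ w ∈ W.toSubmodule, ∑ x, f x * w x = 0 := Iff.rfl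

theorem finrank_orth (W : Subrepresentation (permRep K G Ω)) :
    finrank K W.toSubmodule + finrank K (orth W).toSubmodule = Fintype.card Ω := by
  classical
  have h : (orth W).toSubmodule =
      W.toSubmodule.dualAnnihilator.comap (dotProductEquiv K Ω).toLinearMap := by
    ext f
    simp only [Submodule.mem_comap, Submodule.mem_dualAnnihilator, LinearEquiv.coe_coe]
    exact Iff.rfl
  rw [h, Submodule.comap_equiv_eq_map_symm, LinearEquiv.finrank_map_eq,
    Subspace.finrank_add_finrank_dualAnnihilator_eq, finrank_pi]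

theorem finrank_constants [Nonempty Ω] : finrank K (permConstants K G Ω).toSubmodule = 1 := by
  show finrank K (Submodule.span K {fun _ => (1 : K)} : Submodule K (Ω → K)) = 1
  exact finrank_span_singleton fun h => one_ne_zero (congrFun h (Classical.arbitrary Ω))

theorem sumZero_eq_orth : (permSumZero K G Ω).toSubmodule = (orth (permConstants K G Ω)).toSubmodule := by
  ext f
  rw [mem_sumZero, mem_orth]
  constructor
  · intro h w hw
    obtain ⟨c, rfl⟩ := Submodule.mem_span_singleton.mp hw
    simp [← Finset.sum_mul, h]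
  · intro h
    simpa using h _ (Submodule.mem_span_singleton_self _)

theorem finrank_sumZero [Nonempty Ω] :
    finrank K (permSumZero K G Ω).toSubmodule + 1 = Fintype.card Ω := by
  rw [sumZero_eq_orth, add_comm]
  have := finrank_orth (permConstants K G Ω)
  rwa [finrank_constants] at this

variable {p f : ℕ} [Fact p.Prime] [CharP K p] [MulAction.IsPretransitive G Ω]

/-- A subrepresentation not inside the sum-zero hyperplane is everything. -/
theorem eq_top_of_not_le [Finite G] (hf : 1 ≤ f) (hcard : Fintype.card Ω = p ^ f)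
    (W : Subrepresentation (permRep K G Ω))
    (hW : ¬ W.toSubmodule ≤ (permSumZero K G Ω).toSubmodule) : W.toSubmodule = ⊤ := by
  have h0 : (orth W).toSubmodule = ⊥ := by
    by_contra h
    refine hW fun w hw => ?_
    have h1 := Cfsg.Agent.S0670.result hf hcard (orth W) h
      (Submodule.mem_span_singleton_self (fun _ => (1 : K)))
    simpa [mem_sumZero] using h1 w hw
  apply Submodule.eq_top_of_finrank_eq
  have := finrank_orth W
  rw [h0, finrank_bot, add_zero] at this
  rw [this, finrank_pi]

/-- If no quotient inside the heart is a trivial module, the group is two-transitive. -/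
theorem two_transitive [Finite G] (hf : 1 ≤ f) (hcard : Fintype.card Ω = p ^ f)
    (h : ∀ W W' : Subrepresentation (permRep K G Ω), (permConstants K G Ω).toSubmodule ≤ W.toSubmodule →
      W.toSubmodule < W'.toSubmodule → W'.toSubmodule ≤ (permSumZero K G Ω).toSubmodule →
      ∃ g : G, ∃ v ∈ W'.toSubmodule, permRep K G Ω g v - v ∉ W.toSubmodule) :
    MulAction.IsMultiplyPretransitive G Ω 2 := by
  classical
  by_contra h2
  rw [MulAction.is_two_pretransitive_iff] at h2
  push Not at h2
  obtain ⟨a, b, c, d, hab, hcd, hno⟩ := h2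
  let R : Ω → Ω → Prop := fun x y => ∃ g : G, g • a = x ∧ g • b = y
  have hRi : ∀ (g : G) x y, R (g • x) (g • y) ↔ R x y := fun g x y =>
    ⟨fun ⟨k, h1, h2⟩ => ⟨g⁻¹ * k, by simp [mul_smul, h1], by simp [mul_smul, h2]⟩,
      fun ⟨k, h1, h2⟩ => ⟨g * k, by simp [mul_smul, h1], by simp [mul_smul, h2]⟩⟩
  let r : Ω → Ω → ℕ := fun x y => if R x y then 1 else 0
  have hri : ∀ (g : G) x y, r (g • x) (g • y) = r x y := fun g x y => if_congr (hRi g x y) rfl rfl
  set k : ℕ := ∑ y, r a y with hk
  have hrow : ∀ x, ∑ y, r x y = k := fun x => by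
    obtain ⟨g, rfl⟩ := MulAction.exists_smul_eq G a x
    exact (Fintype.sum_equiv (MulAction.toPerm g) _ _ fun y => (hri g a y).symm).symm
  have hcol : ∀ y, ∑ x, r x y = k := by
    have hconst : ∀ y, ∑ x, r x y = ∑ x, r x a := fun y => by
      obtain ⟨g, rfl⟩ := MulAction.exists_smul_eq G a y
      exact (Fintype.sum_equiv (MulAction.toPerm g) _ _ fun x => (hri g x a).symm).symm
    intro y
    have h3 : ∑ x : Ω, ∑ y, r x y = ∑ y : Ω, ∑ x, r x y := Finset.sum_comm
    simp only [hrow, hconst, Finset.sum_const, Finset.card_univ, smul_eq_mul] at h3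
    rw [hconst]
    exact (Nat.eq_of_mul_eq_mul_left (Fintype.card_pos_iff.mpr ⟨a⟩) h3).symm
  let N : (Ω → K) →ₗ[K] (Ω → K) :=
    { toFun := fun v x => (∑ y, (r x y : K) * v y) - (k : K) * v x
      map_add' := fun v w => by
        funext x; simp [mul_add, Finset.sum_add_distrib]; ring
      map_smul' := fun t v => by
        funext x
        simp [Finset.mul_sum, mul_left_comm, mul_sub] }
  have hN : ∀ v x, N v x = (∑ y, (r x y : K) * v y) - (k : K) * v x := fun _ _ => rfl
  have hNg : ∀ (g : G) v, N (permRep K G Ω g v) = permRep K G Ω g (N v) := by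
    intro g v
    funext x
    rw [rep_apply, hN, hN]
    congr 1
    refine Fintype.sum_equiv (MulAction.toPerm g⁻¹) _ _ fun y => ?_
    simp only [rep_apply, MulAction.toPerm_apply, hri]
  have hNS : ∀ v, ∑ x, N v x = 0 := by
    intro v
    simp only [hN, Finset.sum_sub_distrib]
    rw [Finset.sum_comm]
    simp only [← Finset.sum_mul, ← Nat.cast_sum, hcol, ← Finset.mul_sum, sub_self]
  let e : Ω → (Ω → K) := fun y => Pi.single y 1
  have hNe : ∀ x y, N (e y) x = (r x y : K) - if x = y then (k : K) else 0 := by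
    intro x y
    simp only [hN, e, Pi.single_apply, mul_ite, mul_one, mul_zero, Finset.sum_ite_eq',
      Finset.mem_univ, if_true]
  have hab1 : N (e b) a = 1 := by
    rw [hNe, if_neg hab, sub_zero]
    have : R a b := ⟨1, one_smul _ _, one_smul _ _⟩
    simp [r, this]
  have hcd0 : N (e d) c = 0 := by
    rw [hNe, if_neg hcd, sub_zero]
    have : ¬ R c d := fun ⟨g, h1, h2⟩ => hno g h1 h2
    simp [r, this]
  let S := permSumZero K G Ω
  let U : Subrepresentation (permRep K G Ω) :=
    ⟨LinearMap.range N, fun g v hv => by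
      obtain ⟨w, rfl⟩ := hv
      exact ⟨_, hNg g w⟩⟩
  let U' : Subrepresentation (permRep K G Ω) :=
    ⟨S.toSubmodule.map N, fun g v hv => by
      obtain ⟨w, hw, rfl⟩ := hv
      exact ⟨_, S.apply_mem_toSubmodule g hw, hNg g w⟩⟩
  have hU'0 : U'.toSubmodule ≠ ⊥ := by
    intro h0
    have hall : ∀ y z, N (e y) = N (e z) := fun y z => by
      have h1 : N (e y - e z) ∈ U'.toSubmodule :=
        Submodule.mem_map_of_mem (mem_sumZero.mpr (by simp [e, Finset.sum_sub_distrib]))
      rw [h0, Submodule.mem_bot, map_sub, sub_eq_zero] at h1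
      exact h1
    have hconst : ∀ y x x', N (e y) x = N (e y) x' := by
      intro y x x'
      obtain ⟨g, rfl⟩ := MulAction.exists_smul_eq G x x'
      have h1 : permRep K G Ω g (N (e y)) = N (e y) := by
        rw [← hNg, hall y (g • y)]
        congr 1
        funext z
        simp [e, rep_apply, Pi.single_apply, inv_smul_eq_iff]
      have h2 := congrFun h1 (g • x)
      rw [rep_apply, inv_smul_smul] at h2
      exact h2
    rw [hall b d, hconst d a c, hcd0] at hab1
    exact zero_ne_one hab1
  have hUS : U.toSubmodule ≤ S.toSubmodule := by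
    rintro _ ⟨v, rfl⟩
    exact mem_sumZero.mpr (hNS v)
  let Ker : Subrepresentation (permRep K G Ω) :=
    ⟨LinearMap.ker N, fun g v hv => by
      rw [LinearMap.mem_ker] at hv ⊢
      rw [hNg, hv, map_zero]⟩
  have hker : Ker.toSubmodule ≤ S.toSubmodule := by
    by_contra hk
    have h1 : e b ∈ LinearMap.ker N := by
      rw [show LinearMap.ker N = ⊤ from eq_top_of_not_le hf hcard Ker hk]; trivial
    rw [LinearMap.mem_ker] at h1
    rw [h1] at hab1
    exact zero_ne_one hab1
  have hlt : U'.toSubmodule < U.toSubmodule := by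
    refine lt_of_le_of_ne ?_ fun heq => ?_
    · rintro _ ⟨w, -, rfl⟩
      exact ⟨w, rfl⟩
    · have h1 : N (e b) ∈ U'.toSubmodule := heq ▸ ⟨_, rfl⟩
      obtain ⟨s, hs, hse⟩ := h1
      have h2 : e b - s ∈ S.toSubmodule := hker (by
        show e b - s ∈ LinearMap.ker N
        rw [LinearMap.mem_ker, map_sub, hse, sub_self])
      have h3 := mem_sumZero.mp (S.toSubmodule.add_mem h2 hs)
      simp [e] at h3
  obtain ⟨g, v, ⟨w, rfl⟩, hgv⟩ :=
    h U' U (Cfsg.Agent.S0670.result hf hcard U' hU'0) hlt hUS
  refine hgv ⟨permRep K G Ω g w - w, mem_sumZero.mpr ?_, by rw [map_sub, hNg]⟩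
  simp only [Pi.sub_apply, Finset.sum_sub_distrib, sum_rep, sub_self]

omit f in
/-- A transitive solvability criterion in prime degree: the heart is irreducible otherwise. -/
theorem heart_irreducible {α : Type*} [Fintype α] [DecidableEq α] (hα : Fintype.card α = p)
    (G : Subgroup (Equiv.Perm α)) [MulAction.IsPretransitive G α] (hG : ¬ Group.IsSolvable G)
    (W : Subrepresentation (permRep K G α))
    (h₁ : (permConstants K G α).toSubmodule ≤ W.toSubmodule)
    (h₂ : W.toSubmodule ≤ (permSumZero K G α).toSubmodule) :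
    W = permConstants K G α ∨ W = permSumZero K G α := by
  classical
  have hp : p.Prime := Fact.out
  haveI : Nonempty α := Fintype.card_pos_iff.mp (by rw [hα]; exact hp.pos)
  by_contra hcon
  push Not at hcon
  obtain ⟨hne1, hne2⟩ := hcon
  set r := finrank K W.toSubmodule with hr
  have hr1 : 1 < r := by
    have h1 := Submodule.finrank_mono h₁
    rw [finrank_constants] at h1
    refine lt_of_le_of_ne h1 fun he => hne1 (Subrepresentation.toSubmodule_injective ?_)
    exact (Submodule.eq_of_le_of_finrank_le h₁ (by rw [finrank_constants]; omega)).symm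
  have hr2 : r + 1 < p := by
    have h1 := Submodule.finrank_mono h₂
    have h2 := finrank_sumZero (K := K) (G := G) (Ω := α)
    rw [hα] at h2
    refine lt_of_le_of_ne (by omega) fun he => hne2 (Subrepresentation.toSubmodule_injective ?_)
    exact Submodule.eq_of_le_of_finrank_le h₂ (by omega)
  obtain ⟨V, m, hm1, hm2, hV⟩ : ∃ (V : Subrepresentation (permRep K G α)) (m : ℕ),
      1 ≤ m ∧ 2 * m < p ∧ finrank K V.toSubmodule = m + 1 := by
    rcases lt_or_ge (2 * (r - 1)) p with h | h
    · exact ⟨W, r - 1, by omega, h, by omega⟩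
    · refine ⟨orth W, p - r - 1, by omega, by omega, ?_⟩
      have := finrank_orth W
      rw [hα] at this
      omega
  -- a `p`-cycle in `G`
  obtain ⟨t, ht⟩ := exists_prime_orderOf_dvd_card' (G := G) p (by
    obtain ⟨x⟩ := ‹Nonempty α›
    have h1 := (MulAction.stabilizer G x).index_dvd_card
    rw [MulAction.index_stabilizer_of_transitive, Nat.card_eq_fintype_card (α := α), hα] at h1
    exact h1)
  have htp : (t : Equiv.Perm α) ^ p = 1 := by
    rw [← ht, ← Subgroup.coe_pow, pow_orderOf_eq_one, Subgroup.coe_one]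
  have hcyc : (t : Equiv.Perm α).IsCycle :=
    Equiv.Perm.isCycle_of_prime_order' (by rw [Subgroup.orderOf_coe, ht]; exact hp)
      (by rw [hα, Subgroup.orderOf_coe, ht]; have := hp.pos; omega)
  have hsupp : (t : Equiv.Perm α).support = Finset.univ := by
    apply Finset.eq_univ_of_card
    rw [hcyc.orderOf.symm, Subgroup.orderOf_coe, ht, hα]
  obtain ⟨x₀⟩ := ‹Nonempty α›
  let ε₀ : ZMod p → α := fun j => ((t : Equiv.Perm α) ^ j.val) x₀
  have hεb : Function.Bijective ε₀ := by
    refine (Fintype.bijective_iff_injective_and_card _).mpr ⟨?_, by rw [ZMod.card, hα]⟩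
    intro i j hij
    have hmem : x₀ ∈ (t : Equiv.Perm α).support := hsupp ▸ Finset.mem_univ _
    have := (Equiv.Perm.IsCycle.pow_eq_pow_iff hcyc).mpr ⟨x₀, Equiv.Perm.mem_support.mp hmem, hij⟩
    rw [pow_eq_pow_iff_modEq, Subgroup.orderOf_coe, ht] at this
    exact ZMod.val_injective p (Nat.ModEq.eq_of_lt_of_lt this (ZMod.val_lt i) (ZMod.val_lt j))
  let ε : ZMod p ≃ α := Equiv.ofBijective ε₀ hεb
  have hshift : ∀ j, (t : Equiv.Perm α) (ε j) = ε (j + 1) := by
    intro j
    show (t : Equiv.Perm α) (((t : Equiv.Perm α) ^ j.val) x₀) = ((t : Equiv.Perm α) ^ (j + 1).val) x₀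
    rw [← Equiv.Perm.mul_apply, ← pow_succ']
    congr 1
    rw [pow_eq_pow_iff_modEq, Subgroup.orderOf_coe, ht, ZMod.val_add, ZMod.val_one p]
    exact (Nat.mod_modEq _ _).symm
  let E : (α → K) ≃ₗ[K] (ZMod p → K) := LinearEquiv.funCongrLeft K K ε
  let V' : Submodule K (ZMod p → K) := V.toSubmodule.map E.toLinearMap
  have hE : ∀ v j, E v j = v (ε j) := fun _ _ => rfl
  have hinv : ∀ (g : G) u, u ∈ V' → (fun j => u (ε.symm (((g : Equiv.Perm α)⁻¹) (ε j)))) ∈ V' := by
    rintro g _ ⟨v, hv, rfl⟩
    refine ⟨_, V.apply_mem_toSubmodule g hv, ?_⟩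
    funext j
    show v ((g : Equiv.Perm α)⁻¹ (ε j)) = v (ε (ε.symm ((g : Equiv.Perm α)⁻¹ (ε j))))
    rw [Equiv.apply_symm_apply]
  have hV' : V' = PolyFun.polySpace (m + 1) := by
    have hW' : ∀ u ∈ V', (fun j => u (j - 1)) ∈ V' := by
      intro u hu
      convert hinv t u hu using 1
      funext j
      congr 1
      rw [Equiv.eq_symm_apply, Equiv.Perm.eq_inv_iff_eq, hshift, sub_add_cancel]
    obtain ⟨-, h1⟩ := PolyFun.eq_polySpace hW'
    rw [h1, LinearEquiv.finrank_map_eq, hV]
  let σ : G → ZMod p → ZMod p := fun g j => ε.symm ((g : Equiv.Perm α) (ε j))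
  have haff : ∀ g j, σ g j = (σ g 1 - σ g 0) * j + σ g 0 := fun g =>
    PolyFun.affine_of_invariant (K := K) hm1 hm2 fun u hu => by
      have := hinv g⁻¹ u (hV' ▸ hu)
      rw [← hV']
      simpa [σ] using this
  have hσmul : ∀ g h j, σ (g * h) j = σ g (σ h j) := fun g h j => by simp [σ]
  have hσinj : ∀ g, Function.Injective (σ g) := fun g =>
    ε.symm.injective.comp ((g : Equiv.Perm α).injective.comp ε.injective)
  let φ : G →* (ZMod p)ˣ :=
    MonoidHom.mk' (fun g => Units.mk0 (σ g 1 - σ g 0)
      (sub_ne_zero.mpr fun h => one_ne_zero (hσinj g h))) fun g h => Units.ext (by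
        simp only [Units.val_mk0, Units.val_mul, hσmul]
        rw [haff g (σ h 1), haff g (σ h 0)]
        ring)
  apply hG
  haveI : Group.IsSolvable φ.ker := by
    refine Group.isSolvable_of_comm fun g h => Subtype.ext (Subtype.ext (Equiv.ext fun x => ?_))
    have hk : ∀ (g : φ.ker) j, σ g j = j + σ g 0 := fun g j => by
      rw [haff g j]
      have := congrArg Units.val g.2
      simp only [φ, MonoidHom.mk'_apply, Units.val_mk0, Units.val_one] at this
      rw [this, one_mul]
    obtain ⟨j, rfl⟩ := ε.surjective x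
    apply ε.symm.injective
    show σ ((g : G) * h) j = σ ((h : G) * g) j
    rw [hσmul, hσmul, hk g (σ h j), hk h (σ g j), hk h j, hk g j]
    ring
  exact Group.isSolvable_of_ker_le_range φ.ker.subtype φ (by rw [Subgroup.range_subtype])

end CfsgLib.PermModule
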