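/-
Insoluble transitive groups of degree 7.
-/
import Mathlib
import Cfsg.Agent.S0675

set_option autoImplicit false
set_option linter.style.haveILetI false

open MulAction Equiv

namespace CfsgLib.DegreeSeven

variable {α : Type*} [Fintype α] [DecidableEq α]

theorem eq_zpow_of_commute {t : Perm α} (hc : t.IsCycle) (hs : t.support = Finset.univ) {x : Perm α}
    (hx : Commute x t) : x ∈ Subgroup.zpowers t := by
  obtain ⟨a, ha, hall⟩ := id hc
  obtain ⟨k, hk⟩ := hall (Perm.mem_support.mp (hs ▸ Finset.mem_univ (x a)) : t (x a) ≠ x a)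
  refine ⟨k, Equiv.ext fun y => ?_⟩
  obtain ⟨j, rfl⟩ := hall (Perm.mem_support.mp (hs ▸ Finset.mem_univ y) : t y ≠ y)
  show (t ^ k) ((t ^ j) a) = x ((t ^ j) a)
  have := DFunLike.congr_fun (hx.zpow_right j).eq a
  simp only [Perm.mul_apply] at this
  rw [this, ← hk, ← Perm.mul_apply, ← Perm.mul_apply, (Commute.zpow_zpow_self t k j).eq]

variable (hα : Fintype.card α = 7) (G : Subgroup (Perm α)) [IsPretransitive G α]

include hα in
theorem seven_dvd : 7 ∣ Nat.card G := by
  obtain ⟨a⟩ : Nonempty α := Fintype.card_pos_iff.mp (by omega)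
  have h := (stabilizer G a).index_dvd_card
  rwa [index_stabilizer_of_transitive, Nat.card_eq_fintype_card (α := α), hα] at h

include hα in
theorem normal_transitive (N : Subgroup G) [N.Normal] (hN : N ≠ ⊥) : IsPretransitive N α := by
  haveI : IsPreprimitive G α :=
    IsPreprimitive.of_prime_card (by rw [Nat.card_eq_fintype_card, hα]; norm_num)
  refine IsQuasiPreprimitive.isPretransitive_of_normal fun h => hN ?_
  rw [Subgroup.eq_bot_iff_forall]
  intro x hx
  refine Subtype.ext (Equiv.ext fun y => ?_)
  have hy : y ∈ fixedPoints N α := h ▸ Set.mem_univ y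
  exact hy ⟨x, hx⟩

include hα in
theorem natCard_le : Nat.card G ∣ 5040 := by
  have h := G.card_subgroup_dvd_card
  rw [Nat.card_eq_fintype_card (α := Perm α), Fintype.card_perm, hα] at h
  exact h

include hα in
/-- The normalizer of a Sylow 7-subgroup of an even insoluble transitive group has order 21. -/
theorem card_sylow_normalizer (hG : ¬ Group.IsSolvable G) (heven : G ≤ alternatingGroup α)
    (P : Sylow 7 G) :
    Nat.card (P : Subgroup G) = 7 ∧ Nat.card (Subgroup.normalizer ((P : Subgroup G) : Set G)) = 21 ∧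
      Subgroup.normalizer ((P : Subgroup G) : Set G) ≠ ⊤ := by
  classical
  haveI : Fact (Nat.Prime 7) := ⟨by norm_num⟩
  have h7 := seven_dvd hα G
  have hPc : Nat.card (P : Subgroup G) = 7 := by
    rw [P.card_eq_multiplicity]
    have h1 : (Nat.card G).factorization 7 ≤ 1 := by
      by_contra hh
      have h49 : 7 ^ 2 ∣ Nat.card G :=
        ((by norm_num : Nat.Prime 7).pow_dvd_iff_le_factorization Nat.card_pos.ne').mpr (by omega)
      have := h49.trans (natCard_le hα G)
      norm_num at this
    have h2 : 1 ≤ (Nat.card G).factorization 7 :=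
      ((by norm_num : Nat.Prime 7).pow_dvd_iff_le_factorization Nat.card_pos.ne').mp (by simpa using h7)
    rw [le_antisymm h1 h2, pow_one]
  refine ⟨hPc, ?_⟩
  haveI : IsCyclic (P : Subgroup G) := isCyclic_of_prime_card hPc
  obtain ⟨t₀, ht₀⟩ := IsCyclic.exists_generator (α := (P : Subgroup G))
  set t : Perm α := ((t₀ : G) : Perm α) with ht
  have hto : orderOf t = 7 := by
    rw [Subgroup.orderOf_coe, Subgroup.orderOf_coe, orderOf_eq_card_of_forall_mem_zpowers ht₀, hPc]
  have hcyc : t.IsCycle :=
    Perm.isCycle_of_prime_order' (by rw [hto]; norm_num) (by rw [hα, hto]; norm_num)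
  have hsupp : t.support = Finset.univ :=
    Finset.eq_univ_of_card _ (by rw [← hcyc.orderOf, hto, hα])
  set N := Subgroup.normalizer ((P : Subgroup G) : Set G) with hN
  -- the action on `P`
  let φ : N →* MulAut (P : Subgroup G) := (P : Subgroup G).normalizerMonoidHom
  have hker : ∀ x : N, φ x = 1 → (x : G) ∈ (P : Subgroup G) := by
    intro x hx
    have h1 : (x : G) * (t₀ : G) * (x : G)⁻¹ = t₀ := congrArg Subtype.val (DFunLike.congr_fun hx t₀)
    have h2 : Commute ((x : G) : Perm α) t := congrArg Subtype.val (mul_inv_eq_iff_eq_mul.mp h1)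
    obtain ⟨k, hk⟩ := eq_zpow_of_commute hcyc hsupp h2
    have : (x : G) = ((t₀ ^ k : (P : Subgroup G)) : G) := Subtype.ext (by simpa using hk.symm)
    rw [this]; exact Subtype.prop _
  have hkcard : Nat.card φ.ker ∣ 7 := by
    refine (Subgroup.card_dvd_of_injective
      (((N.subtype).domRestrict φ.ker).codRestrict (P : Subgroup G) (fun x => hker x x.2)) ?_).trans
      hPc.dvd
    intro a b hab
    exact Subtype.ext (Subtype.ext (congrArg Subtype.val hab :))
  have hrange : Nat.card φ.range ∣ 6 := by
    refine φ.range.card_subgroup_dvd_card.trans ?_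
    rw [Nat.card_congr (IsCyclic.mulAutMulEquiv (P : Subgroup G)).toEquiv, hPc,
      Nat.card_eq_fintype_card, ZMod.card_units]
  have hNP : 7 ∣ Nat.card N := hPc ▸ Subgroup.card_dvd_of_le Subgroup.le_normalizer
  have hmul : Nat.card φ.ker * Nat.card φ.range = Nat.card N := by
    rw [← Subgroup.index_ker]; exact φ.ker.card_mul_index
  have hk7 : Nat.card φ.ker = 7 := by
    rcases (Nat.dvd_prime (by norm_num : Nat.Prime 7)).mp hkcard with h | h
    · rw [← hmul, h, one_mul] at hNP
      have := Nat.le_of_dvd (by norm_num) (hNP.trans hrange)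
      omega
    · exact h
  have hne : N ≠ ⊤ := by
    intro htop
    refine hG ?_
    haveI : Group.IsSolvable φ.range :=
      Group.isSolvable_of_comm fun a b => Subtype.ext ((IsCyclic.mulAutMulEquiv (P : Subgroup G)).injective
        (by simp only [Subgroup.coe_mul, map_mul]; exact mul_comm _ _))
    haveI : IsCyclic φ.ker := isCyclic_of_prime_card (p := 7) hk7
    haveI : Group.IsSolvable φ.ker := by
      letI := IsCyclic.commGroup (α := φ.ker)
      infer_instance
    haveI : Group.IsSolvable N := Group.isSolvable_of_ker_le_range φ.ker.subtype φ.rangeRestrict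
      (by rw [Subgroup.range_subtype, MonoidHom.ker_rangeRestrict])
    exact Group.isSolvable_of_surjective (f := N.subtype) (fun g => ⟨⟨g, htop ▸ Subgroup.mem_top g⟩, rfl⟩)
  refine ⟨?_, hne⟩
  -- no inverting involution
  have hodd : ¬ 2 ∣ Nat.card N := by
    intro h2
    haveI : Fact (Nat.Prime 2) := ⟨Nat.prime_two⟩
    obtain ⟨x, hx⟩ := exists_prime_orderOf_dvd_card' 2 h2
    have hx1 : φ x ≠ 1 := fun h => by
      have h' : orderOf (⟨x, h⟩ : φ.ker) ∣ Nat.card φ.ker := orderOf_dvd_natCard _
      have h'' : orderOf x ∣ Nat.card φ.ker := (Subgroup.orderOf_coe (⟨x, h⟩ : φ.ker)) ▸ h'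
      rw [hx, hk7] at h''
      norm_num at h''
    set j := IsCyclic.mulAutMulEquiv (P : Subgroup G) (φ x) with hj
    have hj1 : j ≠ 1 := fun h => hx1 ((IsCyclic.mulAutMulEquiv _).injective (h.trans (map_one _).symm))
    have hxx : φ x ^ 2 = 1 := by rw [← map_pow, ← hx, pow_orderOf_eq_one, map_one]
    -- the only non-trivial involutory automorphism is inversion
    have hinv : (x : G) * (t₀ : G) * (x : G)⁻¹ = (t₀ : G)⁻¹ := by
      obtain ⟨k, (hk : t₀ ^ k = φ x t₀)⟩ := ht₀ (φ x t₀)
      have h2' : φ x (φ x t₀) = t₀ := by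
        have := DFunLike.congr_fun hxx t₀
        rw [sq] at this
        exact this
      rw [← hk, map_zpow, ← hk, ← zpow_mul] at h2'
      have hmod : ((k * k : ℤ) : ZMod 7) = 1 := by
        have h3 := zpow_eq_zpow_iff_modEq.mp (h2'.trans (zpow_one t₀).symm)
        rw [orderOf_eq_card_of_forall_mem_zpowers ht₀, hPc] at h3
        have := (ZMod.intCast_eq_intCast_iff _ _ _).mpr h3
        simpa using this
      have hcase : (k : ZMod 7) = 1 ∨ (k : ZMod 7) = -1 := by
        rw [Int.cast_mul] at hmod
        exact mul_self_eq_one_iff.mp hmod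
      have hzk : ∀ z : ℤ, (k : ZMod 7) = (z : ZMod 7) → t₀ ^ k = t₀ ^ z := fun z hz => by
        rw [zpow_eq_zpow_iff_modEq, orderOf_eq_card_of_forall_mem_zpowers ht₀, hPc]
        exact (ZMod.intCast_eq_intCast_iff _ _ _).mp hz
      rcases hcase with h | h
      · exfalso
        apply hx1
        refine MulEquiv.ext fun y => ?_
        obtain ⟨m, (hm : t₀ ^ m = y)⟩ := ht₀ y
        subst hm
        rw [map_zpow, ← hk, hzk 1 (by simpa using h), zpow_one]
        rfl
      · have he : φ x t₀ = t₀⁻¹ := by rw [← hk, hzk (-1) (by simpa using h), zpow_neg_one]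
        exact congrArg Subtype.val he
    set σ : Perm α := ((x : G) : Perm α) with hσ
    have hconj : σ * t * σ⁻¹ = t⁻¹ := congrArg Subtype.val hinv
    have hσ2 : σ ^ 2 = 1 := by
      have : orderOf σ = 2 := by rw [Subgroup.orderOf_coe, Subgroup.orderOf_coe, hx]
      rw [← this, pow_orderOf_eq_one]
    -- exactly one fixed point
    have hσ1 : σ ≠ 1 := fun h => by
      have : orderOf σ = 2 := by rw [Subgroup.orderOf_coe, Subgroup.orderOf_coe, hx]
      rw [h, orderOf_one] at this
      omega
    have hct := Perm.pow_prime_eq_one_iff.mp hσ2 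
    have hsum := σ.sum_cycleType
    rw [Multiset.eq_replicate_card.mpr hct, Multiset.sum_replicate, smul_eq_mul] at hsum
    have hle : σ.support.card ≤ 7 := hα ▸ Finset.card_le_univ _
    have hsign : Perm.sign σ = 1 := heven (x : G).2
    rw [Perm.sign_of_cycleType, Multiset.eq_replicate_card.mpr hct, Multiset.sum_replicate,
      Multiset.card_replicate, smul_eq_mul] at hsign
    have hfix : σ.support.card ≠ 6 → False := by
      intro h6
      -- two fixed points
      have hc : 1 < σ.supportᶜ.card := by rw [Finset.card_compl, hα]; omega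
      obtain ⟨a, ha, b, hb, hab⟩ := Finset.one_lt_card.mp hc
      rw [Finset.mem_compl, Perm.notMem_support] at ha hb
      obtain ⟨m, hm⟩ := hcyc.sameCycle (Perm.mem_support.mp (hsupp ▸ Finset.mem_univ a))
        (Perm.mem_support.mp (hsupp ▸ Finset.mem_univ b))
      have hcm : σ * t ^ m * σ⁻¹ = (t ^ m)⁻¹ := by
        rw [← conj_zpow, hconj, inv_zpow]
      have h4 : (t ^ m)⁻¹ a = b := by
        rw [← hcm, Perm.mul_apply, Perm.mul_apply, Perm.inv_eq_iff_eq.mpr ha.symm, hm, hb]
      have h5 : (t ^ (2 * m)) a = a := by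
        rw [two_mul, zpow_add, Perm.mul_apply, hm, ← h4, ← Perm.mul_apply, mul_inv_cancel]
        rfl
      have h6' : t ^ (2 * m) = 1 := by
        refine Equiv.ext fun y => ?_
        obtain ⟨i, rfl⟩ := hcyc.sameCycle (Perm.mem_support.mp (hsupp ▸ Finset.mem_univ a))
          (Perm.mem_support.mp (hsupp ▸ Finset.mem_univ y))
        rw [Perm.one_apply, ← Perm.mul_apply, (Commute.zpow_zpow_self t (2 * m) i).eq, Perm.mul_apply, h5]
      rw [← orderOf_dvd_iff_zpow_eq_one, hto] at h6'
      have h7m : (7 : ℤ) ∣ m := by omega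
      obtain ⟨s, rfl⟩ := h7m
      have h7one : t ^ (7 : ℤ) = 1 := by
        rw [show (7 : ℤ) = ((7 : ℕ) : ℤ) by norm_num, zpow_natCast, ← hto, pow_orderOf_eq_one]
      rw [zpow_mul, h7one, one_zpow, Perm.one_apply] at hm
      exact hab hm
    by_cases h6 : σ.support.card = 6
    · have : σ.cycleType.card = 3 := by omega
      rw [this] at hsign
      revert hsign
      decide
    · exact hfix h6
  have hd1 : Nat.card φ.range ≠ 1 := by
    intro h1
    rw [Subgroup.card_eq_one] at h1
    have hNC : N ≤ Subgroup.centralizer ((P : Subgroup G) : Set G) := by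
      intro x hx
      rw [Subgroup.mem_centralizer_iff]
      intro y hy
      have hm : φ ⟨x, hx⟩ ∈ φ.range := ⟨_, rfl⟩
      rw [h1, Subgroup.mem_bot] at hm
      exact (mul_inv_eq_iff_eq_mul.mp
        (congrArg Subtype.val (DFunLike.congr_fun hm ⟨y, hy⟩))).symm
    have hcompl := MonoidHom.ker_transferSylow_isComplement' P hNC
    set M := (MonoidHom.transferSylow P hNC).ker
    have hM7 : ¬ 7 ∣ Nat.card M := MonoidHom.not_dvd_card_ker_transferSylow P hNC
    have hM : M = ⊥ := by
      by_contra hM
      haveI := normal_transitive hα G M hM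
      obtain ⟨a⟩ : Nonempty α := Fintype.card_pos_iff.mp (by omega)
      have h := (stabilizer M a).index_dvd_card
      rw [index_stabilizer_of_transitive, Nat.card_eq_fintype_card (α := α), hα] at h
      exact hM7 h
    rw [hM, Subgroup.isComplement'_bot_left] at hcompl
    refine hne (eq_top_iff.mpr ?_)
    rw [← hcompl]
    exact Subgroup.le_normalizer
  have hd6 : ¬ 2 ∣ Nat.card φ.range := fun h => hodd (hmul ▸ h.mul_left _)
  have h3 : Nat.card φ.range = 3 := by
    have hle := Nat.le_of_dvd (by norm_num) hrange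
    interval_cases (Nat.card φ.range) <;> simp_all (config := {decide := true})
  rw [← hmul, hk7, h3]

include hα in
theorem forty_two_dvd (hG : ¬ Group.IsSolvable G) : 42 ∣ Nat.card G := by
  haveI : IsMultiplyPretransitive G α 2 :=
    (Cfsg.Agent.S0675.result (by rw [hα]; norm_num) G).resolve_left hG
  obtain ⟨e⟩ : Nonempty (Fin 2 ↪ α) := Function.Embedding.nonempty_of_card_le (by simp [hα])
  have h := (stabilizer G e).index_dvd_card
  have horb : orbit G e = Set.univ := Set.eq_univ_of_forall fun y => by
    obtain ⟨g, hg⟩ := (inferInstance : IsMultiplyPretransitive G α 2).exists_smul_eq e y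
    exact ⟨g, hg⟩
  rw [index_stabilizer] at h
  have h' : (Set.univ : Set (Fin 2 ↪ α)).ncard ∣ Nat.card G := by rw [← horb]; exact h
  rw [Set.ncard_univ, Nat.card_eq_fintype_card (α := Fin 2 ↪ α), Fintype.card_embedding_eq,
    Fintype.card_fin, hα] at h'
  exact h'

include hα in
theorem card_even_group (hG : ¬ Group.IsSolvable G) (heven : G ≤ alternatingGroup α)
    (hne : G ≠ alternatingGroup α) : Nat.card G = 168 := by
  haveI : Fact (Nat.Prime 7) := ⟨by norm_num⟩
  obtain ⟨P⟩ : Nonempty (Sylow 7 G) := inferInstance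
  obtain ⟨-, hN, -⟩ := card_sylow_normalizer hα G hG heven P
  have hmul : Nat.card (Sylow 7 G) * 21 = Nat.card G := by
    rw [Sylow.card_eq_index_normalizer P, ← hN, mul_comm]
    exact Subgroup.card_mul_index _
  have hA : Nat.card (alternatingGroup α) = 2520 := by
    haveI : Nontrivial α := Fintype.one_lt_card_iff_nontrivial.mp (by omega)
    rw [nat_card_alternatingGroup, Nat.card_eq_fintype_card, hα]
    rfl
  have hdvd : Nat.card G ∣ 2520 := hA ▸ Subgroup.card_dvd_of_le heven
  have hlt : Nat.card G < 2520 := by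
    refine lt_of_le_of_ne (Nat.le_of_dvd (by norm_num) hdvd) fun h => hne ?_
    exact Subgroup.eq_of_le_of_card_ge heven (by rw [hA, h])
  have hmod := card_sylow_modEq_one 7 G
  have h42 := forty_two_dvd hα G hG
  rw [← hmul] at hdvd hlt h42 ⊢
  have hn120 : Nat.card (Sylow 7 G) ∣ 120 :=
    Nat.dvd_of_mul_dvd_mul_right (k := 21) (by norm_num) hdvd
  have hpos : Nat.card (Sylow 7 G) ≠ 1 := by
    intro h; rw [h] at h42; omega
  unfold Nat.ModEq at hmod
  generalize Nat.card (Sylow 7 G) = n at *
  have : n ≤ 120 := Nat.le_of_dvd (by norm_num) hn120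
  interval_cases n <;> omega

include hα in
theorem card_simple (hG : ¬ Group.IsSolvable G) (hA : ¬ alternatingGroup α ≤ G) :
    Nat.card G = 168 ∧ IsSimpleGroup G := by
  classical
  haveI : Fact (Nat.Prime 7) := ⟨by norm_num⟩
  haveI : Nontrivial α := Fintype.one_lt_card_iff_nontrivial.mp (by omega)
  -- the even part
  set G₀ : Subgroup (Perm α) := G ⊓ alternatingGroup α with hG₀
  let sgn : G →* ℤˣ := Perm.sign.comp G.subtype
  have hkerNe : sgn.ker ≠ ⊥ := by
    intro h
    exact hG (Group.isSolvable_of_ker_le_range (MonoidHom.id G |>.comp (Subgroup.subtype (⊥ : Subgroup G))) sgn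
      (by rw [h]; exact bot_le))
  haveI := normal_transitive hα G sgn.ker hkerNe
  haveI : IsPretransitive G₀ α := ⟨fun a b => by
    obtain ⟨g, hg⟩ := exists_smul_eq sgn.ker a b
    exact ⟨⟨((g : G) : Perm α), (g : G).2, g.2⟩, hg⟩⟩
  have hG₀s : ¬ Group.IsSolvable G₀ := by
    intro h
    refine hG (Group.isSolvable_of_ker_le_range (Subgroup.inclusion (inf_le_left : G₀ ≤ G)) sgn ?_)
    intro g hg
    exact ⟨⟨g, g.2, hg⟩, rfl⟩
  have hne : G₀ ≠ alternatingGroup α := fun h => hA (h ▸ inf_le_left)
  have h168 := card_even_group hα G₀ hG₀s inf_le_right hne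
  -- no odd elements
  have hGeq : G = G₀ := by
    by_contra hne'
    have hidx : Nat.card G = 336 := by
      have hk : Nat.card sgn.ker = 168 := by
        rw [← h168]
        exact Nat.card_congr ⟨fun g => ⟨((g : G) : Perm α), (g : G).2, g.2⟩,
          fun g => ⟨⟨g, g.2.1⟩, g.2.2⟩, fun g => rfl, fun g => rfl⟩
      have h2 : sgn.ker.index ∣ 2 := by
        rw [Subgroup.index_ker]
        exact sgn.range.card_subgroup_dvd_card.trans (by simp)
      have h := sgn.ker.card_mul_index
      rw [hk] at h
      rcases (Nat.dvd_prime Nat.prime_two).mp h2 with h1 | h1 <;> rw [h1] at h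
      · exfalso
        exact hne' (Subgroup.eq_of_le_of_card_ge inf_le_left (by rw [h168, ← h])).symm
      · omega
    -- a Sylow 2-subgroup of `G` is one of the symmetric group, so `G` contains a transposition
    haveI : Fact (Nat.Prime 2) := ⟨Nat.prime_two⟩
    obtain ⟨Q⟩ : Nonempty (Sylow 2 G) := inferInstance
    have hQ : Nat.card ((Q : Subgroup G).map G.subtype) = 16 := by
      rw [Subgroup.card_map_of_injective G.subtype_injective, Q.card_eq_multiplicity, hidx]
      rw [show 336 = 2 ^ 4 * 21 by norm_num, Nat.factorization_mul (by norm_num) (by norm_num),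
        Nat.prime_two.factorization_pow]
      simp [Nat.factorization_eq_zero_of_not_dvd]
    let Q' : Sylow 2 (Perm α) := Sylow.ofCard ((Q : Subgroup G).map G.subtype) (by
      rw [hQ, Nat.card_eq_fintype_card (α := Perm α), Fintype.card_perm, hα,
        show Nat.factorial 7 = 2 ^ 4 * 315 by rfl, Nat.factorization_mul (by norm_num) (by norm_num),
        Nat.prime_two.factorization_pow]
      simp [Nat.factorization_eq_zero_of_not_dvd])
    obtain ⟨a, b, hab⟩ := exists_pair_ne α
    have hR : IsPGroup 2 (Subgroup.zpowers (Equiv.swap a b)) := by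
      refine IsPGroup.of_card (n := 1) ?_
      rw [Nat.card_zpowers, (Perm.IsSwap.orderOf ⟨a, b, hab, rfl⟩), pow_one]
    obtain ⟨R, hRle⟩ := hR.exists_le_sylow
    obtain ⟨g, hg⟩ := exists_smul_eq (Perm α) R Q'
    have hmem : g * Equiv.swap a b * g⁻¹ ∈ G := by
      have : g * Equiv.swap a b * g⁻¹ ∈ (Q' : Subgroup (Perm α)) := by
        rw [← hg, Sylow.coe_subgroup_smul]
        exact ⟨_, hRle (Subgroup.mem_zpowers _), rfl⟩
      obtain ⟨q, -, hq⟩ := this
      exact hq ▸ q.2
    have hswap : (g * Equiv.swap a b * g⁻¹).IsSwap := by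
      refine ⟨g a, g b, g.injective.ne hab, ?_⟩
      ext z
      simp [Equiv.swap_apply_def, Perm.inv_eq_iff_eq, Equiv.symm_apply_eq]
      split_ifs <;> simp_all
    haveI : IsPreprimitive G α :=
      IsPreprimitive.of_prime_card (by rw [Nat.card_eq_fintype_card, hα]; norm_num)
    have htop := Equiv.Perm.subgroup_eq_top_of_isPreprimitive_of_isSwap_mem inferInstance _ hswap hmem
    exact hA (htop ▸ le_top)
  have hGc : Nat.card G = 168 := by rw [hGeq]; exact h168
  refine ⟨hGc, ?_⟩
  haveI : Nontrivial G := Finite.one_lt_card_iff_nontrivial.mp (by omega)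
  refine ⟨fun N hN => ?_⟩
  by_contra hcon
  push Not at hcon
  obtain ⟨hN1, hN2⟩ := hcon
  haveI := normal_transitive hα G N hN1
  -- `N` contains every Sylow 7-subgroup
  let N' : Subgroup (Perm α) := N.map G.subtype
  let e : N ≃* N' := N.equivMapOfInjective _ G.subtype_injective
  haveI : IsPretransitive N' α := ⟨fun a b => by
    obtain ⟨g, hg⟩ := exists_smul_eq N a b
    exact ⟨e g, hg⟩⟩
  have hcard : Nat.card N' = Nat.card N := (Nat.card_congr e.toEquiv).symm
  have hlt : Nat.card N < 168 := hGc ▸ lt_of_le_of_ne (Nat.le_of_dvd Nat.card_pos N.card_subgroup_dvd_card)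
    (fun h => hN2 (Subgroup.eq_top_of_card_eq N h))
  by_cases hNs : Group.IsSolvable N'
  · -- `N` solvable
    haveI : Group.IsSolvable N :=
      Group.isSolvable_of_isSolvable_injective (f := e.toMonoidHom) e.injective
    have h7 : 7 ∣ Nat.card N := hcard ▸ seven_dvd hα N'
    obtain ⟨k, hk⟩ := h7
    have hkd : k ∣ 24 := by
      have := N.card_subgroup_dvd_card
      rw [hGc, hk, show 168 = 7 * 24 by norm_num] at this
      exact Nat.dvd_of_mul_dvd_mul_left (by norm_num) this
    obtain ⟨P⟩ : Nonempty (Sylow 7 G) := inferInstance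
    obtain ⟨hPc, -, -⟩ := card_sylow_normalizer hα G hG (hGeq ▸ inf_le_right) P
    have hidx : ¬ 7 ∣ N.index := by
      have := N.card_mul_index
      rw [hGc, hk] at this
      intro h7i
      obtain ⟨l, hl⟩ := h7i
      rw [hl] at this
      have : 7 ∣ 24 := ⟨k * l, by nlinarith⟩
      omega
    have hPN : (P : Subgroup G) ≤ N := by
      intro x hx
      rw [← QuotientGroup.eq_one_iff, ← orderOf_eq_one_iff]
      have h1 : orderOf (x : G ⧸ N) ∣ 7 := by
        refine (orderOf_map_dvd (QuotientGroup.mk' N) x).trans ?_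
        rw [← Subgroup.orderOf_mk x hx]
        exact (orderOf_dvd_natCard _).trans hPc.dvd
      have h2 : orderOf (x : G ⧸ N) ∣ N.index := orderOf_dvd_natCard _
      rcases (Nat.dvd_prime (by norm_num : Nat.Prime 7)).mp h1 with h | h
      · exact h
      · exact absurd (h ▸ h2) hidx
    -- Sylow 7-subgroups of `G` and of `N` correspond
    have hn : Nat.card (Sylow 7 G) = 8 := by
      obtain ⟨-, hN21, -⟩ := card_sylow_normalizer hα G hG (hGeq ▸ inf_le_right) P
      have : Nat.card (Sylow 7 G) * 21 = Nat.card G := by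
        rw [Sylow.card_eq_index_normalizer P, ← hN21, mul_comm]
        exact Subgroup.card_mul_index _
      omega
    have hnN : Nat.card (Sylow 7 N) ∣ Nat.card N := by
      obtain ⟨R⟩ : Nonempty (Sylow 7 N) := inferInstance
      rw [Sylow.card_eq_index_normalizer R]
      exact Subgroup.index_dvd_card _
    have hall : ∀ R : Sylow 7 G, (R : Subgroup G) ≤ N := by
      intro R x hx
      obtain ⟨g, rfl⟩ := exists_smul_eq G P R
      rw [Sylow.coe_subgroup_smul] at hx
      obtain ⟨y, hy, rfl⟩ := hx
      exact hN.conj_mem y (hPN hy) g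
    have hge : 8 ≤ Nat.card (Sylow 7 N) := by
      rw [← hn]
      exact Nat.card_le_card_of_injective (fun R : Sylow 7 G => R.subtype (hall R))
        fun R R' h => Sylow.subtype_injective h
    have hk8 : 8 ∣ k := by
      have hmod := card_sylow_modEq_one 7 N
      obtain ⟨R⟩ : Nonempty (Sylow 7 N) := inferInstance
      have h1 := R.card_dvd_index
      have hRc : Nat.card (R : Subgroup N) = 7 := by
        have := R.2
        obtain ⟨i, hi⟩ := IsPGroup.iff_card.mp R.2
        have hdv := (R : Subgroup N).card_subgroup_dvd_card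
        rw [hi, hk] at hdv
        rcases Nat.lt_or_ge i 2 with h | h
        · interval_cases i
          · exfalso
            have hh := R.card_eq_multiplicity
            rw [hi] at hh
            have h71 : 1 ≤ (Nat.card N).factorization 7 :=
              ((by norm_num : Nat.Prime 7).pow_dvd_iff_le_factorization Nat.card_pos.ne').mp
                (by rw [hk, pow_one]; exact dvd_mul_right _ _)
            have : 7 ^ 1 ≤ 7 ^ (Nat.card N).factorization 7 := Nat.pow_le_pow_right (by norm_num) h71
            omega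
          · simpa using hi
        · exfalso
          have h49 : 7 * 7 ∣ 7 * k := (pow_dvd_pow 7 h).trans hdv
          have := (Nat.dvd_of_mul_dvd_mul_left (by norm_num) h49).trans hkd
          omega
      have hidxR : (R : Subgroup N).index = k := by
        have := (R : Subgroup N).card_mul_index
        rw [hRc, hk] at this
        omega
      rw [hidxR] at h1
      have hle := Nat.le_of_dvd (by
        rcases Nat.eq_zero_or_pos k with h | h
        · rw [h, mul_zero] at hk; exact absurd hk Nat.card_pos.ne'
        · exact h) h1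
      have hk24 := Nat.le_of_dvd (by norm_num) hkd
      unfold Nat.ModEq at hmod
      have : Nat.card (Sylow 7 N) ∣ 24 := h1.trans hkd
      generalize Nat.card (Sylow 7 N) = n at *
      have : n ≤ 24 := hle.trans hk24
      interval_cases n <;> omega
    have hNidx : N.index.Prime := by
      have h := N.card_mul_index
      rw [hGc, hk] at h
      have hk24 := Nat.le_of_dvd (by norm_num) hkd
      obtain ⟨l, rfl⟩ := hk8
      have : l ≤ 3 := by omega
      interval_cases l
      · omega
      · have : N.index = 3 := by omega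
        rw [this]; norm_num
      · omega
      · omega
    haveI : IsCyclic (G ⧸ N) :=
      @isCyclic_of_prime_card _ _ N.index ⟨hNidx⟩ rfl
    haveI : Group.IsSolvable (G ⧸ N) := by
      letI := IsCyclic.commGroup (α := G ⧸ N)
      infer_instance
    exact hG ((Group.isSolvable_iff_subgroup_quotient N).mpr ⟨inferInstance, inferInstance⟩)
  · have h := card_even_group hα N' hNs
      (le_trans (Subgroup.map_subtype_le N) (hGeq ▸ inf_le_right)) (fun h => hA (h ▸ Subgroup.map_subtype_le N))
    omega

end CfsgLib.DegreeSeven
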