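import Cfsg.Agent.Lib.Perm.PermChar
import Cfsg.Agent.Lib.Char.Central
import Mathlib.GroupTheory.GroupAction.Quotient

/-!
# The rank of a transitive permutation group and its permutation character
-/

namespace Cfsg.Agent.Lib.Perm

open MulAction CfsgLib.Char

variable {G : Type*} [Group G] {Ω : Type*} [MulAction G Ω]

/-- Orbits on pairs correspond to orbits of a point stabiliser. -/
theorem natCard_orbits_pairs [IsPretransitive G Ω] (a : Ω) :
    Nat.card (orbitRel.Quotient G (Ω × Ω)) = Nat.card (orbitRel.Quotient (stabilizer G a) Ω) := by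
  symm
  refine Nat.card_congr (Equiv.ofBijective
    (fun q => Quotient.liftOn' q (fun x => (Quotient.mk'' (a, x) : orbitRel.Quotient G (Ω × Ω))) ?_) ⟨?_, ?_⟩)
  · rintro x y ⟨g, rfl⟩
    exact Quotient.eq''.2 ⟨g, Prod.ext g.2 rfl⟩
  · intro p q
    induction p using Quotient.inductionOn' with
    | h x =>
      induction q using Quotient.inductionOn' with
      | h y =>
        intro h
        obtain ⟨g, hg⟩ := Quotient.eq''.1 h
        exact Quotient.eq''.2 ⟨⟨g, congrArg Prod.fst hg⟩, congrArg Prod.snd hg⟩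
  · intro p
    induction p using Quotient.inductionOn' with
    | h p =>
      obtain ⟨g, hg⟩ := exists_smul_eq G p.1 a
      exact ⟨Quotient.mk'' (g • p.2), Quotient.eq''.2 ⟨g, Prod.ext hg rfl⟩⟩

variable [Fintype G] [Fintype Ω]

omit [Fintype Ω] in
theorem sum_fixedBy {X : Type*} [MulAction G X] [Finite X] :
    ∑ g : G, Nat.card (fixedBy X g) = Nat.card (orbitRel.Quotient G X) * Nat.card G := by
  classical
  haveI := Fintype.ofFinite X
  haveI := Fintype.ofFinite (orbitRel.Quotient G X)
  rw [Nat.card_eq_fintype_card, Nat.card_eq_fintype_card, ← sum_card_fixedBy_eq_card_orbits_mul_card_group]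
  exact Finset.sum_congr rfl fun g _ => Nat.card_eq_fintype_card

local notation "π" => fun g : G => (Nat.card (fixedBy Ω g) : ℂ)

theorem classInner_self_eq_rank [IsPretransitive G Ω] (a : Ω) :
    Cfsg.classInner π π = (Nat.card (orbitRel.Quotient (stabilizer G a) Ω) : ℂ) := by
  unfold Cfsg.classInner
  simp only [Complex.conj_natCast]
  have h := sum_fixedBy (G := G) (X := Ω × Ω)
  rw [natCard_orbits_pairs a] at h
  have hfix : ∀ g : G, Nat.card (fixedBy (Ω × Ω) g) = Nat.card (fixedBy Ω g) * Nat.card (fixedBy Ω g) := by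
    intro g
    rw [← Nat.card_prod]
    exact Nat.card_congr
      { toFun := fun p => (⟨p.1.1, congrArg Prod.fst p.2⟩, ⟨p.1.2, congrArg Prod.snd p.2⟩)
        invFun := fun q => ⟨(q.1.1, q.2.1), Prod.ext q.1.2 q.2.2⟩
        left_inv := fun p => rfl
        right_inv := fun q => rfl }
  simp only [hfix] at h
  rw [inv_mul_eq_iff_eq_mul₀ (Nat.cast_ne_zero.2 Nat.card_pos.ne'), mul_comm]
  exact_mod_cast h

theorem classInner_one_eq [IsPretransitive G Ω] [Nonempty Ω] :
    Cfsg.classInner π (fun _ => (1 : ℂ)) = 1 := by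
  unfold Cfsg.classInner
  simp only [map_one, mul_one]
  have h := sum_fixedBy (G := G) (X := Ω)
  haveI : Subsingleton (orbitRel.Quotient G Ω) := MulAction.pretransitive_iff_subsingleton_quotient G Ω |>.1 inferInstance
  haveI : Nonempty (orbitRel.Quotient G Ω) := ⟨Quotient.mk'' (Classical.arbitrary Ω)⟩
  rw [Nat.card_eq_one_iff_unique.2 ⟨inferInstance, inferInstance⟩, one_mul] at h
  rw [inv_mul_eq_iff_eq_mul₀ (Nat.cast_ne_zero.2 Nat.card_pos.ne'), mul_one]
  exact_mod_cast h

/-- Multiplicities of the constituents of the permutation character. -/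
theorem exists_mult [IsPretransitive G Ω] (a : Ω) :
    ∃ m : Cfsg.IrrCharacter G → ℕ,
      (∀ χ : Cfsg.IrrCharacter G, Cfsg.classInner π (χ : G → ℂ) = m χ) ∧
      (∑ χ, m χ * m χ = Nat.card (orbitRel.Quotient (stabilizer G a) Ω)) ∧
      (∀ χ : Cfsg.IrrCharacter G, (χ : G → ℂ) = (fun _ => 1) → m χ = 1) ∧
      ((Fintype.card Ω : ℂ) = ∑ χ, (m χ : ℂ) * (χ : G → ℂ) 1) := by
  haveI : Nonempty Ω := ⟨a⟩
  have hchar := permRep_character (G := G) (Ω := Ω)
  obtain ⟨m, hm⟩ := exists_multiplicities (isCharacter_character (Cfsg.permRep ℂ G Ω))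
  rw [hchar] at hm
  have hin : ∀ χ : Cfsg.IrrCharacter G, Cfsg.classInner π (χ : G → ℂ) = m χ := fun χ => by
    rw [hm, classInner_sum_smul_irr]
  refine ⟨m, hin, ?_, fun χ hχ => ?_, ?_⟩
  · have h := classInner_self_eq_rank (G := G) (Ω := Ω) a
    rw [hm, classInner_sum_smul_sum_smul] at h
    simp only [Complex.conj_natCast] at h
    exact_mod_cast h
  · have h := hin χ
    rw [hχ, classInner_one_eq] at h
    exact_mod_cast h.symm
  · have h := congrFun hm 1
    have hfix : Nat.card (fixedBy Ω (1 : G)) = Fintype.card Ω := by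
      rw [fixedBy_one_eq_univ, Nat.card_coe_set_eq, Set.ncard_univ, Nat.card_eq_fintype_card]
    simp only [Finset.sum_apply, Pi.smul_apply, smul_eq_mul, hfix] at h
    exact h

omit [Fintype G] in
/-- Subdegrees add up to the degree. -/
theorem sum_orbits (a : Ω) [Fintype (orbitRel.Quotient (stabilizer G a) Ω)] :
    ∑ q : orbitRel.Quotient (stabilizer G a) Ω, Nat.card q.orbit = Fintype.card Ω := by
  classical
  rw [← Nat.card_eq_fintype_card, Nat.card_congr (selfEquivSigmaOrbits' (stabilizer G a) Ω), Nat.card_sigma]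

end Cfsg.Agent.Lib.Perm
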