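import Cfsg.Agent.Lib.Perm.SharplyTwo
import Mathlib.GroupTheory.GroupAction.MultipleTransitivity
import Mathlib.GroupTheory.GroupAction.SubMulAction.OfStabilizer
import Mathlib.Algebra.Field.TransferInstance
import Mathlib.Topology.Compactification.OnePoint.ProjectiveLine
import Mathlib.LinearAlgebra.Matrix.GeneralLinearGroup.Projective
import Mathlib.Tactic.FieldSimp
import Mathlib.Tactic.Ring
import Mathlib.Tactic.LinearCombination

/-!
# Sharply 3-transitive groups with commutative two-point stabilisers are `PGL(2, F)`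
-/

namespace Cfsg.Agent.Lib.Perm.SharplyThree

open MulAction

variable {α : Type*} [Fintype α] [DecidableEq α] {G : Subgroup (Equiv.Perm α)}
  (h3 : IsMultiplyPretransitive G α 3) (hsharp : ∀ x : Fin 3 ↪ α, stabilizer G x = ⊥)

/-- A copy of `Fin n` without algebraic structure. -/
def Coord (n : ℕ) : Type := Fin n

instance (n : ℕ) : Fintype (Coord n) := inferInstanceAs (Fintype (Fin n))

theorem card_coord (n : ℕ) : Fintype.card (Coord n) = n := Fintype.card_fin n

include hsharp in
theorem free {g : G} {x y z : α} (hxy : x ≠ y) (hyz : y ≠ z) (hxz : x ≠ z) (hx : g • x = x)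
    (hy : g • y = y) (hz : g • z = z) : g = 1 := by
  let t : Fin 3 ↪ α := ⟨![x, y, z], by
    intro i j hij
    fin_cases i <;> fin_cases j <;> first | rfl | (exfalso; simp at hij; tauto)⟩
  have : g ∈ stabilizer G t := by
    refine Function.Embedding.ext fun i => ?_
    show g • t i = t i
    fin_cases i <;> assumption
  rw [hsharp t] at this
  simpa using this

include hsharp in
theorem eq_of_three {g g' : G} {x y z : α} (hxy : x ≠ y) (hyz : y ≠ z) (hxz : x ≠ z)
    (hx : g • x = g' • x) (hy : g • y = g' • y) (hz : g • z = g' • z) : g = g' := by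
  refine (inv_mul_eq_one.1 (free hsharp hxy hyz hxz ?_ ?_ ?_)).symm
  · rw [mul_smul, hx, inv_smul_smul]
  · rw [mul_smul, hy, inv_smul_smul]
  · rw [mul_smul, hz, inv_smul_smul]

include h3 hsharp in
theorem exists_swap {a b c : α} (hab : a ≠ b) (hac : a ≠ c) (hbc : b ≠ c) :
    ∃ w : G, w • a = b ∧ w • b = a ∧ w • c = c ∧ w * w = 1 := by
  haveI := h3
  let t : Fin 3 ↪ α := ⟨![a, b, c], by
    intro i j hij
    fin_cases i <;> fin_cases j <;> first | rfl | (exfalso; simp at hij; tauto)⟩
  let t' : Fin 3 ↪ α := ⟨![b, a, c], by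
    intro i j hij
    fin_cases i <;> fin_cases j <;> first | rfl | (exfalso; simp at hij; tauto)⟩
  obtain ⟨w, hw⟩ := exists_smul_eq G t t'
  have h0 : w • a = b := DFunLike.congr_fun hw 0
  have h1 : w • b = a := DFunLike.congr_fun hw 1
  have h2 : w • c = c := DFunLike.congr_fun hw 2
  refine ⟨w, h0, h1, h2, free hsharp hab hbc hac ?_ ?_ ?_⟩
  · rw [mul_smul, h0, h1]
  · rw [mul_smul, h1, h0]
  · rw [mul_smul, h2, h2]

include h3 hsharp in
/-- The stabiliser of a point is sharply 2-transitive on the other points. -/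
theorem exists_translations (hn : 3 ≤ Fintype.card α) (a : α) :
    ∃ (N : Subgroup (stabilizer G a)) (p j : ℕ), p.Prime ∧ 1 ≤ j ∧ Fintype.card α = p ^ j + 1 ∧
      N.Normal ∧ Nat.card N = p ^ j ∧
      (∀ y z : α, y ≠ a → z ≠ a → ∃! n : N, ((n : stabilizer G a) : G) • y = z) ∧
      (∀ x ∈ N, ∀ y ∈ N, x * y = y * x) ∧ (∀ x ∈ N, x ^ p = 1) ∧
      (∀ x ∈ N, x ≠ 1 → ∀ y : α, y ≠ a → (x : G) • y ≠ y) := by
  classical
  haveI := h3
  haveI : IsPretransitive G α := by
    haveI : IsMultiplyPretransitive G α 2 := isMultiplyPretransitive_of_le (n := 3) (by norm_num)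
      (by rw [Nat.card_eq_fintype_card]; omega)
    exact isPretransitive_of_is_two_pretransitive
  let X := SubMulAction.ofStabilizer G a
  haveI hX2 : IsMultiplyPretransitive (stabilizer G a) X 2 :=
    SubMulAction.ofStabilizer.isMultiplyPretransitive.1 h3
  have hXsharp : ∀ x : Fin 2 ↪ X, stabilizer (stabilizer G a) x = ⊥ := by
    intro x
    rw [Subgroup.eq_bot_iff_forall]
    intro g hg
    refine Subtype.ext (free hsharp (Ne.symm (x 0).2) (fun h => x.injective.ne (show (0 : Fin 2) ≠ 1 by decide) (Subtype.ext h)) (Ne.symm (x 1).2) g.2 ?_ ?_)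
    · exact congrArg Subtype.val (DFunLike.congr_fun hg 0)
    · exact congrArg Subtype.val (DFunLike.congr_fun hg 1)
  haveI : Fintype X := Fintype.ofFinite X
  have hcard : Fintype.card X + 1 = Fintype.card α := by
    have h := Set.ncard_add_ncard_compl ({a} : Set α)
    rw [Set.ncard_singleton, Nat.card_eq_fintype_card] at h
    rw [← Nat.card_eq_fintype_card, show Nat.card X = ({a} : Set α)ᶜ.ncard from Nat.card_coe_set_eq _]
    omega
  obtain ⟨N, p, j, hp, hj, hpj, hN, hNc, hNmem, hNcomm, hNexp⟩ :=
    CfsgLib.SharplyTwo.exists_translations hXsharp (by omega : 2 ≤ Fintype.card X)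
  have hfpf : ∀ g ∈ N, g = 1 ∨ ∀ z : X, g • z ≠ z := fun g hg => (hNmem g).1 hg
  refine ⟨N, p, j, hp, hj, by omega, hN, hNc.trans hpj, fun y z hy hz => ?_, hNcomm, hNexp, fun x hx hx1 y hy => ?_⟩
  · obtain ⟨n, hn, hu⟩ := CfsgLib.SharplyTwo.exists_unique_smul hNc hfpf (⟨y, hy⟩ : X) ⟨z, hz⟩
    exact ⟨n, congrArg Subtype.val hn, fun m hm => hu m (Subtype.ext hm)⟩
  · exact fun h => (hfpf x hx).resolve_left hx1 ⟨y, hy⟩ (Subtype.ext h)

include h3 hsharp in
/-- Coordinates in which translations and dilations lie in the group. -/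
theorem exists_field (hn : 3 ≤ Fintype.card α) {a b c : α} (hab : a ≠ b) (hac : a ≠ c) (hbc : b ≠ c)
    (hcomm : ∀ g h : G, g • a = a → g • b = b → h • a = a → h • b = b → g * h = h * g) :
    ∃ (F : Type) (_ : Field F) (_ : Fintype F), Fintype.card F + 1 = Fintype.card α ∧
      ∃ e : OnePoint F ≃ α, e OnePoint.infty = a ∧ e ((0 : F) : OnePoint F) = b ∧
        e ((1 : F) : OnePoint F) = c ∧
        (∀ t : F, ∃ g : G, g • a = a ∧ ∀ x : F, g • e (x : OnePoint F) = e ((x + t : F) : OnePoint F)) ∧
        (∀ t : F, t ≠ 0 → ∃ g : G, g • a = a ∧ ∀ x : F, g • e (x : OnePoint F) = e ((t * x : F) : OnePoint F)) := by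
  classical
  haveI := h3
  obtain ⟨N, p, j, hp, hj, hpj, hN, hNc, hreg, hNcomm, hNexp, hNfree⟩ := exists_translations h3 hsharp hn a
  haveI := hN
  let X := {x : α // x ≠ a}
  let o : X := ⟨b, hab.symm⟩
  let i1 : X := ⟨c, hac.symm⟩
  choose τ hτ hτu using fun x : X => (hreg b x.1 hab.symm x.2)
  have hτ' : ∀ x : X, ((τ x : stabilizer G a) : G) • b = x.1 := hτ
  have hGne : ∀ (g : G), g • a = a → ∀ x : X, g • x.1 ≠ a := fun g hg x h =>
    x.2 (smul_left_cancel g (h.trans hg.symm))
  -- dilations
  have hdil : ∀ x : X, x ≠ o → ∃ g : G, g • a = a ∧ g • b = b ∧ g • c = x.1 := by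
    intro x hx
    have hxb : x.1 ≠ b := fun h => hx (Subtype.ext h)
    let s : Fin 3 ↪ α := ⟨![a, b, c], by
      intro i j hij
      fin_cases i <;> fin_cases j <;> first | rfl | (exfalso; simp at hij; tauto)⟩
    let s' : Fin 3 ↪ α := ⟨![a, b, x.1], by
      intro i j hij
      have := x.2
      fin_cases i <;> fin_cases j <;> first | rfl | (exfalso; simp at hij; tauto)⟩
    obtain ⟨g, hg⟩ := exists_smul_eq G s s'
    exact ⟨g, DFunLike.congr_fun hg 0, DFunLike.congr_fun hg 1, DFunLike.congr_fun hg 2⟩
  choose! μ hμa hμb hμc using hdil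
  have hμu : ∀ (x : X), x ≠ o → ∀ g : G, g • a = a → g • b = b → g • c = x.1 → g = μ x :=
    fun x hx g ga gb gc => eq_of_three hsharp hab hbc hac (ga.trans (hμa x hx).symm) (gb.trans (hμb x hx).symm)
      (gc.trans (hμc x hx).symm)
  let add : X → X → X := fun x y => ⟨((τ x : stabilizer G a) : G) • y.1, hGne _ (τ x : stabilizer G a).2 y⟩
  let neg : X → X := fun x => ⟨(((τ x)⁻¹ : N) : stabilizer G a).1 • b, hGne _ ((((τ x)⁻¹ : N) : stabilizer G a)).2 o⟩
  let mul : X → X → X := fun x y => if h : x = o then o else ⟨μ x • y.1, hGne _ (hμa x h) y⟩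
  let inv : X → X := fun x => if h : x = o then o else
    ⟨(μ x)⁻¹ • c, hGne _ (by rw [inv_smul_eq_iff, hμa x h]) i1⟩
  have hτadd : ∀ x y, τ (add x y) = τ x * τ y := fun x y => (hτu _ _ (by
    show (((τ x : stabilizer G a) : G) * ((τ y : stabilizer G a) : G)) • b = _
    rw [mul_smul, hτ'])).symm
  have hτo : τ o = 1 := (hτu o 1 (one_smul _ _)).symm
  have hτinj : Function.Injective τ := fun x y h => Subtype.ext (by rw [← hτ' x, ← hτ' y, h])
  have add_assoc' : ∀ x y z, add (add x y) z = add x (add y z) := fun x y z => hτinj (by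
    rw [hτadd, hτadd, hτadd, hτadd, mul_assoc])
  have add_comm' : ∀ x y, add x y = add y x := fun x y => hτinj (by
    rw [hτadd, hτadd]
    exact Subtype.ext (hNcomm _ (τ x).2 _ (τ y).2))
  have zero_add' : ∀ x, add o x = x := fun x => hτinj (by rw [hτadd, hτo, one_mul])
  have hτneg : ∀ x, τ (neg x) = (τ x)⁻¹ := fun x => (hτu _ _ rfl).symm
  have neg_add' : ∀ x, add (neg x) x = o := fun x => hτinj (by rw [hτadd, hτneg, inv_mul_cancel, hτo])
  have hmulne : ∀ {x y : X}, x ≠ o → y ≠ o → mul x y ≠ o := by
    intro x y hx hy h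
    simp only [mul, dif_neg hx] at h
    exact hy (Subtype.ext (smul_left_cancel (μ x) ((congrArg Subtype.val h).trans (hμb x hx).symm)))
  have hmulzero : ∀ x, mul x o = o := fun x => by
    by_cases hx : x = o
    · simp [mul, hx]
    · simp only [mul, dif_neg hx]; exact Subtype.ext (hμb x hx)
  have hzeromul : ∀ x, mul o x = o := fun x => by simp [mul]
  have hμmul : ∀ {x y : X}, x ≠ o → y ≠ o → μ (mul x y) = μ x * μ y := by
    intro x y hx hy
    refine (hμu _ (hmulne hx hy) _ ?_ ?_ ?_).symm
    · rw [mul_smul, hμa y hy, hμa x hx]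
    · rw [mul_smul, hμb y hy, hμb x hx]
    · rw [mul_smul, hμc y hy]; simp [mul, hx]
  have hμinj : ∀ {x y : X}, x ≠ o → y ≠ o → μ x = μ y → x = y := fun hx hy h =>
    Subtype.ext (by rw [← hμc _ hx, ← hμc _ hy, h])
  have mul_comm' : ∀ x y, mul x y = mul y x := fun x y => by
    by_cases hx : x = o
    · rw [hx, hzeromul, hmulzero]
    by_cases hy : y = o
    · rw [hy, hzeromul, hmulzero]
    apply hμinj (hmulne hx hy) (hmulne hy hx)
    rw [hμmul hx hy, hμmul hy hx]
    exact hcomm _ _ (hμa x hx) (hμb x hx) (hμa y hy) (hμb y hy)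
  have mul_assoc' : ∀ x y z, mul (mul x y) z = mul x (mul y z) := fun x y z => by
    by_cases hx : x = o
    · rw [hx, hzeromul, hzeromul, hzeromul]
    by_cases hy : y = o
    · simp only [hy, hzeromul, hmulzero]
    by_cases hz : z = o
    · rw [hz, hmulzero, hmulzero, hmulzero]
    apply hμinj (hmulne (hmulne hx hy) hz) (hmulne hx (hmulne hy hz))
    rw [hμmul (hmulne hx hy) hz, hμmul hx hy, hμmul hx (hmulne hy hz), hμmul hy hz, mul_assoc]
  have hi1 : i1 ≠ o := fun h => hbc (congrArg Subtype.val h).symm
  have hμ1 : μ i1 = 1 := (hμu i1 hi1 1 (one_smul _ _) (one_smul _ _) (one_smul _ _)).symm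
  have one_mul' : ∀ x, mul i1 x = x := fun x => by
    simp only [mul, dif_neg hi1, hμ1]
    exact Subtype.ext (one_smul _ _)
  have left_distrib' : ∀ x y z, mul x (add y z) = add (mul x y) (mul x z) := by
    intro x y z
    by_cases hx : x = o
    · rw [hx, hzeromul, hzeromul, hzeromul, zero_add']
    simp only [mul, dif_neg hx, add]
    refine Subtype.ext ?_
    show μ x • ((τ y : stabilizer G a) : G) • z.1 = _
    set m : stabilizer G a := ⟨μ x, hμa x hx⟩
    have hmem : m * (τ y : stabilizer G a) * m⁻¹ ∈ N := hN.conj_mem _ (τ y).2 m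
    have heq : τ (⟨μ x • y.1, hGne _ (hμa x hx) y⟩ : X) = ⟨_, hmem⟩ := (hτu _ _ (by
      show (μ x * ((τ y : stabilizer G a) : G) * (μ x)⁻¹) • b = μ x • y.1
      rw [mul_smul, mul_smul, inv_smul_eq_iff.2 (hμb x hx).symm, hτ'])).symm
    rw [heq]
    show _ = (μ x * ((τ y : stabilizer G a) : G) * (μ x)⁻¹) • μ x • z.1
    rw [mul_smul, mul_smul, inv_smul_smul]
  have mul_inv' : ∀ x, x ≠ o → mul x (inv x) = i1 := fun x hx => by
    simp only [mul, inv, dif_neg hx]
    exact Subtype.ext (smul_inv_smul _ _)
  letI : Zero X := ⟨o⟩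
  letI : Add X := ⟨add⟩
  letI : Neg X := ⟨neg⟩
  let instF : Field X :=
    { add := add
      add_assoc := add_assoc'
      zero := o
      zero_add := zero_add'
      add_zero := fun x => (add_comm' x o).trans (zero_add' x)
      neg := neg
      neg_add_cancel := neg_add'
      add_comm := add_comm'
      nsmul := nsmulRec
      zsmul := zsmulRec
      mul := mul
      mul_assoc := mul_assoc'
      one := i1
      one_mul := one_mul'
      mul_one := fun x => (mul_comm' x i1).trans (one_mul' x)
      zero_mul := hzeromul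
      mul_zero := hmulzero
      left_distrib := left_distrib'
      right_distrib := fun x y z => by
        show mul (add x y) z = add (mul x z) (mul y z)
        rw [mul_comm', left_distrib', mul_comm' z x, mul_comm' z y]
      mul_comm := mul_comm'
      inv := inv
      exists_pair_ne := ⟨o, i1, hi1.symm⟩
      mul_inv_cancel := mul_inv'
      inv_zero := show inv o = o by simp [inv]
      nnqsmul := _
      qsmul := _ }
  letI := instF
  let eX : Coord (Fintype.card X) ≃ X := (Fintype.equivFin X).symm
  letI : Field (Coord (Fintype.card X)) := eX.field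
  obtain ⟨r⟩ : Nonempty (Coord (Fintype.card X) ≃+* X) := ⟨eX.ringEquiv⟩
  refine ⟨Coord (Fintype.card X), inferInstance, inferInstance, ?_, ?_⟩
  · rw [card_coord]
    have h := Fintype.card_subtype_compl (fun x : α => x = a)
    rw [Fintype.card_subtype_eq] at h
    show Fintype.card {x : α // x ≠ a} + 1 = _
    simp only [ne_eq]
    omega
  let f : OnePoint (Coord (Fintype.card X)) → α := fun z => z.elim a fun x => (r x).1
  have hf : Function.Bijective f := by
    constructor
    · intro z z' h
      cases z <;> cases z'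
      · rfl
      · rename_i x; exact absurd h.symm (r x).2
      · rename_i x; exact absurd h (r x).2
      · rename_i x y; exact congrArg OnePoint.some (r.injective (Subtype.ext h))
    · intro y
      by_cases hy : y = a
      · exact ⟨OnePoint.infty, hy.symm⟩
      · exact ⟨OnePoint.some (r.symm ⟨y, hy⟩), congrArg Subtype.val (r.apply_symm_apply ⟨y, hy⟩)⟩
  refine ⟨Equiv.ofBijective f hf, rfl, congrArg Subtype.val (map_zero r), congrArg Subtype.val (map_one r),
    fun t => ⟨((τ (r t) : stabilizer G a) : G), (τ (r t) : stabilizer G a).2, fun x => ?_⟩,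
    fun t ht => ⟨μ (r t), ?_, fun x => ?_⟩⟩
  · show ((τ (r t) : stabilizer G a) : G) • f (x : OnePoint _) = f ((x + t : Coord (Fintype.card X)) : OnePoint _)
    show ((τ (r t) : stabilizer G a) : G) • (r x).1 = (r (x + t)).1
    rw [add_comm x t, map_add]
    rfl
  · exact hμa _ (fun h => ht (r.injective (h.trans (map_zero r).symm)))
  · have htne : r t ≠ o := fun h => ht (r.injective (h.trans (map_zero r).symm))
    show μ (r t) • f (x : OnePoint _) = f ((t * x : Coord (Fintype.card X)) : OnePoint _)
    show μ (r t) • (r x).1 = (r (t * x)).1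
    rw [map_mul]
    show _ = (mul (r t) (r x)).1
    simp [mul, htne]

include h3 hsharp in
/-- A sharply 3-transitive group with commutative two-point stabilisers is `PGL(2, F)`. -/
theorem exists_pgl (hn : 3 ≤ Fintype.card α) {a b c : α} (hab : a ≠ b) (hac : a ≠ c) (hbc : b ≠ c)
    (hcomm : ∀ g h : G, g • a = a → g • b = b → h • a = a → h • b = b → g * h = h * g) :
    ∃ (F : Type) (_ : Field F) (_ : Fintype F), Fintype.card F + 1 = Fintype.card α ∧
      Nonempty (G ≃* Matrix.ProjGenLinGroup (Fin 2) F) := by
  classical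
  obtain ⟨F, hF, hFf, hcard, e, ea, eb, ec, htrans, hdil⟩ := exists_field h3 hsharp hn hab hac hbc hcomm
  letI := hF
  letI := hFf
  refine ⟨F, hF, hFf, hcard, ?_⟩
  choose T hTa hT using htrans
  choose! D hDa hD using hdil
  have hne : ∀ {x y : F}, x ≠ y → e (x : OnePoint F) ≠ e (y : OnePoint F) := fun h he =>
    h (OnePoint.coe_injective (e.injective he))
  have hnea : ∀ x : F, e (x : OnePoint F) ≠ a := fun x h => OnePoint.coe_ne_infty x (e.injective (h.trans ea.symm))
  obtain ⟨w, wa, wb, wc, ww⟩ := exists_swap h3 hsharp hab hac hbc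
  -- the map induced by `w` on the nonzero elements
  have hwmap : ∀ x : F, x ≠ 0 → ∃ y : F, y ≠ 0 ∧ w • e (x : OnePoint F) = e (y : OnePoint F) := by
    intro x hx
    cases h : e.symm (w • e (x : OnePoint F)) with
    | infty =>
      exfalso
      have h' : w • e (x : OnePoint F) = a := by rw [← ea, ← h, Equiv.apply_symm_apply]
      have := congrArg (w • ·) h'
      simp only [← mul_smul, ww, one_smul, wa] at this
      exact hne hx (this.trans eb.symm)
    | coe y =>
      have h' : w • e (x : OnePoint F) = e (y : OnePoint F) := by rw [← h, Equiv.apply_symm_apply]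
      refine ⟨y, fun hy => ?_, h'⟩
      rw [hy, eb] at h'
      have := congrArg (w • ·) h'
      simp only [← mul_smul, ww, one_smul, wb] at this
      exact hnea x this
  choose! s hs0 hs using hwmap
  have hs1 : s 1 = 1 := by
    have h := hs 1 one_ne_zero
    rw [ec, wc, ← ec] at h
    exact (OnePoint.coe_injective (e.injective h)).symm
  have hss : ∀ x, x ≠ 0 → s (s x) = x := by
    intro x hx
    have h := hs (s x) (hs0 x hx)
    rw [← hs x hx, ← mul_smul, ww, one_smul] at h
    exact (OnePoint.coe_injective (e.injective h)).symm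
  have hfree : ∀ g g' : G, g • a = g' • a → g • b = g' • b → g • c = g' • c → g = g' :=
    fun g g' => eq_of_three hsharp hab hbc hac
  have hconj : ∀ t, t ≠ 0 → w * D t * w = D (s t) := by
    intro t ht
    refine hfree _ _ ?_ ?_ ?_
    · rw [mul_smul, mul_smul, wa, ← eb, hD t ht, mul_zero, eb, wb, hDa _ (hs0 t ht)]
    · rw [mul_smul, mul_smul, wb, hDa t ht, wa, ← eb, hD _ (hs0 t ht), mul_zero]
    · rw [mul_smul, mul_smul, wc, ← ec, hD t ht, mul_one, hs t ht, hD _ (hs0 t ht), mul_one]
  have hmul : ∀ t u, t ≠ 0 → u ≠ 0 → s (t * u) = s t * s u := by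
    intro t u ht hu
    have h1 : (w * D t * w) • e (s u : OnePoint F) = e ((s t * s u : F) : OnePoint F) := by
      rw [hconj t ht, hD _ (hs0 t ht)]
    rw [mul_smul, mul_smul, hs _ (hs0 u hu), hss u hu, hD t ht, hs _ (mul_ne_zero ht hu)] at h1
    exact OnePoint.coe_injective (e.injective h1)
  have hfix : ∀ x, x ≠ 0 → s x = x → x = 1 ∨ x = -1 := by
    intro x hx hsx
    by_cases h1 : x = 1
    · exact Or.inl h1
    have huniq : ∀ y, y ≠ 0 → s y = y → y = 1 ∨ y = x := by
      intro y hy hsy
      by_contra hc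
      push Not at hc
      have h := free hsharp (g := w) (hne hc.1.symm) (hne hc.2) (hne (Ne.symm h1)) (by rw [hs 1 one_ne_zero, hs1])
        (by rw [hs y hy, hsy]) (by rw [hs x hx, hsx])
      exact hab (by rw [h, one_smul] at wa; exact wa)
    rcases huniq (x * x) (mul_ne_zero hx hx) (by rw [hmul x x hx hx, hsx]) with h | h
    · exact mul_self_eq_one_iff.1 h
    · exact absurd (mul_right_cancel₀ hx (h.trans (one_mul x).symm)) h1
  have hchi : ∀ x, x ≠ 0 → x * s x = 1 ∨ x * s x = -1 := fun x hx =>
    hfix _ (mul_ne_zero hx (hs0 x hx)) (by rw [hmul x (s x) hx (hs0 x hx), hss x hx, mul_comm])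
  -- braid relation
  have hm1 : (-1 : F) ≠ 0 := neg_ne_zero.2 one_ne_zero
  set u : G := T 1 * D (-1) with hu
  have hua : u • a = a := by rw [hu, mul_smul, hDa _ hm1, hTa]
  have hux : ∀ x : F, u • e (x : OnePoint F) = e ((1 - x : F) : OnePoint F) := fun x => by
    rw [hu, mul_smul, hD _ hm1, hT, show -1 * x + 1 = 1 - x by ring]
  have hbraid : w * u * w = u * w * u := by
    have hub : u • b = c := by rw [← eb, hux, sub_zero, ec]
    have huc : u • c = b := by rw [← ec, hux, sub_self, eb]
    refine hfree _ _ ?_ ?_ ?_ <;> simp only [mul_smul, wa, wb, wc, hua, hub, huc]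
  have hinv : ∀ x, x ≠ 0 → s x = x⁻¹ := by
    intro x hx
    refine eq_inv_of_mul_eq_one_right ?_
    rcases hchi x hx with h | hbad
    · exact h
    by_cases h2 : (-1 : F) = 1
    · rw [hbad, h2]
    exfalso
    -- the elements with `y * s y = 1` would form, with `0`, an additive subgroup
    have hsm1 : s (-1) = -1 := by
      rcases mul_self_eq_one_iff.1 (show s (-1) * s (-1) = 1 by
        rw [← hmul _ _ hm1 hm1, neg_one_mul, neg_neg, hs1]) with h | h
      · exfalso
        have := hss _ hm1
        rw [h, hs1] at this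
        exact h2 this.symm
      · exact h
    have hK : ∀ y, y ≠ 0 → y ≠ 1 → y * s y = 1 → (1 - y) * s (1 - y) = 1 := by
      intro y hy hy1 hyK
      refine (hchi (1 - y) (sub_ne_zero.2 hy1.symm)).resolve_right fun hz => ?_
      set z := 1 - y with hzdef
      have hz0 : z ≠ 0 := sub_ne_zero.2 hy1.symm
      have hsy1 : 1 - s y ≠ 0 := sub_ne_zero.2 fun h => hy1 (by rw [← hss y hy, ← h, hs1])
      have h := congrArg (fun g : G => g • e (y : OnePoint F)) hbraid
      simp only [mul_smul] at h
      rw [hs y hy, hux, hs _ hsy1, hux, hs _ hz0, hux] at h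
      have heq : s (1 - s y) = 1 - s z := OnePoint.coe_injective (e.injective h)
      have hsy : s y = y⁻¹ := eq_inv_of_mul_eq_one_right hyK
      have hsz : s z = -z⁻¹ := by
        field_simp
        linear_combination hz
      have hcalc : (1 : F) - s y = -1 * (z * s y) := by
        rw [hsy, hzdef]
        field_simp
        ring
      rw [hcalc, hmul _ _ hm1 (mul_ne_zero hz0 (hs0 y hy)), hmul _ _ hz0 (hs0 y hy), hss y hy, hsm1, hsz] at heq
      field_simp at heq
      apply h2
      have : (2 : F) * (y - 1) = 0 := by rw [hzdef] at heq; linear_combination heq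
      rcases mul_eq_zero.1 this with h' | h'
      · linear_combination -h'
      · exact absurd (sub_eq_zero.1 h') hy1
    have hKneg : ∀ y, y ≠ 0 → y * s y = 1 → -y * s (-y) = 1 := by
      intro y hy hyK
      rw [show -y = -1 * y by ring, hmul _ _ hm1 hy, hsm1]
      linear_combination hyK
    have hKsub : ∀ y z, y ≠ 0 → z ≠ 0 → y ≠ z → y * s y = 1 → z * s z = 1 → (y - z) * s (y - z) = 1 := by
      intro y z hy hz hyz hyK hzK
      set t := z * s y with ht
      have ht0 : t ≠ 0 := mul_ne_zero hz (hs0 y hy)
      have hyt : y * t = z := by rw [ht]; linear_combination z * hyK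
      have ht1 : t ≠ 1 := fun h => hyz (by rw [← hyt, h, mul_one])
      have htK : t * s t = 1 := by
        rw [ht, hmul _ _ hz (hs0 y hy), hss y hy]
        linear_combination (s y * y) * hzK + hyK
      have h1 := hK t ht0 ht1 htK
      rw [show y - z = y * (1 - t) by rw [mul_sub, mul_one, hyt], hmul _ _ hy (sub_ne_zero.2 ht1.symm)]
      linear_combination ((1 - t) * s (1 - t)) * hyK + h1
    let A : AddSubgroup F :=
      { carrier := {y | y = 0 ∨ y * s y = 1}
        zero_mem' := Or.inl rfl
        neg_mem' := by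
          rintro y (rfl | hy)
          · exact Or.inl neg_zero
          · exact Or.inr (hKneg y (left_ne_zero_of_mul_eq_one hy) hy)
        add_mem' := by
          rintro y z (rfl | hy) (rfl | hz)
          · exact Or.inl (add_zero 0)
          · exact Or.inr (by rw [zero_add]; exact hz)
          · exact Or.inr (by rw [add_zero]; exact hy)
          · by_cases hyz : y = -z
            · exact Or.inl (by rw [hyz, neg_add_cancel])
            · have hz0 := left_ne_zero_of_mul_eq_one hz
              refine Or.inr ?_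
              have := hKsub y (-z) (left_ne_zero_of_mul_eq_one hy) (neg_ne_zero.2 hz0) hyz hy (hKneg z hz0 hz)
              rwa [sub_neg_eq_add] at this }
    set K := Finset.univ.filter fun y : F => y * s y = 1 with hKdef
    set L := Finset.univ.filter fun y : F => y ≠ 0 ∧ y * s y = -1 with hLdef
    have hKL : K.card = L.card := by
      have hmulx : ∀ y, y ≠ 0 → (x * y) * s (x * y) = -(y * s y) := fun y hy => by
        rw [hmul _ _ hx hy]
        linear_combination (y * s y) * hbad
      have h1 : K.card ≤ L.card := Finset.card_le_card_of_injOn (fun y => x * y) (fun y hy => by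
        simp only [hKdef, hLdef, Finset.coe_filter, Finset.mem_univ, true_and, Set.mem_ofPred_eq] at hy ⊢
        have hy0 := left_ne_zero_of_mul_eq_one hy
        exact ⟨mul_ne_zero hx hy0, by rw [hmulx y hy0, hy]⟩)
        (fun y _ z _ h => mul_left_cancel₀ hx h)
      have h2' : L.card ≤ K.card := Finset.card_le_card_of_injOn (fun y => x * y) (fun y hy => by
        simp only [hKdef, hLdef, Finset.coe_filter, Finset.mem_univ, true_and, Set.mem_ofPred_eq] at hy ⊢
        rw [hmulx y hy.1, hy.2, neg_neg])
        (fun y _ z _ h => mul_left_cancel₀ hx h)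
      omega
    have hcount : K.card + L.card + 1 = Fintype.card F := by
      have hunion : K ∪ L = (Finset.univ : Finset F).erase 0 := by
        ext y
        simp only [hKdef, hLdef, Finset.mem_union, Finset.mem_filter, Finset.mem_univ, true_and,
          Finset.mem_erase, and_true]
        refine ⟨?_, fun hy => (hchi y hy).imp id fun h => ⟨hy, h⟩⟩
        rintro (h | h)
        · exact left_ne_zero_of_mul_eq_one h
        · exact h.1
      have hdisj : Disjoint K L := by
        rw [Finset.disjoint_left]
        intro y h1 h1'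
        simp only [hKdef, hLdef, Finset.mem_filter, Finset.mem_univ, true_and] at h1 h1'
        exact h2 (h1'.2.symm.trans h1)
      rw [← Finset.card_union_of_disjoint hdisj, hunion, Finset.card_erase_of_mem (Finset.mem_univ 0),
        Finset.card_univ]
      have := Fintype.card_pos (α := F)
      omega
    have hAcard : Nat.card A = K.card + 1 := by
      rw [Nat.card_eq_fintype_card, Fintype.card_subtype, show (Finset.univ.filter fun y : F => y ∈ A) = insert 0 K by
        ext y
        simp only [hKdef, Finset.mem_filter, Finset.mem_univ, true_and, Finset.mem_insert]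
        rfl]
      exact Finset.card_insert_of_notMem (fun h => left_ne_zero_of_mul_eq_one (Finset.mem_filter.1 h).2 rfl)
    have hpos : 0 < K.card := Finset.card_pos.2 ⟨1, by simp [hKdef, hs1]⟩
    have hdvd : Nat.card A ∣ Nat.card F := AddSubgroup.card_addSubgroup_dvd_card A
    rw [hAcard, Nat.card_eq_fintype_card, ← hcount, ← hKL] at hdvd
    have hdvd2 : K.card + 1 ∣ 2 * (K.card + 1) := Dvd.intro_left _ rfl
    have := Nat.dvd_sub hdvd2 hdvd
    rw [show 2 * (K.card + 1) - (K.card + K.card + 1) = 1 by omega, Nat.dvd_one] at this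
    omega
  -- conclude
  let E : GL (Fin 2) F →* Equiv.Perm α :=
    e.permCongrHom.toMonoidHom.comp (MulAction.toPermHom (GL (Fin 2) F) (OnePoint F))
  have hE : ∀ M z, E M (e z) = e (M • z) := fun M z => by simp [E, Equiv.permCongr_apply]
  have hEeq : ∀ (M : GL (Fin 2) F) (g : G), (∀ z, g • e z = e (M • z)) → E M = (g : Equiv.Perm α) := by
    intro M g h
    refine Equiv.ext fun y => ?_
    obtain ⟨z, rfl⟩ := e.surjective y
    rw [hE]
    exact (h z).symm
  let mT : F → GL (Fin 2) F := fun t => Matrix.GeneralLinearGroup.mkOfDetNeZero !![1, t; 0, 1] (by simp [Matrix.det_fin_two])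
  let mD : Fˣ → GL (Fin 2) F := fun t => Matrix.GeneralLinearGroup.mkOfDetNeZero !![(t : F), 0; 0, 1] (by simp [Matrix.det_fin_two])
  let mW : GL (Fin 2) F := Matrix.GeneralLinearGroup.mkOfDetNeZero !![0, 1; 1, 0] (by simp [Matrix.det_fin_two])
  have eT : ∀ t, E (mT t) = (T t : Equiv.Perm α) := fun t => hEeq _ _ fun z => by
    cases z with
    | infty => rw [ea, hTa, OnePoint.smul_infty_eq_ite]; simp [mT, ea]
    | coe x => rw [hT, OnePoint.smul_some_eq_ite]; simp [mT]
  have eD : ∀ t : Fˣ, E (mD t) = (D (t : F) : Equiv.Perm α) := fun t => hEeq _ _ fun z => by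
    cases z with
    | infty => rw [ea, hDa _ t.ne_zero, OnePoint.smul_infty_eq_ite]; simp [mD, ea]
    | coe x => rw [hD _ t.ne_zero, OnePoint.smul_some_eq_ite]; simp [mD]
  have eW : E mW = (w : Equiv.Perm α) := hEeq _ _ fun z => by
    cases z with
    | infty => rw [ea, wa, OnePoint.smul_infty_eq_ite]; simp [mW, eb]
    | coe x =>
      rw [OnePoint.smul_some_eq_ite]
      by_cases hx : x = 0
      · subst hx; rw [eb, wb]; simp [mW, ea]
      · rw [hs x hx, hinv x hx]; simp [mW, hx]
  have hrange : E.range = G := by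
    refine le_antisymm ?_ ?_
    · rintro _ ⟨M, rfl⟩
      have hdet : M 0 0 * M 1 1 - M 0 1 * M 1 0 ≠ 0 := by
        have := M.det_ne_zero
        rwa [Matrix.det_fin_two] at this
      by_cases hc : M 1 0 = 0
      · rw [hc, mul_zero, sub_zero] at hdet
        have h0 := left_ne_zero_of_mul hdet
        have h1 := right_ne_zero_of_mul hdet
        rw [hEeq M (T (M 0 1 / M 1 1) * D (M 0 0 / M 1 1)) fun z => ?_]
        · exact SetLike.coe_mem _
        cases z with
        | infty => rw [ea, mul_smul, hDa _ (div_ne_zero h0 h1), hTa, OnePoint.smul_infty_eq_ite, if_pos hc, ea]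
        | coe x =>
          rw [mul_smul, hD _ (div_ne_zero h0 h1), hT, OnePoint.smul_some_eq_ite, hc, zero_mul, zero_add, if_neg h1]
          congr 2
          field_simp
      · set k := -(M 0 0 * M 1 1 - M 0 1 * M 1 0) / (M 1 0 * M 1 0) with hk
        have hk0 : k ≠ 0 := div_ne_zero (neg_ne_zero.2 hdet) (mul_ne_zero hc hc)
        rw [hEeq M (T (M 0 0 / M 1 0) * D k * w * T (M 1 1 / M 1 0)) fun z => ?_]
        · exact SetLike.coe_mem _
        cases z with
        | infty =>
          rw [ea, mul_smul, mul_smul, mul_smul, hTa, wa, ← eb, hD _ hk0, mul_zero, hT, zero_add,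
            OnePoint.smul_infty_eq_ite, if_neg hc]
        | coe x =>
          rw [mul_smul, mul_smul, mul_smul, hT, OnePoint.smul_some_eq_ite]
          by_cases hy : M 1 0 * x + M 1 1 = 0
          · rw [if_pos hy, show x + M 1 1 / M 1 0 = 0 by field_simp; linear_combination hy, eb, wb,
              hDa _ hk0, hTa, ea]
          · have hy' : x + M 1 1 / M 1 0 ≠ 0 := by
              intro h
              apply hy
              field_simp at h
              linear_combination h
            rw [if_neg hy, hs _ hy', hinv _ hy', hD _ hk0, hT]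
            congr 2
            rw [hk]
            field_simp
            ring
    · intro g hg
      suffices key : ∀ g : G, g • a = a → (g : Equiv.Perm α) ∈ E.range by
        cases hga : e.symm ((⟨g, hg⟩ : G) • a) with
        | infty => exact key ⟨g, hg⟩ ((e.symm_apply_eq.1 hga).trans ea)
        | coe v =>
          have h' : (⟨g, hg⟩ : G) • a = e (v : OnePoint F) := by rw [← hga, Equiv.apply_symm_apply]
          have h := key (w * T (-v) * ⟨g, hg⟩) (by rw [mul_smul, mul_smul, h', hT, add_neg_cancel, eb, wb])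
          have h2 : (w : Equiv.Perm α) * (T (-v) : Equiv.Perm α) * g ∈ E.range := h
          rwa [← eW, ← eT, mul_mem_cancel_left (mul_mem (MonoidHom.mem_range.2 ⟨mW, rfl⟩ : E mW ∈ E.range)
            (MonoidHom.mem_range.2 ⟨mT (-v), rfl⟩ : E (mT (-v)) ∈ E.range))] at h2
      intro g hga
      cases hgb : e.symm (g • b) with
      | infty =>
        exfalso
        have h' : g • b = a := by rw [← ea, ← hgb, Equiv.apply_symm_apply]
        exact hab (smul_left_cancel g (h'.trans hga.symm)).symm
      | coe t =>
        have h' : g • b = e (t : OnePoint F) := by rw [← hgb, Equiv.apply_symm_apply]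
        set h := T (-t) * g with hh
        have ha' : h • a = a := by rw [hh, mul_smul, hga, hTa]
        have hb' : h • b = b := by rw [hh, mul_smul, h', hT, add_neg_cancel, eb]
        cases hhc : e.symm (h • c) with
        | infty =>
          exfalso
          have h'' : h • c = a := by rw [← ea, ← hhc, Equiv.apply_symm_apply]
          exact hac (smul_left_cancel h (h''.trans ha'.symm)).symm
        | coe m =>
          have h'' : h • c = e (m : OnePoint F) := by rw [← hhc, Equiv.apply_symm_apply]
          have hm : m ≠ 0 := fun hm => hbc (smul_left_cancel h (by rw [h'', hm, eb, hb']))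
          have hD' : h = D m := hfree _ _ (ha'.trans (hDa m hm).symm)
            (by rw [hb', ← eb, hD m hm, mul_zero]) (by rw [h'', ← ec, hD m hm, mul_one])
          have h2 : (h : Equiv.Perm α) ∈ E.range := ⟨mD (Units.mk0 m hm), by rw [eD, Units.val_mk0, hD']⟩
          rwa [hh, Subgroup.coe_mul, ← eT, mul_mem_cancel_left (MonoidHom.mem_range.2 ⟨mT (-t), rfl⟩ : E (mT (-t)) ∈ E.range)] at h2
  have hker : E.ker = Subgroup.center (GL (Fin 2) F) := by
    ext M
    rw [MonoidHom.mem_ker]
    constructor
    · intro h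
      have hz : ∀ z, M • z = z := fun z => e.injective (by rw [← hE, h]; rfl)
      have h10 : M 1 0 = 0 := OnePoint.smul_infty_eq_self_iff.1 (hz _)
      have h11 : M 1 1 ≠ 0 := by
        intro h11
        have := M.det_ne_zero
        rw [Matrix.det_fin_two, h10, h11] at this
        simp at this
      have h0 := hz ((0 : F) : OnePoint F)
      have h1 := hz ((1 : F) : OnePoint F)
      rw [OnePoint.smul_some_eq_ite, h10, zero_mul, zero_add, if_neg h11, OnePoint.coe_eq_coe] at h0 h1
      have h01 : M 0 1 = 0 := by simpa [h11] using h0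
      rw [h01, add_zero, mul_one, div_eq_one_iff_eq h11] at h1
      rw [Matrix.GeneralLinearGroup.center_eq_range_scalar]
      refine ⟨Units.mk0 _ h11, Units.ext ?_⟩
      ext i j
      fin_cases i <;> fin_cases j <;> simp [h1, h10, h01]
    · intro h
      rw [Matrix.GeneralLinearGroup.center_eq_range_scalar] at h
      obtain ⟨t, rfl⟩ := h
      refine hEeq _ 1 fun z => ?_
      rw [one_smul]
      cases z with
      | infty => simp [OnePoint.smul_infty_eq_ite]
      | coe x => simp [OnePoint.smul_some_eq_ite, t.ne_zero]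
  exact ⟨(((QuotientGroup.quotientMulEquivOfEq hker.symm).trans
    (QuotientGroup.quotientKerEquivRange E)).trans (MulEquiv.subgroupCongr hrange)).symm⟩

end Cfsg.Agent.Lib.Perm.SharplyThree
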