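import Cfsg.Agent.Lib.Perm.EigenChar
import Cfsg.Agent.Lib.Perm.PermRank
import Cfsg.Agent.Lib.Char.CMValue
import Cfsg.Agent.Lib.Blocks.Idempotent

/-!
# Invariant matrices of a multiplicity-free permutation group, through their twisted traces

For an invariant matrix `M`, `tr M g = ∑ x, M x (g • x)`; `ev M ψ` is the scalar by which `M` acts on
the constituent `ψ`.
-/

set_option autoImplicit false
set_option linter.unusedSectionVars false

namespace CfsgLib.TraceAlgebra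

open Cfsg CfsgLib MulAction
open scoped ComplexConjugate CfsgLib.Char Matrix
open scoped _root_.Classical

universe u

variable {G : Type*} [Group G] [Fintype G] {Ω : Type u} [MulAction G Ω] [Fintype Ω]

/-- Invariance. -/
def Inv (G : Type*) [Group G] [MulAction G Ω] (M : Matrix Ω Ω ℂ) : Prop :=
  ∀ (g : G) (x y : Ω), M (g • x) (g • y) = M x y

/-- The twisted trace. -/
def tr (M : Matrix Ω Ω ℂ) (g : G) : ℂ := ∑ x, M x (g • x)

/-- The scalar of `M` on `ψ`. -/
noncomputable def ev (M : Matrix Ω Ω ℂ) (ψ : IrrCharacter G) : ℂ :=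
  classInner (fun g => tr M g) (ψ : G → ℂ)

theorem Inv.add {M N : Matrix Ω Ω ℂ} (hM : Inv G M) (hN : Inv G N) : Inv G (M + N) :=
  fun g x y => by simp [hM g x y, hN g x y]

theorem Inv.sub {M N : Matrix Ω Ω ℂ} (hM : Inv G M) (hN : Inv G N) : Inv G (M - N) :=
  fun g x y => by simp [hM g x y, hN g x y]

theorem Inv.smul {M : Matrix Ω Ω ℂ} (hM : Inv G M) (c : ℂ) : Inv G (c • M) :=
  fun g x y => by simp [hM g x y]

theorem Inv.one [DecidableEq Ω] : Inv G (1 : Matrix Ω Ω ℂ) := fun g x y => by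
  simp [Matrix.one_apply]

theorem Inv.mul {M N : Matrix Ω Ω ℂ} (hM : Inv G M) (hN : Inv G N) : Inv G (M * N) :=
  fun g x y => by
    rw [Matrix.mul_apply, Matrix.mul_apply, ← Equiv.sum_comp (MulAction.toPerm g)]
    exact Finset.sum_congr rfl fun z _ => by rw [MulAction.toPerm_apply, hM g x z, hN g z y]

theorem Inv.conjTranspose {M : Matrix Ω Ω ℂ} (hM : Inv G M) : Inv G Mᴴ :=
  fun g x y => by simp [hM g y x]

/-- The endomorphism attached to `M`. -/
noncomputable def lin (M : Matrix Ω Ω ℂ) : (Ω → ℂ) →ₗ[ℂ] (Ω → ℂ) := Matrix.mulVecLin M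

theorem lin_mul (M N : Matrix Ω Ω ℂ) : lin (M * N) = lin M ∘ₗ lin N := Matrix.mulVecLin_mul M N

theorem lin_comm {M : Matrix Ω Ω ℂ} (hM : Inv G M) (g : G) (f : Ω → ℂ) :
    lin M (Cfsg.permRep ℂ G Ω g f) = Cfsg.permRep ℂ G Ω g (lin M f) := by
  funext x
  show ∑ y, M x y * f (g⁻¹ • y) = ∑ y, M (g⁻¹ • x) y * f y
  rw [← Equiv.sum_comp (MulAction.toPerm g)]
  refine Finset.sum_congr rfl fun y _ => ?_
  rw [MulAction.toPerm_apply, inv_smul_smul, ← hM g⁻¹ x (g • y), inv_smul_smul]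

omit [Fintype G] in
theorem trace_lin (M : Matrix Ω Ω ℂ) (g : G) :
    LinearMap.trace ℂ _ (Cfsg.permRep ℂ G Ω g ∘ₗ lin M) = tr M g := by
  rw [LinearMap.trace_eq_matrix_trace ℂ (Pi.basisFun ℂ Ω), LinearMap.toMatrix_eq_toMatrix', Matrix.trace,
    tr, ← Equiv.sum_comp (MulAction.toPerm g)]
  refine Finset.sum_congr rfl fun x _ => ?_
  rw [Matrix.diag, LinearMap.toMatrix'_apply, MulAction.toPerm_apply]
  show (lin M (Pi.single (g • x) 1)) (g⁻¹ • (g • x)) = _
  rw [inv_smul_smul, lin, Matrix.mulVecLin_apply, Matrix.mulVec_single_one]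
  rfl

section Constituents

variable {m : IrrCharacter G → ℕ}
  (hm : (fun g : G => (Nat.card (fixedBy Ω g) : ℂ)) = ∑ χ : IrrCharacter G, (m χ : ℂ) • (χ : G → ℂ))
  (h1 : ∀ χ, m χ ≤ 1)

include hm h1

theorem multFree : Cfsg.Agent.Lib.Perm.MultFree (Cfsg.permRep ℂ G Ω) := by
  intro χ hχ
  rw [Cfsg.Agent.Lib.Perm.permRep_character, hm,
    show χ = ((⟨χ, hχ⟩ : IrrCharacter G) : G → ℂ) from rfl, Char.classInner_sum_smul_irr]
  have := h1 ⟨χ, hχ⟩
  rcases Nat.le_one_iff_eq_zero_or_eq_one.mp this with h | h <;> simp [h]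

theorem tr_pow_two {M : Matrix Ω Ω ℂ} (hM : Inv G M) :
    (∀ g : G, tr M g = ∑ ψ : IrrCharacter G, ev M ψ * (ψ : G → ℂ) g) ∧
      (∀ ψ : IrrCharacter G, m ψ = 0 → ev M ψ = 0) ∧
      ∀ g : G, tr (M * M) g = ∑ ψ : IrrCharacter G, ev M ψ ^ 2 * (ψ : G → ℂ) g := by
  obtain ⟨e, he⟩ := Cfsg.Agent.Lib.Perm.exists_eigen (Cfsg.permRep ℂ G Ω) (multFree hm h1) (lin M)
    (lin_comm hM)
  have hin : ∀ ψ : IrrCharacter G,
      classInner (Cfsg.permRep ℂ G Ω).character (ψ : G → ℂ) = m ψ := fun ψ => by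
    rw [Cfsg.Agent.Lib.Perm.permRep_character, hm, Char.classInner_sum_smul_irr]
  have htr : (fun g => tr M g) = ∑ ψ : IrrCharacter G, ((m ψ : ℂ) * e ψ) • (ψ : G → ℂ) := by
    funext g
    have := he 1 g
    rw [pow_one, trace_lin] at this
    simp only [this, hin, pow_one, Finset.sum_apply, Pi.smul_apply, smul_eq_mul]
  have hev : ∀ ψ : IrrCharacter G, ev M ψ = m ψ * e ψ := fun ψ => by
    rw [ev, htr, Char.classInner_sum_smul_irr]
  refine ⟨fun g => ?_, fun ψ h => by rw [hev, h, Nat.cast_zero, zero_mul], fun g => ?_⟩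
  · have := congrFun htr g
    simp only [Finset.sum_apply, Pi.smul_apply, smul_eq_mul] at this
    simp only [this, hev]
  · have := he 2 g
    rw [pow_two, Module.End.mul_eq_comp, ← lin_mul, trace_lin] at this
    rw [this]
    refine Finset.sum_congr rfl fun ψ _ => ?_
    rw [hin, hev]
    rcases Nat.le_one_iff_eq_zero_or_eq_one.mp (h1 ψ) with h | h <;> simp [h]

theorem tr_eq {M : Matrix Ω Ω ℂ} (hM : Inv G M) (g : G) :
    tr M g = ∑ ψ : IrrCharacter G, ev M ψ * (ψ : G → ℂ) g :=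
  (tr_pow_two hm h1 hM).1 g

theorem ev_outside {M : Matrix Ω Ω ℂ} (hM : Inv G M) {ψ : IrrCharacter G} (h : m ψ = 0) :
    ev M ψ = 0 :=
  (tr_pow_two hm h1 hM).2.1 ψ h

omit hm h1 in
theorem ev_add (M N : Matrix Ω Ω ℂ) (ψ : IrrCharacter G) : ev (M + N) ψ = ev M ψ + ev N ψ := by
  simp only [ev, classInner, tr, Matrix.add_apply, Finset.sum_add_distrib, add_mul, mul_add]

omit hm h1 in
theorem ev_smul (c : ℂ) (M : Matrix Ω Ω ℂ) (ψ : IrrCharacter G) : ev (c • M) ψ = c * ev M ψ := by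
  simp only [ev, classInner, tr, Matrix.smul_apply, smul_eq_mul, ← Finset.mul_sum, mul_assoc]
  ring

omit hm h1 in
theorem ev_sub (M N : Matrix Ω Ω ℂ) (ψ : IrrCharacter G) : ev (M - N) ψ = ev M ψ - ev N ψ := by
  simp only [ev, classInner, tr, Matrix.sub_apply, Finset.sum_sub_distrib, sub_mul, mul_sub]

theorem comm {M N : Matrix Ω Ω ℂ} (hM : Inv G M) (hN : Inv G N) : M * N = N * M := by
  have h := Cfsg.Agent.Lib.Perm.commEnd_of_multFree (Cfsg.permRep ℂ G Ω) (multFree hm h1) (lin M) (lin N)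
    (lin_comm hM) (lin_comm hN)
  refine Matrix.toLin'.injective (LinearMap.ext fun f => ?_)
  rw [Matrix.toLin'_apply, Matrix.toLin'_apply, ← Matrix.mulVec_mulVec, ← Matrix.mulVec_mulVec]
  exact h f

theorem tr_mul {M N : Matrix Ω Ω ℂ} (hM : Inv G M) (hN : Inv G N) (g : G) :
    tr (M * N) g = ∑ ψ : IrrCharacter G, ev M ψ * ev N ψ * (ψ : G → ℂ) g := by
  have h2 := (tr_pow_two hm h1 (hM.add hN)).2.2 g
  have hM2 := (tr_pow_two hm h1 hM).2.2 g
  have hN2 := (tr_pow_two hm h1 hN).2.2 g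
  rw [show (M + N) * (M + N) = M * M + (2 : ℂ) • (M * N) + N * N by
    rw [add_mul, mul_add, mul_add, ← comm hm h1 hM hN, two_smul]; abel] at h2
  have hl : tr (M * M + (2 : ℂ) • (M * N) + N * N) g = tr (M * M) g + 2 * tr (M * N) g + tr (N * N) g := by
    simp only [tr, Matrix.add_apply, Matrix.smul_apply, smul_eq_mul, Finset.sum_add_distrib, Finset.mul_sum]
  rw [hl, hM2, hN2] at h2
  simp only [ev_add, add_sq, add_mul, Finset.sum_add_distrib] at h2
  have : (2 : ℂ) * tr (M * N) g = 2 * ∑ ψ : IrrCharacter G, ev M ψ * ev N ψ * (ψ : G → ℂ) g := by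
    rw [Finset.mul_sum]
    simp only [← mul_assoc]
    linear_combination h2
  exact mul_left_cancel₀ two_ne_zero this

theorem ev_mul {M N : Matrix Ω Ω ℂ} (hM : Inv G M) (hN : Inv G N) (ψ : IrrCharacter G) :
    ev (M * N) ψ = ev M ψ * ev N ψ := by
  conv_lhs => rw [ev]
  rw [show (fun g => tr (M * N) g) = ∑ χ : IrrCharacter G, (ev M χ * ev N χ) • (χ : G → ℂ) from
    funext fun g => by
      rw [tr_mul hm h1 hM hN g, Finset.sum_apply]
      exact Finset.sum_congr rfl fun _ _ => rfl,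
    Char.classInner_sum_smul_irr]

theorem ev_one [DecidableEq Ω] (ψ : IrrCharacter G) : ev (1 : Matrix Ω Ω ℂ) ψ = m ψ := by
  rw [ev, show (fun g => tr (1 : Matrix Ω Ω ℂ) g) = ∑ χ : IrrCharacter G, (m χ : ℂ) • (χ : G → ℂ) from ?_,
    Char.classInner_sum_smul_irr]
  rw [← hm]
  funext g
  rw [tr, Nat.card_eq_fintype_card, Fintype.card_subtype]
  simp only [Matrix.one_apply, Finset.sum_boole]
  congr 2
  exact Finset.filter_congr fun x _ => by rw [mem_fixedBy, eq_comm]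

omit hm h1 in
theorem tr_conjTranspose {M : Matrix Ω Ω ℂ} (hM : Inv G M) (g : G) : tr Mᴴ g = conj (tr M g⁻¹) := by
  simp only [tr, map_sum, Matrix.conjTranspose_apply, RCLike.star_def]
  rw [← Equiv.sum_comp (MulAction.toPerm g⁻¹) (fun x => conj (M (g • x) x))]
  refine Finset.sum_congr rfl fun x _ => ?_
  rw [MulAction.toPerm_apply, smul_inv_smul]

omit hm h1 in
theorem ev_conjTranspose {M : Matrix Ω Ω ℂ} (hM : Inv G M) (ψ : IrrCharacter G) :
    ev Mᴴ ψ = conj (ev M ψ) := by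
  simp only [ev, classInner, map_mul, map_sum, map_inv₀, Complex.conj_natCast, Complex.conj_conj]
  congr 1
  rw [← Equiv.sum_comp (Equiv.inv G)]
  refine Finset.sum_congr rfl fun g _ => ?_
  rw [Equiv.inv_apply, tr_conjTranspose hM, inv_inv,
    Char.value_inv_eq_conj (Char.isCharacter_of_isIrr ψ.2), Complex.conj_conj]

/-- An invariant matrix is determined by its scalars. -/
theorem eq_zero {M : Matrix Ω Ω ℂ} (hM : Inv G M) (h : ∀ ψ : IrrCharacter G, m ψ ≠ 0 → ev M ψ = 0) :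
    M = 0 := by
  have h0 : tr (Mᴴ * M) (1 : G) = 0 := by
    rw [tr_mul hm h1 hM.conjTranspose hM]
    refine Finset.sum_eq_zero fun ψ _ => ?_
    rcases eq_or_ne (m ψ) 0 with e | e
    · rw [ev_outside hm h1 hM e, mul_zero, zero_mul]
    · rw [h ψ e, mul_zero, zero_mul]
  have h1' : ∑ x, ∑ y, (Complex.normSq (M y x) : ℝ) = 0 := by
    have : ((∑ x, ∑ y, Complex.normSq (M y x) : ℝ) : ℂ) = 0 := by
      push_cast
      rw [← h0, tr]
      refine Finset.sum_congr rfl fun x _ => ?_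
      rw [Matrix.mul_apply, one_smul]
      refine Finset.sum_congr rfl fun y _ => ?_
      rw [Complex.normSq_eq_conj_mul_self, Matrix.conjTranspose_apply, RCLike.star_def]
    exact_mod_cast this
  ext x y
  have h2 := (Finset.sum_eq_zero_iff_of_nonneg fun a _ =>
    Finset.sum_nonneg fun b _ => Complex.normSq_nonneg _).mp h1' y (Finset.mem_univ _)
  exact Complex.normSq_eq_zero.mp
    ((Finset.sum_eq_zero_iff_of_nonneg fun b _ => Complex.normSq_nonneg _).mp h2 x (Finset.mem_univ _))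

end Constituents

/-- The matrix of the orbital through `(a, b)`. -/
noncomputable def orbMatrix (G : Type*) [Group G] [MulAction G Ω] (a b : Ω) : Matrix Ω Ω ℂ :=
  fun x y => if ∃ g : G, g • a = x ∧ g • b = y then 1 else 0

omit [Fintype G] [Fintype Ω] in
theorem inv_orbMatrix (a b : Ω) : Inv G (orbMatrix G a b) := fun g x y => by
  simp only [orbMatrix]
  refine if_congr ⟨?_, ?_⟩ rfl rfl
  · rintro ⟨h, h1, h2⟩
    exact ⟨g⁻¹ * h, by rw [mul_smul, h1, inv_smul_smul], by rw [mul_smul, h2, inv_smul_smul]⟩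
  · rintro ⟨h, h1, h2⟩
    exact ⟨g * h, by rw [mul_smul, h1], by rw [mul_smul, h2]⟩

omit [Fintype G] in
theorem orbMatrix_row (a b : Ω) (y : Ω) :
    orbMatrix G a b a y = if y ∈ orbit (stabilizer G a) b then 1 else 0 := by
  simp only [orbMatrix]
  refine if_congr ⟨?_, ?_⟩ rfl rfl
  · rintro ⟨h, h1, h2⟩
    exact ⟨⟨h, h1⟩, h2⟩
  · rintro ⟨⟨h, h1⟩, h2⟩
    exact ⟨h, h1, h2⟩

omit [Fintype G] in
theorem row_sum [IsPretransitive G Ω] {M : Matrix Ω Ω ℂ} (hM : Inv G M) (a x : Ω) :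
    ∑ y, M x y = ∑ y, M a y := by
  obtain ⟨g, rfl⟩ := exists_smul_eq G a x
  rw [← Equiv.sum_comp (MulAction.toPerm g)]
  exact Finset.sum_congr rfl fun y _ => by rw [MulAction.toPerm_apply, hM g a y]

/-- The scalar on the trivial character is the row sum. -/
theorem ev_triv [IsPretransitive G Ω] {M : Matrix Ω Ω ℂ} (hM : Inv G M) (a : Ω) :
    ev M (Blocks.trivIrr G) = ∑ y, M a y := by
  haveI : Nonempty Ω := ⟨a⟩
  have hsum : ∀ f : Ω → ℂ, ∀ x : Ω,
      (Fintype.card Ω : ℂ) * ∑ g : G, f (g • x) = (Nat.card G : ℂ) * ∑ y, f y := by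
    intro f x
    have hconst : ∀ z : Ω, ∑ g : G, f (g • z) = ∑ g : G, f (g • x) := fun z => by
      obtain ⟨h, rfl⟩ := exists_smul_eq G x z
      refine Fintype.sum_equiv (Equiv.mulRight h) _ _ fun g => ?_
      rw [Equiv.coe_mulRight, mul_smul]
    calc (Fintype.card Ω : ℂ) * ∑ g : G, f (g • x) = ∑ z : Ω, ∑ g : G, f (g • z) := by
          rw [Finset.sum_congr rfl fun z _ => hconst z, Finset.sum_const, Finset.card_univ, nsmul_eq_mul]
      _ = ∑ g : G, ∑ y, f y := by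
          rw [Finset.sum_comm]
          exact Finset.sum_congr rfl fun g _ => Equiv.sum_comp (MulAction.toPerm g) f
      _ = _ := by rw [Finset.sum_const, Finset.card_univ, nsmul_eq_mul, Nat.card_eq_fintype_card]
  rw [ev, classInner, inv_mul_eq_iff_eq_mul₀ (Nat.cast_ne_zero.mpr Nat.card_pos.ne')]
  have h1 : ∀ g : G, ((Blocks.trivIrr G : IrrCharacter G) : G → ℂ) g = 1 := fun _ => rfl
  simp only [h1, map_one, mul_one, tr]
  refine mul_left_cancel₀ (show (Fintype.card Ω : ℂ) ≠ 0 from Nat.cast_ne_zero.mpr Fintype.card_ne_zero) ?_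
  rw [Finset.sum_comm, Finset.mul_sum, Finset.sum_congr rfl (g := fun _ => (Nat.card G : ℂ) * ∑ y, M a y)
    fun x _ => by rw [hsum (M x) x, row_sum hM a x], Finset.sum_const, Finset.card_univ, nsmul_eq_mul]

end CfsgLib.TraceAlgebra
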