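import Cfsg.Agent.Lib.BrauerTuan.Data
import Cfsg.Agent.Lib.Char.AltSquare
import Cfsg.Agent.S0157
import Cfsg.Agent.S0675
import Cfsg.Agent.S0999
import Cfsg.Agent.S1013

/-!
# Prime degree with a Sylow normalizer of order `2 p`
-/

set_option autoImplicit false
set_option linter.unusedSectionVars false
set_option linter.style.haveILetI false

namespace CfsgLib.PrimeDihedral

open Cfsg CfsgLib MulAction
open scoped ComplexConjugate CfsgLib.Char

variable {α : Type*} [Fintype α] [DecidableEq α] {p : ℕ} [Fact p.Prime]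

theorem isCycle_of_orderOf (hα : Fintype.card α = p) {v : Equiv.Perm α} (hv : orderOf v = p) :
    v.IsCycle ∧ ∀ x, v x ≠ x := by
  have hp : p.Prime := Fact.out
  have hc : v.IsCycle := Equiv.Perm.isCycle_of_prime_order' (by rwa [hv])
    (by rw [hv, hα]; have := hp.pos; omega)
  refine ⟨hc, fun x => ?_⟩
  rw [← Equiv.Perm.mem_support, Finset.eq_univ_of_card v.support (by rw [← hc.orderOf, hv, hα])]
  exact Finset.mem_univ x

theorem mem_zpowers_of_commute (hα : Fintype.card α = p) {v g : Equiv.Perm α} (hv : orderOf v = p)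
    (hc : Commute g v) : g ∈ Subgroup.zpowers v := by
  obtain ⟨hcyc, hfree⟩ := isCycle_of_orderOf hα hv
  obtain ⟨a⟩ : Nonempty α := Fintype.card_pos_iff.mp (by rw [hα]; exact (Fact.out : p.Prime).pos)
  obtain ⟨k, hk⟩ := hcyc.sameCycle (hfree a) (hfree (g a))
  refine ⟨k, ?_⟩
  refine Equiv.ext fun x => ?_
  obtain ⟨j, hj⟩ := hcyc.sameCycle (hfree a) (hfree x)
  show (v ^ k) x = g x
  rw [← hj, ← Equiv.Perm.mul_apply, (Commute.zpow_zpow_self v k j).eq, Equiv.Perm.mul_apply, hk,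
    ← Equiv.Perm.mul_apply, ← (hc.zpow_right j).eq, Equiv.Perm.mul_apply]

variable (hα : Fintype.card α = p) (hp5 : 5 ≤ p) (G : Subgroup (Equiv.Perm α)) (P : Sylow p G)
  (hP : Nat.card (P : Subgroup G) = p)
  (hN : Nat.card (Subgroup.normalizer ((P : Subgroup G) : Set G)) = 2 * p)
  [IsSimpleGroup G] (hG : ¬ IsCyclic G) (h2 : IsMultiplyPretransitive G α 2)

theorem orderOf_singular (hα : Fintype.card α = p) {g : G} (hg : p ∣ orderOf g) : orderOf g = p := by
  have hp : p.Prime := Fact.out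
  obtain ⟨v, hv⟩ : ∃ v : G, v = g ^ (orderOf g / p) := ⟨_, rfl⟩
  have hvo : orderOf v = p := by
    rw [hv, orderOf_pow_orderOf_div (orderOf_pos g).ne' hg]
  have hmem := mem_zpowers_of_commute hα (v := (v : Equiv.Perm α)) (g := (g : Equiv.Perm α))
    (by rw [Subgroup.orderOf_coe, hvo])
    (congrArg Subtype.val (show g * v = v * g by rw [hv]; exact (Commute.self_pow g _).eq))
  have h : orderOf g ∣ p := by
    rw [← Subgroup.orderOf_coe g]
    exact (Subgroup.orderOf_dvd_natCard _ hmem).trans (by rw [Nat.card_zpowers, Subgroup.orderOf_coe, hvo])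
  exact ((Nat.dvd_prime hp).mp h).resolve_left fun e => by
    rw [e] at hg
    exact hp.not_dvd_one hg

theorem fixed_singular (hα : Fintype.card α = p) {g : G} (hg : orderOf g = p) :
    Nat.card (fixedBy α g) = 0 := by
  haveI : IsEmpty (fixedBy α g) := ⟨fun x => (isCycle_of_orderOf hα
    (by rw [Subgroup.orderOf_coe, hg])).2 x.1 x.2⟩
  exact Nat.card_of_isEmpty

set_option maxHeartbeats 1200000 in
include hα hp5 hP hN hG h2 in
theorem eq_one_of_three {g : G} {a b c : α} (hab : a ≠ b) (hac : a ≠ c) (hbc : b ≠ c)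
    (ha : g • a = a) (hb : g • b = b) (hc : g • c = c) : g = 1 := by
  classical
  letI : Fintype G := Fintype.ofFinite G
  haveI := h2
  haveI : IsPretransitive G α := isPretransitive_of_is_two_pretransitive
  have hp : p.Prime := Fact.out
  have hcardα : Nat.card α = p := by rw [Nat.card_eq_fintype_card, hα]
  obtain ⟨z, hz⟩ := exists_prime_orderOf_dvd_card' (G := (P : Subgroup G)) p (dvd_of_eq hP.symm)
  set v : G := (z : G) with hvdef
  have hvo : orderOf v = p := by rw [hvdef, Subgroup.orderOf_coe, hz]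
  have hv1 : v ≠ 1 := fun e => hp.one_lt.ne (by rw [← hvo, e, orderOf_one])
  have hCP : Subgroup.centralizer ((P : Subgroup G) : Set G) = (P : Subgroup G) := by
    refine le_antisymm (fun x hx => ?_) fun x hx => ?_
    · obtain ⟨k, hk⟩ := mem_zpowers_of_commute hα (v := (v : Equiv.Perm α)) (g := (x : Equiv.Perm α))
        (by rw [Subgroup.orderOf_coe, hvo])
        (congrArg Subtype.val (Subgroup.mem_centralizer_iff.mp hx v z.2).symm)
      rw [show x = v ^ k from Subtype.ext (by rw [Subgroup.coe_zpow]; exact hk.symm)]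
      exact Subgroup.zpow_mem _ z.2 k
    · haveI : IsCyclic (P : Subgroup G) := isCyclic_of_prime_card hP
      exact Subgroup.mem_centralizer_iff.mpr fun y hy => congrArg Subtype.val
        ((IsCyclic.commGroup (α := (P : Subgroup G))).mul_comm ⟨y, hy⟩ ⟨x, hx⟩)
  obtain ⟨D⟩ := BrauerTuan.nonempty_data hG P hP
  have he : D.e = 2 := by
    have h := D.card_G
    rw [hCP, hP] at h
    have h' := (Subgroup.normalizer ((P : Subgroup G) : Set G)).card_mul_index
    rw [hN, show (Subgroup.normalizer ((P : Subgroup G) : Set G)).index = 1 + D.n * p by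
      rw [← D.card_sylow, Sylow.card_eq_index_normalizer P]; rfl, h] at h'
    refine Nat.eq_of_mul_eq_mul_right (show 0 < (1 + D.n * p) * p from Nat.mul_pos (by omega) hp.pos) ?_
    rw [← mul_assoc, ← h']; ring
  have ht : 2 * D.t + 1 = p := he ▸ D.het
  -- the deleted permutation character
  have hψirr : IsIrrCharacter G (fun x : G => (Nat.card (fixedBy α x) : ℂ) - 1) :=
    (Cfsg.Agent.S0157.result α (by rw [hcardα]; omega)).mpr h2
  set ψ : IrrCharacter G := ⟨_, hψirr⟩ with hψdef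
  set T := Blocks.trivIrr G with hTdef
  have hT : ∀ x : G, (T : G → ℂ) x = 1 := fun x => rfl
  have hψv : ∀ x : G, orderOf x = p → (ψ : G → ℂ) x = -1 := fun x hx => by
    show (Nat.card (fixedBy α x) : ℂ) - 1 = -1
    rw [fixed_singular G hα hx, Nat.cast_zero, zero_sub]
  have hfix1 : Nat.card (fixedBy α (1 : G)) = p := by
    rw [fixedBy_one_eq_univ, Nat.card_congr (Equiv.Set.univ α), hcardα]
  have hψ1 : (ψ : G → ℂ) 1 = (p : ℂ) - 1 := by
    show (Nat.card (fixedBy α (1 : G)) : ℂ) - 1 = _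
    rw [hfix1]
  have hψdeg : (charDegree (ψ : G → ℂ) : ℤ) = (p : ℤ) - 1 := by
    have := (Blocks.irr_degree_eq ψ).1
    rw [hψ1] at this
    exact_mod_cast this.symm
  have hψT : ψ ≠ T := fun e => by
    have := hψ1
    rw [e, hT] at this
    have : (1 : ℤ) = (p : ℤ) - 1 := by exact_mod_cast this
    omega
  have hTdeg : charDegree (T : G → ℂ) = 1 := by
    have := (Blocks.irr_degree_eq T).1
    rw [hT] at this
    exact_mod_cast this.symm
  have hnotY : ∀ χ : IrrCharacter G, ∀ s : ℤ, (s = 1 ∨ s = -1) →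
      (charDegree (χ : G → ℂ) : ℤ) ≡ s [ZMOD p] → χ ∉ D.Y := by
    intro χ s hs hχ hY
    have h := hχ.symm.trans (D.degY χ hY)
    rw [he] at h
    have h' := Int.modEq_iff_dvd.mp h
    rcases hs with rfl | rfl <;> rcases D.hε with e | e <;> rw [e] at h' <;> norm_num at h'
    all_goals first
      | (have := Int.le_of_dvd (by norm_num) h'; omega)
      | (have := Int.le_of_dvd (by norm_num) (Int.dvd_neg.mpr h'); norm_num at this; omega)
  have hTX : T ∈ D.X := (Finset.mem_union.mp D.triv).resolve_right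
    (hnotY T 1 (Or.inl rfl) (by rw [hTdeg]; rfl))
  have hψX : ψ ∈ D.X := by
    by_contra hX
    have h0 := D.out hCP ψ hX (hnotY ψ (-1) (Or.inr rfl) (by
      rw [hψdeg, Int.modEq_iff_dvd]; exact ⟨-1, by ring⟩)) v z.2 hv1
    rw [hψv v hvo] at h0
    exact one_ne_zero (neg_eq_zero.mp h0)
  have hXeq : D.X = {T, ψ} := (Finset.eq_of_subset_of_card_le
    (by intro x hx; rcases Finset.mem_insert.mp hx with h | h
        · exact h ▸ hTX
        · exact (Finset.mem_singleton.mp h) ▸ hψX)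
    (by rw [D.card_X, he, Finset.card_pair hψT.symm])).symm
  have hδ : ∀ χ ∈ D.X, (χ : G → ℂ) v = D.δ χ := fun χ hχ => by
    have := D.valX χ hχ v z.2 hv1 1 (one_mem _) (by rw [orderOf_one]; exact hp.not_dvd_one)
    rwa [mul_one] at this
  have hδT : (D.δ T : ℂ) = 1 := by rw [← hδ T hTX, hT]
  have hδψ : (D.δ ψ : ℂ) = -1 := by rw [← hδ ψ hψX, hψv v hvo]
  have hrel : ∀ χ ∈ D.Y, ∀ x : G, ¬ p ∣ orderOf x → (D.ε : ℂ) * (χ : G → ℂ) x = 1 - (ψ : G → ℂ) x := by
    intro χ hχ x hx
    rw [D.rel χ hχ x hx, hXeq, Finset.sum_pair hψT.symm, hδT, hδψ, hT]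
    ring
  obtain ⟨χ₀, hχ₀⟩ : D.Y.Nonempty := Finset.card_pos.mp (by rw [D.card_Y]; exact D.one_le_t)
  have h1reg : ¬ p ∣ orderOf (1 : G) := by rw [orderOf_one]; exact hp.not_dvd_one
  have hdd : D.ε = -1 ∧ (charDegree (χ₀ : G → ℂ) : ℤ) = (p : ℤ) - 2 := by
    have h := hrel χ₀ hχ₀ 1 h1reg
    rw [(Blocks.irr_degree_eq χ₀).1, (Blocks.irr_degree_eq ψ).1] at h
    have h' : D.ε * (charDegree (χ₀ : G → ℂ) : ℤ) = 1 - (charDegree (ψ : G → ℂ) : ℤ) := by
      exact_mod_cast h
    rw [hψdeg] at h'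
    rcases D.hε with e | e
    · rw [e] at h'; omega
    · exact ⟨e, by rw [e] at h'; omega⟩
  have hYreg : ∀ χ ∈ D.Y, ∀ x : G, ¬ p ∣ orderOf x → (χ : G → ℂ) x = (ψ : G → ℂ) x - 1 := by
    intro χ hχ x hx
    have h := hrel χ hχ x hx
    rw [hdd.1] at h
    push_cast at h
    linear_combination -h
  -- the alternating square
  set A : G → ℂ := fun x => ((ψ : G → ℂ) x * (ψ : G → ℂ) x - (ψ : G → ℂ) (x * x)) / 2 with hA
  obtain ⟨m, hm⟩ := Char.exists_multiplicities (Char.isCharacter_altSquare (Char.isCharacter_of_isIrr ψ.2))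
  change A = _ at hm
  have hmval : ∀ ξ : IrrCharacter G, classInner A (ξ : G → ℂ) = (m ξ : ℂ) := fun ξ => by
    rw [hm]; exact Char.classInner_sum_smul_irr (fun χ => (m χ : ℂ)) ξ
  have hsing : ∀ x : G, p ∣ orderOf x → A x = 1 := by
    intro x hx
    have ho := orderOf_singular G hα hx
    have ho2 : orderOf (x * x) = p := by
      rw [← sq, (Nat.Coprime.orderOf_pow ?_), ho]
      rw [ho]
      exact (Nat.coprime_primes hp Nat.prime_two).mpr (by omega)
    rw [hA]
    simp only [hψv x ho, hψv _ ho2]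
    norm_num
  have horth : ∀ χ ∈ D.Y, ∑ x : G, (χ : G → ℂ) x = 0 := by
    intro χ hχ
    have hne : χ ≠ T := fun e => Finset.disjoint_left.mp D.disj hTX (e ▸ hχ)
    have h := Char.classInner_irr_ne χ.2 T.2 (fun e => hne (Subtype.ext e))
    rw [classInner, mul_eq_zero] at h
    have h' := h.resolve_left (inv_ne_zero (Nat.cast_ne_zero.mpr Nat.card_pos.ne'))
    simpa [hT] using h'
  have hmY : ∀ χ ∈ D.Y, m χ = m χ₀ := by
    intro χ hχ
    have key : ∀ ξ ∈ D.Y, ∑ x : G, A x * conj ((ξ : G → ℂ) x) =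
        ∑ x : G with ¬ p ∣ orderOf x, (A x * conj ((ψ : G → ℂ) x - 1) - conj ((ψ : G → ℂ) x - 1)) := by
      intro ξ hξ
      have h0 : ∑ x : G, conj ((ξ : G → ℂ) x) = 0 := by rw [← map_sum, horth ξ hξ, map_zero]
      rw [← sub_zero (∑ x : G, A x * conj ((ξ : G → ℂ) x)), ← h0, ← Finset.sum_sub_distrib,
        Finset.sum_filter]
      refine Finset.sum_congr rfl fun x _ => ?_
      by_cases hx : p ∣ orderOf x
      · rw [if_neg (not_not.mpr hx), hsing x hx, one_mul, sub_self]
      · rw [if_pos hx, hYreg ξ hξ x hx]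
    have h : (m χ : ℂ) = m χ₀ := by
      rw [← hmval, ← hmval, classInner, classInner, key χ hχ, key χ₀ hχ₀]
    exact_mod_cast h
  -- the trivial multiplicity
  have hswap : ∀ x y : α, Nat.card {k : G // k • x = x ∧ k • y = y} =
      Nat.card {k : G // k • x = y ∧ k • y = x} := by
    intro x y
    obtain ⟨s, hs1, hs2⟩ : ∃ s : G, s • x = y ∧ s • y = x := by
      by_cases hxy : x = y
      · exact ⟨1, by simp [hxy], by simp [hxy]⟩
      · exact (is_two_pretransitive_iff.mp h2) hxy (Ne.symm hxy)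
    exact Nat.card_congr
      { toFun := fun k => ⟨s * k.1, by rw [mul_smul, k.2.1, hs1], by rw [mul_smul, k.2.2, hs2]⟩
        invFun := fun k => ⟨s⁻¹ * k.1, by rw [mul_smul, k.2.1, inv_smul_eq_iff, hs1],
          by rw [mul_smul, k.2.2, inv_smul_eq_iff, hs2]⟩
        left_inv := fun k => Subtype.ext (inv_mul_cancel_left _ _)
        right_inv := fun k => Subtype.ext (mul_inv_cancel_left _ _) }
  have hsumsq : ∑ x : G, ((Nat.card (fixedBy α x) : ℂ) * Nat.card (fixedBy α x)) =
      ∑ x : G, (Nat.card (fixedBy α (x * x)) : ℂ) := by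
    have h1 : ∀ x : G, Nat.card (fixedBy α x) * Nat.card (fixedBy α x) =
        Nat.card {w : α × α // x • w.1 = w.1 ∧ x • w.2 = w.2} := fun x => by
      rw [← Nat.card_prod]
      exact Nat.card_congr
        { toFun := fun w => ⟨(w.1.1, w.2.1), w.1.2, w.2.2⟩
          invFun := fun w => (⟨w.1.1, w.2.1⟩, ⟨w.1.2, w.2.2⟩)
          left_inv := fun _ => rfl
          right_inv := fun _ => rfl }
    have h2' : ∀ x : G, Nat.card (fixedBy α (x * x)) =
        Nat.card {w : α × α // x • w.1 = w.2 ∧ x • w.2 = w.1} := fun x =>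
      Nat.card_congr
        { toFun := fun w => ⟨(w.1, x • w.1), rfl, by
            show x • x • w.1 = w.1
            rw [← mul_smul]; exact w.2⟩
          invFun := fun w => ⟨w.1.1, by
            show (x * x) • w.1.1 = w.1.1
            rw [mul_smul, w.2.1, w.2.2]⟩
          left_inv := fun _ => rfl
          right_inv := fun w => Subtype.ext (Prod.ext rfl w.2.1) }
    have hnat : ∑ x : G, Nat.card {w : α × α // x • w.1 = w.1 ∧ x • w.2 = w.2} =
        ∑ x : G, Nat.card {w : α × α // x • w.1 = w.2 ∧ x • w.2 = w.1} := by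
      have hflip : ∀ R : G → α × α → Prop, (∑ x : G, Nat.card {w : α × α // R x w}) =
          ∑ w : α × α, Nat.card {x : G // R x w} := fun R => by
        rw [← Nat.card_sigma, ← Nat.card_sigma]
        exact Nat.card_congr
          { toFun := fun q => ⟨q.2.1, q.1, q.2.2⟩
            invFun := fun q => ⟨q.2.1, q.1, q.2.2⟩
            left_inv := fun _ => rfl
            right_inv := fun _ => rfl }
      rw [hflip, hflip]
      exact Finset.sum_congr rfl fun w _ => hswap w.1 w.2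
    simp only [← Nat.cast_mul, h1, h2', ← Nat.cast_sum, hnat]
  have hmT : m T = 0 := by
    have hψsum : ∑ x : G, (ψ : G → ℂ) x = 0 := by
      have h := Char.classInner_irr_ne ψ.2 T.2 (fun e => hψT (Subtype.ext e))
      rw [classInner, mul_eq_zero] at h
      simpa [hT] using h.resolve_left (inv_ne_zero (Nat.cast_ne_zero.mpr Nat.card_pos.ne'))
    have hsum : ∑ x : G, A x = 0 := by
      have e : ∀ x : G, A x = ((Nat.card (fixedBy α x) : ℂ) * Nat.card (fixedBy α x) -
          Nat.card (fixedBy α (x * x))) / 2 - (ψ : G → ℂ) x := fun x => by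
        show (((Nat.card (fixedBy α x) : ℂ) - 1) * ((Nat.card (fixedBy α x) : ℂ) - 1) -
          ((Nat.card (fixedBy α (x * x)) : ℂ) - 1)) / 2 = _ - ((Nat.card (fixedBy α x) : ℂ) - 1)
        ring
      simp only [e, Finset.sum_sub_distrib, hψsum, ← Finset.sum_div, hsumsq, sub_self, zero_div]
    have h := hmval T
    rw [classInner] at h
    simp only [hT, map_one, mul_one, hsum, mul_zero] at h
    exact_mod_cast h.symm
  -- the values at `v` and at `1`
  have hout : ∀ χ : IrrCharacter G, χ ∉ D.X ∪ D.Y → (χ : G → ℂ) v = 0 := fun χ hχ => by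
    rw [Finset.mem_union, not_or] at hχ
    exact D.out hCP χ hχ.1 hχ.2 v z.2 hv1
  have happly : ∀ x : G, A x = ∑ χ : IrrCharacter G, (m χ : ℂ) * (χ : G → ℂ) x := fun x => by
    rw [hm, Finset.sum_apply]; rfl
  have hb : (m χ₀ : ℤ) = 1 + m ψ := by
    have h := happly v
    rw [hsing v (by rw [hvo]), ← Finset.sum_subset (Finset.subset_univ (D.X ∪ D.Y))
        (fun χ _ hχ => by rw [hout χ hχ, mul_zero]), Finset.sum_union D.disj, hXeq,
      Finset.sum_pair hψT.symm, hmT, hψv v hvo,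
      Finset.sum_congr (s₁ := D.Y) rfl (g := fun χ => (m χ₀ : ℂ) * (χ : G → ℂ) v) (fun χ hχ => by
        rw [hmY χ hχ]), ← Finset.mul_sum, D.sumY v z.2 hv1, hdd.1] at h
    push_cast at h
    have h' : (m χ₀ : ℂ) = 1 + m ψ := by linear_combination -h
    exact_mod_cast h'
  have hdeg : ∀ χ ∈ D.Y, (χ : G → ℂ) 1 = (p : ℂ) - 2 := fun χ hχ => by
    rw [hYreg χ hχ 1 h1reg, hψ1]; ring
  have hA1 : A 1 = ((p : ℂ) - 1) * ((p : ℂ) - 2) / 2 := by
    show ((ψ : G → ℂ) 1 * (ψ : G → ℂ) 1 - (ψ : G → ℂ) (1 * 1)) / 2 = _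
    rw [mul_one, hψ1]; ring
  obtain ⟨R, hR⟩ : ∃ R, R = ∑ χ ∈ Finset.univ \ (D.X ∪ D.Y), m χ * charDegree (χ : G → ℂ) := ⟨_, rfl⟩
  have hsplit : ((p : ℤ) - 1) * ((p : ℤ) - 2) =
      2 * ((m ψ : ℤ) * ((p : ℤ) - 1) + (D.t : ℤ) * (m χ₀ : ℤ) * ((p : ℤ) - 2) + R) := by
    have h := happly 1
    rw [hA1, ← Finset.sum_sdiff (Finset.subset_univ (D.X ∪ D.Y)), Finset.sum_union D.disj, hXeq,
      Finset.sum_pair hψT.symm, hmT, hψ1,
      Finset.sum_congr (s₁ := D.Y) rfl (g := fun _ => (m χ₀ : ℂ) * ((p : ℂ) - 2)) (fun χ hχ => by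
        rw [hmY χ hχ, hdeg χ hχ]), Finset.sum_const, D.card_Y, nsmul_eq_mul, ← hXeq,
      Finset.sum_congr (s₁ := Finset.univ \ (D.X ∪ D.Y)) rfl
        (g := fun χ => ((m χ * charDegree (χ : G → ℂ) : ℕ) : ℂ))
        (fun χ _ => by rw [(Blocks.irr_degree_eq χ).1, Nat.cast_mul]), ← Nat.cast_sum, ← hR] at h
    apply Int.cast_injective (α := ℂ)
    push_cast
    push_cast at h
    linear_combination 2 * h
  have htp : (2 : ℤ) * D.t + 1 = p := by exact_mod_cast ht
  rw [hb] at hsplit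
  have hp2 : (0 : ℤ) ≤ (p : ℤ) - 2 := by omega
  have hterm : 0 ≤ (D.t : ℤ) * (m ψ : ℤ) * ((p : ℤ) - 2) := by positivity
  have hzero : (m ψ : ℤ) * ((p : ℤ) - 1) = 0 ∧ (R : ℤ) = 0 := by
    have h1 : 0 ≤ (m ψ : ℤ) * ((p : ℤ) - 1) := mul_nonneg (by positivity) (by omega)
    have h2 : (0 : ℤ) ≤ (R : ℤ) := by positivity
    have h3 : ((p : ℤ) - 1) * ((p : ℤ) - 2) = 2 * (D.t : ℤ) * ((p : ℤ) - 2) := by rw [← htp]; ring
    constructor <;> nlinarith
  have hmψ : m ψ = 0 := by
    rcases mul_eq_zero.mp hzero.1 with h | h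
    · exact_mod_cast h
    · omega
  have hmχ₀ : m χ₀ = 1 := by
    have : (m χ₀ : ℤ) = 1 := by rw [hb, hmψ]; norm_num
    exact_mod_cast this
  have hrest : ∀ χ ∈ Finset.univ \ (D.X ∪ D.Y), m χ = 0 := fun χ hχ => by
    have hR0 : R = 0 := by exact_mod_cast hzero.2
    rw [hR] at hR0
    exact (mul_eq_zero.mp (Finset.sum_eq_zero_iff.mp hR0 χ hχ)).resolve_right (Blocks.irr_degree_eq χ).2.ne'
  -- the conclusion
  by_contra hg1
  have hreg : ¬ p ∣ orderOf g := fun h => by
    exact (isCycle_of_orderOf hα (by rw [Subgroup.orderOf_coe, orderOf_singular G hα h])).2 a ha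
  have hval : A g = (D.t : ℂ) * ((ψ : G → ℂ) g - 1) := by
    rw [happly g, ← Finset.sum_sdiff (Finset.subset_univ (D.X ∪ D.Y)), Finset.sum_union D.disj, hXeq,
      Finset.sum_pair hψT.symm, hmT, hmψ,
      Finset.sum_congr (s₁ := D.Y) rfl (g := fun _ => (ψ : G → ℂ) g - 1) (fun χ hχ => by
        rw [hmY χ hχ, hmχ₀, hYreg χ hχ g hreg, Nat.cast_one, one_mul]),
      Finset.sum_const, D.card_Y, nsmul_eq_mul, ← hXeq,
      Finset.sum_eq_zero (fun χ hχ => by rw [hrest χ hχ, Nat.cast_zero, zero_mul])]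
    simp
  set f := Nat.card (fixedBy α g) with hf
  set f2 := Nat.card (fixedBy α (g * g)) with hf2
  have heq : ((f : ℤ) - 1) * ((f : ℤ) - 1) - ((f2 : ℤ) - 1) = ((p : ℤ) - 1) * ((f : ℤ) - 2) := by
    apply Int.cast_injective (α := ℂ)
    have hpc : (p : ℂ) = 2 * D.t + 1 := by exact_mod_cast ht.symm
    have h' : ((((f : ℂ) - 1) * ((f : ℂ) - 1) - ((f2 : ℂ) - 1)) / 2) = (D.t : ℂ) * (((f : ℂ) - 1) - 1) := hval
    push_cast
    rw [hpc]
    linear_combination 2 * h'
  have hle : f ≤ f2 := Nat.card_mono (Set.toFinite _) fun x (hx : g • x = x) => by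
    show (g * g) • x = x
    rw [mul_smul, hx, hx]
  have hf2p : f2 ≤ p := hcardα ▸ Finite.card_subtype_le _
  have h3 : 3 ≤ f := by
    have hsub : ({a, b, c} : Set α) ⊆ fixedBy α g := by
      rintro x (rfl | rfl | rfl) <;> assumption
    have hc3 : Nat.card ({a, b, c} : Set α) = 3 := by
      rw [Nat.card_coe_set_eq, Set.ncard_eq_three]
      exact ⟨a, b, c, hab, hac, hbc, rfl⟩
    exact hc3 ▸ Nat.card_mono (Set.toFinite _) hsub
  have hfp : f < p := by
    rcases lt_or_eq_of_le (hcardα ▸ Finite.card_subtype_le _ : f ≤ p) with h | h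
    · exact h
    · exfalso
      apply hg1
      have huniv : fixedBy α g = Set.univ := Set.eq_univ_of_forall fun x => by
        by_contra hx
        have := Set.ncard_lt_ncard (Set.ssubset_univ_iff.mpr (show fixedBy α g ≠ Set.univ from fun e => hx (Set.eq_univ_iff_forall.mp e x)))
          (Set.toFinite (Set.univ : Set α))
        rw [Set.ncard_univ, hcardα, ← Nat.card_coe_set_eq, ← hf, h] at this
        exact lt_irrefl _ this
      refine Subtype.ext (Equiv.ext fun x => ?_)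
      exact Set.eq_univ_iff_forall.mp huniv x
  have hne : f + 1 ≠ p := fun h => by
    have : (p : ℤ) = (f : ℤ) + 1 := by exact_mod_cast h.symm
    rw [this] at heq
    have : (f2 : ℤ) = 2 := by linarith
    omega
  have hlt : (0 : ℤ) ≤ ((f : ℤ) - 2) * ((p : ℤ) - 2 - f) := mul_nonneg (by omega) (by omega)
  nlinarith

include hα hp5 hP hN hG h2 in
theorem card_lt_cube : Nat.card G < p ^ 3 := by
  classical
  letI : Fintype G := Fintype.ofFinite G
  obtain ⟨e⟩ : Nonempty (Fin p ≃ α) := ⟨(Fintype.equivFinOfCardEq hα).symm⟩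
  set a := e ⟨0, by omega⟩
  set b := e ⟨1, by omega⟩
  set c := e ⟨2, by omega⟩
  have hab : a ≠ b := e.injective.ne (by simp [Fin.ext_iff])
  have hac : a ≠ c := e.injective.ne (by simp [Fin.ext_iff])
  have hbc : b ≠ c := e.injective.ne (by simp [Fin.ext_iff])
  let F : G → α × α × α := fun g => (g • a, g • b, g • c)
  have hinj : Function.Injective F := by
    intro g k hgk
    simp only [F, Prod.mk.injEq] at hgk
    obtain ⟨e1, e2, e3⟩ := hgk
    refine (inv_mul_eq_one.mp (eq_one_of_three hα hp5 G P hP hN hG h2 hab hac hbc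
      (g := g⁻¹ * k) ?_ ?_ ?_)) <;> rw [mul_smul, inv_smul_eq_iff] <;> simp [e1, e2, e3]
  have hns : ¬ Function.Surjective F := fun hs => by
    obtain ⟨g, hg⟩ := hs (a, a, a)
    simp only [F, Prod.mk.injEq] at hg
    exact hab (smul_left_cancel g (hg.1.trans hg.2.1.symm))
  have h := Fintype.card_lt_of_injective_not_surjective F hinj hns
  rw [Fintype.card_prod, Fintype.card_prod, hα, ← Nat.card_eq_fintype_card] at h
  calc Nat.card G < p * (p * p) := h
    _ = p ^ 3 := by ring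

end CfsgLib.PrimeDihedral
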