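import Mathlib

set_option autoImplicit false

/-!
Basic facts on fixed points of elements of a finite transitive group:
Burnside's lemma in `Nat.card` form and orbits of Sylow subgroups.
-/

namespace CfsgLib.Perm

open MulAction

variable {G Ω : Type*} [Group G] [MulAction G Ω]

/-- Burnside's lemma with `Nat.card`. -/
theorem sum_natCard_fixedBy [Fintype G] [Finite Ω] :
    ∑ g : G, Nat.card (fixedBy Ω g) = Nat.card (orbitRel.Quotient G Ω) * Nat.card G := by
  rw [← Nat.card_sigma, Nat.card_congr (sigmaFixedByEquivOrbitsProdGroup G Ω), Nat.card_prod]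

/-- Burnside's lemma for a transitive action. -/
theorem sum_natCard_fixedBy_of_transitive [Fintype G] [Finite Ω] [Nonempty Ω]
    [IsPretransitive G Ω] : ∑ g : G, Nat.card (fixedBy Ω g) = Nat.card G := by
  have : Subsingleton (orbitRel.Quotient G Ω) :=
    (pretransitive_iff_subsingleton_quotient G Ω).mp inferInstance
  have : Nonempty (orbitRel.Quotient G Ω) := ⟨Quotient.mk'' (Classical.arbitrary Ω)⟩
  rw [sum_natCard_fixedBy, Nat.card_of_subsingleton (Classical.arbitrary _), one_mul]

/-- In a transitive action the `p`-part of the degree divides every orbit of a Sylow `p`-subgroup. -/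
theorem pow_dvd_index_stabilizer_sylow [Finite G] [IsPretransitive G Ω] {p a : ℕ} [Fact p.Prime]
    (P : Sylow p G) (ha : p ^ a ∣ Nat.card Ω) (ω : Ω) :
    p ^ a ∣ (stabilizer (P : Subgroup G) ω).index := by
  have h1 : (stabilizer (P : Subgroup G) ω).index = (stabilizer G ω ⊓ (P : Subgroup G)).relIndex P := by
    rw [Subgroup.inf_relIndex_right]
    rfl
  have h2 := Subgroup.index_dvd_of_le (inf_le_left : stabilizer G ω ⊓ (P : Subgroup G) ≤ _)
  rw [index_stabilizer_of_transitive] at h2
  have h3 : p ^ a ∣ (stabilizer G ω ⊓ (P : Subgroup G)).relIndex P * (P : Subgroup G).index := by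
    rw [Subgroup.relIndex_mul_index inf_le_right]
    exact ha.trans h2
  rw [h1]
  exact (Nat.Coprime.pow_left _ ((Fact.out : p.Prime).coprime_iff_not_dvd.mpr
    P.not_dvd_index)).dvd_of_dvd_mul_right h3

/-- A finite faithful transitive group of prime power degree has a fixed-point-free element of
order `p`. -/
theorem exists_derangement_of_primePow [Finite G] [Finite Ω] [FaithfulSMul G Ω]
    [IsPretransitive G Ω] {p k : ℕ} [hp : Fact p.Prime] (hk : 1 ≤ k)
    (hΩ : Nat.card Ω = p ^ k) :
    ∃ g : G, orderOf g = p ∧ ∀ ω : Ω, g • ω ≠ ω := by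
  obtain ⟨P⟩ := (inferInstance : Nonempty (Sylow p G))
  have horb : ∀ ω : Ω, orbit (P : Subgroup G) ω = Set.univ := by
    intro ω
    have hd := pow_dvd_index_stabilizer_sylow P (a := k) (hΩ ▸ dvd_rfl) ω
    have hi := index_stabilizer (P : Subgroup G) ω
    rw [hi] at hd
    have hpos : 0 < (orbit (P : Subgroup G) ω).ncard :=
      (Set.ncard_pos (Set.toFinite _)).mpr ⟨ω, mem_orbit_self ω⟩
    apply Set.eq_of_subset_of_ncard_le (Set.subset_univ _) _ (Set.toFinite _)
    rw [Set.ncard_univ, hΩ]
    exact Nat.le_of_dvd hpos hd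
  have : Nonempty Ω := by
    by_contra h
    rw [not_nonempty_iff] at h
    have : 0 < p ^ k := pow_pos hp.out.pos k
    simp [Nat.card_of_isEmpty] at hΩ
    omega
  have : Nontrivial (P : Subgroup G) := by
    rw [← Finite.one_lt_card_iff_nontrivial]
    obtain ⟨ω⟩ := ‹Nonempty Ω›
    have h1 : (stabilizer (P : Subgroup G) ω).index = p ^ k := by
      rw [index_stabilizer, horb, Set.ncard_univ, hΩ]
    have h2 := Nat.le_of_dvd Nat.card_pos (stabilizer (P : Subgroup G) ω).index_dvd_card
    have h3 : p ≤ p ^ k := Nat.le_self_pow (by omega) p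
    have := hp.out.two_le
    omega
  have hc : Nontrivial (Subgroup.center (P : Subgroup G)) := P.isPGroup'.center_nontrivial
  have hdvd : p ∣ Nat.card (Subgroup.center (P : Subgroup G)) := by
    rcases (P.isPGroup'.to_subgroup (Subgroup.center (P : Subgroup G))).card_eq_or_dvd with h | h
    · exact absurd h Finite.one_lt_card.ne'
    · exact h
  obtain ⟨z, hz⟩ := exists_prime_orderOf_dvd_card' p hdvd
  refine ⟨((z : (P : Subgroup G)) : G), ?_, ?_⟩
  · rw [Subgroup.orderOf_coe, Subgroup.orderOf_coe, hz]
  · intro ω hω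
    have hz1 : ((z : (P : Subgroup G)) : G) = 1 := by
      apply FaithfulSMul.eq_of_smul_eq_smul (α := Ω)
      intro x
      rw [one_smul]
      obtain ⟨q, rfl⟩ : x ∈ orbit (P : Subgroup G) ω := by rw [horb]; trivial
      have hcomm := Subgroup.mem_center_iff.mp z.2 q
      have hω' : (z : (P : Subgroup G)) • ω = ω := hω
      show (z : (P : Subgroup G)) • (q • ω) = q • ω
      rw [← mul_smul, ← hcomm, mul_smul, hω']
    have : orderOf ((z : (P : Subgroup G)) : G) = p := by
      rw [Subgroup.orderOf_coe, Subgroup.orderOf_coe, hz]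
    rw [hz1, orderOf_one] at this
    exact hp.out.ne_one this.symm

/-- A finite faithful transitive group of degree `m * p` with `m ≤ p` has a fixed-point-free
element of order `p`. -/
theorem exists_derangement_of_small_multiple [Finite G] [Finite Ω] [FaithfulSMul G Ω]
    [IsPretransitive G Ω] {p m : ℕ} [hp : Fact p.Prime] (hm : 1 ≤ m) (hmp : m ≤ p)
    (hΩ : Nat.card Ω = m * p) :
    ∃ g : G, orderOf g = p ∧ ∀ ω : Ω, g • ω ≠ ω := by
  classical
  rcases eq_or_lt_of_le hmp with rfl | hlt
  · exact exists_derangement_of_primePow (k := 2) (by norm_num) (by rw [hΩ, sq])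
  obtain ⟨P⟩ := (inferInstance : Nonempty (Sylow p G))
  have hidx : ∀ ω : Ω, (stabilizer (P : Subgroup G) ω).index = p := by
    intro ω
    have hd := pow_dvd_index_stabilizer_sylow P (a := 1) (by rw [hΩ, pow_one]; exact dvd_mul_left p m) ω
    obtain ⟨n, hn⟩ := P.isPGroup'.index (stabilizer (P : Subgroup G) ω)
    have hle : (stabilizer (P : Subgroup G) ω).index ≤ m * p := by
      rw [index_stabilizer, ← hΩ, ← Set.ncard_univ]
      exact Set.ncard_le_ncard (Set.subset_univ _) (Set.toFinite _)
    rw [hn] at hd hle ⊢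
    rw [pow_one] at hd
    match n, hd, hle with
    | 0, hd, _ => exact absurd (Nat.dvd_one.mp (by simpa using hd)) hp.out.ne_one
    | 1, _, _ => exact pow_one p
    | (n + 2), _, hle =>
      exfalso
      have h2 : p * p ≤ p ^ (n + 2) := by
        rw [← sq]; exact Nat.pow_le_pow_right hp.out.pos (by omega)
      have h3 : m * p < p * p := Nat.mul_lt_mul_of_pos_right hlt hp.out.pos
      omega
  have hnormal : ∀ ω : Ω, (stabilizer (P : Subgroup G) ω).Normal := by
    intro ω
    apply Subgroup.normal_of_index_eq_minFac_card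
    rw [hidx]
    obtain ⟨n, hn⟩ := IsPGroup.iff_card.mp P.isPGroup'
    have h := (stabilizer (P : Subgroup G) ω).index_dvd_card
    rw [hidx, hn] at h
    rw [hn]
    match n, h with
    | 0, h => exact absurd (Nat.dvd_one.mp (by simpa using h)) hp.out.ne_one
    | (n + 1), _ => rw [Nat.pow_minFac (by omega), hp.out.minFac_eq]
  have : Fintype (P : Subgroup G) := Fintype.ofFinite _
  have : Fintype Ω := Fintype.ofFinite _
  have hpow : ∀ g : (P : Subgroup G), g ^ p = 1 := by
    intro g
    apply FaithfulSMul.eq_of_smul_eq_smul (α := Ω)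
    intro x
    rw [one_smul]
    have := hnormal x
    have h := (stabilizer (P : Subgroup G) x).pow_index_mem g
    rw [hidx] at h
    exact h
  by_contra hcon
  push Not at hcon
  have hge : ∀ g : (P : Subgroup G), p ≤ Nat.card (fixedBy Ω g) := by
    intro g
    have hex : ∃ x : Ω, g • x = x := by
      by_cases hg : g = 1
      · obtain ⟨x⟩ : Nonempty Ω := (Nat.card_pos_iff.mp (by rw [hΩ]; exact Nat.mul_pos hm hp.out.pos)).1
        exact ⟨x, by rw [hg, one_smul]⟩
      · have ho : orderOf ((g : G)) = p := by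
          rw [Subgroup.orderOf_coe]
          exact orderOf_eq_prime (hpow g) hg
        exact hcon _ ho
    obtain ⟨x, hx⟩ := hex
    have hsub : orbit (P : Subgroup G) x ⊆ fixedBy Ω g := by
      rintro _ ⟨q, rfl⟩
      have hq : q⁻¹ * g * q⁻¹⁻¹ ∈ stabilizer (P : Subgroup G) x := (hnormal x).conj_mem g hx q⁻¹
      rw [inv_inv, mem_stabilizer_iff, mul_smul, mul_smul, inv_smul_eq_iff] at hq
      exact hq
    rw [Nat.card_coe_set_eq]
    calc p = (orbit (P : Subgroup G) x).ncard := by rw [← index_stabilizer, hidx]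
      _ ≤ _ := Set.ncard_le_ncard hsub (Set.toFinite _)
  have hsum : ∑ g : (P : Subgroup G), Nat.card (fixedBy Ω g)
      = Nat.card (orbitRel.Quotient (P : Subgroup G) Ω) * Nat.card (P : Subgroup G) :=
    sum_natCard_fixedBy
  have horbits : Nat.card (orbitRel.Quotient (P : Subgroup G) Ω) * p = m * p := by
    rw [← hΩ, Nat.card_congr (selfEquivSigmaOrbitsQuotientStabilizer (P : Subgroup G) Ω),
      Nat.card_sigma]
    simp only [← Subgroup.index_eq_card, hidx, Finset.sum_const, Finset.card_univ, smul_eq_mul]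
    rw [Nat.card_eq_fintype_card]
  have horbits' : Nat.card (orbitRel.Quotient (P : Subgroup G) Ω) = m :=
    Nat.eq_of_mul_eq_mul_right hp.out.pos horbits
  have hlow : Fintype.card (P : Subgroup G) * p ≤ ∑ g : (P : Subgroup G), Nat.card (fixedBy Ω g) := by
    have := Finset.card_nsmul_le_sum (Finset.univ : Finset (P : Subgroup G))
      (fun g => Nat.card (fixedBy Ω g)) p (fun g _ => hge g)
    simpa using this
  rw [hsum, horbits', Nat.card_eq_fintype_card] at hlow
  have hPpos : 0 < Fintype.card (P : Subgroup G) := Fintype.card_pos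
  nlinarith

end CfsgLib.Perm
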