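/-
Sharply two-transitive finite permutation groups: the regular normal elementary abelian subgroup.
-/
import Mathlib
import Cfsg.Agent.Lib.Perm.Derangement

set_option autoImplicit false
set_option linter.style.haveILetI false

open MulAction

namespace CfsgLib.SharplyTwo

variable {G α : Type*} [Group G] [MulAction G α] [IsMultiplyPretransitive G α 2]
  (hsharp : ∀ x : Fin 2 ↪ α, stabilizer G x = ⊥)

include hsharp

omit [IsMultiplyPretransitive G α 2] in
theorem eq_one {a b : α} (hab : a ≠ b) {g : G} (ha : g • a = a) (hb : g • b = b) : g = 1 := by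
  let x : Fin 2 ↪ α := ⟨![a, b], fun i j h => by fin_cases i <;> fin_cases j <;> simp_all⟩
  have : g ∈ stabilizer G x := by
    rw [mem_stabilizer_iff]
    ext i
    fin_cases i <;> simp only [Function.Embedding.smul_apply, x, Function.Embedding.coeFn_mk]
    · exact ha
    · exact hb
  rwa [hsharp, Subgroup.mem_bot] at this

theorem natCard [Fintype α] (h2 : 2 ≤ Fintype.card α) :
    Nat.card G = Fintype.card α * (Fintype.card α - 1) := by
  obtain ⟨x⟩ : Nonempty (Fin 2 ↪ α) := Function.Embedding.nonempty_of_card_le (by simpa using h2)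
  have hb : Function.Bijective (fun g : G => g • x) := by
    refine ⟨fun g g' h => ?_, fun y => MulAction.exists_smul_eq G x y⟩
    have : g'⁻¹ * g ∈ stabilizer G x := by
      rw [mem_stabilizer_iff, mul_smul]
      simp only at h
      rw [h, inv_smul_smul]
    rw [hsharp, Subgroup.mem_bot, inv_mul_eq_one] at this
    exact this.symm
  rw [Nat.card_congr (Equiv.ofBijective _ hb), Nat.card_eq_fintype_card, Fintype.card_embedding_eq,
    Fintype.card_fin]
  simp [Nat.descFactorial_succ, mul_comm]

theorem ncard_fpf [Fintype α] [Finite G] (h2 : 2 ≤ Fintype.card α) :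
    {g : G | ∀ a : α, g • a ≠ a}.ncard = Fintype.card α - 1 := by
  classical
  haveI := Fintype.ofFinite G
  haveI : IsPretransitive G α :=
    isPretransitive_of_is_two_pretransitive
  haveI : Nonempty α := Fintype.card_pos_iff.mp (by omega)
  have hsum := CfsgLib.Perm.sum_natCard_fixedBy_of_transitive (G := G) (Ω := α)
  have hf1 : Nat.card (fixedBy α (1 : G)) = Fintype.card α := by simp
  have hle : ∀ g : G, g ≠ 1 → Nat.card (fixedBy α g) = if (∀ a : α, g • a ≠ a) then 0 else 1 := by
    intro g hg
    split_ifs with h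
    · rw [Nat.card_coe_set_eq, Set.ncard_eq_zero]
      ext a; simp [h a]
    · push Not at h
      obtain ⟨a, ha⟩ := h
      rw [Nat.card_coe_set_eq, Set.ncard_eq_one]
      refine ⟨a, Set.eq_singleton_iff_unique_mem.mpr ⟨ha, fun b hb => ?_⟩⟩
      by_contra hne
      exact hg (eq_one hsharp (Ne.symm hne) ha hb)
  rw [← Finset.add_sum_erase _ _ (Finset.mem_univ (1 : G)), hf1,
    Finset.sum_congr rfl fun g hg => hle g (Finset.ne_of_mem_erase hg)] at hsum
  have hD : {g : G | ∀ a : α, g • a ≠ a}.ncard =
      ((Finset.univ.erase (1 : G)).filter fun g => ∀ a : α, g • a ≠ a).card := by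
    rw [← Set.ncard_coe_finset]
    congr 1
    ext g
    simp only [Finset.coe_filter, Finset.mem_erase, Finset.mem_univ, and_true, Set.mem_ofPred_eq]
    refine ⟨fun h => ⟨?_, h⟩, fun h => h.2⟩
    rintro rfl
    exact h (Classical.arbitrary α) (one_smul G _)
  have hadd : ((Finset.univ.erase (1 : G)).filter fun g => ∀ a : α, g • a ≠ a).card +
      ∑ g ∈ Finset.univ.erase (1 : G), (if (∀ a : α, g • a ≠ a) then 0 else 1) =
      Fintype.card G - 1 := by
    rw [Finset.card_filter, ← Finset.sum_add_distrib]
    have : ∀ g ∈ Finset.univ.erase (1 : G), ((if ∀ a : α, g • a ≠ a then 1 else 0) +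
        if ∀ a : α, g • a ≠ a then 0 else 1) = 1 := fun g _ => by split_ifs <;> rfl
    rw [Finset.sum_congr rfl this]
    simp
  rw [Nat.card_eq_fintype_card] at hsum
  omega

/-- A sharply 2-transitive finite group has a regular normal elementary abelian `p`-subgroup
consisting of the identity and the fixed-point-free elements. -/
theorem exists_translations [Fintype α] [Finite G] (h2 : 2 ≤ Fintype.card α) :
    ∃ (N : Subgroup G) (p j : ℕ), p.Prime ∧ 1 ≤ j ∧ Fintype.card α = p ^ j ∧ N.Normal ∧
      Nat.card N = Fintype.card α ∧ (∀ g : G, g ∈ N ↔ g = 1 ∨ ∀ a : α, g • a ≠ a) ∧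
      (∀ x ∈ N, ∀ y ∈ N, x * y = y * x) ∧ (∀ x ∈ N, x ^ p = 1) := by
  classical
  set n := Fintype.card α with hn
  set D : Set G := {g | ∀ a : α, g • a ≠ a} with hDdef
  have hD : D.ncard = n - 1 := ncard_fpf hsharp h2
  have hG : Nat.card G = n * (n - 1) := natCard hsharp h2
  haveI : IsPretransitive G α :=
    isPretransitive_of_is_two_pretransitive
  haveI : Nonempty α := Fintype.card_pos_iff.mp (by omega)
  -- the key property of a fixed-point-free element
  have key : ∀ z ∈ D, ((Subgroup.centralizer ({z} : Set G) : Subgroup G) : Set G) = insert 1 D ∧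
      ∀ d ∈ D, IsConj z d := by
    intro z hz
    set C := Subgroup.centralizer ({z} : Set G) with hC
    have hCD : (C : Set G) ⊆ insert 1 D := by
      intro c hc
      by_cases h1 : c = 1
      · exact .inl h1
      refine .inr fun a ha => h1 ?_
      have hcz : z * c = c * z := Subgroup.mem_centralizer_iff.mp hc z rfl
      refine eq_one hsharp (hz a).symm ha ?_
      rw [← mul_smul, ← hcz, mul_smul, ha]
    have hCle : Nat.card C ≤ n := by
      have h := Set.ncard_le_ncard hCD (Set.toFinite _)
      have h' := Set.ncard_insert_le (1 : G) D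
      rw [← SetLike.coe_sort_coe, Nat.card_coe_set_eq]
      omega
    have hclass : (MulAction.orbit (ConjAct G) z) ⊆ D := by
      rintro _ ⟨g, rfl⟩ a ha
      refine hz ((ConjAct.ofConjAct g)⁻¹ • a) ?_
      simp only [ConjAct.smul_def, mul_smul] at ha
      exact (eq_inv_smul_iff).mpr ha
    have hidx : C.index = (MulAction.orbit (ConjAct G) z).ncard := by
      rw [← MulAction.index_stabilizer]
      rw [ConjAct.stabilizer_eq_centralizer]
      rw [hC]
      rfl
    have hle : C.index ≤ n - 1 := by rw [hidx, ← hD]; exact Set.ncard_le_ncard hclass (Set.toFinite _)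
    have hmul := C.card_mul_index
    rw [hG] at hmul
    have h1 : Nat.card C = n ∧ C.index = n - 1 := by
      have hCpos : 0 < Nat.card C := Nat.card_pos
      rcases Nat.lt_or_ge (Nat.card C) n with hlt | hge
      · exfalso
        have : Nat.card C * C.index ≤ Nat.card C * (n - 1) := Nat.mul_le_mul_left _ hle
        have : Nat.card C * (n - 1) < n * (n - 1) := Nat.mul_lt_mul_of_pos_right hlt (by omega)
        omega
      · have he : Nat.card C = n := le_antisymm hCle hge
        rw [he] at hmul
        exact ⟨he, Nat.eq_of_mul_eq_mul_left (by omega) hmul⟩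
    refine ⟨Set.eq_of_subset_of_ncard_le hCD ?_ (Set.toFinite _), fun d hd => ?_⟩
    · have h' := Set.ncard_insert_le (1 : G) D
      rw [← Nat.card_coe_set_eq (C : Set G), SetLike.coe_sort_coe]
      omega
    · have heq : MulAction.orbit (ConjAct G) z = D :=
        Set.eq_of_subset_of_ncard_le hclass (by rw [← hidx, h1.2, hD]) (Set.toFinite _)
      rw [← heq] at hd
      exact (ConjAct.mem_orbit_conjAct.mp hd).symm
  obtain ⟨p, hp, hpn⟩ := Nat.exists_prime_and_dvd (show n ≠ 1 by omega)
  haveI := Fact.mk hp
  have hfix : ∀ {q : ℕ}, q.Prime → q ∣ n → ∀ g : G, orderOf g = q → g ∈ D := by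
    intro q hq hqn g hg a ha
    have h1 : q ∣ Nat.card (stabilizer G a) := by
      rw [← hg]; exact Subgroup.orderOf_dvd_natCard _ (show g ∈ stabilizer G a from ha)
    have h2' : Nat.card (stabilizer G a) = n - 1 := by
      have := (stabilizer G a).card_mul_index
      rw [index_stabilizer_of_transitive, Nat.card_eq_fintype_card (α := α), hG, ← hn] at this
      exact Nat.eq_of_mul_eq_mul_right (by omega) (this.trans (mul_comm _ _))
    rw [h2'] at h1
    have := Nat.dvd_sub hqn h1
    rw [show n - (n - 1) = 1 by omega, Nat.dvd_one] at this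
    exact hq.ne_one this
  obtain ⟨z, hz⟩ := exists_prime_orderOf_dvd_card' (G := G) p (hG ▸ hpn.mul_right _)
  have hzD := hfix hp hpn z hz
  obtain ⟨hC, hconj⟩ := key z hzD
  have hord : ∀ d ∈ D, orderOf d = p := fun d hd => by
    obtain ⟨c, hc⟩ := isConj_iff.mp (hconj d hd)
    rw [← hz, ← hc]
    exact orderOf_injective (MulAut.conj c).toMonoidHom (MulAut.conj c).injective z
  have hnD : (1 : G) ∉ D := fun h => h (Classical.arbitrary α) (one_smul G _)
  set N := Subgroup.centralizer ({z} : Set G) with hN
  have hmem : ∀ g : G, g ∈ N ↔ g = 1 ∨ ∀ a : α, g • a ≠ a := fun g => by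
    rw [← SetLike.mem_coe, hC]; rfl
  have hcardN : Nat.card N = n := by
    rw [← SetLike.coe_sort_coe, Nat.card_coe_set_eq, hC,
      Set.ncard_insert_of_notMem hnD (Set.toFinite _), hD]
    omega
  have hnp : ∃ j, n = p ^ j := by
    have hq : ∀ g : N, g ^ p = 1 := by
      intro g
      rcases (hmem g).mp g.2 with h | h
      · exact Subtype.ext (by simp [h])
      · have := hord _ h
        exact Subtype.ext (by simp [← this, pow_orderOf_eq_one])
    have hP : IsPGroup p N := fun g => ⟨1, by rw [pow_one]; exact hq g⟩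
    obtain ⟨j, hj⟩ := IsPGroup.iff_card.mp hP
    exact ⟨j, hcardN ▸ hj⟩
  obtain ⟨j, hj⟩ := hnp
  refine ⟨N, p, j, hp, Nat.one_le_iff_ne_zero.mpr ?_, hj, ⟨fun x hx g => ?_⟩, hcardN, hmem, ?_, ?_⟩
  · rintro rfl; simp at hj; omega
  · rcases (hmem x).mp hx with rfl | h
    · simp
    · refine (hmem _).mpr (.inr fun a ha => h (g⁻¹ • a) ?_)
      rw [mul_smul, mul_smul] at ha
      exact (eq_inv_smul_iff).mpr ha
  · intro x hx y hy
    rcases (hmem x).mp hx with rfl | hxD
    · simp
    have hy' : y ∈ Subgroup.centralizer ({x} : Set G) := by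
      rw [← SetLike.mem_coe, (key x hxD).1, ← hC]; exact hy
    exact Subgroup.mem_centralizer_iff.mp hy' x rfl
  · intro x hx
    rcases (hmem x).mp hx with rfl | hxD
    · simp
    · rw [← hord x hxD, pow_orderOf_eq_one]

omit hsharp in
omit [IsMultiplyPretransitive G α 2] in
/-- A subgroup of cardinality of the degree whose non-trivial elements are fixed-point-free is
sharply transitive. -/
theorem exists_unique_smul [Fintype α] [Finite G] {N : Subgroup G}
    (hcard : Nat.card N = Fintype.card α) (hmem : ∀ g ∈ N, g = 1 ∨ ∀ a : α, g • a ≠ a) (a b : α) :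
    ∃! g : N, g • a = b := by
  have hinj : Function.Injective (fun g : N => g • a) := by
    intro g g' h
    rcases hmem ((g'⁻¹ * g : N) : G) (g'⁻¹ * g).2 with h1 | h1
    · exact (inv_mul_eq_one.mp (Subtype.ext h1)).symm
    · refine absurd ?_ (h1 a)
      show (g'⁻¹ * g) • a = a
      simp only at h
      rw [mul_smul, h, inv_smul_smul]
  haveI : Fintype N := Fintype.ofFinite N
  have hb : Function.Bijective (fun g : N => g • a) :=
    (Fintype.bijective_iff_injective_and_card _).mpr ⟨hinj, by
      rw [← Nat.card_eq_fintype_card, hcard]⟩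
  exact hb.existsUnique b

end CfsgLib.SharplyTwo
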