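/-
A non-trivial solvable normal subgroup gives arbitrarily large groups with the same element orders.
-/
import Mathlib

set_option autoImplicit false
set_option linter.style.haveILetI false

namespace CfsgLib.Isospectral

variable {G : Type*} [Group G] [Finite G]

/-- A non-trivial normal elementary abelian subgroup inside a solvable normal subgroup. -/
theorem exists_elementary (K : Subgroup G) [K.Normal] (hK : K ≠ ⊥) [Group.IsSolvable K] :
    ∃ (V : Subgroup G) (p : ℕ), p.Prime ∧ V.Normal ∧ V ≠ ⊥ ∧
      (∀ x ∈ V, ∀ y ∈ V, x * y = y * x) ∧ ∀ x ∈ V, x ^ p = 1 := by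
  classical
  obtain ⟨n, hn⟩ := Group.IsSolvable.solvable (G := K)
  have hex : ∃ i, derivedSeries K (i + 1) = ⊥ := by
    refine ⟨n, le_bot_iff.mp (hn ▸ derivedSeries_antitone K (Nat.le_succ n))⟩
  set i := Nat.find hex
  have hi : derivedSeries K (i + 1) = ⊥ := Nat.find_spec hex
  have hne : derivedSeries K i ≠ ⊥ := by
    rcases Nat.eq_zero_or_pos i with h0 | h0
    · rw [h0, derivedSeries_zero]
      haveI : Nontrivial K := (Subgroup.nontrivial_iff_ne_bot K).mpr hK
      exact top_ne_bot
    · have := Nat.find_min hex (show i - 1 < i by omega)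
      rwa [Nat.sub_add_cancel h0] at this
  set A : Subgroup G := (derivedSeries K i).map K.subtype with hA
  haveI hAn : A.Normal := ConjAct.normal_of_characteristic_of_normal
  have hAc : ∀ x ∈ A, ∀ y ∈ A, x * y = y * x := by
    rintro _ ⟨x, hx, rfl⟩ _ ⟨y, hy, rfl⟩
    rw [derivedSeries_succ, Subgroup.commutator_eq_bot_iff_le_centralizer] at hi
    rw [← map_mul, ← map_mul]
    exact congrArg K.subtype ((Subgroup.mem_centralizer_iff.mp (hi hx)) y hy).symm
  have hAne : A ≠ ⊥ := fun h => hne ((Subgroup.map_eq_bot_iff_of_injective _ K.subtype_injective).mp h)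
  haveI : Nontrivial A := (Subgroup.nontrivial_iff_ne_bot A).mpr hAne
  obtain ⟨p, hp, hpd⟩ := Nat.exists_prime_and_dvd (Finite.one_lt_card (α := A)).ne'
  haveI := Fact.mk hp
  obtain ⟨z, hz⟩ := exists_prime_orderOf_dvd_card' p hpd
  let V : Subgroup G :=
    { carrier := {x | x ∈ A ∧ x ^ p = 1}
      one_mem' := ⟨A.one_mem, one_pow p⟩
      mul_mem' := fun {x y} hx hy => ⟨A.mul_mem hx.1 hy.1, by
        rw [Commute.mul_pow (hAc x hx.1 y hy.1), hx.2, hy.2, one_mul]⟩
      inv_mem' := fun {x} hx => ⟨A.inv_mem hx.1, by rw [inv_pow, hx.2, inv_one]⟩ }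
  refine ⟨V, p, hp, ⟨fun x hx g => ⟨hAn.conj_mem x hx.1 g, by rw [conj_pow, hx.2]; simp⟩⟩, ?_,
    fun x hx y hy => hAc x hx.1 y hy.1, fun x hx => hx.2⟩
  intro h
  have hmem : (z : G) ∈ V := ⟨z.2, by rw [← Subgroup.coe_pow, ← hz, pow_orderOf_eq_one, Subgroup.coe_one]⟩
  rw [h, Subgroup.mem_bot] at hmem
  have : z = 1 := Subtype.ext hmem
  rw [this, orderOf_one] at hz
  exact hp.one_lt.ne hz

/-- `m` copies of `V` extended by `G`. -/
def act (V : Subgroup G) [V.Normal] (m : ℕ) : G →* MulAut (Fin m → V) where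
  toFun g := MulEquiv.piCongrRight fun _ => MulAut.conjNormal g
  map_one' := by ext f i; simp
  map_mul' a b := by ext f i; simp [mul_assoc]

theorem range_orderOf (V : Subgroup G) [V.Normal] {p : ℕ} (hp : p.Prime)
    (hcomm : ∀ x ∈ V, ∀ y ∈ V, x * y = y * x) (hexp : ∀ x ∈ V, x ^ p = 1) (m : ℕ) :
    Set.range (orderOf : (Fin m → V) ⋊[act V m] G → ℕ) = Set.range (orderOf : G → ℕ) := by
  classical
  refine Set.Subset.antisymm ?_ ?_
  · rintro _ ⟨h, rfl⟩
    let proj : Fin m → ((Fin m → V) ⋊[act V m] G →* G) := fun i =>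
      SemidirectProduct.lift (V.subtype.comp (Pi.evalMonoidHom (fun _ => V) i)) (MonoidHom.id G)
        (fun g => by ext f; simp [act])
    have hproj : ∀ (i : Fin m) (x : (Fin m → V) ⋊[act V m] G),
        proj i x = (x.left i : G) * x.right := fun i x => rfl
    set g := h.right with hg
    set n := orderOf g with hn
    have hr : (h ^ n).right = 1 := by
      rw [show (h ^ n).right = SemidirectProduct.rightHom (h ^ n) from rfl, map_pow]
      exact pow_orderOf_eq_one g
    have hpn : (h ^ n) ^ p = 1 := by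
      have hl : h ^ n = SemidirectProduct.inl (h ^ n).left := by
        ext1
        · simp
        · simpa using hr
      rw [hl, ← map_pow]
      have : (h ^ n).left ^ p = 1 := funext fun i => Subtype.ext (by simpa using hexp _ ((h ^ n).left i).2)
      rw [this, map_one]
    have hdvd1 : n ∣ orderOf h := orderOf_map_dvd (SemidirectProduct.rightHom) h
    have hdvd2 : orderOf h ∣ n * p := orderOf_dvd_of_pow_eq_one (by rw [pow_mul]; exact hpn)
    obtain ⟨q, hq⟩ := hdvd1
    have hnpos : 0 < n := orderOf_pos g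
    have hqp : q = 1 ∨ q = p := by
      rw [hq] at hdvd2
      exact hp.eq_one_or_self_of_dvd q (Nat.dvd_of_mul_dvd_mul_left hnpos hdvd2)
    rcases hqp with rfl | rfl
    · exact ⟨g, by rw [hq, mul_one]⟩
    by_cases hall : ∀ i, (proj i h) ^ n = 1
    · exfalso
      have h1 : h ^ n = 1 := by
        ext i
        · have := hall i
          rw [← map_pow, hproj, hr, mul_one] at this
          simp [this]
        · exact hr
      have := Nat.le_of_dvd hnpos (orderOf_dvd_of_pow_eq_one h1)
      rw [hq] at this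
      nlinarith [hp.two_le]
    · push Not at hall
      obtain ⟨i, hi⟩ := hall
      refine ⟨proj i h, ?_⟩
      rw [hq]
      set x := proj i h
      have hxp : x ^ (n * q) = 1 := by rw [← map_pow, ← hq, pow_orderOf_eq_one, map_one]
      refine Nat.dvd_antisymm (orderOf_dvd_of_pow_eq_one hxp) ?_
      -- `n ∣ q * orderOf x`
      have hd : g ^ orderOf x ∈ V := by
        have h1 : QuotientGroup.mk' V x = QuotientGroup.mk' V g := by
          rw [show x = (h.left i : G) * g from hproj i h, map_mul,
            show QuotientGroup.mk' V (h.left i : G) = 1 from (QuotientGroup.eq_one_iff _).mpr (h.left i).2,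
            one_mul]
        refine (QuotientGroup.eq_one_iff _).mp ?_
        show QuotientGroup.mk' V (g ^ orderOf x) = 1
        rw [map_pow, ← h1, ← map_pow, pow_orderOf_eq_one, map_one]
      have hnd : n ∣ orderOf x * q := orderOf_dvd_of_pow_eq_one (by rw [pow_mul]; exact hexp _ hd)
      have hndvd : ¬ orderOf x ∣ n := fun hh => hi (orderOf_dvd_iff_pow_eq_one.mp hh)
      have hxdvd : orderOf x ∣ n * q := orderOf_dvd_of_pow_eq_one hxp
      -- compare prime parts
      set d := orderOf x
      have hd0 : d ≠ 0 := (orderOf_pos x).ne'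
      rw [← Nat.factorization_le_iff_dvd (mul_ne_zero hnpos.ne' hp.ne_zero) hd0]
      intro l
      rw [Nat.factorization_mul hnpos.ne' hp.ne_zero, hp.factorization, Finsupp.add_apply]
      by_cases hl : l = q
      · subst hl
        rw [Finsupp.single_eq_same]
        by_contra hcon
        apply hndvd
        rw [← Nat.factorization_le_iff_dvd hd0 hnpos.ne']
        intro r
        have hr' := (Nat.factorization_le_iff_dvd hd0 (mul_ne_zero hnpos.ne' hp.ne_zero)).mpr hxdvd r
        rw [Nat.factorization_mul hnpos.ne' hp.ne_zero, hp.factorization, Finsupp.add_apply] at hr'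
        by_cases hrl : r = l
        · subst hrl; omega
        · rw [Finsupp.single_eq_of_ne hrl] at hr'; omega
      · rw [Finsupp.single_eq_of_ne hl]
        have := (Nat.factorization_le_iff_dvd hnpos.ne' (mul_ne_zero hd0 hp.ne_zero)).mpr hnd l
        rw [Nat.factorization_mul hd0 hp.ne_zero, hp.factorization, Finsupp.add_apply,
          Finsupp.single_eq_of_ne hl] at this
        omega
  · rintro _ ⟨g, rfl⟩
    exact ⟨SemidirectProduct.inr g, orderOf_injective _ SemidirectProduct.inr_injective g⟩

theorem exists_large (K : Subgroup G) [K.Normal] (hK : K ≠ ⊥) [Group.IsSolvable K] (N : ℕ) :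
    ∃ (H : Type) (_ : Group H) (_ : Fintype H), N < Fintype.card H ∧
      Set.range (orderOf : H → ℕ) = Set.range (orderOf : G → ℕ) := by
  obtain ⟨V, p, hp, hVn, hVne, hcomm, hexp⟩ := exists_elementary K hK
  haveI := hVn
  haveI : Nontrivial V := (Subgroup.nontrivial_iff_ne_bot V).mpr hVne
  let X := (Fin N → V) ⋊[act V N] G
  haveI : Finite X := Finite.of_equiv _ SemidirectProduct.equivProd.symm
  haveI : Finite (Shrink.{0} X) := Finite.of_equiv X (equivShrink.{0} X)
  let e : Shrink.{0} X ≃* X := Shrink.mulEquiv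
  refine ⟨Shrink.{0} X, inferInstance, Fintype.ofFinite _, ?_, ?_⟩
  · rw [← @Nat.card_eq_fintype_card _ (Fintype.ofFinite _), Nat.card_congr e.toEquiv, SemidirectProduct.card, Nat.card_fun,
      Nat.card_eq_fintype_card (α := Fin N), Fintype.card_fin]
    have h1 : N < Nat.card V ^ N := Nat.lt_pow_self Finite.one_lt_card
    exact lt_of_lt_of_le h1 (Nat.le_mul_of_pos_right _ Nat.card_pos)
  · rw [← range_orderOf V hp hcomm hexp N]
    refine Set.Subset.antisymm ?_ ?_
    · rintro _ ⟨x, rfl⟩
      exact ⟨e x, orderOf_injective e.toMonoidHom e.injective x⟩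
    · rintro _ ⟨x, rfl⟩
      exact ⟨e.symm x, orderOf_injective e.symm.toMonoidHom e.symm.injective x⟩

end CfsgLib.Isospectral
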