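import Mathlib

/-!
Upper bounds for the order of an abelian permutation group of given degree.
-/

namespace CfsgLib.PermAbelianBound

open MulAction

/-- The largest order of an abelian permutation group on `n` points. -/
def maxOrd (n : ℕ) : ℕ :=
  if n ≤ 1 then 1 else
    if n % 3 = 0 then 3 ^ (n / 3) else
      if n % 3 = 1 then 4 * 3 ^ (n / 3 - 1) else 2 * 3 ^ (n / 3)

theorem maxOrd_add_three {n : ℕ} (h : 2 ≤ n) : maxOrd (n + 3) = 3 * maxOrd n := by
  unfold maxOrd
  rw [if_neg (show ¬ n + 3 ≤ 1 by omega), if_neg (show ¬ n ≤ 1 by omega), Nat.add_mod_right,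
    show (n + 3) / 3 = n / 3 + 1 by omega]
  by_cases h0 : n % 3 = 0
  · rw [if_pos h0, if_pos h0, pow_succ']
  · rw [if_neg h0, if_neg h0]
    by_cases h1 : n % 3 = 1
    · rw [if_pos h1, if_pos h1]
      obtain ⟨d, hd⟩ : ∃ d, n / 3 = d + 1 := ⟨n / 3 - 1, by omega⟩
      rw [hd, Nat.add_sub_cancel, Nat.add_sub_cancel, pow_succ']
      ring
    · rw [if_neg h1, if_neg h1, pow_succ']
      ring

theorem le_maxOrd (n : ℕ) : 1 ≤ maxOrd n := by
  unfold maxOrd
  split_ifs <;> simp [Nat.one_le_iff_ne_zero]

theorem mul_maxOrd_le_small : ∀ n m : ℕ, m ≤ 4 → m * maxOrd n ≤ maxOrd (n + m) := by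
  intro n
  induction n using Nat.strong_induction_on with
  | _ n ih =>
    intro m hm
    by_cases hn : n < 5
    · interval_cases n <;> interval_cases m <;> decide
    · have h := ih (n - 3) (by omega) m hm
      have h1 := maxOrd_add_three (n := n - 3) (by omega)
      have h2 := maxOrd_add_three (n := n - 3 + m) (by omega)
      rw [show n - 3 + 3 = n by omega] at h1
      rw [show n - 3 + m + 3 = n + m by omega] at h2
      rw [h1, h2, Nat.mul_left_comm]
      exact Nat.mul_le_mul_left 3 h

theorem mul_maxOrd_le : ∀ m n : ℕ, m * maxOrd n ≤ maxOrd (n + m) := by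
  intro m
  induction m using Nat.strong_induction_on with
  | _ m ih =>
    intro n
    by_cases hm : m ≤ 4
    · exact mul_maxOrd_le_small n m hm
    · have h := ih (m - 3) (by omega) n
      have h1 := maxOrd_add_three (n := n + (m - 3)) (by omega)
      rw [show n + (m - 3) + 3 = n + m by omega] at h1
      rw [h1]
      calc m * maxOrd n ≤ (3 * (m - 3)) * maxOrd n := Nat.mul_le_mul_right _ (by omega)
        _ = 3 * ((m - 3) * maxOrd n) := Nat.mul_assoc _ _ _
        _ ≤ _ := Nat.mul_le_mul_left 3 h

section orbit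

variable {α : Type*} [Fintype α] [DecidableEq α]

/-- The size of the orbit of `x` under `A`. -/
noncomputable def orbSize (A : Subgroup (Equiv.Perm α)) (x : α) : ℕ :=
  Nat.card (MulAction.orbit A x)

/-- Removing an orbit of an abelian permutation group. -/
theorem split_orbit (A : Subgroup (Equiv.Perm α)) (hA : ∀ a ∈ A, ∀ b ∈ A, a * b = b * a) (x : α) :
    ∃ (p : α → Prop) (_ : DecidablePred p) (B : Subgroup (Equiv.Perm (Subtype p))),
      (∀ a ∈ B, ∀ b ∈ B, a * b = b * a) ∧
      Nat.card A = orbSize A x * Nat.card B ∧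
      Fintype.card (Subtype p) + orbSize A x = Fintype.card α ∧
      (∀ y : Subtype p, orbSize B y ≤ orbSize A y.1) ∧
      ((∀ a ∈ A, Equiv.Perm.sign a = 1) → ∀ b ∈ B, Equiv.Perm.sign b = 1) := by
  classical
  let O : Set α := orbit A x
  have hfix : ∀ a : stabilizer A x, ∀ y ∈ O, (a.1.1) y = y := by
    rintro a _ ⟨b, rfl⟩
    show a.1.1 (b.1 x) = b.1 x
    rw [← Equiv.Perm.mul_apply, hA _ a.1.2 _ b.2, Equiv.Perm.mul_apply]
    exact congrArg b.1 a.2
  have hinv : ∀ a : stabilizer A x, ∀ y, a.1.1 y ∉ O ↔ y ∉ O := by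
    intro a y
    constructor
    · intro h hy
      exact h (by rw [hfix a y hy]; exact hy)
    · intro h hy
      have := hfix a _ hy
      rw [EmbeddingLike.apply_eq_iff_eq] at this
      rw [this] at hy
      exact h hy
  let ψ : stabilizer A x →* Equiv.Perm {y // y ∉ O} :=
    { toFun := fun a => a.1.1.subtypePerm (hinv a)
      map_one' := by ext y; rfl
      map_mul' := fun a b => by ext y; rfl }
  have hψ : Function.Injective ψ := by
    intro a b h
    apply Subtype.ext; apply Subtype.ext
    ext y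
    by_cases hy : y ∈ O
    · rw [hfix a y hy, hfix b y hy]
    · exact congrArg Subtype.val (congrArg (fun e : Equiv.Perm _ => e ⟨y, hy⟩) h)
  refine ⟨fun y => y ∉ O, inferInstance, ψ.range, ?_, ?_, ?_, ?_, ?_⟩
  · rintro _ ⟨a, rfl⟩ _ ⟨b, rfl⟩
    rw [← map_mul, ← map_mul]
    congr 1
    exact Subtype.ext (Subtype.ext (hA _ a.1.2 _ b.1.2))
  · rw [show Nat.card ψ.range = Nat.card (stabilizer A x) from
      (Nat.card_congr (MonoidHom.ofInjective hψ).toEquiv).symm]
    rw [← (stabilizer A x).index_mul_card, index_stabilizer, orbSize, Nat.card_coe_set_eq]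
  · rw [orbSize, Nat.card_coe_set_eq, Set.ncard_eq_toFinset_card', ← Finset.card_compl_add_card
      (orbit A x).toFinset, Fintype.card_subtype]
    congr 1
    apply congrArg
    ext y
    simp [O]
  · intro y
    rw [orbSize, orbSize, Nat.card_coe_set_eq, Nat.card_coe_set_eq]
    apply Set.ncard_le_ncard_of_injOn (fun z => z.1) ?_ (fun a _ b _ h => Subtype.ext h)
      (Set.toFinite _)
    rintro _ ⟨⟨_, a, rfl⟩, rfl⟩
    exact ⟨a.1, rfl⟩
  · rintro hs _ ⟨a, rfl⟩
    show Equiv.Perm.sign (a.1.1.subtypePerm (hinv a)) = 1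
    rw [Equiv.Perm.sign_subtypePerm _ (hinv a)]
    · exact hs _ a.1.2
    · intro y hy hyO
      exact hy (hfix a y hyO)

end orbit

/-- An abelian permutation group on `n` points has order at most `maxOrd n`. -/
theorem card_le_maxOrd : ∀ (n : ℕ) {α : Type*} [Fintype α] [DecidableEq α],
    Fintype.card α = n → ∀ A : Subgroup (Equiv.Perm α),
      (∀ a ∈ A, ∀ b ∈ A, a * b = b * a) → Nat.card A ≤ maxOrd n := by
  intro n
  induction n using Nat.strong_induction_on with
  | _ n ih =>
    intro α _ _ hn A hA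
    rcases Nat.eq_zero_or_pos n with rfl | hpos
    · have : IsEmpty α := Fintype.card_eq_zero_iff.1 hn
      have : Subsingleton (Equiv.Perm α) := ⟨fun a b => Equiv.ext (fun x => isEmptyElim x)⟩
      rw [Nat.card_unique]
      exact le_maxOrd 0
    · obtain ⟨x⟩ := Fintype.card_pos_iff.1 (hn ▸ hpos)
      obtain ⟨p, _, B, hB, hcard, hsum, -, -⟩ := split_orbit A hA x
      have hm : 0 < orbSize A x := by
        have : Nonempty (MulAction.orbit A x) := ⟨⟨x, MulAction.mem_orbit_self x⟩⟩
        exact Nat.card_pos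
      have := ih (Fintype.card (Subtype p)) (by omega) rfl B hB
      rw [hcard, ← hn, ← hsum]
      exact (Nat.mul_le_mul_left _ this).trans (mul_maxOrd_le _ _)

/-- An abelian permutation group with all orbits of length at most two. -/
theorem card_le_two_pow : ∀ (n : ℕ) {α : Type*} [Fintype α] [DecidableEq α],
    Fintype.card α = n → ∀ A : Subgroup (Equiv.Perm α),
      (∀ a ∈ A, ∀ b ∈ A, a * b = b * a) → (∀ x, orbSize A x ≤ 2) →
      Nat.card A ≤ 2 ^ (n / 2) := by
  intro n
  induction n using Nat.strong_induction_on with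
  | _ n ih =>
    intro α _ _ hn A hA hsmall
    rcases Nat.eq_zero_or_pos n with rfl | hpos
    · have : IsEmpty α := Fintype.card_eq_zero_iff.1 hn
      have : Subsingleton (Equiv.Perm α) := ⟨fun a b => Equiv.ext (fun x => isEmptyElim x)⟩
      rw [Nat.card_unique]
      exact le_rfl
    · obtain ⟨x⟩ := Fintype.card_pos_iff.1 (hn ▸ hpos)
      obtain ⟨p, _, B, hB, hcard, hsum, horb, -⟩ := split_orbit A hA x
      have hm : 0 < orbSize A x := by
        have : Nonempty (MulAction.orbit A x) := ⟨⟨x, MulAction.mem_orbit_self x⟩⟩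
        exact Nat.card_pos
      have := ih (Fintype.card (Subtype p)) (by omega) rfl B hB
        (fun y => (horb y).trans (hsmall y.1))
      rw [hcard, ← hn, ← hsum]
      refine (Nat.mul_le_mul_left _ this).trans ?_
      have h2 := hsmall x
      rcases (show orbSize A x = 1 ∨ orbSize A x = 2 by omega) with h | h <;> rw [h]
      · rw [one_mul]; exact Nat.pow_le_pow_right (by norm_num) (by omega)
      · rw [← pow_succ']; exact Nat.pow_le_pow_right (by norm_num) (by omega)

/-- The bound for groups of even permutations of degree `3 * k + 2`. -/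
def altBound : ℕ → ℕ
  | 0 => 1
  | 1 => 5
  | k + 2 => 16 * 3 ^ k

theorem two_pow_le_altBound (k : ℕ) (hk : 1 ≤ k) : 2 ^ ((3 * k + 2) / 2) ≤ altBound k := by
  match k, hk with
  | 1, _ => decide
  | j + 2, _ =>
    show 2 ^ ((3 * (j + 2) + 2) / 2) ≤ 16 * 3 ^ j
    rw [show (3 * (j + 2) + 2) / 2 = 4 + 3 * j / 2 by omega, pow_add]
    refine Nat.mul_le_mul_left 16 ?_
    apply le_of_pow_le_pow_left₀ (two_ne_zero) (Nat.zero_le _)
    calc (2 ^ (3 * j / 2)) ^ 2 = 2 ^ (3 * j / 2 * 2) := by rw [← pow_mul]
      _ ≤ 2 ^ (3 * j) := Nat.pow_le_pow_right (by norm_num) (by omega)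
      _ = 8 ^ j := by rw [pow_mul]; norm_num
      _ ≤ 9 ^ j := Nat.pow_le_pow_left (by norm_num) j
      _ = (3 ^ j) ^ 2 := by rw [← pow_mul, mul_comm, pow_mul]; norm_num

theorem maxOrd_two_mod (k : ℕ) : maxOrd (3 * k + 2) = 2 * 3 ^ k := by
  unfold maxOrd
  rw [if_neg (by omega), if_neg (by omega), if_neg (by omega), show (3 * k + 2) / 3 = k by omega]

theorem maxOrd_one_mod (k : ℕ) (hk : 1 ≤ k) : maxOrd (3 * k + 1) = 4 * 3 ^ (k - 1) := by
  unfold maxOrd
  rw [if_neg (by omega), if_neg (by omega), if_pos (by omega), show (3 * k + 1) / 3 = k by omega]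

theorem maxOrd_zero_mod (k : ℕ) : maxOrd (3 * k) = 3 ^ k := by
  unfold maxOrd
  rcases Nat.eq_zero_or_pos k with rfl | hk
  · rfl
  · rw [if_neg (by omega), if_pos (by omega), show (3 * k) / 3 = k by omega]

/-- An abelian group of even permutations on `3 * k + 2` points. -/
theorem card_le_altBound : ∀ (k : ℕ) {α : Type*} [Fintype α] [DecidableEq α],
    Fintype.card α = 3 * k + 2 → ∀ A : Subgroup (Equiv.Perm α),
      (∀ a ∈ A, ∀ b ∈ A, a * b = b * a) → (∀ a ∈ A, Equiv.Perm.sign a = 1) →
      Nat.card A ≤ altBound k := by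
  intro k
  induction k with
  | zero =>
    intro α _ _ hn A _ hs
    have : Nontrivial α := Fintype.one_lt_card_iff_nontrivial.1 (by omega)
    calc Nat.card A ≤ Nat.card (alternatingGroup α) :=
          Subgroup.card_le_of_le fun a ha => Equiv.Perm.mem_alternatingGroup.2 (hs a ha)
      _ = 1 := by
        rw [nat_card_alternatingGroup, Nat.card_eq_fintype_card, hn]; rfl
  | succ j ih =>
    intro α _ _ hn A hA hs
    by_cases hbig : ∀ x, orbSize A x ≤ 2
    · exact (card_le_two_pow _ hn A hA hbig).trans (two_pow_le_altBound _ (by omega))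
    · push Not at hbig
      obtain ⟨x, hx⟩ := hbig
      obtain ⟨p, _, B, hB, hcard, hsum, -, hsign⟩ := split_orbit A hA x
      have hb := card_le_maxOrd _ rfl B hB
      rw [hcard]
      rcases (show orbSize A x = 3 ∨ orbSize A x = 4 ∨ orbSize A x = 5 ∨ 6 ≤ orbSize A x by omega)
        with h | h | h | h
      · have := ih (show Fintype.card (Subtype p) = 3 * j + 2 by omega) B hB (hsign hs)
        refine (Nat.mul_le_mul (le_of_eq h) this).trans ?_
        match j with
        | 0 => decide
        | 1 => decide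
        | i + 2 => show 3 * (16 * 3 ^ i) ≤ 16 * 3 ^ (i + 1); rw [pow_succ']; omega
      · rw [h]
        rcases Nat.eq_zero_or_pos j with rfl | hj
        · rw [show Fintype.card (Subtype p) = 1 by omega] at hb
          have : maxOrd 1 = 1 := rfl
          show 4 * _ ≤ 5; omega
        · rw [show Fintype.card (Subtype p) = 3 * j + 1 by omega, maxOrd_one_mod j hj] at hb
          obtain ⟨i, rfl⟩ : ∃ i, j = i + 1 := ⟨j - 1, by omega⟩
          rw [Nat.add_sub_cancel] at hb
          show 4 * _ ≤ 16 * 3 ^ i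
          omega
      · rw [h]
        rw [show Fintype.card (Subtype p) = 3 * j by omega, maxOrd_zero_mod] at hb
        match j with
        | 0 => rw [pow_zero] at hb; show 5 * _ ≤ 5; omega
        | i + 1 =>
          rw [pow_succ'] at hb
          show 5 * _ ≤ 16 * 3 ^ i
          omega
      · -- six or more: the orbit may be traded for a shorter one
        have h3 := mul_maxOrd_le (orbSize A x - 3) (Fintype.card (Subtype p))
        rw [show Fintype.card (Subtype p) + (orbSize A x - 3) = 3 * j + 2 by omega,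
          maxOrd_two_mod] at h3
        calc orbSize A x * Nat.card B ≤ (2 * (orbSize A x - 3)) * maxOrd (Fintype.card (Subtype p)) :=
              Nat.mul_le_mul (by omega) hb
          _ ≤ 2 * (2 * 3 ^ j) := by rw [Nat.mul_assoc]; exact Nat.mul_le_mul_left 2 h3
          _ ≤ altBound (j + 1) := by
            match j with
            | 0 => decide
            | i + 1 => show _ ≤ 16 * 3 ^ i; rw [pow_succ']; omega

end CfsgLib.PermAbelianBound
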