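import Mathlib

/-!
Alternating subgroups on subsets and the maximal ones inside a permutation group.
-/

set_option autoImplicit false
set_option linter.style.haveILetI false
set_option linter.unusedSectionVars false

namespace CfsgLib.AltOnSet

open Equiv

variable {α : Type*} [Fintype α] [DecidableEq α]

/-- The even permutations supported in `Δ`. -/
def altOn (Δ : Finset α) : Subgroup (Perm α) where
  carrier := {g | (∀ z, z ∉ Δ → g z = z) ∧ Perm.sign g = 1}
  one_mem' := ⟨fun _ _ => rfl, map_one _⟩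
  mul_mem' := by
    rintro g h ⟨hg, hg'⟩ ⟨hh, hh'⟩
    exact ⟨fun z hz => by rw [Perm.mul_apply, hh z hz, hg z hz], by rw [map_mul, hg', hh', one_mul]⟩
  inv_mem' := by
    rintro g ⟨hg, hg'⟩
    exact ⟨fun z hz => Perm.inv_eq_iff_eq.mpr (hg z hz).symm, by rw [map_inv, hg', inv_one]⟩

theorem mem_altOn {Δ : Finset α} {g : Perm α} :
    g ∈ altOn Δ ↔ (∀ z, z ∉ Δ → g z = z) ∧ Perm.sign g = 1 := Iff.rfl

theorem altOn_mono {Δ Δ' : Finset α} (h : Δ ⊆ Δ') : altOn Δ ≤ altOn Δ' :=
  fun _ hg => ⟨fun z hz => hg.1 z fun e => hz (h e), hg.2⟩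

/-- Two transpositions on three points of `Δ`. -/
theorem swap_mul_swap_mem {Δ : Finset α} {a b c : α} (ha : a ∈ Δ) (hb : b ∈ Δ) (hc : c ∈ Δ)
    (hab : a ≠ b) (hac : a ≠ c) : swap a b * swap a c ∈ altOn Δ := by
  refine ⟨fun z hz => ?_, ?_⟩
  · have na : z ≠ a := fun e => hz (e ▸ ha)
    rw [Perm.mul_apply, swap_apply_of_ne_of_ne na (fun e => hz (e ▸ hc)),
      swap_apply_of_ne_of_ne na (fun e => hz (e ▸ hb))]
  · rw [map_mul, Perm.sign_swap hab, Perm.sign_swap hac]; decide

/-- Equivalence with the alternating group. -/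
noncomputable def altOnEquiv (Δ : Finset α) : alternatingGroup ↥Δ ≃* altOn Δ :=
  MulEquiv.ofBijective
    (((Perm.ofSubtype : Perm ↥Δ →* Perm α).comp (alternatingGroup ↥Δ).subtype).codRestrict (altOn Δ)
      fun g => ⟨fun z hz => Perm.ofSubtype_apply_of_not_mem _ hz,
        (Perm.sign_ofSubtype _).trans (Perm.mem_alternatingGroup.mp g.2)⟩)
    ⟨fun g h e => Subtype.ext (Perm.ofSubtype_injective (congrArg Subtype.val e)), fun g => by
      obtain ⟨g, hg, hs⟩ := g
      have hmem : ∀ z, g z ∈ Δ ↔ z ∈ Δ := fun z => ⟨fun h => by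
        by_contra hz
        exact hz (hg z hz ▸ h), fun h => by
        by_contra hz
        exact hz (by rwa [g.injective (hg _ hz)])⟩
      have e : Perm.ofSubtype (g.subtypePerm hmem) = g := Equiv.ext fun z => by
        by_cases hz : z ∈ Δ
        · rw [Perm.ofSubtype_apply_of_mem _ hz]; rfl
        · rw [Perm.ofSubtype_apply_of_not_mem _ hz, hg z hz]
      exact ⟨⟨g.subtypePerm hmem, Perm.mem_alternatingGroup.mpr (by rw [← Perm.sign_ofSubtype, e, hs])⟩,
        Subtype.ext e⟩⟩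

theorem isSimpleGroup_altOn {Δ : Finset α} (h : 5 ≤ Δ.card) : IsSimpleGroup (altOn Δ) :=
  have := alternatingGroup.isSimpleGroup (α := ↥Δ) (by rw [Nat.card_eq_fintype_card, Fintype.card_coe]; exact h)
  have := (altOnEquiv Δ).injective.nontrivial
  IsSimpleGroup.isSimpleGroup_of_surjective (altOnEquiv Δ).toMonoidHom (altOnEquiv Δ).surjective

/-- Enlarging by one point. -/
theorem altOn_insert_le {H : Subgroup (Perm α)} {Δ : Finset α} (h3 : 3 ≤ Δ.card) (hΔ : altOn Δ ≤ H)
    {x : α} {c : Perm α} (hcH : c ∈ H) (hc : c ∈ altOn (insert x Δ)) (hcx : c x ≠ x) :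
    altOn (insert x Δ) ≤ H := by
  intro g hg
  by_cases hgx : g x = x
  · refine hΔ ⟨fun z hz => ?_, hg.2⟩
    by_cases e : z = x
    · rw [e, hgx]
    · exact hg.1 z (by simp [e, hz])
  have himg : ∀ f ∈ altOn (insert x Δ), f x ≠ x → f x ∈ Δ := by
    intro f hf hne
    by_contra h'
    exact hne (f.injective (hf.1 _ (by simp [hne, h'])))
  have hp := himg c hc hcx
  have hy := himg g hg hgx
  obtain ⟨d, hd, hdp⟩ : ∃ d ∈ altOn Δ, d (c x) = g x := by
    by_cases e : c x = g x
    · exact ⟨1, one_mem _, e⟩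
    obtain ⟨r, hr, hrp, hry⟩ : ∃ r ∈ Δ, r ≠ c x ∧ r ≠ g x := by
      by_contra hall
      push Not at hall
      have : Δ ⊆ {c x, g x} := fun r hr => by
        by_cases h : r = c x
        · simp [h]
        · simp [hall r hr h]
      have := Finset.card_le_card this
      have := Finset.card_le_two (a := c x) (b := g x)
      omega
    refine ⟨swap (g x) (c x) * swap (g x) r, swap_mul_swap_mem hy hp hr (Ne.symm e) hry.symm, ?_⟩
    rw [Perm.mul_apply, swap_apply_of_ne_of_ne e hrp.symm, swap_apply_right]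
  have hdc : d * c ∈ altOn (insert x Δ) := mul_mem (altOn_mono (Finset.subset_insert _ _) hd) hc
  have h1 : (d * c)⁻¹ * g ∈ altOn Δ := ⟨fun z hz => by
    by_cases e : z = x
    · rw [e, Perm.mul_apply, ← hdp]
      exact Perm.inv_eq_iff_eq.mpr rfl
    · exact (mul_mem (inv_mem hdc) hg).1 z (by simp [e, hz]),
    (mul_mem (inv_mem hdc) hg).2⟩
  rw [show g = d * c * ((d * c)⁻¹ * g) by group]
  exact mul_mem (mul_mem (hΔ hd) hcH) (hΔ h1)

theorem card_altOn {Δ : Finset α} (h : 2 ≤ Δ.card) : 2 * Nat.card (altOn Δ) = Δ.card.factorial := by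
  haveI : Nontrivial ↥Δ := Fintype.one_lt_card_iff_nontrivial.mp (by rw [Fintype.card_coe]; omega)
  rw [← Nat.card_congr (altOnEquiv Δ).toEquiv, two_mul_nat_card_alternatingGroup,
    Nat.card_eq_fintype_card, Fintype.card_perm, Fintype.card_coe]

/-- A set is good if it has three points and its alternating group lies in `H`. -/
def Good (H : Subgroup (Perm α)) (Δ : Finset α) : Prop := 3 ≤ Δ.card ∧ altOn Δ ≤ H

/-- A maximal good set. -/
def MaxGood (H : Subgroup (Perm α)) (Δ : Finset α) : Prop :=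
  Good H Δ ∧ ∀ Δ', Good H Δ' → Δ ⊆ Δ' → Δ' = Δ

theorem exists_maxGood {H : Subgroup (Perm α)} {Δ : Finset α} (h : Good H Δ) :
    ∃ Δ', MaxGood H Δ' ∧ Δ ⊆ Δ' := by
  obtain ⟨D, ⟨hD, hsub⟩, hmax⟩ := (Set.toFinite {D : Finset α | Good H D ∧ Δ ⊆ D}).exists_maximal
    ⟨Δ, h, Finset.Subset.refl Δ⟩
  exact ⟨D, ⟨hD, fun D' hD' hs => Finset.Subset.antisymm (hmax ⟨hD', hsub.trans hs⟩ hs) hs⟩, hsub⟩

/-- A good set meeting a maximal one is contained in it. -/
theorem MaxGood.subset {H : Subgroup (Perm α)} {Δ Δ' : Finset α} (hΔ : MaxGood H Δ) (hΔ' : Good H Δ')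
    {a : α} (ha : a ∈ Δ) (ha' : a ∈ Δ') : Δ' ⊆ Δ := by
  intro x hx
  by_contra hxΔ
  have hax : a ≠ x := fun e => hxΔ (e ▸ ha)
  obtain ⟨b, hb, hba, hbx⟩ : ∃ b ∈ Δ', b ≠ a ∧ b ≠ x := by
    by_contra hall
    push Not at hall
    have : Δ' ⊆ {a, x} := fun r hr => by
      by_cases h : r = a
      · simp [h]
      · simp [hall r hr h]
    have := Finset.card_le_card this
    have := Finset.card_le_two (a := a) (b := x)
    have := hΔ'.1
    omega
  have hcH : swap a x * swap a b ∈ H := hΔ'.2 (swap_mul_swap_mem ha' hx hb hax hba.symm)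
  have key : altOn (insert x Δ) ≤ H := by
    by_cases hbΔ : b ∈ Δ
    · refine altOn_insert_le hΔ.1.1 hΔ.1.2 hcH (swap_mul_swap_mem (Finset.mem_insert_of_mem ha)
        (Finset.mem_insert_self _ _) (Finset.mem_insert_of_mem hbΔ) hax hba.symm) ?_
      rw [Perm.mul_apply, swap_apply_of_ne_of_ne hax.symm hbx.symm, swap_apply_right]
      exact hax
    · obtain ⟨p, hp, e, he, hpa, hea, hpe⟩ : ∃ p ∈ Δ, ∃ e ∈ Δ, p ≠ a ∧ e ≠ a ∧ p ≠ e := by
        have h3 := hΔ.1.1
        have h2 : 1 < (Δ.erase a).card := by rw [Finset.card_erase_of_mem ha]; omega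
        obtain ⟨p, hp, e, he, hpe⟩ := Finset.one_lt_card.mp h2
        exact ⟨p, (Finset.mem_erase.mp hp).2, e, (Finset.mem_erase.mp he).2,
          (Finset.mem_erase.mp hp).1, (Finset.mem_erase.mp he).1, hpe⟩
      have hxp : x ≠ p := fun h => hxΔ (h ▸ hp)
      have hxe : x ≠ e := fun h => hxΔ (h ▸ he)
      obtain ⟨c, hc⟩ : ∃ c, c = swap a x * swap a b := ⟨_, rfl⟩
      have ca : c a = b := by
        rw [hc, Perm.mul_apply, swap_apply_left, swap_apply_of_ne_of_ne hba hbx]
      have cb : c b = x := by rw [hc, Perm.mul_apply, swap_apply_right, swap_apply_left]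
      have hfix : ∀ z ∈ Δ, z ≠ a → c z = z := fun z hz hza => by
        rw [hc, Perm.mul_apply, swap_apply_of_ne_of_ne hza (show z ≠ b from fun h => hbΔ (h ▸ hz)),
          swap_apply_of_ne_of_ne hza (show z ≠ x from fun h => hxΔ (h ▸ hz))]
      have hconj : ∀ (f : Perm α) u v, f * swap u v * f⁻¹ = swap (f u) (f v) := fun f u v => by
        rw [Equiv.mul_swap_eq_swap_mul, mul_inv_cancel_right]
      have hd : swap a p * swap a e ∈ H := hΔ.1.2 (swap_mul_swap_mem ha hp he hpa.symm hea.symm)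
      have hd2 : swap x p * swap x e ∈ H := by
        rw [← hc] at hcH
        have : c * c * (swap a p * swap a e) * (c * c)⁻¹ = swap x p * swap x e := by
          rw [show c * c * (swap a p * swap a e) * (c * c)⁻¹ =
            c * c * swap a p * (c * c)⁻¹ * (c * c * swap a e * (c * c)⁻¹) by group, hconj, hconj,
            Perm.mul_apply, Perm.mul_apply, Perm.mul_apply, ca, cb, hfix p hp hpa, hfix p hp hpa,
            hfix e he hea, hfix e he hea]
        rw [← this]
        exact mul_mem (mul_mem (mul_mem hcH hcH) hd) (inv_mem (mul_mem hcH hcH))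
      refine altOn_insert_le hΔ.1.1 hΔ.1.2 hd2 (swap_mul_swap_mem (Finset.mem_insert_self _ _)
        (Finset.mem_insert_of_mem hp) (Finset.mem_insert_of_mem he) hxp hxe) ?_
      rw [Perm.mul_apply, swap_apply_left, swap_apply_of_ne_of_ne hxe.symm hpe.symm]
      exact hxe.symm
  exact hxΔ (hΔ.2 _ ⟨by rw [Finset.card_insert_of_notMem hxΔ]; have := hΔ.1.1; omega, key⟩
    (Finset.subset_insert _ _) ▸ Finset.mem_insert_self x Δ)

theorem good_image {H : Subgroup (Perm α)} {Δ : Finset α} (h : Good H Δ) {g : Perm α} (hg : g ∈ H) :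
    Good H (Δ.image g) := by
  refine ⟨by rw [Finset.card_image_of_injective _ g.injective]; exact h.1, fun f hf => ?_⟩
  have : g⁻¹ * f * g ∈ altOn Δ := ⟨fun z hz => by
    rw [Perm.mul_apply, Perm.mul_apply, hf.1 _ (fun hm => hz (by
      obtain ⟨w, hw, e⟩ := Finset.mem_image.mp hm
      rwa [← g.injective e]))]
    exact Perm.inv_eq_iff_eq.mpr rfl, by rw [map_mul, map_mul, map_inv, hf.2, mul_one, inv_mul_cancel]⟩
  rw [show f = g * (g⁻¹ * f * g) * g⁻¹ by group]
  exact mul_mem (mul_mem hg (h.2 this)) (inv_mem hg)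

/-- Maximal good sets are permuted. -/
theorem maxGood_image {H : Subgroup (Perm α)} {Δ : Finset α} (h : MaxGood H Δ) {g : Perm α} (hg : g ∈ H) :
    MaxGood H (Δ.image g) := by
  have hinv : ∀ (D : Finset α) (f : Perm α), (D.image (f⁻¹ : Perm α)).image f = D := fun D f => by
    ext z; simp
  refine ⟨good_image h.1 hg, fun D hD hs => ?_⟩
  have h1 := h.2 _ (good_image hD (inv_mem hg)) (fun z hz => Finset.mem_image.mpr
    ⟨g z, hs (Finset.mem_image.mpr ⟨z, hz, rfl⟩), Perm.inv_eq_iff_eq.mpr rfl⟩)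
  rw [← hinv D g, h1]

/-- Even permutations on disjoint sets commute. -/
theorem altOn_commute {Δ Δ' : Finset α} (h : Disjoint Δ Δ') {f g : Perm α} (hf : f ∈ altOn Δ)
    (hg : g ∈ altOn Δ') : f * g = g * f :=
  Perm.Disjoint.commute fun z => by
    by_cases hz : z ∈ Δ
    · exact Or.inr (hg.1 z (Finset.disjoint_left.mp h hz))
    · exact Or.inl (hf.1 z hz)

end CfsgLib.AltOnSet
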