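import Mathlib

/-!
Sylow subgroups of alternating groups are abelian exactly below degree `p²`.
-/

set_option autoImplicit false

namespace CfsgLib.Perm.AltAbelian

open Equiv

variable (p : ℕ) [hp : Fact p.Prime]

/-- The maps `(x, y) ↦ (x + c, y + f x)`. -/
def wreath : Subgroup (Equiv.Perm (ZMod p × ZMod p)) where
  carrier := {g | ∃ (c : ZMod p) (f : ZMod p → ZMod p), ∀ x y, g (x, y) = (x + c, y + f x)}
  one_mem' := ⟨0, 0, fun x y => by simp⟩
  mul_mem' := by
    rintro g h ⟨c, f, hg⟩ ⟨d, k, hh⟩
    refine ⟨d + c, fun x => k x + f (x + d), fun x y => ?_⟩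
    rw [Equiv.Perm.mul_apply, hh, hg, add_assoc, add_assoc]
  inv_mem' := by
    rintro g ⟨c, f, hg⟩
    refine ⟨-c, fun x => -f (x - c), fun x y => ?_⟩
    rw [Equiv.Perm.inv_eq_iff_eq, hg]
    simp [sub_eq_add_neg]

theorem pow_eq_one {g : Equiv.Perm (ZMod p × ZMod p)} (hg : g ∈ wreath p) : g ^ (p * p) = 1 := by
  obtain ⟨c, f, hf⟩ := hg
  have h1 : ∀ m : ℕ, ∃ F : ZMod p → ZMod p, ∀ x y, (g ^ m) (x, y) = (x + m * c, y + F x) := by
    intro m
    induction m with
    | zero => exact ⟨0, fun x y => by simp⟩
    | succ m ih =>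
      obtain ⟨F, hF⟩ := ih
      refine ⟨fun x => F x + f (x + m * c), fun x y => ?_⟩
      rw [pow_succ', Equiv.Perm.mul_apply, hF, hf, add_assoc, add_assoc]
      push_cast
      ring_nf
  obtain ⟨F, hF⟩ := h1 p
  have h2 : ∀ m : ℕ, ∀ x y, (g ^ (p * m)) (x, y) = (x, y + m * F x) := by
    intro m
    induction m with
    | zero => intro x y; simp
    | succ m ih =>
      intro x y
      rw [Nat.mul_succ, Nat.add_comm, pow_add, Equiv.Perm.mul_apply, ih, hF, ZMod.natCast_self,
        zero_mul, add_zero, Nat.cast_add, Nat.cast_one, add_mul, one_mul, add_assoc]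
  refine Equiv.ext fun ⟨x, y⟩ => ?_
  rw [h2, ZMod.natCast_self, zero_mul, add_zero]
  rfl

theorem isPGroup_wreath : IsPGroup p (wreath p) := fun g =>
  ⟨2, Subtype.ext (by rw [SubmonoidClass.coe_pow, pow_two]; exact pow_eq_one p g.2)⟩

theorem exists_noncomm : ∃ a b : wreath p, a * b ≠ b * a := by
  classical
  refine ⟨⟨(Equiv.addRight (1 : ZMod p)).prodCongr (Equiv.refl _), 1, 0, fun x y => by simp⟩,
    ⟨Equiv.prodShear (Equiv.refl _) fun x => Equiv.addRight (if x = 0 then 1 else 0), 0,
      fun x => if x = 0 then 1 else 0, fun x y => by simp⟩, fun h => ?_⟩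
  have h1 := DFunLike.congr_fun (congrArg Subtype.val h) ((0 : ZMod p), (0 : ZMod p))
  simp [Equiv.Perm.mul_apply] at h1

/-- A sign compensation on two further points. -/
def signSwap : ℤˣ →* Equiv.Perm (Fin 2) := MonoidHom.mk'
  (fun u => if u = 1 then 1 else Equiv.swap 0 1) fun u v => by
    rcases Int.units_eq_one_or u with rfl | rfl <;> rcases Int.units_eq_one_or v with rfl | rfl <;>
      simp

theorem sign_signSwap (u : ℤˣ) : Equiv.Perm.sign (signSwap u) = u := by
  rcases Int.units_eq_one_or u with rfl | rfl <;> simp [signSwap]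

/-- Odd elements have even order. -/
theorem sign_eq_one_of_pow_eq_one {α : Type*} [DecidableEq α] [Fintype α] {g : Equiv.Perm α}
    {m : ℕ} (hm : Odd m) (h : g ^ m = 1) : Equiv.Perm.sign g = 1 := by
  rcases Int.units_eq_one_or (Equiv.Perm.sign g) with h' | h'
  · exact h'
  · have := congrArg Equiv.Perm.sign h
    rw [map_pow, h', hm.neg_one_pow, map_one] at this
    exact absurd this (by decide)

theorem sign_viaEmbedding {α β : Type*} [DecidableEq α] [Fintype α] [DecidableEq β] [Fintype β]
    (g : Equiv.Perm α) (e : α ↪ β) :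
    Equiv.Perm.sign (g.viaEmbedding e) = Equiv.Perm.sign g := by
  rw [Equiv.Perm.viaEmbedding]
  convert Equiv.Perm.sign_extendDomain g (Equiv.ofInjective e.1 e.2) using 2
  congr 1 <;> exact Subsingleton.elim _ _

variable {p}

theorem exists_hom_alternating {n : ℕ} (hn : 6 ≤ n) (h : p ^ 2 ≤ n) :
    ∃ ψ : wreath p →* alternatingGroup (Fin n), Function.Injective ψ := by
  rcases hp.out.eq_two_or_odd' with rfl | hodd
  · obtain ⟨e⟩ := Function.Embedding.nonempty_of_card_le
      (α := (ZMod 2 × ZMod 2) ⊕ Fin 2) (β := Fin n) (by simp; omega)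
    let φ : wreath 2 →* Equiv.Perm ((ZMod 2 × ZMod 2) ⊕ Fin 2) :=
      (Equiv.Perm.sumCongrHom _ _).comp
        ((wreath 2).subtype.prod ((signSwap.comp Equiv.Perm.sign).comp (wreath 2).subtype))
    refine ⟨((Equiv.Perm.viaEmbeddingHom e).comp φ).codRestrict _ fun w => ?_, fun u v huv => ?_⟩
    · rw [Equiv.Perm.mem_alternatingGroup]
      show Equiv.Perm.sign (Equiv.Perm.viaEmbedding (Equiv.sumCongr
        (w : Equiv.Perm (ZMod 2 × ZMod 2))
        (signSwap (Equiv.Perm.sign (w : Equiv.Perm (ZMod 2 × ZMod 2))))) e) = 1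
      rw [sign_viaEmbedding, Equiv.Perm.sign_sumCongr, sign_signSwap, Int.units_mul_self]
    · have h1 := Equiv.Perm.viaEmbeddingHom_injective e (congrArg Subtype.val huv)
      exact Subtype.ext (congrArg Prod.fst (Equiv.Perm.sumCongrHom_injective h1))
  · obtain ⟨e⟩ := Function.Embedding.nonempty_of_card_le
      (α := ZMod p × ZMod p) (β := Fin n) (by simpa [pow_two] using h)
    refine ⟨((Equiv.Perm.viaEmbeddingHom e).comp (wreath p).subtype).codRestrict _ fun w => ?_,
      fun u v huv => ?_⟩
    · rw [Equiv.Perm.mem_alternatingGroup]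
      refine sign_eq_one_of_pow_eq_one (hodd.mul hodd) ?_
      rw [← map_pow, show w ^ (p * p) = 1 from Subtype.ext
        (by rw [SubmonoidClass.coe_pow]; exact pow_eq_one p w.2), map_one]
    · exact Subtype.ext (Equiv.Perm.viaEmbeddingHom_injective e (congrArg Subtype.val huv))

variable (p) in
/-- Translations of `k` blocks. -/
def blockShift (k : ℕ) :
    Multiplicative (Fin k → ZMod p) →* Equiv.Perm (Fin k × ZMod p) := MonoidHom.mk'
  (fun f => Equiv.prodShear (Equiv.refl _) fun i => Equiv.addRight (f.toAdd i)) fun f g => by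
    ext ⟨i, x⟩ <;> simp [add_comm, add_left_comm]

theorem blockShift_injective (k : ℕ) : Function.Injective (blockShift p k) := fun f g h => by
  refine Multiplicative.toAdd.injective (funext fun i => ?_)
  have := DFunLike.congr_fun h (i, (0 : ZMod p))
  simpa [blockShift] using this

/-- The criterion. -/
theorem sylow_isMulCommutative_iff {n : ℕ} (hn : 6 ≤ n)
    (S : Sylow p (alternatingGroup (Fin n))) : IsMulCommutative S ↔ n < p ^ 2 := by
  constructor
  · intro hab
    by_contra h
    obtain ⟨ψ, hψ⟩ := exists_hom_alternating (p := p) hn (not_lt.1 h)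
    obtain ⟨Q, hQ⟩ := ((isPGroup_wreath p).of_surjective ψ.rangeRestrict
      ψ.rangeRestrict_surjective).exists_le_sylow
    obtain ⟨a, b, hne⟩ := exists_noncomm p
    let ι : wreath p →* S :=
      (Q.equiv S).toMonoidHom.comp ((Subgroup.inclusion hQ).comp ψ.rangeRestrict)
    have hι : Function.Injective ι := (Q.equiv S).injective.comp
      ((Subgroup.inclusion_injective hQ).comp fun u v h => hψ (congrArg Subtype.val h))
    exact hne (hι (by rw [map_mul, map_mul, hab.is_comm.comm (ι a) (ι b)]))
  · intro h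
    have hp2 : p ≠ 2 := by
      rintro rfl
      norm_num at h
      omega
    have hodd := hp.out.eq_two_or_odd'.resolve_left hp2
    set k := n / p
    obtain ⟨e⟩ := Function.Embedding.nonempty_of_card_le (α := Fin k × ZMod p) (β := Fin n)
      (by simpa using Nat.div_mul_le_self n p)
    let ψ : Multiplicative (Fin k → ZMod p) →* alternatingGroup (Fin n) :=
      ((Equiv.Perm.viaEmbeddingHom e).comp (blockShift p k)).codRestrict _ fun f => by
        rw [Equiv.Perm.mem_alternatingGroup]
        refine sign_eq_one_of_pow_eq_one hodd ?_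
        rw [← map_pow, show f ^ p = 1 from Multiplicative.toAdd.injective (by
          rw [toAdd_pow, toAdd_one]
          funext i
          simp), map_one]
    have hψ : Function.Injective ψ := fun f g hfg => blockShift_injective k
      (Equiv.Perm.viaEmbeddingHom_injective e (congrArg Subtype.val hfg))
    have hcard : Nat.card ψ.range = p ^ k := by
      rw [← Nat.card_congr (MonoidHom.ofInjective hψ).toEquiv,
        Nat.card_congr Multiplicative.toAdd, Nat.card_fun, Nat.card_fin, Nat.card_zmod]
    have hv : (Nat.card (alternatingGroup (Fin n))).factorization p = k := by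
      have h2 : 2 * Nat.card (alternatingGroup (Fin n)) = n.factorial := by
        haveI : Nontrivial (Fin n) := Fin.nontrivial_iff_two_le.2 (by omega)
        rw [Nat.card_eq_fintype_card, two_mul_card_alternatingGroup, Fintype.card_perm,
          Fintype.card_fin]
      have h3 : (n.factorial).factorization p = k := by
        rw [Nat.factorization_def _ hp.out, padicValNat_factorial (b := 2)
          (Nat.log_lt_of_lt_pow (by omega) h)]
        simp [k]
      rw [← h2, Nat.factorization_mul two_ne_zero (Nat.card_pos.ne'), Finsupp.add_apply,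
        Nat.prime_two.factorization, Finsupp.single_eq_of_ne (Ne.symm hp2.symm), zero_add] at h3
      exact h3
    obtain ⟨Q, hQ⟩ := (IsPGroup.of_card hcard).exists_le_sylow
    have heq : ψ.range = (Q : Subgroup (alternatingGroup (Fin n))) := by
      refine Subgroup.eq_of_le_of_card_ge hQ (le_of_eq ?_)
      rw [hcard, Sylow.card_eq_multiplicity, hv]
    refine ⟨⟨fun a b => (Q.equiv S).symm.injective ?_⟩⟩
    rw [map_mul, map_mul]
    obtain ⟨f, hf⟩ := heq.ge ((Q.equiv S).symm a).2
    obtain ⟨g, hg⟩ := heq.ge ((Q.equiv S).symm b).2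
    refine Subtype.ext ?_
    rw [Subgroup.coe_mul, Subgroup.coe_mul, ← hf, ← hg, ← map_mul, ← map_mul, mul_comm]

end CfsgLib.Perm.AltAbelian
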