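/-
A minimal normal subgroup of a finite group is a power of a simple group.
-/
import Mathlib

set_option autoImplicit false
set_option linter.style.haveILetI false

namespace CfsgLib.MinimalNormal

variable {H : Type*} [Group H]

/-- `K` is a subgroup of `N` invariant under conjugation by `N`. -/
def Inv (N K : Subgroup H) : Prop := K ≤ N ∧ ∀ n ∈ N, ∀ k ∈ K, n * k * n⁻¹ ∈ K

theorem Inv.inf {N A B : Subgroup H} (hA : Inv N A) (hB : Inv N B) : Inv N (A ⊓ B) :=
  ⟨inf_le_left.trans hA.1, fun n hn k hk => ⟨hA.2 n hn k hk.1, hB.2 n hn k hk.2⟩⟩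

theorem Inv.commute {N A B : Subgroup H} (hA : Inv N A) (hB : Inv N B) (hd : A ⊓ B = ⊥)
    {a b : H} (ha : a ∈ A) (hb : b ∈ B) : Commute a b := by
  have h1 : a * b * a⁻¹ * b⁻¹ ∈ A ⊓ B := by
    refine ⟨?_, B.mul_mem (hB.2 a (hA.1 ha) b hb) (B.inv_mem hb)⟩
    have := mul_mem ha (hA.2 b (hB.1 hb) a⁻¹ (inv_mem ha))
    simpa [mul_assoc] using this
  rw [hd, Subgroup.mem_bot] at h1
  exact mul_inv_eq_iff_eq_mul.mp (mul_inv_eq_one.mp h1)

theorem Inv.conj {N K : Subgroup H} [N.Normal] (hK : Inv N K) (h : H) :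
    Inv N (K.map (MulAut.conj h).toMonoidHom) := by
  refine ⟨?_, ?_⟩
  · rintro _ ⟨k, hk, rfl⟩
    simpa using (inferInstance : N.Normal).conj_mem k (hK.1 hk) h
  · rintro n hn _ ⟨k, hk, rfl⟩
    refine ⟨(h⁻¹ * n * h) * k * (h⁻¹ * n * h)⁻¹, hK.2 _ ?_ k hk, ?_⟩
    · simpa using (inferInstance : N.Normal).conj_mem n hn h⁻¹
    · simp [mul_assoc]

/-- The join of two commuting invariant subgroups with trivial meet is their product. -/
theorem Inv.exists_sup {N A B : Subgroup H} (hA : Inv N A) (hB : Inv N B) (hd : A ⊓ B = ⊥) :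
    ∃ C : Subgroup H, A ≤ C ∧ B ≤ C ∧ Inv N C ∧ Nonempty (C ≃* A × B) := by
  let f : A × B →* H :=
    MonoidHom.noncommCoprod A.subtype B.subtype (fun a b => hA.commute hB hd a.2 b.2)
  have hinj : Function.Injective f := by
    rw [injective_iff_map_eq_one]
    rintro ⟨⟨a, ha⟩, ⟨b, hb⟩⟩ h
    simp only [f, MonoidHom.noncommCoprod_apply, Subgroup.coe_subtype] at h
    have haB : a ∈ B := by rw [eq_inv_of_mul_eq_one_left h]; exact inv_mem hb
    have ha1 : a = 1 := Subgroup.mem_bot.mp (hd ▸ ⟨ha, haB⟩)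
    subst ha1
    rw [one_mul] at h
    subst h
    rfl
  refine ⟨f.range, fun a ha => ⟨(⟨a, ha⟩, 1), by simp [f]⟩, fun b hb => ⟨(1, ⟨b, hb⟩), by simp [f]⟩,
    ⟨?_, ?_⟩, ⟨(MonoidHom.ofInjective hinj).symm⟩⟩
  · rintro _ ⟨⟨a, b⟩, rfl⟩
    simp only [f, MonoidHom.noncommCoprod_apply, Subgroup.coe_subtype]
    exact mul_mem (hA.1 a.2) (hB.1 b.2)
  · rintro n hn _ ⟨⟨a, b⟩, rfl⟩
    refine ⟨(⟨_, hA.2 n hn a a.2⟩, ⟨_, hB.2 n hn b b.2⟩), ?_⟩
    simp [f, mul_assoc]

/-- A minimal normal subgroup is a power of a simple subgroup of itself. -/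
theorem exists_simple_power [Finite H] (N : Subgroup H) [N.Normal] (hN : N ≠ ⊥)
    (hmin : ∀ M : Subgroup H, M.Normal → M ≤ N → M = ⊥ ∨ M = N) :
    ∃ T : Subgroup H, T ≤ N ∧ IsSimpleGroup T ∧ ∃ m : ℕ, 0 < m ∧ Nonempty (N ≃* (Fin m → T)) := by
  classical
  have hNinv : Inv N N := ⟨le_rfl, fun n hn k hk => mul_mem (mul_mem hn hk) (inv_mem hn)⟩
  obtain ⟨T, ⟨hT, hTne⟩, hTmin⟩ := Set.Finite.exists_minimalFor id
    {K : Subgroup H | Inv N K ∧ K ≠ ⊥} (Set.toFinite _) ⟨N, hNinv, hN⟩
  replace hTmin : ∀ K : Subgroup H, Inv N K → K ≤ T → K = ⊥ ∨ K = T := by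
    intro K hK hKT
    by_cases h : K = ⊥
    · exact .inl h
    · exact .inr (le_antisymm hKT (hTmin (j := K) ⟨hK, h⟩ hKT))
  -- conjugates of `T`
  set C : H → Subgroup H := fun h => T.map (MulAut.conj h).toMonoidHom with hC
  have hCmin : ∀ h, ∀ K : Subgroup H, Inv N K → K ≤ C h → K = ⊥ ∨ K = C h := by
    intro h K hK hKC
    have hK' := hK.conj h⁻¹
    have hle : K.map (MulAut.conj h⁻¹).toMonoidHom ≤ T := by
      rintro _ ⟨k, hk, rfl⟩
      obtain ⟨t, ht, rfl⟩ := hKC hk
      simpa [mul_assoc] using ht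
    have hback : (K.map (MulAut.conj h⁻¹).toMonoidHom).map (MulAut.conj h).toMonoidHom = K := by
      rw [Subgroup.map_map]
      convert Subgroup.map_id K
      ext x
      simp [mul_assoc]
    rcases hTmin _ hK' hle with h' | h'
    · left; rw [← hback, h', Subgroup.map_bot]
    · right; rw [← hback, h']
  have hgen : ∀ X : Subgroup H, (∀ h, C h ≤ X) → N ≤ X := by
    intro X hX
    have hnc : Subgroup.normalClosure (T : Set H) = N := by
      have h1 : Subgroup.normalClosure (T : Set H) ≤ N := Subgroup.normalClosure_le_normal hT.1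
      refine (hmin _ Subgroup.normalClosure_normal h1).resolve_left fun h => hTne ?_
      exact le_bot_iff.mp (h ▸ Subgroup.le_normalClosure)
    rw [← hnc, Subgroup.normalClosure, Subgroup.closure_le]
    intro x hx
    obtain ⟨a, ha, hc⟩ := Group.mem_conjugatesOfSet_iff.mp hx
    obtain ⟨c, hc⟩ := isConj_iff.mp hc
    exact hX c ⟨a, ha, by simpa using hc⟩
  have hsimple : IsSimpleGroup T := by
    haveI : Nontrivial T := (Subgroup.nontrivial_iff_ne_bot _).mpr hTne
    refine ⟨fun L hL => ?_⟩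
    set L' : Subgroup H := L.map T.subtype with hL'
    have hL'T : L' ≤ T := Subgroup.map_subtype_le L
    have hsub : N ≤ Subgroup.normalizer (L' : Set H) := by
      refine hgen _ fun h => ?_
      rcases hTmin (C h ⊓ T) ((hT.conj h).inf hT) inf_le_right with hd | hd
      · intro x hx
        rw [Subgroup.mem_normalizer_iff]
        intro l
        have key : ∀ y ∈ C h, ∀ l ∈ L', y * l * y⁻¹ = l := fun y hy l hl => by
          rw [((hT.conj h).commute hT hd hy (hL'T hl)).eq, mul_inv_cancel_right]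
        refine ⟨fun hl => (key x hx l hl).symm ▸ hl, fun hl => ?_⟩
        have := key x⁻¹ (inv_mem hx) _ hl
        simp only [mul_assoc, inv_mul_cancel_left, inv_inv, inv_mul_cancel, mul_one] at this
        rw [this]
        simpa [mul_assoc] using hl
      · have hle : T ≤ C h := inf_eq_right.mp hd
        have heq : T = C h := (hCmin h T hT hle).resolve_left hTne
        rw [← heq]
        intro t ht
        rw [Subgroup.mem_normalizer_iff]
        intro l
        have key : ∀ s ∈ T, ∀ l ∈ L', s * l * s⁻¹ ∈ L' := by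
          rintro s hs _ ⟨l, hl, rfl⟩
          exact ⟨_, hL.conj_mem l hl ⟨s, hs⟩, rfl⟩
        refine ⟨key t ht l, fun hl => ?_⟩
        simpa [mul_assoc] using key t⁻¹ (inv_mem ht) _ hl
    have hinv : Inv N L' :=
      ⟨hL'T.trans hT.1, fun n hn k hk => (Subgroup.mem_normalizer_iff.mp (hsub hn) k).mp hk⟩
    rcases hTmin L' hinv hL'T with h | h
    · left
      exact (Subgroup.map_eq_bot_iff_of_injective _ T.subtype_injective).mp h
    · right
      refine Subgroup.map_injective T.subtype_injective ?_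
      rw [← MonoidHom.range_eq_map, Subgroup.range_subtype]
      exact h
  -- a maximal power of `T`
  obtain ⟨K, ⟨hK, m, ⟨e⟩⟩, hKmax⟩ := Set.Finite.exists_maximalFor id
    {K : Subgroup H | Inv N K ∧ ∃ m : ℕ, Nonempty (K ≃* (Fin m → T))} (Set.toFinite _)
    ⟨⊥, ⟨bot_le, fun n _ k hk => by simp_all⟩, 0,
      ⟨{ toFun := fun _ => 1, invFun := fun _ => 1,
         left_inv := fun _ => Subsingleton.elim _ _, right_inv := fun _ => Subsingleton.elim _ _,
         map_mul' := fun _ _ => Subsingleton.elim _ _ }⟩⟩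
  have hKN : K = N := by
    refine le_antisymm hK.1 (hgen K fun h => ?_)
    rcases hCmin h (C h ⊓ K) ((hT.conj h).inf hK) inf_le_left with hd | hd
    · exfalso
      obtain ⟨D, hCD, hKD, hD, ⟨f⟩⟩ := (hT.conj h).exists_sup hK hd
      let eC : C h ≃* T :=
        (T.equivMapOfInjective _ (MulAut.conj h).injective).symm
      let g : T × (Fin m → T) ≃* (Fin (m + 1) → T) :=
        { Fin.consEquiv (fun _ => (T : Type _)) with
          map_mul' := fun a b => by
            funext i
            refine Fin.cases ?_ ?_ i <;> simp [Fin.consEquiv] }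
      have hDK : D ≤ K := hKmax ⟨hD, m + 1, ⟨f.trans ((eC.prodCongr e).trans g)⟩⟩ hKD
      have : C h = ⊥ := by
        rw [← hd]; exact (inf_eq_left.mpr (hCD.trans hDK)).symm
      exact hTne ((Subgroup.map_eq_bot_iff_of_injective _ (MulAut.conj h).injective).mp this)
    · exact inf_eq_left.mp hd
  subst hKN
  refine ⟨T, hT.1, hsimple, m, Nat.pos_of_ne_zero ?_, ⟨e⟩⟩
  rintro rfl
  haveI : Subsingleton K := e.toEquiv.subsingleton
  exact hN (Subgroup.eq_bot_of_subsingleton K)

end CfsgLib.MinimalNormal
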