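import Cfsg.Agent.Lib.Perm.MultPrim
import Cfsg.Agent.Lib.Perm.MinimalNormal
import Cfsg.Agent.Lib.Perm.StepTransitive
import Cfsg.Agent.Lib.FrobCompl.Kernel
import Cfsg.Agent.S4252

/-!
# Minimal normal subgroups of 2-transitive groups
-/

namespace Cfsg.Agent.Lib.Perm.BurnsideTwoTrans

open MulAction
open scoped Pointwise

variable {α : Type*} [Fintype α] [DecidableEq α] {G : Subgroup (Equiv.Perm α)}
  (h2 : IsMultiplyPretransitive G α 2) {N : Subgroup G} [N.Normal]
  (hmin : ∀ M : Subgroup G, M.Normal → M ≤ N → M = ⊥ ∨ M = N)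

include h2 in
theorem exists_fix_map (a : α) {x y : α} (hx : x ≠ a) (hy : y ≠ a) :
    ∃ g : G, g • a = a ∧ g • x = y :=
  is_two_pretransitive_iff.1 h2 hx.symm hy.symm

omit [Fintype α] [DecidableEq α] in
theorem block_smul {B : Set α} (hB : IsBlock N B) (g : G) : IsBlock N (g • B) := by
  rw [isBlock_iff_smul_eq_or_disjoint] at hB ⊢
  intro n
  have e : n • g • B = g • ((⟨g⁻¹ * (n : G) * g, by
      simpa using (inferInstance : N.Normal).conj_mem n n.2 g⁻¹⟩ : N) • B) := by
    show (n : G) • g • B = g • (g⁻¹ * (n : G) * g) • B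
    rw [smul_smul, smul_smul]
    group
  rw [e]
  rcases hB ⟨g⁻¹ * (n : G) * g, by simpa using (inferInstance : N.Normal).conj_mem n n.2 g⁻¹⟩ with h | h
  · exact .inl (by rw [h])
  · exact .inr (Set.disjoint_smul_set.2 h)

include h2 hmin in
theorem preprimitive [Nontrivial α] (hN : N ≠ ⊥) (hnreg : ∃ a : α, stabilizer N a ≠ ⊥) :
    IsPreprimitive N α := by
  classical
  haveI : IsPreprimitive G α := isPreprimitive_of_is_two_pretransitive h2
  haveI : IsPretransitive N α := IsQuasiPreprimitive.isPretransitive_of_normal (by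
    intro h
    refine hN ((Subgroup.eq_bot_iff_forall N).2 fun n hn => Subtype.ext (Equiv.ext fun x => ?_))
    have : x ∈ fixedPoints N α := by rw [h]; trivial
    exact this ⟨n, hn⟩)
  refine ⟨fun {B} hB => ?_⟩
  by_contra hnt
  simp only [IsTrivialBlock, not_or, Set.not_subsingleton_iff] at hnt
  obtain ⟨⟨u, hu, v, hv, huv⟩, hBne⟩ := hnt
  let L : α → α → Set α := fun x y => ⋂ C ∈ {C : Set α | IsBlock N C ∧ x ∈ C ∧ y ∈ C}, C
  have hLblock : ∀ x y, IsBlock N (L x y) := fun x y => by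
    simp only [L, Set.biInter_eq_iInter]
    exact IsBlock.iInter fun C => C.2.1
  have hLl : ∀ x y, x ∈ L x y := fun x y => Set.mem_iInter₂.2 fun C hC => hC.2.1
  have hLr : ∀ x y, y ∈ L x y := fun x y => Set.mem_iInter₂.2 fun C hC => hC.2.2
  have hLmin : ∀ x y C, IsBlock N C → x ∈ C → y ∈ C → L x y ⊆ C := fun x y C h hx hy =>
    Set.biInter_subset_of_mem (s := {C : Set α | IsBlock N C ∧ x ∈ C ∧ y ∈ C}) ⟨h, hx, hy⟩
  have hLg : ∀ (g : G) x y, g • L x y = L (g • x) (g • y) := by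
    intro g x y
    refine Set.Subset.antisymm ?_ (hLmin _ _ _ (block_smul (hLblock x y) g)
      (Set.smul_mem_smul_set (hLl x y)) (Set.smul_mem_smul_set (hLr x y)))
    rw [Set.smul_set_subset_iff_subset_inv_smul_set]
    exact hLmin _ _ _ (block_smul (hLblock _ _) g⁻¹)
      (Set.mem_inv_smul_set_iff.2 (hLl _ _)) (Set.mem_inv_smul_set_iff.2 (hLr _ _))
  have hmove : ∀ x y z w : α, x ≠ y → z ≠ w → ∃ g : G, g • L x y = L z w := by
    intro x y z w hxy hzw
    obtain ⟨g, h1, h2'⟩ := is_two_pretransitive_iff.1 h2 hxy hzw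
    exact ⟨g, by rw [hLg, h1, h2']⟩
  have hline : ∀ x y z w, z ∈ L x y → w ∈ L x y → z ≠ w → L z w = L x y := by
    intro x y z w hz hw hzw
    have hxy : x ≠ y := by
      rintro rfl
      have h1 := hLmin x x {x} (IsBlock.singleton) rfl rfl
      exact hzw ((h1 hz).trans (h1 hw).symm)
    refine Set.eq_of_subset_of_ncard_le (hLmin _ _ _ (hLblock x y) hz hw) ?_ (Set.toFinite _)
    obtain ⟨g, hg⟩ := hmove x y z w hxy hzw
    rw [← hg, Set.ncard_smul_set]
  have hproper : ∀ x y, x ≠ y → ∃ z, z ∉ L x y := by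
    intro x y hxy
    by_contra hall
    push Not at hall
    obtain ⟨g, hg⟩ := hmove x y u v hxy huv
    apply hBne
    refine Set.eq_univ_of_univ_subset ?_
    refine le_trans ?_ (hLmin u v B hB hu hv)
    rw [← hg, Set.eq_univ_of_forall hall, Set.smul_set_univ]
  have hstep : ∀ (h : N) (a b z : α), a ≠ b → h • a = a → h • b = b → z ∉ L a b → h • z = z := by
    intro h a b z hab ha hb hz
    by_contra hne
    have hin : ∀ c, h • c = c → h • z ∈ L c z := by
      intro c hc
      rw [← (hLblock c z).smul_eq_of_mem (hLl c z) (by rw [hc]; exact hLl c z)]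
      exact Set.smul_mem_smul_set (hLr c z)
    have h1 := hline a z z (h • z) (hLr a z) (hin a ha) (Ne.symm hne)
    have h2' := hline b z z (h • z) (hLr b z) (hin b hb) (Ne.symm hne)
    have hbL : b ∈ L a z := by rw [← h1, h2']; exact hLl b z
    exact hz ((hline a z a b (hLl a z) hbL hab).symm ▸ hLr a z)
  have hfix : ∀ h : N, h ≠ 1 → ∀ a b : α, h • a = a → h • b = b → a = b := by
    intro h h1 a b ha hb
    by_contra hab
    apply h1
    obtain ⟨z, hz⟩ := hproper a b hab
    have hz' := hstep h a b z hab ha hb hz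
    refine Subtype.ext (Subtype.ext (Equiv.ext fun w => ?_))
    show h • w = w
    by_cases hw : w ∈ L a b
    · by_cases hwa : w = a
      · rw [hwa, ha]
      · refine hstep h a z w (fun e => hz (e ▸ hLl a b)) ha hz' fun hwz => hz ?_
        rw [← hline a b a w (hLl a b) hw (Ne.symm hwa), hline a z a w (hLl a z) hwz (Ne.symm hwa)]
        exact hLr a z
    · exact hstep h a b w hab ha hb hw
  obtain ⟨a, hS⟩ := hnreg
  haveI : Nontrivial (stabilizer N a) := (Subgroup.nontrivial_iff_ne_bot _).2 hS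
  obtain ⟨h0, hh0, hh1⟩ : ∃ h : N, h • a = a ∧ h ≠ 1 := by
    obtain ⟨⟨h, hh⟩, hne⟩ := exists_ne (1 : stabilizer N a)
    exact ⟨h, hh, fun e => hne (Subtype.ext e)⟩
  obtain ⟨hFC, hker⟩ := Cfsg.Agent.S4252.result (G := N) (Ω := α) Fintype.one_lt_card
    (exists_smul_eq N) ⟨h0, hh1, a, hh0⟩ hfix a
  obtain ⟨K, hK, hKn, hKc⟩ := CfsgLib.FrobCompl.exists_kernel_complement hFC
  rw [hker] at hK
  have hKG : (K.map N.subtype).Normal := by
    refine ⟨?_⟩
    rintro _ ⟨k, hk, rfl⟩ g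
    refine ⟨⟨g * (k : G) * g⁻¹, (inferInstance : N.Normal).conj_mem k k.2 g⟩, ?_, rfl⟩
    rw [hK] at hk ⊢
    rcases hk with hk | hk
    · exact .inl (Subtype.ext (by simp [hk]))
    · refine .inr fun ω e => hk (g⁻¹ • ω) ?_
      have e' : (g * (k : G) * g⁻¹) • ω = ω := e
      rw [mul_smul, mul_smul, smul_eq_iff_eq_inv_smul] at e'
      exact e'
  rcases hmin _ hKG (Subgroup.map_subtype_le K) with h | h
  · rw [Subgroup.map_eq_bot_iff_of_injective _ N.subtype_injective] at h
    subst h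
    exact hFC.2.1 (Subgroup.isComplement'_bot_left.1 hKc)
  · have : h0 ∈ K := by
      have : (h0 : G) ∈ K.map N.subtype := by rw [h]; exact h0.2
      obtain ⟨k, hk, hkh⟩ := this
      rwa [← show k = h0 from Subtype.ext hkh]
    rw [← SetLike.mem_coe, hK] at this
    exact this.elim hh1 fun f => f a hh0

include h2 hmin in
theorem simple [Nontrivial α] (hN : N ≠ ⊥) [IsPreprimitive N α] (hnreg : ∃ a : α, stabilizer N a ≠ ⊥) :
    IsSimpleGroup N := by
  classical
  haveI : Nontrivial N := (Subgroup.nontrivial_iff_ne_bot N).2 hN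
  refine ⟨fun M₀ hM₀ => ?_⟩
  by_contra hcon
  push Not at hcon
  -- a minimal one
  obtain ⟨M, ⟨hMinv, hMne⟩, hMmin⟩ := Set.Finite.exists_minimalFor id
    {K : Subgroup G | CfsgLib.MinimalNormal.Inv N K ∧ K ≠ ⊥} (Set.toFinite _)
    ⟨M₀.map N.subtype, ⟨Subgroup.map_subtype_le M₀, by
      rintro n hn _ ⟨k, hk, rfl⟩
      exact ⟨_, hM₀.conj_mem k hk ⟨n, hn⟩, rfl⟩⟩,
      fun h => hcon.1 ((Subgroup.map_eq_bot_iff_of_injective _ N.subtype_injective).1 h)⟩
  replace hMmin : ∀ K : Subgroup G, CfsgLib.MinimalNormal.Inv N K → K ≤ M → K = ⊥ ∨ K = M := by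
    intro K hK hKM
    by_cases h : K = ⊥
    · exact .inl h
    · exact .inr (le_antisymm hKM (hMmin (j := K) ⟨hK, h⟩ hKM))
  have hMtrans : ∀ x y : α, ∃ m ∈ M, m • x = y := by
    have hn : (M.subgroupOf N).Normal := ⟨fun k hk n => hMinv.2 n n.2 k hk⟩
    haveI : IsPretransitive (M.subgroupOf N) α := IsQuasiPreprimitive.isPretransitive_of_normal (by
      intro h
      refine hMne ((Subgroup.eq_bot_iff_forall M).2 fun m hm => Subtype.ext (Equiv.ext fun x => ?_))
      have : x ∈ fixedPoints (M.subgroupOf N) α := by rw [h]; trivial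
      exact this ⟨⟨m, hMinv.1 hm⟩, hm⟩)
    intro x y
    obtain ⟨m, hm⟩ := exists_smul_eq (M.subgroupOf N) x y
    exact ⟨((m : N) : G), m.2, hm⟩
  let C : G → Subgroup G := fun g => M.map (MulAut.conj g).toMonoidHom
  obtain ⟨g, hg⟩ : ∃ g, C g ≠ M := by
    by_contra hall
    push Not at hall
    have hMn : M.Normal := ⟨fun m hm g => (hall g).le ⟨m, hm, rfl⟩⟩
    rcases hmin M hMn hMinv.1 with h | h
    · exact hMne h
    · refine hcon.2 (eq_top_iff.2 fun x _ => ?_)
      have hle : M ≤ M₀.map N.subtype := by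
        rcases hMmin (M ⊓ M₀.map N.subtype) (hMinv.inf ⟨Subgroup.map_subtype_le M₀, by
          rintro n hn _ ⟨k, hk, rfl⟩
          exact ⟨_, hM₀.conj_mem k hk ⟨n, hn⟩, rfl⟩⟩) inf_le_left with h' | h'
        · exfalso
          refine hcon.1 ((Subgroup.map_eq_bot_iff_of_injective _ N.subtype_injective).1 ?_)
          rw [← h', h]
          exact (inf_eq_right.2 (Subgroup.map_subtype_le M₀)).symm
        · exact inf_eq_left.1 h'
      obtain ⟨k, hk, hkx⟩ := hle (h ▸ x.2 : (x : G) ∈ M)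
      rwa [← show k = x from Subtype.ext hkx]
  set M' := C g
  have hdisj : ∀ c, C c ≠ M → M ⊓ C c = ⊥ := by
    intro c hc
    rcases hMmin _ (hMinv.inf (hMinv.conj c)) inf_le_left with h | h
    · exact h
    · exfalso
      refine hc (SetLike.coe_injective ?_).symm
      refine Set.eq_of_subset_of_ncard_le (SetLike.coe_subset_coe.2 (inf_eq_left.1 h)) ?_ (Set.toFinite _)
      exact (Set.ncard_image_of_injective (M : Set G) (MulAut.conj c).injective).le
  have hcomm : ∀ c, C c ≠ M → ∀ m ∈ M, ∀ m' ∈ C c, Commute m m' := fun c hc m hm m' hm' =>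
    hMinv.commute (hMinv.conj c) (hdisj c hc) hm hm'
  have hM'trans : ∀ x y : α, ∃ m' ∈ M', m' • x = y := by
    intro x y
    obtain ⟨m, hm, hxy⟩ := hMtrans (g⁻¹ • x) (g⁻¹ • y)
    refine ⟨g * m * g⁻¹, ⟨m, hm, rfl⟩, ?_⟩
    rw [mul_smul, mul_smul, hxy, smul_inv_smul]
  have hsemi : ∀ u : G, (∀ m ∈ M, Commute m u) → ∀ x : α, u • x = x → u = 1 := by
    intro u hu x hx
    refine Subtype.ext (Equiv.ext fun y => ?_)
    obtain ⟨m, hm, rfl⟩ := hMtrans x y
    show u • m • x = m • x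
    rw [← mul_smul, ← (hu m hm).eq, mul_smul, hx]
  have hsemi' : ∀ m ∈ M, ∀ x : α, m • x = x → m = 1 := by
    intro m hm x hx
    refine Subtype.ext (Equiv.ext fun y => ?_)
    obtain ⟨m', hm', rfl⟩ := hM'trans x y
    show m • m' • x = m' • x
    rw [← mul_smul, (hcomm g hg m hm m' hm').eq, mul_smul, hx]
  let f : M × M' →* G := MonoidHom.noncommCoprod M.subtype M'.subtype
    (fun m m' => hcomm g hg m m.2 m' m'.2)
  have hf : ∀ x : M × M', f x = (x.1 : G) * x.2 := fun _ => rfl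
  have hNle : N ≤ f.range := by
    have hnc : Subgroup.normalClosure (M : Set G) = N := by
      refine (hmin _ Subgroup.normalClosure_normal (Subgroup.normalClosure_le_normal hMinv.1)).resolve_left
        fun h => hMne ?_
      exact le_bot_iff.mp (h ▸ Subgroup.le_normalClosure)
    rw [← hnc, Subgroup.normalClosure, Subgroup.closure_le]
    intro x hx
    obtain ⟨m, hm, hc⟩ := Group.mem_conjugatesOfSet_iff.mp hx
    obtain ⟨c, rfl⟩ := isConj_iff.mp hc
    by_cases hcM : C c = M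
    · exact ⟨(⟨c * m * c⁻¹, hcM.le ⟨m, hm, rfl⟩⟩, 1), by rw [hf]; simp⟩
    · obtain ⟨a, -⟩ := exists_pair_ne α
      obtain ⟨m', hm', he⟩ := hM'trans a ((c * m * c⁻¹) • a)
      have h1 := hsemi (m'⁻¹ * (c * m * c⁻¹))
        (fun k hk => (hcomm g hg k hk m' hm').inv_right.mul_right (hcomm c hcM k hk _ ⟨m, hm, rfl⟩))
        a (by rw [mul_smul, ← he, inv_smul_smul])
      exact ⟨(1, ⟨m', hm'⟩), by rw [hf, ← inv_mul_eq_one.1 h1]; simp⟩
  obtain ⟨a, hS⟩ := hnreg
  haveI : Nontrivial (stabilizer N a) := (Subgroup.nontrivial_iff_ne_bot _).2 hS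
  let H := stabilizer N a
  let r : α → Set α := fun x => orbit H x
  have hrcard : ∀ x y, x ≠ a → y ≠ a → (r x).ncard = (r y).ncard := by
    intro x y hx hy
    have key : ∀ x y, x ≠ a → y ≠ a → (r x).ncard ≤ (r y).ncard := by
      intro x y hx hy
      obtain ⟨t, hta, htx⟩ := exists_fix_map h2 a hx hy
      refine Set.ncard_le_ncard_of_injOn (fun z => t • z) ?_ (fun z _ w _ h => smul_left_cancel t h)
        (Set.toFinite _)
      rintro _ ⟨u, rfl⟩
      refine ⟨⟨⟨t * ((u : N) : G) * t⁻¹, (inferInstance : N.Normal).conj_mem _ (u : N).2 t⟩, ?_⟩, ?_⟩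
      · show (t * ((u : N) : G) * t⁻¹) • a = a
        rw [mul_smul, mul_smul, inv_smul_eq_iff.2 hta.symm, show ((u : N) : G) • a = a from u.2, hta]
      · show (t * ((u : N) : G) * t⁻¹) • y = t • ((u : N) : G) • x
        rw [mul_smul, mul_smul, inv_smul_eq_iff.2 htx.symm]
    exact le_antisymm (key x y hx hy) (key y x hy hx)
  -- orbits are conjugacy classes
  have hbij : Function.Bijective (fun m : M => (m : G) • a) := by
    constructor
    · intro m m' h
      simp only at h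
      refine Subtype.ext (inv_mul_eq_one.1 (hsemi' _ (M.mul_mem (M.inv_mem m'.2) m.2) a ?_)).symm
      rw [mul_smul, h, inv_smul_smul]
    · intro y
      obtain ⟨m, hm, h⟩ := hMtrans a y
      exact ⟨⟨m, hm⟩, h⟩
  have hdvd : ∀ x, x ≠ a → (r x).ncard ∣ Fintype.card α := by
    intro x hx
    obtain ⟨m1, rfl⟩ := hbij.2 x
    have hr : r ((m1 : G) • a) = (fun m : M => (m : G) • a) '' {m | IsConj m1 m} := by
      ext y
      constructor
      · rintro ⟨u, rfl⟩
        obtain ⟨⟨m, m'⟩, hu⟩ := hNle (u : N).2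
        rw [hf] at hu
        refine ⟨m * m1 * m⁻¹, isConj_iff.2 ⟨m, rfl⟩, ?_⟩
        have hua : ((u : N) : G) • a = a := u.2
        rw [← hu, mul_smul, ← eq_inv_smul_iff] at hua
        show ((m : G) * m1 * (m : G)⁻¹) • a = ((u : N) : G) • (m1 : G) • a
        rw [← hu, mul_smul, mul_smul, mul_smul, ← mul_smul (m' : G) (m1 : G),
          ← (hcomm g hg m1 m1.2 m' m'.2).eq, mul_smul, hua]
      · rintro ⟨_, hm, rfl⟩
        obtain ⟨m, rfl⟩ := isConj_iff.1 hm
        obtain ⟨m', hm', he⟩ := hM'trans a ((m : G)⁻¹ • a)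
        refine ⟨⟨⟨(m : G) * m', mul_mem (hMinv.1 m.2) ((hMinv.conj g).1 hm')⟩, ?_⟩, ?_⟩
        · show ((m : G) * m') • a = a
          rw [mul_smul, he, smul_inv_smul]
        · show ((m : G) * m') • (m1 : G) • a = ((m : G) * m1 * (m : G)⁻¹) • a
          rw [mul_smul, ← mul_smul m' (m1 : G), ← (hcomm g hg m1 m1.2 m' hm').eq, mul_smul, he,
            mul_smul, mul_smul]
    rw [hr, Set.ncard_image_of_injective _ hbij.1,
      show {m : M | IsConj m1 m} = orbit (ConjAct M) m1 by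
        ext m; rw [ConjAct.mem_orbit_conjAct, isConj_comm, Set.mem_setOf_eq],
      ← Nat.card_coe_set_eq, ← Nat.card_eq_fintype_card (α := α), ← Nat.card_eq_of_bijective _ hbij,
      ← Nat.card_congr (ConjAct.toConjAct (G := M)).toEquiv.symm]
    exact ⟨Nat.card (stabilizer (ConjAct M) m1), by
      rw [← Nat.card_prod, Nat.card_congr (orbitProdStabilizerEquivGroup (ConjAct M) m1)]⟩
  obtain ⟨⟨h0, hh0⟩, hne⟩ := exists_ne (1 : stabilizer N a)
  refine hne (Subtype.ext (Subtype.ext (Subtype.ext (Equiv.ext fun x => ?_))))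
  show (h0 : G) • x = x
  by_cases hx : x = a
  · rw [hx]; exact hh0
  have hsub : (r x).ncard ∣ ({y : α | y ≠ a} : Set α).ncard := by
    refine Cfsg.Agent.Lib.Perm.dvd_ncard_of_orbits (G := H) _ (Set.toFinite _) ?_
      (fun y hy => (hrcard x y hx hy).dvd)
    intro u y hy e
    exact hy (smul_left_cancel u (e.trans u.2.symm))
  have hn : ({y : α | y ≠ a} : Set α).ncard + 1 = Fintype.card α := by
    rw [show {y : α | y ≠ a} = ({a} : Set α)ᶜ by ext; simp, ← Nat.card_eq_fintype_card,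
      ← Set.ncard_add_ncard_compl ({a} : Set α), Set.ncard_singleton, add_comm]
  have h1 : (r x).ncard = 1 := Nat.dvd_one.1 ((Nat.dvd_add_right hsub).1 (hn ▸ hdvd x hx))
  exact (Set.ncard_le_one (Set.toFinite _)).1 h1.le _ ⟨⟨h0, hh0⟩, rfl⟩ _ (mem_orbit_self x)

include h2 hmin in
theorem regular [Nontrivial α] (hN : N ≠ ⊥) (hreg : ∀ a : α, stabilizer N a = ⊥) :
    IsMulCommutative N ∧ ∃ p : ℕ, p.Prime ∧ ∀ n ∈ N, n ^ p = 1 := by
  classical
  haveI : IsPreprimitive G α := isPreprimitive_of_is_two_pretransitive h2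
  have htr : IsPretransitive N α := IsQuasiPreprimitive.isPretransitive_of_normal (by
    intro h
    refine hN ((Subgroup.eq_bot_iff_forall N).2 fun n hn => Subtype.ext (Equiv.ext fun x => ?_))
    have : x ∈ fixedPoints N α := by rw [h]; trivial
    exact this ⟨n, hn⟩)
  obtain ⟨a, -⟩ := exists_pair_ne α
  obtain ⟨t, htb, hta, ht1, htc⟩ := CfsgLib.MultPrim.exists_coord htr hreg a
  haveI : Nontrivial N := (Subgroup.nontrivial_iff_ne_bot N).2 hN
  obtain ⟨p, hp, hpd⟩ := Nat.exists_prime_and_dvd (n := Nat.card N) Finite.one_lt_card.ne'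
  haveI : Fact p.Prime := ⟨hp⟩
  obtain ⟨n0, hn0⟩ := exists_prime_orderOf_dvd_card' p hpd
  have hexp : ∀ n : N, n ^ p = 1 := by
    intro n
    rcases eq_or_ne n 1 with rfl | hn
    · exact one_pow p
    obtain ⟨x, rfl⟩ := htb.2 n
    obtain ⟨x0, rfl⟩ := htb.2 n0
    have hx : x ≠ a := fun e => hn (by rw [e, ht1])
    have hx0 : x0 ≠ a := fun e => hp.one_lt.ne' (by rw [← hn0, e, ht1, orderOf_one])
    obtain ⟨g, hga, hgx⟩ := exists_fix_map h2 a hx0 hx
    refine Subtype.ext ?_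
    rw [Subgroup.coe_pow, ← hgx, htc g hga x0, conj_pow, ← Subgroup.coe_pow, ← hn0, pow_orderOf_eq_one]
    simp
  refine ⟨?_, p, hp, fun n hn => congrArg Subtype.val (hexp ⟨n, hn⟩)⟩
  have hP : IsPGroup p N := fun n => ⟨1, by rw [pow_one, hexp]⟩
  haveI := hP.center_nontrivial
  rcases hmin ((Subgroup.center N).map N.subtype) inferInstance (Subgroup.map_subtype_le _) with h | h
  · exact absurd ((Subgroup.map_eq_bot_iff_of_injective _ N.subtype_injective).1 h)
      ((Subgroup.nontrivial_iff_ne_bot _).1 inferInstance)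
  · refine ⟨⟨fun x y => ?_⟩⟩
    obtain ⟨z, hz, hzx⟩ : (x : G) ∈ (Subgroup.center N).map N.subtype := by rw [h]; exact x.2
    rw [← show z = x from Subtype.ext hzx]
    exact ((Subgroup.mem_center_iff.1 hz) y).symm

end Cfsg.Agent.Lib.Perm.BurnsideTwoTrans
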