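import Mathlib

/-!
# A classification-free lower bound for the minimal degree of a primitive group (Babai)

`Rel G a b x y` says that some element of `G` maps the unordered pair `{a, b}` to `{x, y}`.
For `x ≠ y` the set `D G x y` of points telling `x` and `y` apart is contained in the support
of every element mapping `x` to `y`, and it has at least `(√n - 1) / 2` points unless all
unordered pairs are related; in that case a small support gives a three cycle.
-/

set_option autoImplicit false

open Finset

namespace Cfsg.Agent.MinDegBabai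

variable (G : Type*) {Ω : Type*} [Group G] [MulAction G Ω]

/-- Some element of `G` maps the unordered pair `{a, b}` onto `{x, y}`. -/
def Rel (a b x y : Ω) : Prop :=
  ∃ h : G, (h • a = x ∧ h • b = y) ∨ (h • a = y ∧ h • b = x)

variable {G}

lemma Rel.refl (a b : Ω) : Rel G a b a b := ⟨1, .inl ⟨one_smul _ _, one_smul _ _⟩⟩

lemma Rel.flip {a b x y : Ω} (h : Rel G a b x y) : Rel G a b y x := by
  obtain ⟨g, hg⟩ := h
  exact ⟨g, hg.symm⟩

lemma Rel.symm {a b x y : Ω} (h : Rel G a b x y) : Rel G x y a b := by
  obtain ⟨g, ⟨h1, h2⟩ | ⟨h1, h2⟩⟩ := h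
  · exact ⟨g⁻¹, .inl ⟨by rw [← h1, inv_smul_smul], by rw [← h2, inv_smul_smul]⟩⟩
  · exact ⟨g⁻¹, .inr ⟨by rw [← h2, inv_smul_smul], by rw [← h1, inv_smul_smul]⟩⟩

lemma Rel.trans {a b x y u v : Ω} (h : Rel G a b x y) (h' : Rel G x y u v) :
    Rel G a b u v := by
  obtain ⟨g, ⟨h1, h2⟩ | ⟨h1, h2⟩⟩ := h <;> obtain ⟨k, ⟨k1, k2⟩ | ⟨k1, k2⟩⟩ := h'
  · exact ⟨k * g, .inl ⟨by rw [mul_smul, h1, k1], by rw [mul_smul, h2, k2]⟩⟩
  · exact ⟨k * g, .inr ⟨by rw [mul_smul, h1, k1], by rw [mul_smul, h2, k2]⟩⟩
  · exact ⟨k * g, .inr ⟨by rw [mul_smul, h1, k2], by rw [mul_smul, h2, k1]⟩⟩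
  · exact ⟨k * g, .inl ⟨by rw [mul_smul, h1, k2], by rw [mul_smul, h2, k1]⟩⟩

lemma Rel.smul (g : G) (x y : Ω) : Rel G x y (g • x) (g • y) := ⟨g, .inl ⟨rfl, rfl⟩⟩

lemma Rel.swap (x y : Ω) : Rel G x y y x := ⟨1, .inr ⟨one_smul _ _, one_smul _ _⟩⟩

lemma Rel.ne {a b x y : Ω} (hab : a ≠ b) (h : Rel G a b x y) : x ≠ y := by
  obtain ⟨g, ⟨h1, h2⟩ | ⟨h1, h2⟩⟩ := h
  · subst h1; subst h2; exact fun e => hab (MulAction.injective g e)
  · subst h1; subst h2; exact fun e => hab (MulAction.injective g e.symm)

/-- The graph of one symmetrized orbital. -/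
def pairGraph {a b : Ω} (hab : a ≠ b) : SimpleGraph Ω where
  Adj u v := Rel G a b u v
  symm := ⟨fun _ _ h => h.flip⟩
  loopless := ⟨fun _ h => h.ne hab rfl⟩

lemma adj_smul {a b : Ω} (hab : a ≠ b) (g : G) {u v : Ω}
    (h : (pairGraph (G := G) hab).Adj u v) : (pairGraph (G := G) hab).Adj (g • u) (g • v) :=
  Rel.trans h (Rel.smul g u v)

/-- `g` as an endomorphism of the graph. -/
def smulHom {a b : Ω} (hab : a ≠ b) (g : G) :
    pairGraph (G := G) hab →g pairGraph (G := G) hab where
  toFun := fun u => g • u
  map_rel' := fun h => adj_smul hab g h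

open Pointwise in
theorem pairGraph_connected [Nontrivial Ω] (hprim : MulAction.IsPreprimitive G Ω)
    {a b : Ω} (hab : a ≠ b) : (pairGraph (G := G) hab).Connected := by
  set Γ := pairGraph (G := G) hab
  let B : Set Ω := {v | Γ.Reachable a v}
  have hB : MulAction.IsBlock G B := by
    rw [MulAction.isBlock_iff_smul_eq_or_disjoint]
    intro g
    by_cases hg : Γ.Reachable a (g • a)
    · left
      ext v
      rw [Set.mem_smul_set_iff_inv_smul_mem]
      constructor
      · intro h
        have h' := h.map (smulHom hab g)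
        change Γ.Reachable (g • a) (g • (g⁻¹ • v)) at h'
        rw [smul_inv_smul] at h'
        exact hg.trans h'
      · intro h
        have h' := (hg.symm.trans h).map (smulHom hab g⁻¹)
        change Γ.Reachable (g⁻¹ • g • a) (g⁻¹ • v) at h'
        rwa [inv_smul_smul] at h'
    · right
      rw [Set.disjoint_left]
      intro v hv hv'
      rw [Set.mem_smul_set_iff_inv_smul_mem] at hv
      have h' := SimpleGraph.Reachable.map (smulHom hab g) hv
      change Γ.Reachable (g • a) (g • (g⁻¹ • v)) at h'
      rw [smul_inv_smul] at h'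
      exact hg (hv'.trans h'.symm)
  rcases hprim.isTrivialBlock_of_isBlock hB with h | h
  · exfalso
    have hb : Γ.Adj a b := Rel.refl a b
    exact hab (h (show a ∈ B from SimpleGraph.Reachable.refl a) (show b ∈ B from hb.reachable))
  · refine SimpleGraph.Connected.mk fun u v => ?_
    have hu : u ∈ B := h ▸ Set.mem_univ u
    have hv : v ∈ B := h ▸ Set.mem_univ v
    exact SimpleGraph.Reachable.trans (SimpleGraph.Reachable.symm hu) hv

/-- Graph distance is invariant under the group. -/
lemma dist_smul {a b : Ω} (hab : a ≠ b) (hc : (pairGraph (G := G) hab).Connected)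
    (g : G) (u v : Ω) :
    (pairGraph (G := G) hab).dist (g • u) (g • v) = (pairGraph (G := G) hab).dist u v := by
  have key : ∀ (k : G) (x y : Ω), (pairGraph (G := G) hab).dist (k • x) (k • y) ≤
      (pairGraph (G := G) hab).dist x y := fun k x y => by
    obtain ⟨p, hp⟩ := hc.exists_walk_length_eq_dist x y
    rw [← hp, ← SimpleGraph.Walk.length_map (smulHom hab k) p]
    exact SimpleGraph.dist_le _
  refine le_antisymm (key g u v) ?_
  simpa using key g⁻¹ (g • u) (g • v)

lemma dist_eq_of_rel {a b : Ω} (hab : a ≠ b) (hc : (pairGraph (G := G) hab).Connected)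
    {u v x y : Ω} (h : Rel G u v x y) :
    (pairGraph (G := G) hab).dist u v = (pairGraph (G := G) hab).dist x y := by
  obtain ⟨g, ⟨h1, h2⟩ | ⟨h1, h2⟩⟩ := h <;> subst h1 <;> subst h2
  · rw [dist_smul hab hc]
  · rw [← dist_smul hab hc g u v, SimpleGraph.dist_comm]

/-- A neighbour one step closer to `z`. -/
lemma exists_closer {V : Type*} {Γ : SimpleGraph V} (hc : Γ.Connected) {x z : V} (hne : x ≠ z) :
    ∃ y, Γ.Adj x y ∧ Γ.dist y z + 1 = Γ.dist x z := by
  obtain ⟨p, hp⟩ := hc.exists_walk_length_eq_dist x z
  cases p with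
  | nil => exact absurd rfl hne
  | @cons _ y _ hxy q =>
    refine ⟨y, hxy, ?_⟩
    rw [SimpleGraph.Walk.length_cons] at hp
    have h1 := SimpleGraph.dist_le q
    have h2 : Γ.dist x z ≤ Γ.dist x y + Γ.dist y z := hc.dist_triangle
    rw [SimpleGraph.dist_eq_one_iff_adj.mpr hxy] at h2
    omega

lemma exists_at_dist {V : Type*} {Γ : SimpleGraph V} (hc : Γ.Connected) (z : V) :
    ∀ (x : V) (j : ℕ), j ≤ Γ.dist x z → ∃ p, Γ.dist p z = j := by
  intro x
  induction h : Γ.dist x z using Nat.strong_induction_on generalizing x with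
  | _ d ih =>
    intro j hj
    rcases hj.eq_or_lt with rfl | hlt
    · exact ⟨x, h⟩
    · have hne : x ≠ z := by
        rintro rfl
        rw [SimpleGraph.dist_self] at h
        omega
      obtain ⟨y, -, hy⟩ := exists_closer hc hne
      exact ih (Γ.dist y z) (by omega) y rfl j (by omega)

section Finite

variable [Fintype Ω] [DecidableEq Ω]

open Classical in
/-- The points telling `x` and `y` apart. -/
noncomputable def D (G : Type*) [Group G] [MulAction G Ω] (x y : Ω) : Finset Ω :=
  univ.filter fun z => ¬ Rel G x z y z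

open Classical in
/-- The neighbours in a symmetrized orbital. -/
noncomputable def N (G : Type*) [Group G] [MulAction G Ω] (a b u : Ω) : Finset Ω :=
  univ.filter fun v => Rel G a b u v

@[simp] lemma mem_D {x y z : Ω} : z ∈ D G x y ↔ ¬ Rel G x z y z := by simp [D]

@[simp] lemma mem_N {a b u v : Ω} : v ∈ N G a b u ↔ Rel G a b u v := by simp [N]

lemma D_comm (x y : Ω) : D G x y = D G y x := by
  ext z; simp only [mem_D, not_iff_not]; exact ⟨Rel.symm, Rel.symm⟩

lemma D_self (x : Ω) : D G x x = ∅ := by
  ext z; simp [Rel.refl]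

lemma D_triangle (x y z : Ω) : D G x z ⊆ D G x y ∪ D G y z := by
  intro w hw
  rw [mem_union, mem_D, mem_D]
  rw [mem_D] at hw
  by_contra h
  push Not at h
  exact hw (h.1.trans h.2)

lemma D_smul (g : G) (x y : Ω) :
    (D G (g • x) (g • y)).card = (D G x y).card := by
  symm
  refine card_bij (fun z _ => g • z) ?_ (fun _ _ _ _ h => MulAction.injective g h) ?_
  · intro z hz
    rw [mem_D] at hz ⊢
    intro h
    exact hz (((Rel.smul g x z).trans h).trans (Rel.smul g y z).symm)
  · intro z hz
    refine ⟨g⁻¹ • z, ?_, smul_inv_smul g z⟩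
    rw [mem_D] at hz ⊢
    intro h
    apply hz
    have h1 := (Rel.smul g x (g⁻¹ • z)).symm.trans (h.trans (Rel.smul g y (g⁻¹ • z)))
    rwa [smul_inv_smul] at h1

lemma D_card_of_rel {a b x y : Ω} (h : Rel G a b x y) :
    (D G x y).card = (D G a b).card := by
  obtain ⟨g, ⟨h1, h2⟩ | ⟨h1, h2⟩⟩ := h <;> subst h1 <;> subst h2
  · exact D_smul g a b
  · rw [D_comm, D_smul]

lemma N_smul (g : G) (a b u : Ω) : (N G a b (g • u)).card = (N G a b u).card := by
  symm
  refine card_bij (fun z _ => g • z) ?_ (fun _ _ _ _ h => MulAction.injective g h) ?_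
  · intro z hz
    rw [mem_N] at hz ⊢
    exact hz.trans (Rel.smul g u z)
  · intro z hz
    refine ⟨g⁻¹ • z, ?_, smul_inv_smul g z⟩
    rw [mem_N] at hz ⊢
    have := hz.trans (Rel.smul g⁻¹ (g • u) z)
    rwa [inv_smul_smul] at this

lemma N_card (hG : MulAction.IsPretransitive G Ω) (a b u : Ω) :
    (N G a b u).card = (N G a b a).card := by
  obtain ⟨g, rfl⟩ := hG.exists_smul_eq a u
  exact N_smul g a b a

lemma N_card_congr (hG : MulAction.IsPretransitive G Ω) {a b x y : Ω} (h : Rel G a b x y) :
    (N G x y x).card = (N G a b a).card := by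
  rw [← N_card hG a b x]
  congr 1
  ext v
  simp only [mem_N]
  exact ⟨fun h' => h.trans h', fun h' => h.symm.trans h'⟩

variable {a b : Ω} (hab : a ≠ b)

/-- `D` grows at most linearly with the distance. -/
lemma D_le_dist_mul (hc : (pairGraph (G := G) hab).Connected) :
    ∀ x v : Ω, (D G x v).card ≤ (pairGraph (G := G) hab).dist x v * (D G a b).card := by
  intro x v
  induction h : (pairGraph (G := G) hab).dist x v generalizing x with
  | zero => rw [(hc.dist_eq_zero_iff).mp h, D_self]; simp
  | succ d ih =>
    have hne : x ≠ v := by rintro rfl; simp at h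
    obtain ⟨y, hxy, hy⟩ := exists_closer hc hne
    refine (card_le_card (D_triangle x y v)).trans ((card_union_le _ _).trans ?_)
    have h1 := ih y (by omega)
    rw [D_card_of_rel (show Rel G a b x y from hxy)]
    linarith

/-- Points at different distances modulo three have disjoint closed neighbourhoods. -/
lemma ball_count (hG : MulAction.IsPretransitive G Ω)
    (hc : (pairGraph (G := G) hab).Connected) (z x : Ω) (T : Finset Ω) (J : ℕ)
    (hJ : 3 * J ≤ (pairGraph (G := G) hab).dist x z)
    (hT : ∀ w, (pairGraph (G := G) hab).dist w z ≤ 3 * J + 1 → w ∈ T) :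
    (J + 1) * ((N G a b a).card + 1) ≤ T.card := by
  set Γ := pairGraph (G := G) hab
  have hp : ∀ j : Fin (J + 1), ∃ p, Γ.dist p z = 3 * (j : ℕ) := fun j =>
    exists_at_dist hc z x _ (le_trans (by have := j.2; omega) hJ)
  choose p hp using hp
  have hnot : ∀ j, p j ∉ N G a b (p j) := fun j h => (Rel.ne hab (mem_N.mp h)) rfl
  have hd : ∀ j w, w ∈ insert (p j) (N G a b (p j)) →
      Γ.dist w z ≤ 3 * (j : ℕ) + 1 ∧ 3 * (j : ℕ) ≤ Γ.dist w z + 1 := by
    intro j w hw
    rw [mem_insert] at hw
    rcases hw with rfl | hw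
    · constructor <;> rw [hp j] <;> omega
    · have hadj : Γ.Adj (p j) w := mem_N.mp hw
      have h1 : Γ.dist w z ≤ Γ.dist w (p j) + Γ.dist (p j) z := hc.dist_triangle
      have h2 : Γ.dist (p j) z ≤ Γ.dist (p j) w + Γ.dist w z := hc.dist_triangle
      rw [SimpleGraph.dist_eq_one_iff_adj.mpr hadj.symm, hp j] at h1
      rw [SimpleGraph.dist_eq_one_iff_adj.mpr hadj, hp j] at h2
      constructor <;> omega
  have hdisj : (↑(univ : Finset (Fin (J + 1))) : Set (Fin (J + 1))).PairwiseDisjoint
      (fun j => insert (p j) (N G a b (p j))) := by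
    intro i _ j _ hij
    simp only [Function.onFun]
    rw [Finset.disjoint_left]
    intro w hi hj
    have := hd i w hi
    have := hd j w hj
    apply hij
    apply Fin.ext
    omega
  calc (J + 1) * ((N G a b a).card + 1)
      = ((univ : Finset (Fin (J + 1))).biUnion fun j => insert (p j) (N G a b (p j))).card := by
        rw [card_biUnion hdisj]
        rw [Finset.sum_congr rfl (fun j _ => by
          rw [card_insert_of_notMem (hnot j), N_card hG a b (p j)])]
        simp
    _ ≤ T.card := card_le_card fun w hw => by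
        rw [mem_biUnion] at hw
        obtain ⟨j, -, hw⟩ := hw
        have := (hd j w hw).1
        exact hT w (by have := j.2; omega)

open Classical in
/-- Every point distinguishes at least `2 (n - 1)` ordered edges. -/
lemma edge_count (hG : MulAction.IsPretransitive G Ω)
    (hc : (pairGraph (G := G) hab).Connected) :
    2 * (Fintype.card Ω - 1) ≤ (N G a b a).card * (D G a b).card := by
  set Γ := pairGraph (G := G) hab
  set E : Finset (Ω × Ω) := univ.filter fun e => Rel G a b e.1 e.2 with hE
  have hEcard : E.card = Fintype.card Ω * (N G a b a).card := by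
    have h := card_eq_sum_card_fiberwise (s := E) (t := (univ : Finset Ω)) (f := Prod.fst)
      (fun _ _ => Finset.mem_coe.mpr (mem_univ _))
    have hfib : ∀ u : Ω, (E.filter fun e => e.1 = u).card = (N G a b a).card := fun u => by
      rw [← N_card hG a b u]
      refine card_bij (fun e _ => e.2) ?_ ?_ ?_
      · intro e he
        simp only [hE, mem_filter, mem_univ, true_and] at he
        rw [mem_N, ← he.2]
        exact he.1
      · intro e he e' he' h
        simp only [mem_filter] at he he'
        exact Prod.ext (he.2.trans he'.2.symm) h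
      · intro v hv
        exact ⟨(u, v), by simpa [hE] using hv, rfl⟩
    rw [h, Finset.sum_congr rfl (fun u _ => hfib u), sum_const, card_univ, smul_eq_mul]
  have hsum : ∑ e ∈ E, (D G e.1 e.2).card = E.card * (D G a b).card := by
    rw [Finset.sum_congr rfl (fun e he => D_card_of_rel (by simpa [hE] using he)),
      sum_const, smul_eq_mul]
  have hdouble : ∑ e ∈ E, (D G e.1 e.2).card =
      ∑ z : Ω, (E.filter fun e => z ∈ D G e.1 e.2).card := by
    simp only [D, mem_filter, mem_univ, true_and, card_filter]
    rw [sum_comm]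
  have hz : ∀ z : Ω, 2 * (Fintype.card Ω - 1) ≤ (E.filter fun e => z ∈ D G e.1 e.2).card := by
    intro z
    have hch : ∀ x : {x : Ω // x ≠ z}, ∃ y, Γ.Adj x.1 y ∧ Γ.dist y z + 1 = Γ.dist x.1 z :=
      fun x => exists_closer hc x.2
    choose y hy1 hy2 using hch
    let F : {x : Ω // x ≠ z} ⊕ {x : Ω // x ≠ z} → Ω × Ω :=
      Sum.elim (fun x => (x.1, y x)) (fun x => (y x, x.1))
    have hF : Function.Injective F := by
      rintro (x | x) (x' | x') h <;> simp only [F, Sum.elim_inl, Sum.elim_inr, Prod.mk.injEq] at h
      · rw [Subtype.ext h.1]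
      · have := hy2 x
        have := hy2 x'
        rw [h.1] at *
        rw [h.2] at *
        omega
      · have := hy2 x
        have := hy2 x'
        rw [← h.1] at *
        rw [← h.2] at *
        omega
      · rw [Subtype.ext h.2]
    calc 2 * (Fintype.card Ω - 1) = (univ.image F).card := by
          rw [card_image_of_injective _ hF, card_univ, Fintype.card_sum,
            Fintype.card_subtype_compl, Fintype.card_subtype_eq]
          omega
      _ ≤ _ := card_le_card fun e he => by
          rw [mem_image] at he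
          obtain ⟨x | x, -, rfl⟩ := he
          · simp only [F, Sum.elim_inl, hE, mem_filter, mem_univ, true_and, mem_D]
            refine ⟨hy1 x, fun h => ?_⟩
            have h' : Γ.dist _ z = Γ.dist _ z := dist_eq_of_rel hab hc h
            have := hy2 x
            omega
          · simp only [F, Sum.elim_inr, hE, mem_filter, mem_univ, true_and, mem_D]
            refine ⟨(hy1 x).symm, fun h => ?_⟩
            have h' : Γ.dist _ z = Γ.dist _ z := dist_eq_of_rel hab hc h
            have := hy2 x
            omega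
  have key : Fintype.card Ω * (2 * (Fintype.card Ω - 1)) ≤
      Fintype.card Ω * ((N G a b a).card * (D G a b).card) := by
    rw [← mul_assoc (Fintype.card Ω) (N G a b a).card, ← hEcard, ← hsum, hdouble]
    calc Fintype.card Ω * (2 * (Fintype.card Ω - 1))
        = ∑ _z : Ω, 2 * (Fintype.card Ω - 1) := by simp
      _ ≤ _ := sum_le_sum fun z _ => hz z
  exact Nat.le_of_mul_le_mul_left key (Fintype.card_pos_iff.mpr ⟨a⟩)

open Classical in
/-- Some pair is told apart by at least `n - n₁` points. -/
lemma exists_large_D (n₁ : ℕ) (hn₁ : 1 ≤ n₁) (hG : MulAction.IsPretransitive G Ω) [Nonempty Ω]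
    (hmax : ∀ u v : Ω, u ≠ v → (N G u v u).card ≤ n₁) :
    ∃ x y : Ω, Fintype.card Ω - n₁ ≤ (D G x y).card := by
  by_contra hcon
  push Not at hcon
  set n := Fintype.card Ω
  have hclass : ∀ x z : Ω, (univ.filter fun y => Rel G x z y z).card ≤ n₁ := by
    intro x z
    by_cases hxz : x = z
    · subst hxz
      refine le_trans ?_ hn₁
      rw [card_le_one]
      intro u hu v hv
      simp only [mem_filter, mem_univ, true_and] at hu hv
      have hu' : u = x := by
        by_contra h
        exact hu.symm.ne h rfl
      have hv' : v = x := by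
        by_contra h
        exact hv.symm.ne h rfl
      rw [hu', hv']
    · have h1 := hmax x z hxz
      rw [← N_card hG x z z] at h1
      refine le_trans (le_of_eq ?_) h1
      congr 1
      ext y
      simp only [mem_filter, mem_univ, true_and, mem_N]
      exact ⟨Rel.flip, Rel.flip⟩
  have htot : n * n * (n - n₁) ≤ ∑ x : Ω, ∑ y : Ω, (D G x y).card := by
    calc n * n * (n - n₁) = ∑ _x : Ω, ∑ _z : Ω, (n - n₁) := by simp [n, mul_assoc]
      _ ≤ ∑ x : Ω, ∑ z : Ω, (univ.filter fun y => ¬ Rel G x z y z).card :=
          sum_le_sum fun x _ => sum_le_sum fun z _ => by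
            have h := hclass x z
            have h' := card_filter_add_card_filter_not (s := (univ : Finset Ω))
              (fun y => Rel G x z y z)
            rw [card_univ] at h'
            change n - n₁ ≤ _
            omega
      _ = _ := by
          refine sum_congr rfl fun x _ => ?_
          simp only [D, card_filter]
          exact sum_comm
  have hlt : ∑ x : Ω, ∑ y : Ω, (D G x y).card < ∑ _x : Ω, ∑ _y : Ω, (n - n₁) :=
    sum_lt_sum_of_nonempty univ_nonempty fun x _ =>
      sum_lt_sum_of_nonempty univ_nonempty fun y _ => hcon x y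
  simp only [sum_const, card_univ, smul_eq_mul] at hlt
  rw [← mul_assoc] at hlt
  exact absurd htot (not_le.mpr hlt)

end Finite

/-- Babai's bound: unless all pairs are related, pairs are told apart by many points. -/
theorem babai [Fintype Ω] [DecidableEq Ω] (hprim : MulAction.IsPreprimitive G Ω)
    {a₀ b₀ c₀ d₀ : Ω} (hab₀ : a₀ ≠ b₀) (hcd₀ : c₀ ≠ d₀) (hnot : ¬ Rel G a₀ b₀ c₀ d₀)
    (a b : Ω) (hab : a ≠ b) :
    Fintype.card Ω ≤ (2 * (D G a b).card + 1) ^ 2 := by
  classical
  have : Nontrivial Ω := ⟨⟨a, b, hab⟩⟩
  have hG : MulAction.IsPretransitive G Ω := hprim.toIsPretransitive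
  set n := Fintype.card Ω with hn
  obtain ⟨⟨⟨a1, b1⟩, hab1⟩, -, hmax⟩ := Finset.exists_max_image
    (univ : Finset {e : Ω × Ω // e.1 ≠ e.2}) (fun e => (N G e.1.1 e.1.2 e.1.1).card)
    ⟨⟨(a, b), hab⟩, mem_univ _⟩
  set n1 := (N G a1 b1 a1).card with hn1
  have hmax' : ∀ u v : Ω, u ≠ v → (N G u v u).card ≤ n1 := fun u v huv =>
    hmax ⟨(u, v), huv⟩ (mem_univ _)
  have hn1pos : 1 ≤ n1 := card_pos.mpr ⟨b1, mem_N.mpr (Rel.refl a1 b1)⟩
  have hc := pairGraph_connected (G := G) hprim hab
  set d := (D G a b).card with hd
  set k := (N G a b a).card with hk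
  have hedge : 2 * (n - 1) ≤ k * d := edge_count hab hG hc
  suffices hsq : n ≤ 4 * d ^ 2 + 1 by nlinarith
  by_cases hsmall : 8 * n1 ≤ 5 * n
  · obtain ⟨x, y, hxy⟩ := exists_large_D n1 hn1pos hG hmax'
    have h1 : (D G x y).card ≤ (pairGraph (G := G) hab).dist x y * d := D_le_dist_mul hab hc x y
    set t := (pairGraph (G := G) hab).dist x y with ht
    have h2 := ball_count hab hG hc y x univ (t / 3) (by omega) (fun w _ => mem_univ w)
    rw [card_univ, ← hn, ← hk] at h2
    have h3 : t ≤ 3 * (t / 3 + 1) := by omega
    have h4 : 3 * n ≤ 8 * (t * d) := by omega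
    have h5 : t * (k + 1) ≤ 3 * n := by nlinarith
    have h6 : t * (k + 1) ≤ t * (8 * d) := by nlinarith
    have htpos : 0 < t := by
      rcases Nat.eq_zero_or_pos t with h0 | h0
      · rw [h0] at h4; simp at h4; omega
      · exact h0
    have h7 : k + 1 ≤ 8 * d := Nat.le_of_mul_le_mul_left h6 htpos
    have h8 : k * d ≤ 8 * d * d := Nat.mul_le_mul (by omega) le_rfl
    have h9 : 8 * d * d = 8 * (d * d) := by ring
    rw [pow_two]
    omega
  · -- one colour dominates
    push Not at hsmall
    set S : Ω → Finset Ω := fun u => univ.filter fun v => v ≠ u ∧ ¬ Rel G a1 b1 u v with hS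
    set k' := (S a1).card with hk'
    have hSN : ∀ u, (S u).card + (N G a1 b1 u).card + 1 = n := by
      intro u
      have h := card_filter_add_card_filter_not (s := (univ : Finset Ω))
        (fun v => Rel G a1 b1 u v)
      have hu : u ∈ univ.filter fun v => ¬ Rel G a1 b1 u v := by
        simp only [mem_filter, mem_univ, true_and]
        exact fun h => h.ne hab1 rfl
      have he : S u = (univ.filter fun v => ¬ Rel G a1 b1 u v).erase u := by
        ext v; simp [hS]
      rw [he, card_erase_of_mem hu]
      rw [card_univ] at h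
      have := card_pos.mpr ⟨u, hu⟩
      simp only [N]
      omega
    have hScard : ∀ u, (S u).card = k' := by
      intro u
      have := hSN u
      have := hSN a1
      rw [N_card hG a1 b1 u] at *
      omega
    have hk'n : k' + n1 + 1 = n := hSN a1
    have hk'pos : 0 < k' := by
      rcases Nat.eq_zero_or_pos k' with h0 | h0
      · exfalso
        have hall : ∀ u v : Ω, u ≠ v → Rel G a1 b1 u v := by
          intro u v huv
          by_contra h
          have h1 := hScard u
          rw [h0, card_eq_zero] at h1
          exact (Finset.eq_empty_iff_forall_notMem.mp h1) v (by simp [hS, huv.symm, h])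
        exact hnot ((hall a₀ b₀ hab₀).symm.trans (hall c₀ d₀ hcd₀))
      · exact h0
    -- counting common neighbours
    have hpairs : ∑ y ∈ N G a1 b1 a1, (S a1 ∩ S y).card ≤ k' * (k' - 1) := by
      calc ∑ y ∈ N G a1 b1 a1, (S a1 ∩ S y).card
          = ∑ y ∈ N G a1 b1 a1, ∑ v ∈ S a1, if v ∈ S y then 1 else 0 := by
            refine sum_congr rfl fun y _ => ?_
            rw [← card_filter]
            congr 1
        _ = ∑ v ∈ S a1, ((N G a1 b1 a1).filter fun y => v ∈ S y).card := by
            rw [sum_comm]
            simp only [card_filter]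
        _ ≤ ∑ _v ∈ S a1, (k' - 1) := sum_le_sum fun v hv => by
            have hv' : a1 ∈ S v := by
              simp only [hS, mem_filter, mem_univ, true_and] at hv ⊢
              exact ⟨hv.1.symm, fun h => hv.2 h.flip⟩
            rw [← hScard v, ← card_erase_of_mem hv']
            refine card_le_card fun y hy => ?_
            simp only [mem_filter, mem_N] at hy
            rw [mem_erase]
            refine ⟨(hy.1.ne hab1).symm, ?_⟩
            simp only [hS, mem_filter, mem_univ, true_and] at hy ⊢
            exact ⟨hy.2.1.symm, fun h => hy.2.2 h.flip⟩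
        _ = k' * (k' - 1) := by simp [hk']
    obtain ⟨y0, hy0, hy0min⟩ := Finset.exists_min_image (N G a1 b1 a1)
      (fun y => (S a1 ∩ S y).card) ⟨b1, mem_N.mpr (Rel.refl a1 b1)⟩
    set μ := (S a1 ∩ S y0).card with hμ
    have hμn : n1 * μ ≤ k' * (k' - 1) := le_trans (by
      have := card_nsmul_le_sum (N G a1 b1 a1) (fun y => (S a1 ∩ S y).card) μ hy0min
      simpa [hn1] using this) hpairs
    have hμ5 : 5 * μ ≤ 3 * k' := by
      have e1 : 5 * n * μ ≤ 8 * n1 * μ := Nat.mul_le_mul hsmall.le le_rfl
      have e2 : k' * (k' - 1) ≤ k' * k' := Nat.mul_le_mul le_rfl (Nat.sub_le _ _)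
      have e3 : 8 * k' ≤ 3 * n := by omega
      nlinarith
    have hy0r : Rel G a1 b1 a1 y0 := mem_N.mp hy0
    set d1 := (D G a1 b1).card with hd1
    have hd1low : 4 * k' + 10 ≤ 5 * d1 := by
      have hsub : insert a1 (insert y0 ((S a1 \ S y0) ∪ (S y0 \ S a1))) ⊆ D G a1 y0 := by
        intro z hz
        simp only [mem_insert, mem_union, mem_sdiff] at hz
        rw [mem_D]
        intro h
        have hne := hy0r.ne hab1
        rcases hz with rfl | rfl | ⟨h1, h2⟩ | ⟨h1, h2⟩
        · exact h.symm.ne hne.symm rfl
        · exact h.ne hne rfl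
        · simp only [hS, mem_filter, mem_univ, true_and] at h1 h2
          apply h2
          refine ⟨?_, fun h' => h1.2 (h'.trans h.symm)⟩
          rintro rfl
          exact h.ne h1.1.symm rfl
        · simp only [hS, mem_filter, mem_univ, true_and] at h1 h2
          apply h2
          refine ⟨?_, fun h' => h1.2 (h'.trans h)⟩
          rintro rfl
          exact h.symm.ne h1.1.symm rfl
      have ha : a1 ∉ insert y0 ((S a1 \ S y0) ∪ (S y0 \ S a1)) := by
        simp [hS, hy0r.ne hab1, hy0r.flip]
      have hy : y0 ∉ (S a1 \ S y0) ∪ (S y0 \ S a1) := by simp [hS, hy0r]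
      have hcard := card_le_card hsub
      rw [card_insert_of_notMem ha, card_insert_of_notMem hy,
        card_union_of_disjoint disjoint_sdiff_sdiff, D_card_of_rel hy0r] at hcard
      have e1 := card_sdiff_add_card_inter (S a1) (S y0)
      have e2 := card_sdiff_add_card_inter (S y0) (S a1)
      rw [inter_comm (S y0) (S a1), hScard y0] at e2
      omega
    by_cases hab' : Rel G a1 b1 a b
    · -- the dominant colour itself
      have hdd : d = d1 := D_card_of_rel hab'
      -- every point outside `S a1` is two steps away through `S`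
      obtain ⟨v, hv⟩ := card_pos.mp hk'pos
      have hμ1 : ∀ y ∈ N G a1 b1 a1, 1 ≤ (S a1 ∩ S y).card := by
        by_contra hc0
        push Not at hc0
        obtain ⟨y1, hy1, hy1'⟩ := hc0
        have hzero : ∀ u w : Ω, Rel G a1 b1 u w → ∀ z, z ∈ S u → z ∈ S w → False := by
          intro u w huw z hzu hzw
          obtain ⟨g, hg⟩ := (mem_N.mp hy1).symm.trans huw
          have he : (S a1 ∩ S y1) = ∅ := card_eq_zero.mp (by omega)
          have hz : g⁻¹ • z ∈ S a1 ∩ S y1 := by
            have key : ∀ p q, q ∈ S p → g⁻¹ • q ∈ S (g⁻¹ • p) := by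
              intro p q hq
              simp only [hS, mem_filter, mem_univ, true_and] at hq ⊢
              refine ⟨fun e => hq.1 (MulAction.injective _ e), fun h => hq.2 ?_⟩
              exact h.trans (Rel.smul g⁻¹ p q).symm
            rw [mem_inter]
            rcases hg with ⟨g1, g2⟩ | ⟨g1, g2⟩
            · exact ⟨by simpa [← g1] using key u z hzu, by simpa [← g2] using key w z hzw⟩
            · exact ⟨by simpa [← g1] using key w z hzw, by simpa [← g2] using key u z hzu⟩
          simp [he] at hz
        -- then the complement of the dominant colour is a clique relation, so not connected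
        have hcl : ∀ u z w, z ∈ S u → w ∈ S z → w ≠ u → w ∈ S u := by
          intro u z w hzu hwz hwu
          by_contra hw
          have huw : Rel G a1 b1 u w := by
            by_contra h
            exact hw (by simp [hS, hwu, h])
          refine hzero u w huw z hzu ?_
          simp only [hS, mem_filter, mem_univ, true_and] at hwz ⊢
          exact ⟨hwz.1.symm, fun h => hwz.2 h.flip⟩
        have hv' : v ≠ a1 ∧ ¬ Rel G a1 b1 a1 v := by simpa [hS] using hv
        have hcv := pairGraph_connected (G := G) hprim hv'.1.symm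
        have hreach : ∀ w, w = a1 ∨ w ∈ S a1 := by
          intro w
          induction h : (pairGraph (G := G) hv'.1.symm).dist w a1 generalizing w with
          | zero => exact .inl ((hcv.dist_eq_zero_iff).mp h)
          | succ e ih =>
            have hne : w ≠ a1 := by rintro rfl; simp at h
            obtain ⟨y, hwy, hy⟩ := exists_closer hcv hne
            have hwy' : Rel G a1 v w y := hwy
            have hwS : w ∈ S y := by
              simp only [hS, mem_filter, mem_univ, true_and]
              refine ⟨hwy'.ne hv'.1.symm, fun h' => hv'.2 ?_⟩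
              exact h'.flip.trans hwy'.symm
            rcases ih y (by omega) with rfl | hyS
            · exact .inr hwS
            · exact .inr (hcl a1 y w hyS hwS hne)
        rcases hreach b1 with h | h
        · exact hab1 h.symm
        · simp only [hS, mem_filter, mem_univ, true_and] at h
          exact h.2 (Rel.refl a1 b1)
      have hn1le : n1 ≤ k' * (k' - 1) := le_trans (by
        have := card_nsmul_le_sum (N G a1 b1 a1) (fun y => (S a1 ∩ S y).card) 1 hμ1
        simpa [hn1] using this) hpairs
      have e2 : k' * (k' - 1) ≤ k' * k' := Nat.mul_le_mul le_rfl (Nat.sub_le _ _)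
      have e3 : (4 * k' + 10) * (4 * k' + 10) ≤ (5 * d) * (5 * d) := by
        rw [hdd]; exact Nat.mul_le_mul hd1low hd1low
      nlinarith
    · -- another colour: go to the nearest point of the dominant colour
      obtain ⟨y, hy, hymin⟩ := Finset.exists_min_image (N G a1 b1 a1)
        (fun y => (pairGraph (G := G) hab).dist y a1) ⟨b1, mem_N.mpr (Rel.refl a1 b1)⟩
      set t := (pairGraph (G := G) hab).dist y a1 with ht
      have hyr : Rel G a1 b1 a1 y := mem_N.mp hy
      have hin : ∀ w, (pairGraph (G := G) hab).dist w a1 < t → w ∈ insert a1 (S a1) := by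
        intro w hw
        rw [mem_insert]
        by_cases hwa : w = a1
        · exact .inl hwa
        · refine .inr ?_
          simp only [hS, mem_filter, mem_univ, true_and]
          refine ⟨hwa, fun h => ?_⟩
          have := hymin w (mem_N.mpr h)
          omega
      have hkk' : k ≤ k' := by
        rw [hk, ← hScard a]
        refine card_le_card fun w hw => ?_
        rw [mem_N] at hw
        simp only [hS, mem_filter, mem_univ, true_and]
        exact ⟨(hw.ne hab).symm, fun h => hab' (h.trans hw.symm)⟩
      have ht2 : 2 ≤ t := by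
        have h0 : t ≠ 0 := fun h => (hyr.ne hab1) ((hc.dist_eq_zero_iff).mp h).symm
        have h1 : t ≠ 1 := fun h => by
          have hadj : Rel G a b y a1 := SimpleGraph.dist_eq_one_iff_adj.mp h
          exact hab' (hyr.trans hadj.flip.symm)
        omega
      have h1 : (D G y a1).card ≤ t * d := D_le_dist_mul hab hc y a1
      rw [D_card_of_rel hyr.flip] at h1
      have h2 := ball_count hab hG hc a1 y (insert a1 (S a1)) ((t - 2) / 3) (by omega)
        (fun w hw => hin w (by omega))
      rw [card_insert_of_notMem (by simp [hS]), ← hk', ← hk] at h2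
      have h3 : t ≤ 3 * ((t - 2) / 3 + 1) + 1 := by omega
      have h4 : t * (k + 1) ≤ 4 * (k' + 1) := by nlinarith
      have h5 : 4 * (k' + 1) ≤ 5 * (t * d) := le_trans (by omega) (Nat.mul_le_mul_left 5 h1)
      have h6 : 4 * (k' + 1) * (k + 1) ≤ 4 * (k' + 1) * (5 * d) := by
        calc 4 * (k' + 1) * (k + 1) ≤ 5 * (t * d) * (k + 1) := Nat.mul_le_mul h5 le_rfl
          _ = t * (k + 1) * (5 * d) := by ring
          _ ≤ _ := Nat.mul_le_mul h4 le_rfl
      have h7 : k + 1 ≤ 5 * d := Nat.le_of_mul_le_mul_left h6 (by omega)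
      have h8 : k * d ≤ 5 * d * d := Nat.mul_le_mul (by omega) le_rfl
      rw [pow_two]
      have h9 : 5 * d * d ≤ 8 * (d * d) := by nlinarith
      have h10 : k * d ≤ 8 * (d * d) := le_trans h8 h9
      omega

end Cfsg.Agent.MinDegBabai
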