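import Mathlib
import Cfsg.Agent.Lib.Perm.MinDegBabai

/-!
# Small support in a group with a single class of unordered pairs gives a three cycle
-/

set_option autoImplicit false

open Finset Equiv

namespace Cfsg.Agent.MinDegBabai

variable {Ω : Type*} [Fintype Ω] [DecidableEq Ω]

/-- Two permutations whose supports meet in exactly one point give a three cycle. -/
theorem commutator_isThreeCycle (σ τ : Perm Ω) (a : Ω) (hσ : σ a ≠ a) (hτ : τ a ≠ a)
    (hone : ∀ x, σ x ≠ x → τ x ≠ x → x = a) :
    (σ * τ * σ⁻¹ * τ⁻¹).IsThreeCycle := by
  have hb : τ (σ a) = σ a := by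
    by_contra h
    exact hσ (hone (σ a) (fun e => hσ (σ.injective e)) h)
  have hc : σ (τ a) = τ a := by
    by_contra h
    exact hτ (hone (τ a) h (fun e => hτ (τ.injective e)))
  have hbc : σ a ≠ τ a := by
    intro e
    rw [e] at hb
    exact hτ (τ.injective hb)
  have key : σ * τ * σ⁻¹ * τ⁻¹ = swap (σ a) a * swap (σ a) (τ a) := by
    ext x
    simp only [Perm.mul_apply]
    by_cases hxb : x = σ a
    · subst hxb
      rw [show τ⁻¹ (σ a) = σ a from Perm.inv_eq_iff_eq.mpr hb.symm, Perm.coe_inv,
        symm_apply_apply, hc, swap_apply_left, swap_apply_of_ne_of_ne hbc.symm hτ]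
    by_cases hxc : x = τ a
    · subst hxc
      rw [show τ⁻¹ (τ a) = a by simp]
      have hd : τ (σ⁻¹ a) = σ⁻¹ a := by
        by_contra h
        have h1 : σ (σ⁻¹ a) ≠ σ⁻¹ a := by
          rw [show σ (σ⁻¹ a) = a by simp]
          intro e
          apply hσ
          conv_lhs => rw [e]
          simp
        have := hone _ h1 h
        apply hσ
        conv_lhs => rw [← this]
        simp
      rw [hd, show σ (σ⁻¹ a) = a by simp, swap_apply_right, swap_apply_left]
    by_cases hxa : x = a
    · subst hxa
      have hd : σ (τ⁻¹ x) = τ⁻¹ x := by
        by_contra h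
        have h1 : τ (τ⁻¹ x) ≠ τ⁻¹ x := by
          rw [show τ (τ⁻¹ x) = x by simp]
          intro e
          apply hτ
          conv_lhs => rw [e]
          simp
        have := hone _ h h1
        apply hτ
        conv_lhs => rw [← this]
        simp
      have hd' : σ⁻¹ (τ⁻¹ x) = τ⁻¹ x := Perm.inv_eq_iff_eq.mpr hd.symm
      rw [hd', show τ (τ⁻¹ x) = x by simp, swap_apply_of_ne_of_ne hσ.symm hτ.symm,
        swap_apply_right]
    rw [swap_apply_of_ne_of_ne hxb hxc, swap_apply_of_ne_of_ne hxb hxa]
    by_cases hτx : τ x = x
    · rw [show τ⁻¹ x = x from Perm.inv_eq_iff_eq.mpr hτx.symm]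
      have hfix : τ (σ⁻¹ x) = σ⁻¹ x := by
        by_contra h
        by_cases hσx : σ x = x
        · rw [show σ⁻¹ x = x from Perm.inv_eq_iff_eq.mpr hσx.symm] at h
          exact h hτx
        · have h1 : σ (σ⁻¹ x) ≠ σ⁻¹ x := by
            rw [show σ (σ⁻¹ x) = x by simp]
            intro e
            apply hσx
            conv_lhs => rw [e]
            simp
          have := hone _ h1 h
          apply hxb
          rw [← this]
          simp
      rw [hfix]
      simp
    · have hσx : σ x = x := by
        by_contra h
        exact hxa (hone x h hτx)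
      have hfix : σ (τ⁻¹ x) = τ⁻¹ x := by
        by_contra h
        have h1 : τ (τ⁻¹ x) ≠ τ⁻¹ x := by
          rw [show τ (τ⁻¹ x) = x by simp]
          intro e
          apply hτx
          conv_lhs => rw [e]
          simp
        have := hone _ h h1
        apply hxc
        rw [← this]
        simp
      rw [show σ⁻¹ (τ⁻¹ x) = τ⁻¹ x from Perm.inv_eq_iff_eq.mpr hfix.symm,
        show τ (τ⁻¹ x) = x by simp, hσx]
  rw [key]
  exact Perm.isThreeCycle_swap_mul_swap_same hσ hbc (Ne.symm hτ)

variable {G : Type*} [Group G] [Finite G] [MulAction G Ω]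

open Classical in
/-- All unordered pairs related and a nontrivial element of small support: a conjugate of the
element has support meeting the original one in exactly one point. -/
theorem exists_conj_meet_once (hG : MulAction.IsPretransitive G Ω)
    (hall : ∀ a b x y : Ω, a ≠ b → x ≠ y → Rel G a b x y) (T : Finset Ω) (a : Ω) (ha : a ∈ T)
    (hT : 2 * (T.card - 1) * (T.card - 1) < Fintype.card Ω - 1) :
    ∃ h : G, h • a = a ∧ ∀ b ∈ T, h • b ∈ T → b = a := by
  have := Fintype.ofFinite G
  set H := (univ : Finset G).filter fun h => h • a = a with hH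
  by_contra hcon
  push Not at hcon
  have hfib : ∀ b c : Ω, b ≠ a → c ≠ a →
      (Fintype.card Ω - 1) * (H.filter fun h => h • b = c).card ≤ 2 * H.card := by
    intro b c hb hc
    -- the orbit of `b` under the stabilizer of `a`
    set O := H.image (fun h => h • b) with hO
    obtain hle : (H.filter fun h => h • b = c).card * O.card ≤ H.card := by
      by_cases hex : ∃ h0 ∈ H, h0 • b = c
      · obtain ⟨h0, hh0, hh0b⟩ := hex
        have hmap : ∀ d ∈ O, (H.filter fun h => h • b = d).card =
            (H.filter fun h => h • b = c).card := by
          intro d hd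
          rw [hO, mem_image] at hd
          obtain ⟨h1, hh1, rfl⟩ := hd
          simp only [hH, mem_filter, mem_univ, true_and] at hh0 hh1
          refine card_bij (fun h _ => h0 * h1⁻¹ * h) ?_ (fun _ _ _ _ e => mul_left_cancel e) ?_
          · intro h hh
            simp only [hH, mem_filter, mem_univ, true_and] at hh ⊢
            refine ⟨?_, ?_⟩
            · rw [mul_smul, mul_smul, hh.1, inv_smul_eq_iff.mpr hh1.symm, hh0]
            · rw [mul_smul, mul_smul, hh.2, inv_smul_smul, hh0b]
          · intro h hh
            simp only [hH, mem_filter, mem_univ, true_and] at hh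
            refine ⟨h1 * h0⁻¹ * h, ?_, by group⟩
            simp only [hH, mem_filter, mem_univ, true_and]
            refine ⟨?_, ?_⟩
            · rw [mul_smul, mul_smul, hh.1, inv_smul_eq_iff.mpr hh0.symm, hh1]
            · rw [mul_smul, mul_smul, hh.2, inv_smul_eq_iff.mpr hh0b.symm]
        have h := card_eq_sum_card_image (fun h => h • b) H
        rw [sum_congr rfl hmap, sum_const, smul_eq_mul] at h
        rw [h, mul_comm]
      · push Not at hex
        rw [card_eq_zero.mpr (filter_eq_empty_iff.mpr fun h hh => hex h hh)]
        simp
    -- the orbit is at least half of the other points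
    have hhalf : Fintype.card Ω - 1 ≤ 2 * O.card := by
      set H' := (univ : Finset G).filter fun h => h • b = a with hH'
      set O' := H'.image (fun h => h • a) with hO'
      have hsub : univ.erase a ⊆ O ∪ O' := by
        intro z hz
        rw [mem_erase] at hz
        obtain ⟨g, ⟨h1, h2⟩ | ⟨h1, h2⟩⟩ := hall a b a z hb.symm hz.1.symm
        · exact mem_union_left _ (mem_image.mpr ⟨g, by simp [hH, h1], h2⟩)
        · exact mem_union_right _ (mem_image.mpr ⟨g, by simp [hH', h2], h1⟩)
      have h1 := card_le_card hsub
      rw [card_erase_of_mem (mem_univ a), card_univ] at h1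
      -- compare the two orbits by counting stabilizers of the two pairs
      have horb : O'.card = O.card := by
        have e1 : ∀ (x : Ω), ((univ : Finset G).filter fun h => h • x = a).card = H.card := by
          intro x
          obtain ⟨g, hg⟩ := hG.exists_smul_eq a x
          refine card_bij (fun h _ => h * g) ?_ (fun _ _ _ _ e => mul_right_cancel e) ?_
          · intro h hh
            simp only [hH, mem_filter, mem_univ, true_and] at hh ⊢
            rw [mul_smul, hg, hh]
          · intro h hh
            simp only [hH, mem_filter, mem_univ, true_and] at hh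
            refine ⟨h * g⁻¹, ?_, by group⟩
            simp only [mem_filter, mem_univ, true_and]
            rw [mul_smul, inv_smul_eq_iff.mpr hg.symm, hh]
        set K := (univ : Finset G).filter fun h => h • a = a ∧ h • b = b with hK
        have hcount : ∀ (x y : Ω) (g0 : G),
            ((univ : Finset G).filter fun h => h • x = g0 • x ∧ h • y = g0 • y).card =
              ((univ : Finset G).filter fun h => h • x = x ∧ h • y = y).card := by
          intro x y g0
          refine card_bij (fun h _ => g0⁻¹ * h) ?_ (fun _ _ _ _ e => mul_left_cancel e) ?_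
          · intro h hh
            simp only [mem_filter, mem_univ, true_and] at hh ⊢
            exact ⟨by rw [mul_smul, hh.1, inv_smul_smul], by rw [mul_smul, hh.2, inv_smul_smul]⟩
          · intro h hh
            simp only [mem_filter, mem_univ, true_and] at hh
            refine ⟨g0 * h, ?_, by group⟩
            simp only [mem_filter, mem_univ, true_and]
            exact ⟨by rw [mul_smul, hh.1], by rw [mul_smul, hh.2]⟩
        have hO1 : H.card = O.card * K.card := by
          rw [card_eq_sum_card_image (fun h => h • b) H, ← hO, sum_congr rfl (fun d hd => ?_),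
            sum_const, smul_eq_mul]
          rw [hO, mem_image] at hd
          obtain ⟨g0, hg0, rfl⟩ := hd
          simp only [hH, mem_filter, mem_univ, true_and] at hg0
          rw [hK, ← hcount a b g0, filter_filter]
          congr 1
          ext h
          simp [hg0]
        have hO2 : H'.card = O'.card * K.card := by
          rw [card_eq_sum_card_image (fun h => h • a) H', ← hO', sum_congr rfl (fun d hd => ?_),
            sum_const, smul_eq_mul]
          rw [hO', mem_image] at hd
          obtain ⟨g0, hg0, rfl⟩ := hd
          simp only [hH', mem_filter, mem_univ, true_and] at hg0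
          rw [hK, ← hcount a b g0, filter_filter]
          congr 1
          ext h
          simp [hg0, and_comm]
        have hKpos : 0 < K.card := card_pos.mpr ⟨1, by simp [hK]⟩
        have e2 : H'.card = H.card := e1 b
        exact Nat.eq_of_mul_eq_mul_right hKpos (by rw [← hO1, ← hO2, e2])
      have := card_union_le O O'
      omega
    calc (Fintype.card Ω - 1) * (H.filter fun h => h • b = c).card
        ≤ 2 * O.card * (H.filter fun h => h • b = c).card := Nat.mul_le_mul hhalf le_rfl
      _ = 2 * ((H.filter fun h => h • b = c).card * O.card) := by ring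
      _ ≤ _ := by omega
  -- the union bound
  have hcover : H ⊆ ((T.erase a) ×ˢ (T.erase a)).biUnion
      (fun bc => H.filter fun h => h • bc.1 = bc.2) := by
    intro h hh
    have hh' : h • a = a := by simpa [hH] using hh
    obtain ⟨b, hb, hb', hne⟩ := hcon h hh'
    rw [mem_biUnion]
    refine ⟨(b, h • b), ?_, by simp [hh]⟩
    simp only [mem_product, mem_erase]
    exact ⟨⟨hne, hb⟩, fun e => hne (MulAction.injective h (e.trans hh'.symm)), hb'⟩
  have h1 := (card_le_card hcover).trans card_biUnion_le
  have h2 : (Fintype.card Ω - 1) * H.card ≤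
      ((T.erase a) ×ˢ (T.erase a)).card * (2 * H.card) := by
    refine (Nat.mul_le_mul_left _ h1).trans ?_
    rw [mul_sum]
    refine le_trans (sum_le_sum fun bc hbc => ?_) (le_of_eq (by rw [sum_const, smul_eq_mul]))
    simp only [mem_product, mem_erase] at hbc
    exact hfib bc.1 bc.2 hbc.1.1 hbc.2.1
  rw [card_product, card_erase_of_mem ha] at h2
  have hHpos : 0 < H.card := card_pos.mpr ⟨1, by simp [hH]⟩
  have h3 : Fintype.card Ω - 1 ≤ 2 * (T.card - 1) * (T.card - 1) :=
    Nat.le_of_mul_le_mul_right (le_trans h2 (le_of_eq (by ring))) hHpos
  omega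

end Cfsg.Agent.MinDegBabai
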