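import Mathlib

/-!
Sharply multiply transitive permutation groups: order, passage to a point stabilizer and Jordan's
degree theorem for four-fold transitivity.
-/

set_option autoImplicit false

namespace CfsgLib.SharplyK

open Equiv MulAction

variable {α : Type*} [Fintype α] [DecidableEq α]

/-- sharply `k`-transitive -/
structure Sharp (G : Subgroup (Perm α)) (k : ℕ) : Prop where
  trans : ∀ x y : Fin k ↪ α, ∃ g ∈ G, ∀ i, g (x i) = y i
  free : ∀ g ∈ G, ∀ x : Fin k ↪ α, (∀ i, g (x i) = x i) → g = 1

theorem of_hyp {G : Subgroup (Perm α)} {k : ℕ} [IsMultiplyPretransitive G α k]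
    (hsharp : ∀ x : Fin k ↪ α, MulAction.stabilizer G x = ⊥) : Sharp G k where
  trans x y := by
    obtain ⟨g, hg⟩ := MulAction.exists_smul_eq G x y
    exact ⟨g, g.2, fun i => DFunLike.congr_fun hg i⟩
  free g hg x hx := by
    have h : (⟨g, hg⟩ : G) ∈ MulAction.stabilizer G x := Function.Embedding.ext fun i => hx i
    rw [hsharp x, Subgroup.mem_bot] at h
    exact congrArg Subtype.val h

theorem natCard {G : Subgroup (Perm α)} {k : ℕ} (h : Sharp G k) (hk : k ≤ Fintype.card α) :
    Nat.card G = (Fintype.card α).descFactorial k := by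
  obtain ⟨x⟩ : Nonempty (Fin k ↪ α) :=
    Function.Embedding.nonempty_of_card_le (by rwa [Fintype.card_fin])
  let f : G → (Fin k ↪ α) := fun g => x.trans (g : Perm α).toEmbedding
  have hf : Function.Bijective f := by
    refine ⟨fun a b e => ?_, fun y => ?_⟩
    · have h1 : (b : Perm α)⁻¹ * a = 1 := h.free _ (mul_mem (inv_mem b.2) a.2) x fun i => by
        have := DFunLike.congr_fun e i
        change (a : Perm α) (x i) = (b : Perm α) (x i) at this
        rw [Perm.mul_apply, this, Perm.inv_def, Equiv.symm_apply_apply]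
      exact Subtype.ext (inv_mul_eq_one.1 h1).symm
    · obtain ⟨g, hg, hgy⟩ := h.trans x y
      exact ⟨⟨g, hg⟩, Function.Embedding.ext hgy⟩
  rw [Nat.card_eq_of_bijective f hf, Nat.card_eq_fintype_card, Fintype.card_embedding_eq,
    Fintype.card_fin]

/-! ### The stabilizer of a point -/

/-- the stabilizer of `a` acting on the other points -/
def drop (G : Subgroup (Perm α)) (a : α) : Subgroup (Perm {x // x ≠ a}) where
  carrier := {σ | Perm.ofSubtype σ ∈ G}
  one_mem' := by simp
  mul_mem' {σ τ} h h' := by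
    show Perm.ofSubtype (σ * τ) ∈ G
    rw [map_mul]; exact mul_mem h h'
  inv_mem' {σ} h := by
    show Perm.ofSubtype σ⁻¹ ∈ G
    rw [map_inv]; exact inv_mem h

theorem exists_mem_drop {G : Subgroup (Perm α)} {a : α} {g : Perm α} (hg : g ∈ G) (ha : g a = a) :
    ∃ σ ∈ drop G a, Perm.ofSubtype σ = g := by
  have hp : ∀ x, g x ≠ a ↔ x ≠ a := fun x => by
    rw [not_iff_not]
    exact ⟨fun e => g.injective (e.trans ha.symm), fun e => by rw [e, ha]⟩
  have hS : Perm.ofSubtype (g.subtypePerm hp) = g :=
    Perm.ofSubtype_subtypePerm (p := fun x => x ≠ a) hp fun x hx e => hx ((congrArg g e).trans (ha.trans e.symm))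
  refine ⟨g.subtypePerm hp, ?_, hS⟩
  show Perm.ofSubtype (g.subtypePerm hp) ∈ G
  rw [hS]; exact hg

/-- a tuple avoiding `a`, extended by `a` -/
def ext {k : ℕ} {a : α} (x : Fin k ↪ {y // y ≠ a}) : Fin (k + 1) ↪ α where
  toFun := Fin.cons a fun i => (x i : α)
  inj' := Fin.cons_injective_iff.2
    ⟨fun ⟨i, hi⟩ => (x i).2 hi, fun i j e => x.injective (Subtype.ext e)⟩

theorem sharp_drop {G : Subgroup (Perm α)} {k : ℕ} (h : Sharp G (k + 1)) (a : α) :
    Sharp (drop G a) k where
  trans x y := by
    obtain ⟨g, hg, hgi⟩ := h.trans (ext x) (ext y)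
    have ha : g a = a := by simpa [ext] using hgi 0
    obtain ⟨σ, hσ, hσg⟩ := exists_mem_drop hg ha
    refine ⟨σ, hσ, fun i => Subtype.ext ?_⟩
    rw [← Perm.ofSubtype_apply_coe σ (x i), hσg]
    simpa [ext] using hgi i.succ
  free σ hσ x hx := by
    have h1 := h.free _ hσ (ext x) fun i => by
      induction i using Fin.cases with
      | zero =>
        show Perm.ofSubtype σ a = a
        exact Perm.ofSubtype_apply_of_not_mem σ (by simp)
      | succ i =>
        show Perm.ofSubtype σ ((ext x) i.succ) = (ext x) i.succ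
        simp only [ext, Function.Embedding.coeFn_mk, Fin.cons_succ]
        rw [Perm.ofSubtype_apply_coe, hx]
    exact Perm.ofSubtype_injective (h1.trans (map_one _).symm)

theorem card_drop (a : α) : Fintype.card {x // x ≠ a} = Fintype.card α - 1 := by
  rw [Fintype.card_subtype_compl, Fintype.card_subtype_eq]

/-- The point stabilizer is the dropped group. -/
noncomputable def stabilizerEquiv (G : Subgroup (Perm α)) (a : α) :
    drop G a ≃* MulAction.stabilizer G a :=
  MulEquiv.ofBijective
    (MonoidHom.mk' (fun σ : drop G a => (⟨⟨Perm.ofSubtype σ.1, σ.2⟩,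
      Perm.ofSubtype_apply_of_not_mem σ.1 (by simp)⟩ : MulAction.stabilizer G a))
      fun σ τ => Subtype.ext (Subtype.ext (map_mul _ _ _)))
    ⟨fun σ τ e => Subtype.ext (Perm.ofSubtype_injective
        (congrArg (fun z : MulAction.stabilizer G a => ((z : G) : Perm α)) e)),
      fun g => by
        obtain ⟨σ, hσ, e⟩ := exists_mem_drop (g : G).2 g.2
        exact ⟨⟨σ, hσ⟩, Subtype.ext (Subtype.ext e)⟩⟩

/-! ### Jordan's theorem -/

section Four

variable {G : Subgroup (Perm α)} (h : Sharp G 4)
include h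

theorem eq_one_of_four {g : Perm α} (hg : g ∈ G) {a b c d : α} (hn : [a, b, c, d].Nodup)
    (ha : g a = a) (hb : g b = b) (hc : g c = c) (hd : g d = d) : g = 1 := by
  refine h.free g hg ⟨![a, b, c, d], ?_⟩ fun i => ?_
  · simp only [List.nodup_cons, List.mem_cons, List.not_mem_nil, or_false, not_or, List.nodup_nil,
      not_false_eq_true, and_true] at hn
    obtain ⟨⟨h1, h2, h3⟩, ⟨h4, h5⟩, h6⟩ := hn
    intro i j e
    fin_cases i <;> fin_cases j <;> simp [h1, h2, h3, h4, h5, h6, Ne.symm h1, Ne.symm h2, Ne.symm h3, Ne.symm h4, Ne.symm h5, Ne.symm h6] at e ⊢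
  · fin_cases i <;> assumption

theorem exists_four {a b c d a' b' c' d' : α} (hn : [a, b, c, d].Nodup) (hn' : [a', b', c', d'].Nodup) :
    ∃ g ∈ G, g a = a' ∧ g b = b' ∧ g c = c' ∧ g d = d' := by
  have mk : ∀ {a b c d : α}, [a, b, c, d].Nodup → Function.Injective ![a, b, c, d] := by
    intro a b c d hn i j e
    simp only [List.nodup_cons, List.mem_cons, List.not_mem_nil, or_false, not_or, List.nodup_nil,
      not_false_eq_true, and_true] at hn
    obtain ⟨⟨h1, h2, h3⟩, ⟨h4, h5⟩, h6⟩ := hn
    fin_cases i <;> fin_cases j <;> simp [h1, h2, h3, h4, h5, h6, Ne.symm h1, Ne.symm h2, Ne.symm h3, Ne.symm h4, Ne.symm h5, Ne.symm h6] at e ⊢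
  obtain ⟨g, hg, hgi⟩ := h.trans ⟨_, mk hn⟩ ⟨_, mk hn'⟩
  exact ⟨g, hg, hgi 0, hgi 1, hgi 2, hgi 3⟩

theorem commute_of_four {u g : Perm α} (hu : u ∈ G) (hg : g ∈ G) {a b c d : α}
    (hn : [a, b, c, d].Nodup) (ha : g (u a) = u (g a)) (hb : g (u b) = u (g b))
    (hc : g (u c) = u (g c)) (hd : g (u d) = u (g d)) : g * u = u * g := by
  have h1 := eq_one_of_four h (mul_mem (inv_mem (mul_mem hu hg)) (mul_mem hg hu)) hn
    (by rw [Perm.mul_apply, Perm.inv_eq_iff_eq, Perm.mul_apply, Perm.mul_apply, ha])
    (by rw [Perm.mul_apply, Perm.inv_eq_iff_eq, Perm.mul_apply, Perm.mul_apply, hb])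
    (by rw [Perm.mul_apply, Perm.inv_eq_iff_eq, Perm.mul_apply, Perm.mul_apply, hc])
    (by rw [Perm.mul_apply, Perm.inv_eq_iff_eq, Perm.mul_apply, Perm.mul_apply, hd])
  exact (inv_mul_eq_one.1 h1).symm

theorem card_fix_le {g : Perm α} (hg : g ∈ G) (hne : g ≠ 1) :
    (Finset.univ.filter fun x => g x = x).card ≤ 3 := by
  by_contra hlt
  obtain ⟨s, hs, hs4⟩ := Finset.exists_subset_card_eq (show 4 ≤ _ from Nat.not_le.1 hlt)
  refine hne (h.free g hg ((s.equivFinOfCardEq hs4).symm.toEmbedding.trans (Function.Embedding.subtype _))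
    fun i => ?_)
  exact (Finset.mem_filter.1 (hs ((s.equivFinOfCardEq hs4).symm i).2)).2

/-- **Jordan**: a sharply four-fold transitive group has degree 4, 5, 6 or 11. -/
theorem jordan_four (h4 : 4 ≤ Fintype.card α) :
    Fintype.card α = 4 ∨ Fintype.card α = 5 ∨ Fintype.card α = 6 ∨ Fintype.card α = 11 := by
  classical
  obtain ⟨x⟩ : Nonempty (Fin 4 ↪ α) :=
    Function.Embedding.nonempty_of_card_le (by rwa [Fintype.card_fin])
  obtain ⟨a, b, c, d, hn⟩ : ∃ a b c d : α, [a, b, c, d].Nodup :=
    ⟨x 0, x 1, x 2, x 3, by simp [x.injective.eq_iff]⟩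
  have hn0 := hn
  simp only [List.nodup_cons, List.mem_cons, List.not_mem_nil, or_false, not_or, List.nodup_nil,
    not_false_eq_true, and_true] at hn0
  obtain ⟨⟨hab, hac, had⟩, ⟨hbc, hbd⟩, hcd⟩ := hn0
  obtain ⟨u, hu, hua, hub, huc, hud⟩ := exists_four h hn (a' := a) (b' := b) (c' := d) (d' := c)
    (by simp [hab, hac, had, hbc, hbd, Ne.symm hcd])
  have huu : u * u = 1 := eq_one_of_four h (mul_mem hu hu) hn (by simp [hua]) (by simp [hub])
    (by simp [huc, hud]) (by simp [huc, hud])
  have huu' : ∀ y, u (u y) = y := fun y => by rw [← Perm.mul_apply, huu]; rfl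
  have hu1 : u ≠ 1 := fun e => hcd (by rw [← hud, e]; rfl)
  set Fu := Finset.univ.filter (fun y => u y = y) with hFu
  have hF3 : Fu.card ≤ 3 := card_fix_le h hu hu1
  -- elements commuting with `u`
  have hC : ∀ {g : Perm α}, g * u = u * g → ∀ y, g (u y) = u (g y) := fun e y => by
    rw [← Perm.mul_apply, e, Perm.mul_apply]
  have hCF : ∀ {g : Perm α}, g * u = u * g → ∀ {y}, u y = y → u (g y) = g y := fun {g} e {y} hy => by
    rw [← hC e, hy]
  -- the kernel on the fixed points
  let K : Subgroup (Perm α) :=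
    { carrier := {g | g ∈ G ∧ g * u = u * g ∧ ∀ y, u y = y → g y = y}
      one_mem' := ⟨one_mem _, by simp, fun _ _ => rfl⟩
      mul_mem' := fun {g k} hg hk => ⟨mul_mem hg.1 hk.1, by
        rw [mul_assoc, hk.2.1, ← mul_assoc, hg.2.1, mul_assoc], fun y hy => by
        rw [Perm.mul_apply, hk.2.2 y hy, hg.2.2 y hy]⟩
      inv_mem' := fun {g} hg => ⟨inv_mem hg.1, by
        rw [inv_mul_eq_iff_eq_mul, ← mul_assoc, hg.2.1, mul_inv_cancel_right], fun y hy => by
        rw [Perm.inv_eq_iff_eq, hg.2.2 y hy]⟩ }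
  have hKu : u ∈ K := ⟨hu, rfl, fun y hy => hy⟩
  have hKfree : ∀ k ∈ K, k c = c → k = 1 := fun k hk hkc =>
    eq_one_of_four h hk.1 hn (hk.2.2 a hua) (hk.2.2 b hub) hkc (by
      rw [← huc, hC hk.2.1, hkc])
  -- an element of the centralizer fixing `c` commutes only with `1` and `u`
  have hfix2 : ∀ {z : Perm α}, z ∈ G → z * u = u * z → z c = c → z ≠ 1 →
      ∀ {y}, u y ≠ y → z y = y → y = c ∨ y = d := by
    intro z hz hzu hzc hz1 y hy hzy
    by_contra hne
    push Not at hne
    refine hz1 (eq_one_of_four h hz (a := c) (b := d) (c := y) (d := u y) ?_ hzc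
      (by rw [← huc, hC hzu, hzc]) hzy (by rw [hC hzu, hzy]))
    have e1 : u y ≠ c := fun e => hne.2 (by rw [← huu' y, e, huc])
    have e2 : u y ≠ d := fun e => hne.1 (by rw [← huu' y, e, hud])
    simp [hcd, Ne.symm hne.1, Ne.symm hne.2, Ne.symm e1, Ne.symm e2, Ne.symm hy]
  have hcent : ∀ {z : Perm α}, z ∈ G → z * u = u * z → z c = c → z ≠ 1 →
      ∀ {k : Perm α}, k ∈ K → z * k = k * z → k = 1 ∨ k = u := by
    intro z hz hzu hzc hz1 k hk hzk
    have hkc : u (k c) ≠ k c := by
      rw [← hC hk.2.1, huc]; exact fun e => hcd (k.injective e).symm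
    have hzkc : z (k c) = k c := by rw [← Perm.mul_apply, hzk, Perm.mul_apply, hzc]
    rcases hfix2 hz hzu hzc hz1 hkc hzkc with e | e
    · exact Or.inl (hKfree k hk e)
    · refine Or.inr ?_
      have := hKfree (u⁻¹ * k) (mul_mem (inv_mem hKu) hk) (by
        rw [Perm.mul_apply, e, Perm.inv_eq_iff_eq, huc])
      exact (inv_mul_eq_one.1 this).symm
  -- `K` is regular on the moved points
  have hKreg : ∀ y, u y ≠ y → ∃ k ∈ K, k c = y := by
    intro y hy
    have hya : y ≠ a := fun e => hy (e ▸ hua)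
    have hyb : y ≠ b := fun e => hy (e ▸ hub)
    have huya : u y ≠ a := fun e => hya (by rw [← huu' y, e, hua])
    have huyb : u y ≠ b := fun e => hyb (by rw [← huu' y, e, hub])
    obtain ⟨g, hg, ga, gb, gc, gd⟩ := exists_four h hn (a' := a) (b' := b) (c' := y) (d' := u y)
      (by simp [hab, Ne.symm hya, Ne.symm hyb, Ne.symm huya, Ne.symm huyb, Ne.symm hy])
    have hgu : g * u = u * g := commute_of_four h hu hg hn (by rw [hua, ga, hua]) (by rw [hub, gb, hub])
      (by rw [huc, gd, gc]) (by rw [hud, gc, gd, huu'])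
    refine ⟨g, ⟨hg, hgu, fun e he => ?_⟩, gc⟩
    by_cases hea : e = a
    · rw [hea, ga]
    by_cases heb : e = b
    · rw [heb, gb]
    by_contra hge
    have hge' := hCF hgu he
    have h4s : ({a, b, e, g e} : Finset α) ⊆ Fu := by
      intro z hz
      simp only [Finset.mem_insert, Finset.mem_singleton] at hz
      rw [hFu, Finset.mem_filter]
      refine ⟨Finset.mem_univ _, ?_⟩
      rcases hz with rfl | rfl | rfl | rfl <;> assumption
    have hga : g e ≠ a := fun e' => hea (g.injective (e'.trans ga.symm))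
    have hgb : g e ≠ b := fun e' => heb (g.injective (e'.trans gb.symm))
    have := Finset.card_le_card h4s
    rw [Finset.card_insert_of_notMem (by simp [hab, Ne.symm hea, Ne.symm hga]),
      Finset.card_insert_of_notMem (by simp [Ne.symm heb, Ne.symm hgb]),
      Finset.card_insert_of_notMem (by simp [Ne.symm hge]), Finset.card_singleton] at this
    omega
  have hKcard : Nat.card K = Fintype.card α - Fu.card := by
    have e : Nat.card K = Nat.card {y // ¬ u y = y} := by
      refine Nat.card_eq_of_bijective (fun k : K => ⟨(k : Perm α) c, by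
        rw [← hC k.2.2.1, huc]; exact fun e => hcd ((k : Perm α).injective e).symm⟩) ⟨?_, ?_⟩
      · intro k l e
        have := hKfree ((l : Perm α)⁻¹ * k) (mul_mem (inv_mem l.2) k.2) (by
          rw [Perm.mul_apply, Perm.inv_eq_iff_eq]; exact congrArg Subtype.val e)
        exact Subtype.ext (inv_mul_eq_one.1 this).symm
      · rintro ⟨y, hy⟩
        obtain ⟨k, hk, hky⟩ := hKreg y hy
        exact ⟨⟨k, hk⟩, Subtype.ext hky⟩
    rw [e, Nat.card_eq_fintype_card, Fintype.card_subtype_compl, Fintype.card_subtype]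
  haveI : Fintype K := Fintype.ofFinite _
  let N2 : Finset K := Finset.univ.filter fun k => (k : Perm α) = 1 ∨ (k : Perm α) = u
  have hN2 : N2.card ≤ 2 := by
    refine le_trans (Finset.card_le_card (t := {1, ⟨u, hKu⟩}) fun k hk => ?_) Finset.card_le_two
    rcases (Finset.mem_filter.1 hk).2 with e | e
    · simp [Subtype.ext_iff, e]
    · simp [Subtype.ext_iff, e]
  -- automorphisms of `K` from the centralizer
  have hKconj : ∀ {z : Perm α}, z ∈ G → z * u = u * z → ∀ k ∈ K, z * k * z⁻¹ ∈ K := by
    intro z hz hzu k hk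
    have hzi : z⁻¹ * u = u * z⁻¹ := by rw [inv_mul_eq_iff_eq_mul, ← mul_assoc, hzu, mul_inv_cancel_right]
    refine ⟨mul_mem (mul_mem hz hk.1) (inv_mem hz), ?_, fun y hy => ?_⟩
    · rw [mul_assoc, hzi, ← mul_assoc, mul_assoc z k u, hk.2.1, ← mul_assoc, hzu, mul_assoc u z k,
        mul_assoc]
    · rw [Perm.mul_apply, Perm.mul_apply, hk.2.2 _ (hCF hzi hy), Perm.inv_def, Equiv.apply_symm_apply]
  let inv (z : Perm α) : Finset K := Finset.univ.filter fun k : K => z * k * z⁻¹ = (k : Perm α)⁻¹
  -- half of `K` is inverted by an involution fixing `c`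
  have hhalf : ∀ {z : Perm α}, z ∈ G → z * u = u * z → z c = c → z ≠ 1 → z * z = 1 →
      Fintype.card K ≤ 2 * (inv z).card := by
    intro z hz hzu hzc hz1 hzz
    have hzinv : z⁻¹ = z := inv_eq_of_mul_eq_one_right hzz
    let f : K → K := fun k => k⁻¹ * ⟨_, hKconj hz hzu k k.2⟩
    have hfK : ∀ k : K, ((f k : K) : Perm α) = (k : Perm α)⁻¹ * (z * k * z⁻¹) := fun k => rfl
    rw [← Finset.card_univ]
    refine Finset.card_le_mul_card_image_of_maps_to (f := f) (fun k _ => ?_) 2 fun w _ => ?_
    · refine Finset.mem_filter.2 ⟨Finset.mem_univ _, ?_⟩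
      rw [hfK]
      simp only [hzinv, mul_inv_rev, inv_inv]
      calc z * ((k : Perm α)⁻¹ * (z * k * z)) * z
          = z * (k : Perm α)⁻¹ * z * k * (z * z) := by group
        _ = z * ((k : Perm α)⁻¹ * z) * k := by rw [hzz, mul_one, mul_assoc z _ z]
        _ = _ := by group
    · rcases (Finset.univ.filter fun k => f k = w).eq_empty_or_nonempty with e | ⟨k0, hk0⟩
      · rw [e]; simp
      refine le_trans (Finset.card_le_card_of_injOn (fun k => k * k0⁻¹) (fun k hk => ?_)
        (fun a _ b _ e => mul_right_cancel e)) hN2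
      simp only [Finset.coe_filter, Finset.mem_univ, true_and, Set.mem_ofPred_eq] at hk hk0 ⊢
      have h1 := congrArg (fun q : K => (q : Perm α)) (hk.trans (Finset.mem_filter.1 hk0).2.symm)
      simp only [hfK] at h1
      refine Finset.mem_filter.2 ⟨Finset.mem_univ _, hcent hz hzu hzc hz1 (k * k0⁻¹ : K).2 ?_⟩
      push_cast
      rw [← mul_inv_eq_iff_eq_mul]
      calc z * ((k : Perm α) * (k0 : Perm α)⁻¹) * z⁻¹
          = (k : Perm α) * ((k : Perm α)⁻¹ * (z * k * z⁻¹)) * ((k0 : Perm α)⁻¹ * (z * k0 * z⁻¹))⁻¹ *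
              (k0 : Perm α)⁻¹ := by group
        _ = (k : Perm α) * (k0 : Perm α)⁻¹ := by rw [h1]; group
  obtain ⟨w, hw, hwa, hwb, hwc, hwd⟩ := exists_four h hn (a' := b) (b' := a) (c' := c) (d' := d)
    (by simp [Ne.symm hab, hac, had, hbc, hbd, hcd])
  have hwu : w * u = u * w := commute_of_four h hu hw hn (by rw [hua, hwa, hub]) (by rw [hub, hwb, hua])
    (by rw [huc, hwd, hwc, huc]) (by rw [hud, hwc, hwd, hud])
  have hww : w * w = 1 := eq_one_of_four h (mul_mem hw hw) hn (by simp [hwa, hwb]) (by simp [hwa, hwb])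
    (by simp [hwc]) (by simp [hwd])
  have hw1 : w ≠ 1 := fun e => hab (by rw [← hwa, e]; rfl)
  have hFab : ({a, b} : Finset α) ⊆ Fu := by
    intro z hz
    simp only [Finset.mem_insert, Finset.mem_singleton] at hz
    rw [hFu, Finset.mem_filter]
    rcases hz with rfl | rfl <;> simp [hua, hub]
  have hF2 : 2 ≤ Fu.card := (Finset.card_pair hab) ▸ Finset.card_le_card hFab
  rcases Nat.lt_or_ge Fu.card 3 with hF | hF
  · -- two fixed points
    have hFeq : Fu = {a, b} :=
      (Finset.eq_of_subset_of_card_le hFab (by rw [Finset.card_pair hab]; omega)).symm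
    have hsq : ∀ k ∈ K, k * k = 1 := by
      intro k hk
      let P := fun g : Perm α => g ∈ G ∧ g a = a ∧ g b = b
      let Gab : Finset (Perm α) := Finset.univ.filter P
      let M : Finset α := Finset.univ.filter fun y => y ≠ a ∧ y ≠ b
      have hMc : M.card + 2 = Fintype.card α := by
        have : M = ({a, b} : Finset α)ᶜ := by ext y; simp [M]
        rw [this, Finset.card_compl, Finset.card_pair hab]
        omega
      have hcM : c ∈ M := by simp [M, Ne.symm hac, Ne.symm hbc]
      have hdM : d ∈ M := by simp [M, Ne.symm had, Ne.symm hbd]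
      have hGab : Gab.card = M.card * (M.card - 1) := by
        rw [show M.card * (M.card - 1) = M.offDiag.card by
          rw [Finset.offDiag_card, Nat.mul_sub, mul_one]]
        refine Finset.card_bij (fun g _ => (g c, g d)) (fun g hg => ?_) (fun g hg g' hg' e => ?_)
          (fun p hp => ?_)
        · obtain ⟨-, -, ga, gb⟩ := Finset.mem_filter.1 hg
          refine Finset.mem_offDiag.2 ⟨?_, ?_, fun e => hcd (g.injective e)⟩ <;>
            refine Finset.mem_filter.2 ⟨Finset.mem_univ _, fun e => ?_, fun e => ?_⟩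
          · exact hac (g.injective (e.trans ga.symm)).symm
          · exact hbc (g.injective (e.trans gb.symm)).symm
          · exact had (g.injective (e.trans ga.symm)).symm
          · exact hbd (g.injective (e.trans gb.symm)).symm
        · obtain ⟨-, hG, ga, gb⟩ := Finset.mem_filter.1 hg
          obtain ⟨-, hG', ga', gb'⟩ := Finset.mem_filter.1 hg'
          rw [Prod.mk.injEq] at e
          have := eq_one_of_four h (mul_mem (inv_mem hG') hG) hn
            (by rw [Perm.mul_apply, Perm.inv_eq_iff_eq, ga, ga'])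
            (by rw [Perm.mul_apply, Perm.inv_eq_iff_eq, gb, gb'])
            (by rw [Perm.mul_apply, Perm.inv_eq_iff_eq, e.1])
            (by rw [Perm.mul_apply, Perm.inv_eq_iff_eq, e.2])
          exact (inv_mul_eq_one.1 this).symm
        · obtain ⟨h1, h2, h12⟩ := Finset.mem_offDiag.1 hp
          obtain ⟨-, p1a, p1b⟩ := Finset.mem_filter.1 h1
          obtain ⟨-, p2a, p2b⟩ := Finset.mem_filter.1 h2
          obtain ⟨g, hg, ga, gb, gc, gd⟩ := exists_four h hn (a' := a) (b' := b) (c' := p.1) (d' := p.2)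
            (by simp [hab, Ne.symm p1a, Ne.symm p1b, Ne.symm p2a, Ne.symm p2b, h12])
          exact ⟨g, Finset.mem_filter.2 ⟨Finset.mem_univ _, hg, ga, gb⟩, Prod.ext gc gd⟩
      let Fx : α → Finset (Perm α) := fun y => Gab.filter fun g => g y = y ∧ g ≠ 1
      have hFx : ∀ y ∈ M, M.card - 2 ≤ (Fx y).card := by
        intro y hy
        obtain ⟨-, ya, yb⟩ := Finset.mem_filter.1 hy
        obtain ⟨z, hz, hzy⟩ : ∃ z ∈ M, z ≠ y := by
          by_cases e : y = c
          · exact ⟨d, hdM, fun e' => hcd (e'.trans e).symm⟩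
          · exact ⟨c, hcM, Ne.symm e⟩
        obtain ⟨-, za, zb⟩ := Finset.mem_filter.1 hz
        have hcard : ((M.erase y).erase z).card = M.card - 2 := by
          rw [Finset.card_erase_of_mem (Finset.mem_erase.2 ⟨hzy, hz⟩), Finset.card_erase_of_mem hy]
          omega
        rw [← hcard]
        refine Finset.card_le_card_of_surjOn (fun g => g z) fun t ht => ?_
        simp only [Finset.coe_erase, Set.mem_diff, Set.mem_singleton_iff, Finset.mem_coe] at ht
        obtain ⟨⟨htM, hty⟩, htz⟩ := ht
        obtain ⟨-, ta, tb⟩ := Finset.mem_filter.1 htM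
        obtain ⟨g, hg, ga, gb, gc, gd⟩ := exists_four h (a := a) (b := b) (c := y) (d := z)
          (a' := a) (b' := b) (c' := y) (d' := t)
          (by simp [hab, Ne.symm ya, Ne.symm yb, Ne.symm za, Ne.symm zb, Ne.symm hzy])
          (by simp [hab, Ne.symm ya, Ne.symm yb, Ne.symm ta, Ne.symm tb, Ne.symm hty])
        exact ⟨g, Finset.mem_filter.2 ⟨Finset.mem_filter.2 ⟨Finset.mem_univ _, hg, ga, gb⟩, gc,
          fun e => htz (by rw [← gd, e]; rfl)⟩, gd⟩
      have hdisj : (M : Set α).PairwiseDisjoint Fx := by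
        intro y hy z hz hyz
        rw [Function.onFun, Finset.disjoint_left]
        intro g hg hg'
        obtain ⟨hgab, gy, g1⟩ := Finset.mem_filter.1 hg
        obtain ⟨-, gz, -⟩ := Finset.mem_filter.1 hg'
        obtain ⟨-, hG, ga, gb⟩ := Finset.mem_filter.1 hgab
        obtain ⟨-, ya, yb⟩ := Finset.mem_filter.1 hy
        obtain ⟨-, za, zb⟩ := Finset.mem_filter.1 hz
        exact g1 (eq_one_of_four h hG (a := a) (b := b) (c := y) (d := z)
          (by simp [hab, Ne.symm ya, Ne.symm yb, Ne.symm za, Ne.symm zb, hyz]) ga gb gy gz)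
      let Fpf := Gab.filter fun g => ∀ y ∈ M, g y ≠ y
      have hFpf : Fpf.card ≤ M.card - 1 := by
        have hsum : M.card * (M.card - 2) ≤ (M.biUnion Fx).card := by
          rw [Finset.card_biUnion hdisj, ← smul_eq_mul, ← Finset.sum_const]
          exact Finset.sum_le_sum hFx
        have h1 : (1 : Perm α) ∈ Gab := Finset.mem_filter.2 ⟨Finset.mem_univ _, one_mem _, rfl, rfl⟩
        have hd1 : Disjoint Fpf (insert 1 (M.biUnion Fx)) := by
          rw [Finset.disjoint_left]
          intro g hg hg'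
          have hg2 := (Finset.mem_filter.1 hg).2
          rcases Finset.mem_insert.1 hg' with rfl | hg'
          · exact hg2 c hcM rfl
          · obtain ⟨y, hy, hgy⟩ := Finset.mem_biUnion.1 hg'
            exact hg2 y hy (Finset.mem_filter.1 hgy).2.1
        have hle := Finset.card_le_card (s := Fpf ∪ insert 1 (M.biUnion Fx)) (t := Gab)
          (Finset.union_subset (Finset.filter_subset _ _) (Finset.insert_subset h1
            (Finset.biUnion_subset.2 fun y _ => Finset.filter_subset _ _)))
        rw [Finset.card_union_of_disjoint hd1, Finset.card_insert_of_notMem (by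
          intro e
          obtain ⟨y, -, hy⟩ := Finset.mem_biUnion.1 e
          exact (Finset.mem_filter.1 hy).2.2 rfl), hGab] at hle
        have : 2 ≤ M.card := Finset.one_lt_card.2 ⟨c, hcM, d, hdM, hcd⟩
        obtain ⟨q, hq⟩ := Nat.exists_eq_add_of_le' this
        rw [hq] at hsum hle ⊢
        simp only [Nat.add_sub_cancel, show q + 2 - 1 = q + 1 from rfl] at hsum hle ⊢
        nlinarith
      let Inv := Fpf.filter fun g => g * g = 1
      have hInv : M.card - 1 ≤ Inv.card := by
        rw [← Finset.card_erase_of_mem hcM]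
        refine Finset.card_le_card_of_surjOn (fun g => g c) fun y hy => ?_
        simp only [Finset.coe_erase, Set.mem_diff, Set.mem_singleton_iff, Finset.mem_coe] at hy
        obtain ⟨hyM, hyc⟩ := hy
        obtain ⟨-, ya, yb⟩ := Finset.mem_filter.1 hyM
        obtain ⟨g, hg, ga, gb, gc, gd⟩ := exists_four h hn (a' := a) (b' := b) (c' := c) (d' := y)
          (by simp [hab, hac, hbc, Ne.symm ya, Ne.symm yb, Ne.symm hyc])
        refine ⟨g * u * g⁻¹, ?_, ?_⟩
        · simp only [Finset.coe_filter, Set.mem_ofPred_eq, Inv, Fpf, Gab, P, Finset.mem_filter,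
            Finset.mem_univ, true_and]
          refine ⟨⟨⟨mul_mem (mul_mem hg hu) (inv_mem hg), ?_, ?_⟩, fun z hz e => ?_⟩, ?_⟩
          · rw [Perm.mul_apply, Perm.mul_apply, Perm.inv_eq_iff_eq.2 ga.symm, hua, ga]
          · rw [Perm.mul_apply, Perm.mul_apply, Perm.inv_eq_iff_eq.2 gb.symm, hub, gb]
          · rw [Perm.mul_apply, Perm.mul_apply, ← Equiv.eq_symm_apply g, ← Perm.inv_def] at e
            obtain ⟨-, za, zb⟩ := Finset.mem_filter.1 hz
            have : g⁻¹ z ∈ Fu := Finset.mem_filter.2 ⟨Finset.mem_univ _, e⟩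
            rw [hFeq, Finset.mem_insert, Finset.mem_singleton, Perm.inv_eq_iff_eq, Perm.inv_eq_iff_eq,
              ga, gb] at this
            exact this.elim za zb
          · rw [conj_mul, huu, mul_one, mul_inv_cancel]
        · show (g * u * g⁻¹) c = y
          rw [Perm.mul_apply, Perm.mul_apply, Perm.inv_eq_iff_eq.2 gc.symm, huc, gd]
      have heq : Inv = Fpf :=
        Finset.eq_of_subset_of_card_le (Finset.filter_subset _ _) (hFpf.trans hInv)
      by_cases hk1 : k = 1
      · rw [hk1, mul_one]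
      have hkF : k ∈ Fpf := by
        refine Finset.mem_filter.2 ⟨Finset.mem_filter.2
          ⟨Finset.mem_univ _, hk.1, hk.2.2 a hua, hk.2.2 b hub⟩, fun y hy e => ?_⟩
        obtain ⟨-, ya, yb⟩ := Finset.mem_filter.1 hy
        have huy : u y ≠ y := fun e' => by
          have : y ∈ Fu := Finset.mem_filter.2 ⟨Finset.mem_univ _, e'⟩
          rw [hFeq, Finset.mem_insert, Finset.mem_singleton] at this
          exact this.elim ya yb
        obtain ⟨l, hl, hlc⟩ := hKreg y huy
        refine hk1 ?_
        have := hKfree (l⁻¹ * k * l) (mul_mem (mul_mem (inv_mem hl) hk) hl) (by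
          rw [Perm.mul_apply, Perm.mul_apply, hlc, e, Perm.inv_eq_iff_eq, hlc])
        calc k = l * (l⁻¹ * k * l) * l⁻¹ := by group
          _ = 1 := by rw [this]; group
      rw [← heq] at hkF
      exact (Finset.mem_filter.1 hkF).2
    have hle : (inv w).card ≤ 2 := by
      refine le_trans (Finset.card_le_card fun k hk => ?_) hN2
      refine Finset.mem_filter.2 ⟨Finset.mem_univ _, hcent hw hwu hwc hw1 k.2 ?_⟩
      have hk' := (Finset.mem_filter.1 hk).2
      rw [inv_eq_of_mul_eq_one_right (hsq _ k.2)] at hk'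
      exact mul_inv_eq_iff_eq_mul.1 hk'
    have := hhalf hw hwu hwc hw1 hww
    rw [← Nat.card_eq_fintype_card, hKcard] at this
    omega
  · -- three fixed points
    obtain ⟨e, he⟩ : (Fu \ {a, b}).Nonempty := by
      rw [← Finset.card_pos]
      have := Finset.le_card_sdiff {a, b} Fu
      rw [Finset.card_pair hab] at this
      omega
    simp only [Finset.mem_sdiff, hFu, Finset.mem_filter, Finset.mem_univ, true_and, Finset.mem_insert,
      Finset.mem_singleton, not_or] at he
    obtain ⟨hue, hea, heb⟩ := he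
    have hec : e ≠ c := fun e' => hcd (by rw [← huc, ← e', hue])
    have hed : e ≠ d := fun e' => hcd (by rw [← hud, ← e', hue])
    have hFeq : Fu = {a, b, e} := (Finset.eq_of_subset_of_card_le (fun z hz => by
        simp only [Finset.mem_insert, Finset.mem_singleton] at hz
        rw [hFu, Finset.mem_filter]
        rcases hz with rfl | rfl | rfl <;> simp [hua, hub, hue]) (by
        rw [Finset.card_insert_of_notMem (by simp [hab, Ne.symm hea]), Finset.card_pair (Ne.symm heb)]
        omega)).symm
    obtain ⟨x, hx, hxa, hxb, hxc, hxd⟩ := exists_four h hn (a' := b) (b' := e) (c' := c) (d' := d)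
      (by simp [Ne.symm heb, hec, hed, hbc, hbd, hcd])
    have hxu : x * u = u * x := commute_of_four h hu hx hn (by rw [hua, hxa, hub]) (by rw [hub, hxb, hue])
      (by rw [huc, hxd, hxc, huc]) (by rw [hud, hxc, hxd, hud])
    have hxe : x e = a := by
      have h1 : x e ∈ Fu := Finset.mem_filter.2 ⟨Finset.mem_univ _, hCF hxu hue⟩
      rw [hFeq, Finset.mem_insert, Finset.mem_insert, Finset.mem_singleton] at h1
      rcases h1 with h1 | h1 | h1
      · exact h1
      · exact absurd (x.injective (h1.trans hxa.symm)) hea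
      · exact absurd (x.injective (h1.trans hxb.symm)) heb
    have hwe : w e = e := by
      have h1 : w e ∈ Fu := Finset.mem_filter.2 ⟨Finset.mem_univ _, hCF hwu hue⟩
      rw [hFeq, Finset.mem_insert, Finset.mem_insert, Finset.mem_singleton] at h1
      rcases h1 with h1 | h1 | h1
      · exact absurd (w.injective (h1.trans hwb.symm)) heb
      · exact absurd (w.injective (h1.trans hwa.symm)) hea
      · exact h1
    have hx1 : x ≠ 1 := fun e' => hab (by rw [← hxa, e']; rfl)
    have hx3 : x ^ 3 = 1 := eq_one_of_four h (pow_mem hx 3) hn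
      (by simp [pow_succ, hxa, hxb, hxe]) (by simp [pow_succ, hxa, hxb, hxe])
      (by simp [pow_succ, hxc]) (by simp [pow_succ, hxd])
    have hfx : (Finset.univ.filter fun y => x y = y) = {c, d} := by
      ext y
      simp only [Finset.mem_filter, Finset.mem_univ, true_and, Finset.mem_insert, Finset.mem_singleton]
      constructor
      · intro hy
        by_cases huy : u y = y
        · have : y ∈ Fu := Finset.mem_filter.2 ⟨Finset.mem_univ _, huy⟩
          rw [hFeq, Finset.mem_insert, Finset.mem_insert, Finset.mem_singleton] at this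
          rcases this with rfl | rfl | rfl
          · exact absurd (hxa.symm.trans hy).symm hab
          · exact absurd (hxb.symm.trans hy) heb
          · exact absurd (hxe.symm.trans hy).symm hea
        · exact hfix2 hx hxu hxc hx1 huy hy
      · rintro (rfl | rfl) <;> assumption
    have hmod3 : 2 ≡ Fintype.card α [MOD 3] := by
      haveI : Fact (Nat.Prime 3) := ⟨Nat.prime_three⟩
      have := Equiv.Perm.card_compl_support_modEq (σ := x) (p := 3) (n := 1) (by rw [pow_one]; exact hx3)
      rw [show x.supportᶜ = ({c, d} : Finset α) by rw [← hfx]; ext; simp, Finset.card_pair hcd] at this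
      exact this
    have hmod2 : 3 ≡ Fintype.card α [MOD 2] := by
      haveI : Fact (Nat.Prime 2) := ⟨Nat.prime_two⟩
      have := Equiv.Perm.card_compl_support_modEq (σ := u) (p := 2) (n := 1) (by rw [pow_one, pow_two]; exact huu)
      rw [show u.supportᶜ = Fu by ext; simp [hFu]] at this
      rwa [show Fu.card = 3 by omega] at this
    -- three involutions
    let z : Fin 3 → Perm α := fun i => x ^ i.val * w * (x ^ i.val)⁻¹
    have hz : ∀ i, z i ∈ G ∧ z i * u = u * z i ∧ z i c = c ∧ z i * z i = 1 ∧ z i ≠ 1 := by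
      intro i
      have hxp : x ^ i.val * u = u * x ^ i.val := (show Commute x u from hxu).pow_left _
      have hxpc : (x ^ i.val) c = c := Perm.pow_apply_eq_self_of_apply_eq_self hxc _
      refine ⟨mul_mem (mul_mem (pow_mem hx _) hw) (inv_mem (pow_mem hx _)), ?_, ?_, ?_, ?_⟩
      · exact ((show Commute (x ^ i.val) u from hxp).mul_left hwu).mul_left
          (show Commute (x ^ i.val) u from hxp).inv_left
      · rw [Perm.mul_apply, Perm.mul_apply, Perm.inv_eq_iff_eq.2 hxpc.symm, hwc, hxpc]
      · rw [conj_mul, hww, mul_one, mul_inv_cancel]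
      · exact fun e' => hw1 (conj_eq_one_iff.1 e')
    have hzne : ∀ i j, i ≠ j → z i ≠ z j := by
      have hxi : x.symm a = e ∧ x.symm b = a ∧ x.symm e = b :=
        ⟨(Equiv.symm_apply_eq x).2 hxe.symm, (Equiv.symm_apply_eq x).2 hxa.symm,
          (Equiv.symm_apply_eq x).2 hxb.symm⟩
      have hfp : z 0 e = e ∧ z 1 a = a ∧ z 2 b = b ∧ z 0 a = b ∧ z 1 b = e ∧ z 2 a = e := by
        simp [z, pow_two, hxi, hwa, hwb, hwe, hxa, hxb, hxe]
      intro i j hij e'
      fin_cases i <;> fin_cases j <;> simp at hij e' <;>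
        first
        | (have := congrArg (fun σ : Perm α => σ a) e'; simp only [hfp] at this; simp_all)
        | (have := congrArg (fun σ : Perm α => σ b) e'; simp only [hfp] at this; simp_all)
    have hN2sub : ∀ i, N2 ⊆ inv (z i) := by
      intro i k hk
      refine Finset.mem_filter.2 ⟨Finset.mem_univ _, ?_⟩
      rcases (Finset.mem_filter.1 hk).2 with e' | e'
      · rw [e', mul_one, mul_inv_cancel, inv_one]
      · rw [e', (hz i).2.1, mul_inv_cancel_right, inv_eq_of_mul_eq_one_right huu]
    have hdis : ∀ i j, i ≠ j → Disjoint (inv (z i) \ N2) (inv (z j) \ N2) := by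
      intro i j hij
      rw [Finset.disjoint_left]
      intro k hk hk'
      simp only [Finset.mem_sdiff, inv, N2, Finset.mem_filter, Finset.mem_univ, true_and] at hk hk'
      obtain ⟨gi, ui, ci, si, -⟩ := hz i
      obtain ⟨gj, uj, cj, -, -⟩ := hz j
      refine hk.2 (hcent (z := (z i)⁻¹ * z j) (mul_mem (inv_mem gi) gj)
        ((show Commute (z i) u from ui).inv_left.mul_left uj)
        (by rw [Perm.mul_apply, cj, Perm.inv_eq_iff_eq, ci]) ?_ k.2 ?_)
      · rw [Ne, inv_mul_eq_one]; exact hzne i j hij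
      · rw [← mul_inv_eq_iff_eq_mul, mul_inv_rev, inv_inv]
        calc (z i)⁻¹ * z j * k * ((z j)⁻¹ * z i)
            = (z i)⁻¹ * (z j * k * (z j)⁻¹) * z i := by group
          _ = (z i)⁻¹ * (z i * k * (z i)⁻¹) * z i := by rw [hk'.1, hk.1]
          _ = k := by group
    have hsum : ∑ i : Fin 3, (inv (z i) \ N2).card ≤ (Finset.univ \ N2 : Finset K).card := by
      rw [← Finset.card_biUnion fun i _ j _ hij => hdis i j hij]
      exact Finset.card_le_card (Finset.biUnion_subset.2 fun i _ =>
        Finset.sdiff_subset_sdiff (Finset.subset_univ _) le_rfl)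
    rw [Fin.sum_univ_three, Finset.card_sdiff_of_subset (Finset.subset_univ _), Finset.card_univ,
      Finset.card_sdiff_of_subset (hN2sub 0), Finset.card_sdiff_of_subset (hN2sub 1),
      Finset.card_sdiff_of_subset (hN2sub 2)] at hsum
    have hh := fun i => hhalf (hz i).1 (hz i).2.1 (hz i).2.2.1 (hz i).2.2.2.2 (hz i).2.2.2.1
    have h0 := hh 0
    have h1 := hh 1
    have h2 := hh 2
    rw [← Nat.card_eq_fintype_card, hKcard] at h0 h1 h2 hsum
    have hN2' : 2 ≤ N2.card := by
      have : ({1, ⟨u, hKu⟩} : Finset K) ⊆ N2 := by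
        intro k hk
        simp only [Finset.mem_insert, Finset.mem_singleton] at hk
        refine Finset.mem_filter.2 ⟨Finset.mem_univ _, ?_⟩
        rcases hk with rfl | rfl <;> simp
      refine le_trans (le_of_eq ?_) (Finset.card_le_card this)
      rw [Finset.card_pair]
      exact fun e' => hu1 (congrArg Subtype.val e').symm
    rw [Nat.ModEq] at hmod2 hmod3
    omega

end Four

end CfsgLib.SharplyK
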