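import Mathlib
import Cfsg.Agent.Lib.Perm.SharplyK
import Cfsg.Agent.Lib.Groups.SimpleCrit

/-!
Degrees of sharply five and more fold transitive groups; the groups of degree eleven and twelve
are simple.
-/

set_option autoImplicit false

namespace CfsgLib.SharplyK

open Equiv MulAction CfsgLib.SelfCent

variable {α : Type*} [Fintype α] [DecidableEq α]

theorem selfCent_of_cycle {p : ℕ} [Fact p.Prime] (hα : Fintype.card α = p) {G : Subgroup (Perm α)}
    {x : G} (hx : orderOf x = p) : IsSelfCent p x := by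
  have hxo : orderOf (x : Perm α) = p := by rw [Subgroup.orderOf_coe, hx]
  have hp : p.Prime := Fact.out
  have hcyc : (x : Perm α).IsCycle := by
    refine Perm.isCycle_of_prime_order'' (by rw [hα]; exact hp) ?_
    rw [hxo, hα]
  have hsupp : (x : Perm α).support = Finset.univ :=
    Finset.eq_univ_of_card _ (by rw [← hcyc.orderOf, hxo, hα])
  refine ⟨hp, hx, le_antisymm ?_ ?_⟩
  · intro g hg
    rw [Subgroup.mem_centralizer_singleton_iff] at hg
    have hg' : Commute (g : Perm α) (x : Perm α) := congrArg Subtype.val hg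
    obtain ⟨a⟩ : Nonempty α := Fintype.card_pos_iff.1 (by rw [hα]; exact hp.pos)
    have hmem : ∀ y, (x : Perm α) y ≠ y := fun y =>
      Perm.mem_support.1 (by rw [hsupp]; exact Finset.mem_univ y)
    obtain ⟨i, hi⟩ := hcyc.exists_zpow_eq (hmem a) (hmem ((g : Perm α) a))
    refine Subgroup.mem_zpowers_iff.2 ⟨i, Subtype.ext ?_⟩
    push_cast
    refine Equiv.ext fun y => ?_
    obtain ⟨j, rfl⟩ := hcyc.exists_zpow_eq (hmem a) (hmem y)
    rw [← Perm.mul_apply, ← zpow_add, add_comm, zpow_add, Perm.mul_apply, hi, ← Perm.mul_apply,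
      ← Perm.mul_apply, ((hg'.zpow_right j).eq)]
  · rw [Subgroup.zpowers_le, Subgroup.mem_centralizer_singleton_iff]

/-- the index of the normalizer of a Sylow subgroup generated by a self-centralizing element -/
theorem sylow_congr {p : ℕ} [Fact p.Prime] {G : Type*} [Group G] [Finite G] {x : G}
    (h : IsSelfCent p x) :
    eIdx x ∣ p - 1 ∧ Nat.card G = (nzr x).index * (p * eIdx x) ∧ (nzr x).index % p = 1 := by
  refine ⟨Dvd.intro_left _ (classes_mul_eIdx h), ?_, ?_⟩
  · rw [← Subgroup.index_mul_card (nzr x)]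
    congr 1
    rw [← h.card_P, eIdx, ← Subgroup.relIndex_bot_left (nzr x),
      ← Subgroup.relIndex_bot_left (Subgroup.zpowers x),
      Subgroup.relIndex_mul_relIndex _ _ _ bot_le CfsgLib.SelfCent.self_le_nzr]
  · obtain ⟨P, hP⟩ := exists_sylow h
    have h1 := card_sylow_modEq_one p G
    rw [Sylow.card_eq_index_normalizer P, show (P : Set G) = (Subgroup.zpowers x : Set G) from
      congrArg SetLike.coe hP] at h1
    rw [Nat.ModEq, Nat.mod_eq_of_lt h.1.one_lt] at h1
    exact h1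

theorem jordan_five {G : Subgroup (Perm α)} (h : Sharp G 5) (h5 : 5 ≤ Fintype.card α) :
    Fintype.card α = 5 ∨ Fintype.card α = 6 ∨ Fintype.card α = 7 ∨ Fintype.card α = 12 := by
  obtain ⟨a⟩ : Nonempty α := Fintype.card_pos_iff.1 (by omega)
  have := jordan_four (sharp_drop h a) (by rw [card_drop]; omega)
  rw [card_drop] at this
  omega

theorem not_thirteen {G : Subgroup (Perm α)} (h : Sharp G 6) (hα : Fintype.card α = 13) : False := by
  haveI : Fact (Nat.Prime 13) := ⟨by norm_num⟩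
  have hc : Nat.card G = 1235520 := by rw [natCard h (by omega), hα]; decide
  obtain ⟨x, hx⟩ := exists_prime_orderOf_dvd_card' (G := G) 13 (by rw [hc]; norm_num)
  obtain ⟨he, hcard, hmod⟩ := sylow_congr (selfCent_of_cycle hα hx)
  rw [hc] at hcard
  have := Nat.le_of_dvd (by norm_num) he
  obtain ⟨he0, he'⟩ : eIdx x ≠ 0 ∧ eIdx x ∣ 12 := ⟨fun e => by rw [e] at hcard; simp at hcard, he⟩
  interval_cases eIdx x <;> omega

theorem large_k (k : ℕ) : ∀ (hk : 6 ≤ k) {β : Type*} [Fintype β] [DecidableEq β]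
    {G : Subgroup (Perm β)} (_ : Sharp G k) (_ : k ≤ Fintype.card β),
    Fintype.card β = k ∨ Fintype.card β = k + 1 ∨ Fintype.card β = k + 2 := by
  induction k with
  | zero => intro hk; omega
  | succ k ih =>
    intro hk β _ _ G h hn
    obtain ⟨a⟩ : Nonempty β := Fintype.card_pos_iff.1 (by omega)
    rcases Nat.lt_or_ge k 6 with hk6 | hk6
    · obtain rfl : k = 5 := by omega
      have := jordan_five (sharp_drop h a) (by rw [card_drop]; omega)
      rw [card_drop] at this
      have hne : Fintype.card β ≠ 13 := fun e => not_thirteen h e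
      omega
    · have := ih hk6 (sharp_drop h a) (by rw [card_drop]; omega)
      rw [card_drop] at this
      omega

theorem card_eleven (hα : Fintype.card α = 11) {G : Subgroup (Perm α)} (h : Sharp G 4) :
    Nat.card G = 7920 := by
  rw [natCard h (by omega), hα]; decide

theorem card_twelve (hα : Fintype.card α = 12) {G : Subgroup (Perm α)} (h : Sharp G 5) :
    Nat.card G = 95040 := by
  rw [natCard h (by omega), hα]; decide

theorem exists_two {G : Subgroup (Perm α)} {k : ℕ} (h : Sharp G k) (h2 : 2 ≤ k)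
    (hk : k ≤ Fintype.card α) {a b a' b' : α} (hab : a ≠ b) (hab' : a' ≠ b') :
    ∃ g ∈ G, g a = a' ∧ g b = b' := by
  obtain ⟨x⟩ : Nonempty (Fin k ↪ α) :=
    Function.Embedding.nonempty_of_card_le (by rwa [Fintype.card_fin])
  have mk : ∀ {a b : α}, a ≠ b → ∃ y : Fin k ↪ α, y ⟨0, by omega⟩ = a ∧ y ⟨1, by omega⟩ = b := by
    intro a b hab
    let s := Equiv.swap (x ⟨0, by omega⟩) a
    have hne : s (x ⟨1, by omega⟩) ≠ a := fun e => by
      have := s.injective (e.trans (Equiv.swap_apply_left _ _).symm)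
      exact absurd (congrArg Fin.val (x.injective this)) one_ne_zero
    refine ⟨x.trans (s.trans (Equiv.swap (s (x ⟨1, by omega⟩)) b)).toEmbedding, ?_, ?_⟩
    · show Equiv.swap _ b (s (x ⟨0, _⟩)) = a
      rw [Equiv.swap_apply_left, Equiv.swap_apply_of_ne_of_ne (Ne.symm hne) hab]
    · show Equiv.swap _ b (s (x ⟨1, _⟩)) = b
      rw [Equiv.swap_apply_left]
  obtain ⟨y, hy0, hy1⟩ := mk hab
  obtain ⟨y', hy0', hy1'⟩ := mk hab'
  obtain ⟨g, hg, hgi⟩ := h.trans y y'
  exact ⟨g, hg, by rw [← hy0, hgi, hy0'], by rw [← hy1, hgi, hy1']⟩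

/-- nontrivial normal subgroups of a two-fold transitive group are transitive -/
theorem normal_trans {G : Subgroup (Perm α)} {k : ℕ} (h : Sharp G k) (h2 : 2 ≤ k)
    (hk : k ≤ Fintype.card α) (N : Subgroup G) (hN : N.Normal) (hne : N ≠ ⊥) :
    MulAction.IsPretransitive N α := by
  obtain ⟨n, hn, hn1⟩ := N.bot_or_exists_ne_one.resolve_left hne
  obtain ⟨a, ha⟩ : ∃ a, (n : Perm α) a ≠ a := by
    by_contra hc
    push Not at hc
    exact hn1 (Subtype.ext (Equiv.ext hc))
  refine ⟨fun u v => ?_⟩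
  rcases eq_or_ne u v with rfl | huv
  · exact ⟨1, one_smul _ _⟩
  obtain ⟨g, hg, hga, hgb⟩ := exists_two h h2 hk (Ne.symm ha) huv
  refine ⟨⟨⟨g, hg⟩ * n * ⟨g, hg⟩⁻¹, hN.conj_mem n hn ⟨g, hg⟩⟩, ?_⟩
  show (g * (n : Perm α) * g⁻¹) u = v
  rw [Perm.mul_apply, Perm.mul_apply, Perm.inv_eq_iff_eq.2 hga.symm, hgb]

theorem isSimpleGroup_eleven (hα : Fintype.card α = 11) {G : Subgroup (Perm α)} (h : Sharp G 4) :
    IsSimpleGroup G := by
  haveI : Fact (Nat.Prime 11) := ⟨by norm_num⟩
  have hc := card_eleven hα h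
  obtain ⟨x, hx⟩ := exists_prime_orderOf_dvd_card' (G := G) 11 (by rw [hc]; norm_num)
  have hsc := selfCent_of_cycle hα hx
  obtain ⟨he, hcard, hmod⟩ := sylow_congr hsc
  rw [hc] at hcard
  have he5 : eIdx x = 5 := by
    have := Nat.le_of_dvd (by norm_num) he
    have he0 : eIdx x ≠ 0 := fun e => by rw [e] at hcard; simp at hcard
    interval_cases eIdx x <;> omega
  refine CfsgLib.SimpleCrit.isSimpleGroup_of_selfCent (q := 5) hsc (by norm_num) rfl ?_
    (fun N hN hne => ?_) (by rw [hc]; norm_num)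
  · intro g hg
    have hgN : g ∈ nzr x := (mem_nzr_iff hsc).2 (hg ▸ inv_mem (Subgroup.mem_zpowers x))
    set P := (Subgroup.zpowers x).subgroupOf (nzr x) with hP
    haveI : P.Normal := Subgroup.normal_in_normalizer
    have h5 : Nat.card (nzr x ⧸ P) = 5 := he5
    have hq : ((⟨g, hgN⟩ : nzr x) : nzr x ⧸ P) ^ 2 = 1 := by
      rw [← QuotientGroup.mk_pow, QuotientGroup.eq_one_iff, hP, Subgroup.mem_subgroupOf]
      refine comm_mem_zpowers hsc ?_
      push_cast
      rw [pow_two, ← mul_inv_eq_iff_eq_mul]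
      calc g * g * x * (g * g)⁻¹ = g * (g * x * g⁻¹) * g⁻¹ := by group
        _ = x := by rw [hg, ← conj_inv, hg, inv_inv]
    have h1 : ((⟨g, hgN⟩ : nzr x) : nzr x ⧸ P) = 1 := by
      rw [← orderOf_eq_one_iff]
      have d1 : orderOf ((⟨g, hgN⟩ : nzr x) : nzr x ⧸ P) ∣ 2 := orderOf_dvd_of_pow_eq_one hq
      have d2 : orderOf ((⟨g, hgN⟩ : nzr x) : nzr x ⧸ P) ∣ 5 := h5 ▸ orderOf_dvd_natCard _
      exact Nat.eq_one_of_dvd_coprimes (by norm_num : Nat.Coprime 2 5) d1 d2
    rw [QuotientGroup.eq_one_iff, hP, Subgroup.mem_subgroupOf] at h1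
    obtain ⟨i, hi⟩ := Subgroup.mem_zpowers_iff.1 h1
    simp only at hi
    rw [← hi, (Commute.zpow_self x i).eq, mul_inv_cancel_right] at hg
    have h2 : orderOf x ∣ 2 := orderOf_dvd_of_pow_eq_one (by
      rw [pow_two]; nth_rw 1 [hg]; exact inv_mul_cancel x)
    rw [hx] at h2
    norm_num at h2
  · haveI := normal_trans h (by norm_num) (by omega) N hN hne
    obtain ⟨a⟩ : Nonempty α := Fintype.card_pos_iff.1 (by omega)
    have h1 := MulAction.index_stabilizer_of_transitive N a
    rw [Nat.card_eq_fintype_card, hα] at h1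
    exact h1 ▸ Subgroup.index_dvd_card _

theorem isSimpleGroup_twelve (hα : Fintype.card α = 12) {G : Subgroup (Perm α)} (h : Sharp G 5) :
    IsSimpleGroup G := by
  obtain ⟨a⟩ : Nonempty α := Fintype.card_pos_iff.1 (by omega)
  haveI := isSimpleGroup_eleven (by rw [card_drop, hα]) (sharp_drop h a)
  haveI : IsSimpleGroup (MulAction.stabilizer G a) := (stabilizerEquiv G a).symm.isSimpleGroup
  refine CfsgLib.SimpleCrit.isSimpleGroup_of_stabilizer a
    (fun N hN hne => normal_trans h (by norm_num) (by omega) N hN hne) fun N hN hcN => ?_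
  rw [Nat.card_eq_fintype_card (α := α), hα] at hcN
  have hne : N ≠ ⊥ := fun e => by rw [e, Subgroup.card_bot] at hcN; omega
  haveI := normal_trans h (by norm_num) (by omega) N hN hne
  let f : N → α := fun n => ((n : G) : Perm α) a
  have hf : Function.Bijective f := (Nat.bijective_iff_surjective_and_card f).2
    ⟨fun y => by obtain ⟨n, hn⟩ := MulAction.exists_smul_eq N a y; exact ⟨n, hn⟩, by
      rw [hcN, Nat.card_eq_fintype_card (α := α), hα]⟩
  haveI : Fact (Nat.Prime 3) := ⟨Nat.prime_three⟩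
  haveI : Fact (Nat.Prime 2) := ⟨Nat.prime_two⟩
  obtain ⟨u, hu⟩ := exists_prime_orderOf_dvd_card' (G := N) 2 (by rw [hcN]; norm_num)
  obtain ⟨v, hv⟩ := exists_prime_orderOf_dvd_card' (G := N) 3 (by rw [hcN]; norm_num)
  have h1 : ∀ {w : N} {q : ℕ}, orderOf w = q → q ≠ 1 → f w ≠ a := by
    intro w q hw hq e
    exact hq (by rw [← hw, hf.1 (e.trans (show a = f 1 from rfl)), orderOf_one])
  obtain ⟨g, hg, hga, hgu⟩ := exists_two h (by norm_num) (by omega)
    (Ne.symm (h1 hu (by norm_num))) (Ne.symm (h1 hv (by norm_num)))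
  have hconj : (⟨⟨g, hg⟩ * u * ⟨g, hg⟩⁻¹, hN.conj_mem u u.2 ⟨g, hg⟩⟩ : N) = v := by
    refine hf.1 ?_
    show (g * ((u : G) : Perm α) * g⁻¹) a = f v
    rw [Perm.mul_apply, Perm.mul_apply, Perm.inv_eq_iff_eq.2 hga.symm]
    exact hgu
  have ho : orderOf (v : G) = orderOf (u : G) := by
    rw [← hconj]
    exact MulEquiv.orderOf_eq (MulAut.conj (⟨g, hg⟩ : G)) (u : G)
  rw [Subgroup.orderOf_coe, Subgroup.orderOf_coe, hu, hv] at ho
  norm_num at ho

end CfsgLib.SharplyK
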