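/-
Insoluble transitive groups of degree 11: the possible orders.
-/
import Mathlib
import Cfsg.Agent.S0675
import Cfsg.Agent.Lib.Perm.MinDegSmall
import Cfsg.Agent.Lib.Perm.JordanPrime
import Cfsg.Agent.Lib.Perm.SharplyKDegree

set_option autoImplicit false
set_option linter.style.haveILetI false
set_option linter.unusedSectionVars false

open MulAction Equiv

namespace CfsgLib.DegreeEleven

variable {α : Type*} [Fintype α] [DecidableEq α]

/-- doubly transitive of degree eleven, not containing the alternating group -/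
structure Small (H : Subgroup (Perm α)) : Prop where
  card : Fintype.card α = 11
  two : IsMultiplyPretransitive H α 2
  alt : ¬ alternatingGroup α ≤ H

variable {H : Subgroup (Perm α)}

theorem Small.trans (h : Small H) : IsPretransitive H α :=
  haveI := h.two; isPretransitive_of_is_two_pretransitive

theorem Small.exists_map (h : Small H) {a b c d : α} (hab : a ≠ b) (hcd : c ≠ d) :
    ∃ g ∈ H, g a = c ∧ g b = d := by
  obtain ⟨⟨g, hg⟩, h1, h2⟩ := is_two_pretransitive_iff.1 h.two hab hcd
  exact ⟨g, hg, h1, h2⟩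

/-- four points can be moved off themselves, one being fixed -/
theorem Small.meet_once (h : Small H) (s : Finset α) (hs : s.card ≤ 4) {a : α} (ha : a ∈ s) :
    ∃ g ∈ H, g a = a ∧ ∀ b ∈ s, g b ∈ s → b = a := by
  classical
  set A := (Finset.univ : Finset (Perm α)).filter (fun g => g ∈ H ∧ g a = a) with hA
  have hcount : ∀ b, b ≠ a → ∀ c, c ≠ a → 10 * (A.filter fun g => g b = c).card = A.card := by
    intro b hb c hc
    have himg : ∀ g ∈ A, g b ∈ Finset.univ.erase a := fun g hg => by
      rw [Finset.mem_erase]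
      refine ⟨fun e => hb (g.injective ?_), Finset.mem_univ _⟩
      rw [e, (Finset.mem_filter.1 hg).2.2]
    have heq : ∀ c' ∈ (Finset.univ.erase a : Finset α),
        (A.filter fun g => g b = c').card = (A.filter fun g => g b = c).card := by
      intro c' hc'
      rw [Finset.mem_erase] at hc'
      obtain ⟨k, hk, hka, hkc⟩ := h.exists_map (a := a) (b := c') (c := a) (d := c)
        hc'.1.symm hc.symm
      refine Finset.card_equiv (Equiv.mulLeft k) fun g => ?_
      simp only [hA, Finset.mem_filter, Finset.mem_univ, true_and, Equiv.coe_mulLeft, Perm.mul_apply]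
      constructor
      · rintro ⟨⟨h1, h2⟩, h3⟩
        exact ⟨⟨H.mul_mem hk h1, by rw [h2, hka]⟩, by rw [h3, hkc]⟩
      · rintro ⟨⟨h1, h2⟩, h3⟩
        exact ⟨⟨by simpa using H.mul_mem (H.inv_mem hk) h1, k.injective (by rw [h2, hka])⟩,
          k.injective (by rw [h3, hkc])⟩
    rw [Finset.card_eq_sum_card_fiberwise himg, Finset.sum_congr rfl heq, Finset.sum_const,
      Finset.card_erase_of_mem (Finset.mem_univ a), Finset.card_univ, h.card, smul_eq_mul]
  by_contra hcon
  push Not at hcon
  have hsub : A ⊆ ((s.erase a) ×ˢ (s.erase a)).biUnion fun p => A.filter fun g => g p.1 = p.2 := by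
    intro g hg
    obtain ⟨hgH, hga⟩ := (Finset.mem_filter.1 hg).2
    obtain ⟨b, hb, hgb, hba⟩ := hcon g hgH hga
    rw [Finset.mem_biUnion]
    refine ⟨(b, g b), ?_, Finset.mem_filter.2 ⟨hg, rfl⟩⟩
    simp only [Finset.mem_product, Finset.mem_erase]
    exact ⟨⟨hba, hb⟩, fun e => hba (g.injective (e.trans hga.symm)), hgb⟩
  have h1 := Nat.mul_le_mul_left 10 ((Finset.card_le_card hsub).trans Finset.card_biUnion_le)
  rw [Finset.mul_sum, Finset.sum_congr rfl (fun p hp => by
    simp only [Finset.mem_product, Finset.mem_erase] at hp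
    exact hcount p.1 hp.1.1 p.2 hp.2.1), Finset.sum_const, smul_eq_mul] at h1
  have hA0 : 0 < A.card := Finset.card_pos.2 ⟨1, by simp [hA, H.one_mem]⟩
  have h3 : (s.erase a ×ˢ s.erase a).card ≤ 9 := by
    rw [Finset.card_product, Finset.card_erase_of_mem ha]
    have := Nat.mul_le_mul (show s.card - 1 ≤ 3 by omega) (show s.card - 1 ≤ 3 by omega)
    omega
  have := Nat.mul_le_mul_right A.card h3
  omega

theorem Small.prim (h : Small H) : IsPreprimitive H α :=
  isPreprimitive_of_is_two_pretransitive h.two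

theorem Small.five_le_support (h : Small H) {g : Perm α} (hg : g ∈ H) (h1 : g ≠ 1) :
    5 ≤ g.support.card := by
  by_contra hc
  obtain ⟨a, ha⟩ : g.support.Nonempty := by
    rw [Finset.nonempty_iff_ne_empty, Ne, Perm.support_eq_empty_iff]; exact h1
  obtain ⟨k, hk, hka, hk'⟩ := h.meet_once g.support (by omega) ha
  have hga : g a ≠ a := Perm.mem_support.1 ha
  have hτ : (k * g * k⁻¹) a ≠ a := by
    intro e
    simp only [Perm.mul_apply, Perm.inv_eq_iff_eq.2 hka.symm] at e
    exact hga (k.injective (e.trans hka.symm))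
  have h3 := Cfsg.Agent.MinDegBabai.commutator_isThreeCycle g (k * g * k⁻¹) a hga hτ
    fun x hx hx' => by
      have h4 : k⁻¹ x ∈ g.support := by
        rw [Perm.mem_support]
        intro e
        exact hx' (by simp only [Perm.mul_apply, e]; simp)
      have h5 := hk' _ h4 (by simpa using hx)
      rw [Perm.inv_eq_iff_eq] at h5
      rw [h5, hka]
  have hkm : k * g * k⁻¹ ∈ H := H.mul_mem (H.mul_mem hk hg) (H.inv_mem hk)
  exact h.alt (Perm.alternatingGroup_le_of_isPreprimitive_of_isThreeCycle_mem h.prim h3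
    (H.mul_mem (H.mul_mem (H.mul_mem hg hkm) (H.inv_mem hg)) (H.inv_mem hkm)))

/-- elements of prime order -/
theorem Small.prime_support (h : Small H) {g : Perm α} (hg : g ∈ H) {p : ℕ} (hp : p.Prime)
    (ho : orderOf g = p) :
    (p = 2 ∧ (g.support.card = 6 ∨ g.support.card = 8 ∨ g.support.card = 10)) ∨
    (p = 3 ∧ (g.support.card = 6 ∨ g.support.card = 9)) ∨
    (p = 5 ∧ g.support.card = 10) ∨ (p = 11 ∧ g.support.card = 11) := by
  obtain ⟨n, hn⟩ := Perm.cycleType_prime_order (σ := g) (by rw [ho]; exact hp)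
  have hsum : g.support.card = (n + 1) * p := by
    rw [← Perm.sum_cycleType, hn, Multiset.sum_replicate, smul_eq_mul, ho]
  have h5 := h.five_le_support hg (fun e => by rw [e, orderOf_one] at ho; exact hp.one_lt.ne ho)
  have hle : g.support.card ≤ 11 := h.card ▸ g.support.card_le_univ
  have hcyc : n = 0 → p + 3 ≤ 11 → False := fun h0 hp3 => by
    refine h.alt (CfsgLib.Perm.alternatingGroup_le_of_isCycle_prime h.prim hp
      (by rw [Nat.card_eq_fintype_card, h.card]; exact hp3) ?_ (by rw [hsum, h0]; simp) hg)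
    rw [← Perm.card_cycleType_eq_one, hn, h0, Multiset.card_replicate]
  have h2 := hp.two_le
  have hpn : p ≤ (n + 1) * p := Nat.le_mul_of_pos_left p (Nat.succ_pos n)
  have hpb : p ≤ 11 := by omega
  interval_cases p <;> (first | omega | norm_num at hp | skip)
  · have : n ≠ 0 := fun h0 => hcyc h0 (by norm_num)
    omega
  · exact (hcyc (by omega) (by norm_num)).elim

/-- a nontrivial element has some power of prime order -/
theorem exists_prime_pow {G : Type*} [Group G] [Finite G] {g : G} (h1 : g ≠ 1) :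
    ∃ k p : ℕ, p.Prime ∧ orderOf (g ^ k) = p ∧ p ∣ orderOf g := by
  obtain ⟨p, hp, hpd⟩ := Nat.exists_prime_and_dvd (n := orderOf g) (by rwa [ne_eq, orderOf_eq_one_iff])
  exact ⟨orderOf g / p, p, hp, orderOf_pow_orderOf_div (orderOf_pos g).ne' hpd, hpd⟩

theorem support_le_of_fix (hc : Fintype.card α = 11) {g : Perm α} {s : Finset α}
    (hs : ∀ x ∈ s, g x = x) : g.support.card + s.card ≤ 11 := by
  rw [← hc, ← Finset.card_union_of_disjoint]
  · exact Finset.card_le_univ _
  · exact Finset.disjoint_left.2 fun x hx hx' => Perm.mem_support.1 hx (hs x hx')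

theorem Small.eq_one_of_fix (h : Small H) {g : Perm α} (hg : g ∈ H) {s : Finset α}
    (hs6 : 6 ≤ s.card) (hs : ∀ x ∈ s, g x = x) : g = 1 := by
  by_contra h1
  obtain ⟨k, p, hp, ho, -⟩ := exists_prime_pow h1
  have h2 := support_le_of_fix h.card (g := g ^ k) (s := s) fun x hx => by
    exact Perm.pow_apply_eq_self_of_apply_eq_self (hs x hx) k
  rcases h.prime_support (H.pow_mem hg k) hp ho with h3 | h3 | h3 | h3 <;> omega

theorem Small.involution_even (h : Small H) {g : Perm α} (hg : g ∈ H) (heven : Perm.sign g = 1)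
    (ho : orderOf g = 2) : g.support.card = 8 := by
  obtain ⟨n, hn⟩ := Perm.cycleType_prime_order (σ := g) (by rw [ho]; exact Nat.prime_two)
  rw [ho] at hn
  have h2 : g.support.card = (n + 1) * 2 := by
    rw [← Perm.sum_cycleType, hn, Multiset.sum_replicate, smul_eq_mul]
  rcases h.prime_support hg Nat.prime_two ho with ⟨-, h3⟩ | h3 | h3 | h3 <;> [skip; omega; omega; omega]
  rw [Perm.sign_of_cycleType, hn, Multiset.sum_replicate, Multiset.card_replicate, smul_eq_mul] at heven
  rcases h3 with h3 | h3 | h3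
  · have : n = 2 := by omega
    subst this; simp [pow_succ] at heven
  · exact h3
  · have : n = 4 := by omega
    subst this; simp [pow_succ] at heven

/-- `y` of order five and the permutations commuting with it -/
theorem Small.five_orbit (h : Small H) {y : Perm α} (hy : y ∈ H) (ho : orderOf y = 5) :
    ∃ a, y a = a ∧ ∀ b, y b = b → b = a := by
  rcases h.prime_support hy (by norm_num) ho with h1 | h1 | ⟨-, h1⟩ | h1 <;> try omega
  have hc : y.supportᶜ.card = 1 := by rw [Finset.card_compl, h.card, h1]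
  obtain ⟨a, ha⟩ := Finset.card_eq_one.1 hc
  refine ⟨a, ?_, fun b hb => ?_⟩
  · have : a ∈ y.supportᶜ := ha ▸ Finset.mem_singleton_self a
    rwa [Finset.mem_compl, Perm.notMem_support] at this
  · have : b ∈ y.supportᶜ := by rwa [Finset.mem_compl, Perm.notMem_support]
    rwa [ha, Finset.mem_singleton] at this

theorem Small.not_commute_six (h : Small H) {y i : Perm α} (hy : y ∈ H) (ho : orderOf y = 5)
    (hi : i.support.card = 6) (hc : Commute y i) : False := by
  obtain ⟨a, ha, hu⟩ := h.five_orbit hy ho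
  have hia : i a = a := hu _ (by rw [← Perm.mul_apply, hc.eq, Perm.mul_apply, ha])
  have hinv : ∀ e, e ∈ i.support ↔ y e ∈ i.support := fun e => by
    rw [Perm.mem_support, Perm.mem_support, not_iff_not, ← Perm.mul_apply i y, ← hc.eq,
      Perm.mul_apply]
    exact y.injective.eq_iff.symm
  haveI : Fact (Nat.Prime 5) := ⟨by norm_num⟩
  obtain ⟨⟨e, he⟩, hfix⟩ := Perm.exists_fixed_point_of_prime (p := 5) (n := 1)
    (α := {x // x ∈ i.support}) (by rw [Fintype.card_coe, hi]; norm_num) (σ := y.subtypePerm fun x => (hinv x).symm)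
    (by rw [pow_one, Perm.subtypePerm_pow]; ext x; simp [← ho, pow_orderOf_eq_one])
  have := hu e (congrArg Subtype.val hfix)
  exact Perm.mem_support.1 he (this ▸ hia)

/-- orbit counting for a subgroup of permutations -/
theorem card_inf_stabilizer (K : Subgroup (Perm α)) (d : α) :
    Nat.card ↥(K ⊓ stabilizer (Perm α) d) * (orbit K d).ncard = Nat.card K := by
  rw [← index_stabilizer, ← (stabilizer K d).card_mul_index]
  congr 1
  have : stabilizer K d = (K ⊓ stabilizer (Perm α) d).subgroupOf K := by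
    ext ⟨g, hg⟩
    simp only [mem_stabilizer_iff, Subgroup.mem_subgroupOf, Subgroup.mem_inf, hg, true_and]
    rfl
  rw [this, Nat.card_congr (Subgroup.subgroupOfEquivOfLe inf_le_left).toEquiv]

theorem orbit_dvd (K : Subgroup (Perm α)) (d : α) : (orbit K d).ncard ∣ Nat.card K :=
  Dvd.intro_left _ (card_inf_stabilizer K d)

/-- pointwise stabiliser of two points -/
def pairFix (H : Subgroup (Perm α)) (a b : α) : Subgroup (Perm α) :=
  H ⊓ stabilizer (Perm α) a ⊓ stabilizer (Perm α) b

theorem mem_pairFix {a b : α} {g : Perm α} : g ∈ pairFix H a b ↔ g ∈ H ∧ g a = a ∧ g b = b := by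
  simp only [pairFix, Subgroup.mem_inf, mem_stabilizer_iff, Perm.smul_def, and_assoc]

theorem Small.card_pairFix (h : Small H) {a b : α} (hab : a ≠ b) :
    Nat.card (pairFix H a b) * 110 = Nat.card H := by
  have ho1 : (orbit H a).ncard = 11 := by
    haveI := h.trans
    rw [orbit_eq_univ, Set.ncard_univ, Nat.card_eq_fintype_card, h.card]
  have ho2 : orbit ↥(H ⊓ stabilizer (Perm α) a) b = ({a} : Set α)ᶜ := by
    ext c
    constructor
    · rintro ⟨⟨g, hg⟩, rfl⟩ e
      exact hab (g.injective (((Subgroup.mem_inf.1 hg).2).trans (Eq.symm e)))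
    · intro hc
      obtain ⟨g, hg, hga, hgb⟩ := h.exists_map hab (Ne.symm hc : a ≠ c)
      exact ⟨⟨g, Subgroup.mem_inf.2 ⟨hg, hga⟩⟩, hgb⟩
  have h1 := card_inf_stabilizer (H ⊓ stabilizer (Perm α) a) b
  rw [ho2, Set.ncard_compl, Set.ncard_singleton, Nat.card_eq_fintype_card (α := α), h.card] at h1
  have h2 := card_inf_stabilizer H a
  rw [ho1, ← h1] at h2
  rw [← h2, pairFix]
  norm_num [mul_assoc]

variable (hα : Fintype.card α = 11)

/-- the hypotheses on the even part -/
structure Even11 (T : Subgroup (Perm α)) : Prop extends Small T where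
  le_alt : T ≤ alternatingGroup α
  insol : ¬ Group.IsSolvable T

variable {T : Subgroup (Perm α)}

theorem Even11.sign (h : Even11 T) {g : Perm α} (hg : g ∈ T) : Perm.sign g = 1 :=
  Perm.mem_alternatingGroup.1 (h.le_alt hg)

theorem Even11.not_seven (h : Even11 T) : ¬ 7 ∣ Nat.card T := fun h7 => by
  haveI : Fact (Nat.Prime 7) := ⟨by norm_num⟩
  obtain ⟨g, hg⟩ := exists_prime_orderOf_dvd_card' (G := T) 7 h7
  rcases h.prime_support g.2 (p := 7) (by norm_num) (by rw [Subgroup.orderOf_coe, hg]) with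
    h1 | h1 | h1 | h1 <;> omega

theorem orbit_fix {K : Subgroup (Perm α)} (hab : IsMulCommutative K) {z : Perm α} (hz : z ∈ K)
    {d : α} (hzd : z d = d) : ∀ x ∈ orbit K d, z x = x := by
  rintro _ ⟨⟨q, hq⟩, rfl⟩
  have := congrArg Subtype.val (hab.is_comm.comm ⟨z, hz⟩ ⟨q, hq⟩)
  simp only [Subgroup.coe_mul] at this
  show z (q d) = q d
  rw [← Perm.mul_apply, this, Perm.mul_apply, hzd]

/-- an abelian group with a point `d` in an orbit of size `p`, and `s` fixed, of order `p²` -/
theorem Small.no_square (h : Small H) {p : ℕ} [hp : Fact p.Prime] {K : Subgroup (Perm α)}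
    (hK : K ≤ H) (hc : Nat.card K = p ^ 2) (s : Finset α) (hs : 6 ≤ s.card + p)
    (hsf : ∀ g ∈ K, ∀ x ∈ s, g x = x) (hbig : 11 < s.card + p ^ 2) : False := by
  classical
  haveI hab : IsMulCommutative K := IsPGroup.isMulCommutative_of_card_eq_prime_sq hc
  obtain ⟨g, hg1⟩ : ∃ g : K, g ≠ 1 := by
    haveI : Nontrivial K := Finite.one_lt_card_iff_nontrivial.1
      (by rw [hc]; exact Nat.one_lt_pow (by norm_num) hp.out.one_lt)
    exact exists_ne 1
  obtain ⟨d, hd⟩ : ∃ d, (g : Perm α) d ≠ d := by
    by_contra hcon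
    push Not at hcon
    exact hg1 (Subtype.ext (Equiv.ext hcon))
  set O := (orbit K d).toFinset with hO
  have hdis : Disjoint s O := by
    rw [Finset.disjoint_left]
    intro x hx hx'
    rw [hO, Set.mem_toFinset] at hx'
    obtain ⟨⟨q, hq⟩, hqd⟩ := hx'
    have hxd : x = d := by
      have := hsf q⁻¹ (K.inv_mem hq) x hx
      rw [← this, ← hqd]
      show q⁻¹ (q d) = d
      simp
    exact hd (hxd ▸ hsf _ g.2 x hx)
  have hle : s.card + O.card ≤ 11 := by
    rw [← h.card, ← Finset.card_union_of_disjoint hdis]; exact Finset.card_le_univ _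
  have hOc : O.card = (orbit K d).ncard := (Set.ncard_eq_toFinset_card' _).symm
  obtain ⟨i, hi, hie⟩ := (Nat.dvd_prime_pow hp.out).1 (hc ▸ orbit_dvd K d)
  have h2 : 1 < O.card := Finset.one_lt_card.2 ⟨d, by simp [hO], (g : Perm α) d,
    by rw [hO, Set.mem_toFinset]; exact ⟨g, rfl⟩, Ne.symm hd⟩
  interval_cases i
  · rw [pow_zero] at hie; omega
  · rw [pow_one] at hie
    have h3 := card_inf_stabilizer K d
    rw [hie, hc, pow_two] at h3
    have h3' := Nat.eq_of_mul_eq_mul_right hp.out.pos h3
    obtain ⟨z, hz1⟩ : ∃ z : ↥(K ⊓ stabilizer (Perm α) d), z ≠ 1 := by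
      haveI : Nontrivial ↥(K ⊓ stabilizer (Perm α) d) := Finite.one_lt_card_iff_nontrivial.1
        (by rw [h3']; exact hp.out.one_lt)
      exact exists_ne 1
    refine hz1 (Subtype.ext (h.eq_one_of_fix (s := s ∪ O) (hK z.2.1)
      (by rw [Finset.card_union_of_disjoint hdis]; omega) fun x hx => ?_))
    rcases Finset.mem_union.1 hx with hx | hx
    · exact hsf _ z.2.1 x hx
    · rw [hO, Set.mem_toFinset] at hx
      exact orbit_fix hab z.2.1 z.2.2 x hx
  · omega

theorem Even11.not_twentyfive (h : Even11 T) : ¬ 25 ∣ Nat.card T := fun h25 => by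
  haveI : Fact (Nat.Prime 5) := ⟨by norm_num⟩
  obtain ⟨K, hK⟩ := Sylow.exists_subgroup_card_pow_prime (G := T) 5 (n := 2) (by simpa using h25)
  have hK' : Nat.card (K.map T.subtype) = 5 ^ 2 := by
    rw [Subgroup.card_map_of_injective T.subtype_injective, hK]
  obtain ⟨a, ha⟩ := (IsPGroup.of_card hK').nonempty_fixed_point_of_prime_not_dvd_card α
    (by rw [Nat.card_eq_fintype_card, h.card]; norm_num)
  exact h.toSmall.no_square (Subgroup.map_subtype_le K) hK' {a} (by simp)
    (fun g hg x hx => by rw [Finset.mem_singleton] at hx; subst hx; exact ha ⟨g, hg⟩) (by simp)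

theorem Even11.normal_dvd (h : Even11 T) (N : Subgroup T) (hN : N.Normal) (hne : N ≠ ⊥) :
    11 ∣ Nat.card N := by
  haveI := h.prim
  haveI : IsPretransitive N α := by
    refine IsQuasiPreprimitive.isPretransitive_of_normal fun hf => hne ?_
    rw [Subgroup.eq_bot_iff_forall]
    intro x hx
    refine Subtype.ext (Equiv.ext fun y => ?_)
    have hy : y ∈ fixedPoints N α := hf ▸ Set.mem_univ y
    exact hy ⟨x, hx⟩
  obtain ⟨a⟩ : Nonempty α := Fintype.card_pos_iff.1 (by rw [h.card]; norm_num)
  have h1 := index_stabilizer_of_transitive N a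
  rw [Nat.card_eq_fintype_card (α := α), h.card] at h1
  exact h1 ▸ Subgroup.index_dvd_card _

theorem Even11.not_inverted (h : Even11 T) {x : T} (hx : orderOf x = 11) (g : T) :
    g * x * g⁻¹ ≠ x⁻¹ := by
  intro hg
  haveI : Fact (Nat.Prime 11) := ⟨by norm_num⟩
  have hsc := CfsgLib.SharplyK.selfCent_of_cycle h.card hx
  have hconj : ∀ i : ℤ, g * x ^ i * g⁻¹ = x ^ (-i) := fun i => by
    rw [← conj_zpow, hg, inv_zpow, zpow_neg]
  have hgg : g * g * x = x * (g * g) := by
    rw [← mul_inv_eq_iff_eq_mul]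
    calc g * g * x * (g * g)⁻¹ = g * (g * x * g⁻¹) * g⁻¹ := by group
      _ = x := by rw [hg, ← conj_inv, hg, inv_inv]
  obtain ⟨i, hi⟩ := Subgroup.mem_zpowers_iff.1 (CfsgLib.SelfCent.comm_mem_zpowers hsc hgg)
  have h2 := hconj i
  rw [hi, show g * (g * g) * g⁻¹ = g * g by group, ← hi] at h2
  have h2i : x ^ (2 * i) = 1 := by
    rw [two_mul, zpow_add]; nth_rw 1 [h2]; rw [zpow_neg, inv_mul_cancel]
  have hdvd : ∀ j : ℤ, x ^ (2 * j) = 1 → x ^ j = 1 := fun j hj => by
    rw [← orderOf_dvd_iff_zpow_eq_one, hx] at hj ⊢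
    omega
  have hg2 : g ^ 2 = 1 := by rw [pow_two, ← hi]; exact hdvd i h2i
  have hg1 : g ≠ 1 := fun e => by
    rw [e, one_mul, inv_one, mul_one] at hg
    have : x ^ (2 * (1 : ℤ)) = 1 := by
      rw [two_mul, zpow_add, zpow_one]; nth_rw 1 [hg]; exact inv_mul_cancel x
    have := hdvd 1 this
    rw [zpow_one] at this
    rw [this, orderOf_one] at hx
    omega
  have hgo : orderOf (g : Perm α) = 2 := by
    rw [Subgroup.orderOf_coe]; exact orderOf_eq_prime hg2 hg1
  have h8 := h.involution_even g.2 (h.sign g.2) hgo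
  have hone : ∀ a b : α, (g : Perm α) a = a → (g : Perm α) b = b → a = b := by
    intro a b ha hb
    have hxo : orderOf (x : Perm α) = 11 := by rw [Subgroup.orderOf_coe, hx]
    rcases h.prime_support x.2 (by norm_num) hxo with h1 | h1 | h1 | ⟨-, h1⟩ <;> try omega
    have hsupp : (x : Perm α).support = Finset.univ :=
      Finset.eq_univ_of_card _ (by rw [h1, h.card])
    have hcyc : (x : Perm α).IsCycle :=
      Perm.isCycle_of_prime_order (by rw [hxo]; norm_num) (by rw [h1, hxo]; norm_num)
    have hmem : ∀ y, (x : Perm α) y ≠ y := fun y =>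
      Perm.mem_support.1 (by rw [hsupp]; exact Finset.mem_univ y)
    obtain ⟨j, hj⟩ := hcyc.exists_zpow_eq (hmem a) (hmem b)
    have h3 : ((x ^ (-j) : T) : Perm α) a = b := by
      rw [← hconj j]
      simp only [Subgroup.coe_mul, Subgroup.coe_inv, Subgroup.coe_zpow, Perm.mul_apply,
        Perm.inv_eq_iff_eq.2 ha.symm, hj, hb]
    have h4 : ((x : Perm α) ^ (2 * j)) a = a := by
      rw [show 2 * j = -(-j) + j by ring, zpow_add, Perm.mul_apply, hj, ← h3, Subgroup.coe_zpow,
        ← Perm.mul_apply, ← zpow_add]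
      simp
    have h5 : (x : Perm α) ^ (2 * j) = 1 := Equiv.ext fun z => by
      obtain ⟨i, rfl⟩ := hcyc.exists_zpow_eq (hmem a) (hmem z)
      rw [Perm.one_apply, ← Perm.mul_apply, (Commute.zpow_zpow_self _ _ _).eq, Perm.mul_apply, h4]
    have h6 := hdvd j (Subtype.ext (by rw [Subgroup.coe_zpow, h5]; rfl))
    rw [← hj, ← Subgroup.coe_zpow, h6]; rfl
  obtain ⟨a, ha, b, hb, hab⟩ := Finset.one_lt_card.1
    (show 1 < (g : Perm α).supportᶜ.card by rw [Finset.card_compl, h.card, h8]; norm_num)
  rw [Finset.mem_compl, Perm.notMem_support] at ha hb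
  exact hab (hone a b ha hb)

theorem Even11.selfCent_five (h : Even11 T) {y : T} (ho : orderOf y = 5) :
    CfsgLib.SelfCent.IsSelfCent 5 y := by
  classical
  have hyo : orderOf (y : Perm α) = 5 := by rw [Subgroup.orderOf_coe, ho]
  obtain ⟨a, ha, hu⟩ := h.five_orbit y.2 hyo
  set C := Subgroup.centralizer ({y} : Set T) with hC
  have hcomm : ∀ w : C, Commute ((w : T) : Perm α) (y : Perm α) := fun w =>
    congrArg Subtype.val (Subgroup.mem_centralizer_singleton_iff.1 w.2)
  have hwa : ∀ w : C, ((w : T) : Perm α) a = a := fun w =>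
    hu _ (by rw [← Perm.mul_apply, ← (hcomm w).eq, Perm.mul_apply, ha])
  have hfree : ∀ w : C, ∀ e, e ≠ a → ((w : T) : Perm α) e = e → w = 1 := by
    intro w e he hwe
    set O := (Finset.range 5).image fun i => ((y : Perm α) ^ i) e with hO
    have hinj : ∀ i < 5, ∀ j < 5, ((y : Perm α) ^ i) e = ((y : Perm α) ^ j) e → i ≤ j → i = j := by
      intro i hi j hj hij hle
      by_contra hne
      have h1 : ((y : Perm α) ^ (j - i)) e = e := ((y : Perm α) ^ i).injective (by
        rw [← Perm.mul_apply, ← pow_add, Nat.add_sub_cancel' hle, hij])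
      obtain ⟨k, hk⟩ := exists_pow_eq_self_of_coprime (x := (y : Perm α)) (n := j - i) (by
        rw [hyo]
        exact ((Nat.Prime.coprime_iff_not_dvd (by norm_num)).2 fun hd => by
          have := Nat.le_of_dvd (by omega) hd
          omega).symm)
      refine he (hu e ?_)
      rw [← hk]
      exact Perm.pow_apply_eq_self_of_apply_eq_self h1 k
    have hOc : O.card = 5 := by
      rw [Finset.card_image_of_injOn, Finset.card_range]
      intro i hi j hj hij
      simp only [Finset.coe_range, Set.mem_Iio] at hi hj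
      rcases Nat.le_total i j with hle | hle
      · exact hinj i hi j hj hij hle
      · exact (hinj j hj i hi hij.symm hle).symm
    have haO : a ∉ O := by
      rw [hO, Finset.mem_image]
      rintro ⟨i, -, hi⟩
      refine he (((y : Perm α) ^ i).injective ?_)
      rw [hi, Perm.pow_apply_eq_self_of_apply_eq_self ha]
    refine Subtype.ext (Subtype.ext (h.eq_one_of_fix (s := insert a O) (w : T).2
      (by rw [Finset.card_insert_of_notMem haO, hOc]) fun x hx => ?_))
    rcases Finset.mem_insert.1 hx with rfl | hx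
    · exact hwa w
    · rw [hO, Finset.mem_image] at hx
      obtain ⟨i, -, rfl⟩ := hx
      rw [← Perm.mul_apply, ((hcomm w).pow_right i).eq, Perm.mul_apply, hwe]
  obtain ⟨e, he⟩ := Fintype.exists_ne_of_one_lt_card (by rw [h.card]; norm_num) a
  have hle : Nat.card C ≤ 10 := by
    refine (Nat.card_le_card_of_injective (fun w : C => (⟨((w : T) : Perm α) e,
      fun hh => he (((w : T) : Perm α).injective (hh.trans (hwa w).symm))⟩ : {x // x ≠ a})) ?_).trans ?_
    · intro w v hwv
      have h1 : ((w : T) : Perm α) e = ((v : T) : Perm α) e := congrArg Subtype.val hwv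
      have h2 : w⁻¹ * v = 1 := hfree _ e he (by
        simp only [Subgroup.coe_mul, Subgroup.coe_inv, Perm.mul_apply, ← h1]
        simp)
      exact inv_mul_eq_one.1 h2
    · rw [Nat.card_eq_fintype_card, Fintype.card_subtype_compl, h.card]; simp
  have hnot2 : ¬ 2 ∣ Nat.card C := fun h2 => by
    obtain ⟨w, hw⟩ := exists_prime_orderOf_dvd_card' (G := C) 2 h2
    have hwo : orderOf ((w : T) : Perm α) = 2 := by rw [Subgroup.orderOf_coe, Subgroup.orderOf_coe, hw]
    have h8 := h.involution_even (w : T).2 (h.sign (w : T).2) hwo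
    obtain ⟨b, hb, hba⟩ := Finset.exists_mem_ne
      (show 1 < ((w : T) : Perm α).supportᶜ.card by rw [Finset.card_compl, h.card, h8]; norm_num) a
    rw [Finset.mem_compl, Perm.notMem_support] at hb
    have := hfree w b hba hb
    rw [this, orderOf_one] at hw
    omega
  have hyC : Subgroup.zpowers y ≤ C := by
    rw [Subgroup.zpowers_le, hC, Subgroup.mem_centralizer_singleton_iff]
  have h5 : 5 ∣ Nat.card C := by
    rw [← ho, ← Nat.card_zpowers]; exact Subgroup.card_dvd_of_le hyC
  refine ⟨by norm_num, ho, (Subgroup.eq_of_le_of_card_ge hyC ?_).symm⟩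
  have hpos : 0 < Nat.card C := Nat.card_pos
  rw [Nat.card_zpowers, ho]
  change Nat.card C ≤ 5
  obtain ⟨c, hc⟩ := h5
  omega

theorem Even11.order (h : Even11 T) :
    (Nat.card T = 660 ∨ Nat.card T = 7920) ∧ IsSimpleGroup T := by
  haveI : Fact (Nat.Prime 11) := ⟨by norm_num⟩
  haveI := h.toSmall.trans
  obtain ⟨a⟩ : Nonempty α := Fintype.card_pos_iff.1 (by rw [h.card]; norm_num)
  have h11 : 11 ∣ Nat.card T := by
    have h1 := index_stabilizer_of_transitive T a
    rw [Nat.card_eq_fintype_card (α := α), h.card] at h1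
    exact h1 ▸ Subgroup.index_dvd_card _
  obtain ⟨x, hx⟩ := exists_prime_orderOf_dvd_card' (G := T) 11 h11
  have hsc := CfsgLib.SharplyK.selfCent_of_cycle h.card hx
  obtain ⟨-, hcard, hmod⟩ := CfsgLib.SharplyK.sylow_congr hsc
  have he : CfsgLib.SelfCent.eIdx x = 5 := by
    rcases (Nat.dvd_prime (by norm_num : Nat.Prime 5)).1
      (CfsgLib.SimpleCrit.eIdx_dvd_q hsc (q := 5) rfl (h.not_inverted hx)) with he | he
    · refine absurd ?_ h.insol
      have hc := CfsgLib.SimpleCrit.eIdx_eq_one_false hsc he h.normal_dvd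
      haveI : IsCyclic T := isCyclic_of_prime_card hc
      letI := IsCyclic.commGroup (α := T)
      infer_instance
    · exact he
  rw [he] at hcard
  set n := (CfsgLib.SelfCent.nzr x).index with hn
  have hdvd : Nat.card T ∣ 19958400 := by
    refine (Subgroup.card_dvd_of_le h.le_alt).trans ?_
    haveI : Nontrivial α := Fintype.one_lt_card_iff_nontrivial.1 (by rw [h.card]; norm_num)
    rw [nat_card_alternatingGroup, Nat.card_eq_fintype_card, h.card]
    decide
  have hn5 : ¬ 5 ∣ n := fun h5 => h.not_twentyfive (hcard ▸ by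
    obtain ⟨c, hc⟩ := h5; exact ⟨c * 11, by rw [hc]; ring⟩)
  have hn7 : ¬ 7 ∣ n := fun h7 => h.not_seven (hcard ▸ h7.mul_right _)
  have hn' : n ∣ 10368 := by
    have h1 : n ∣ 362880 := Nat.dvd_of_mul_dvd_mul_right (by norm_num : 0 < 11 * 5) (hcard ▸ hdvd)
    have h35 : n.Coprime 35 := Nat.Coprime.mul_right
      (((Nat.Prime.coprime_iff_not_dvd (by norm_num : Nat.Prime 5)).2 hn5).symm)
      (((Nat.Prime.coprime_iff_not_dvd (by norm_num : Nat.Prime 7)).2 hn7).symm)
    exact h35.dvd_of_dvd_mul_right (show n ∣ 10368 * 35 from h1)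
  have key : ∀ m ∈ Nat.divisors 10368, m % 11 = 1 → m = 1 ∨ m = 12 ∨ m = 144 ∨ m = 1728 := by
    decide +kernel
  have hgt : n ≠ 1 := by
    intro h1
    refine h.insol ?_
    haveI : (Subgroup.zpowers x).Normal := Subgroup.normalizer_eq_top_iff.1
      (Subgroup.index_eq_one.1 h1)
    haveI : Fact (Nat.Prime 5) := ⟨by norm_num⟩
    have hq : Nat.card (T ⧸ Subgroup.zpowers x) = 5 := by
      have := Subgroup.card_eq_card_quotient_mul_card_subgroup (Subgroup.zpowers x)
      rw [Nat.card_zpowers, hx, hcard, h1] at this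
      omega
    haveI : IsCyclic (T ⧸ Subgroup.zpowers x) := isCyclic_of_prime_card hq
    haveI : Group.IsSolvable (T ⧸ Subgroup.zpowers x) := by
      letI := IsCyclic.commGroup (α := T ⧸ Subgroup.zpowers x)
      infer_instance
    haveI : Group.IsSolvable (Subgroup.zpowers x) := by
      letI := IsCyclic.commGroup (α := Subgroup.zpowers x)
      infer_instance
    exact Group.isSolvable_of_ker_le_range (Subgroup.zpowers x).subtype
      (QuotientGroup.mk' (Subgroup.zpowers x)) (by simp)
  have hne : n ≠ 1728 := by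
    intro h1
    haveI : Fact (Nat.Prime 5) := ⟨by norm_num⟩
    rw [h1] at hcard
    obtain ⟨y, hy⟩ := exists_prime_orderOf_dvd_card' (G := T) 5 (by rw [hcard]; norm_num)
    obtain ⟨he', hc', hm'⟩ := CfsgLib.SharplyK.sylow_congr (h.selfCent_five hy)
    rw [hcard] at hc'
    have := Nat.le_of_dvd (by norm_num) he'
    have h0 : CfsgLib.SelfCent.eIdx y ≠ 0 := CfsgLib.SelfCent.eIdx_pos.ne'
    interval_cases hh : CfsgLib.SelfCent.eIdx y <;> omega
  have hc : Nat.card T = 660 ∨ Nat.card T = 7920 := by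
    rcases key n (Nat.mem_divisors.2 ⟨hn', by norm_num⟩) hmod with h1 | h1 | h1 | h1 <;>
      rw [h1] at hcard <;> omega
  exact ⟨hc, CfsgLib.SimpleCrit.isSimpleGroup_of_selfCent hsc (q := 5) (by norm_num) rfl
    (h.not_inverted hx) h.normal_dvd (by omega)⟩

end CfsgLib.DegreeEleven
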