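/-
Groups of degree 11 and order 7920 are sharply four-fold transitive; no odd extensions.
-/
import Mathlib
import Cfsg.Agent.Lib.Perm.DegreeEleven

set_option autoImplicit false
set_option linter.style.haveILetI false
set_option linter.unusedSectionVars false

open MulAction Equiv
open scoped Pointwise

namespace CfsgLib.DegreeEleven

variable {α : Type*} [Fintype α] [DecidableEq α] {H T : Subgroup (Perm α)}

theorem Even11.eq_one_two_power (h : Even11 T) {g : Perm α} (hg : g ∈ T) {m : ℕ}
    (hm : orderOf g ∣ 2 ^ m) {s : Finset α} (hs : 4 ≤ s.card) (hsf : ∀ x ∈ s, g x = x) : g = 1 := by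
  by_contra h1
  obtain ⟨k, p, hp, ho, hpd⟩ := exists_prime_pow h1
  have hp2 : p = 2 := (Nat.prime_dvd_prime_iff_eq hp Nat.prime_two).1
    (hp.dvd_of_dvd_pow (hpd.trans hm))
  subst hp2
  have h8 := h.involution_even (T.pow_mem hg k) (h.sign (T.pow_mem hg k)) ho
  have h2 := support_le_of_fix h.card (g := g ^ k) (s := s)
    fun x hx => Perm.pow_apply_eq_self_of_apply_eq_self (hsf x hx) k
  omega

theorem Even11.pair_transitive (h : Even11 T) (hc : Nat.card T = 7920) {a b c : α} (hab : a ≠ b)
    (hca : c ≠ a) (hcb : c ≠ b) : Nat.card ↥(pairFix T a b ⊓ stabilizer (Perm α) c) = 8 := by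
  classical
  haveI : Fact (Nat.Prime 2) := ⟨Nat.prime_two⟩
  haveI : Fact (Nat.Prime 3) := ⟨Nat.prime_three⟩
  set K := pairFix T a b with hK
  have hKc : Nat.card K = 72 := by
    have := h.card_pairFix hab
    rw [hc] at this
    change Nat.card (pairFix T a b) = 72
    omega
  have hKab : ∀ g ∈ K, g ∈ T ∧ g a = a ∧ g b = b := fun g hg => mem_pairFix.1 hg
  obtain ⟨S₀, hS₀⟩ := Sylow.exists_subgroup_card_pow_prime (G := K) 2 (n := 3) (by rw [hKc]; norm_num)
  set S := S₀.map K.subtype with hS
  have hSK : S ≤ K := Subgroup.map_subtype_le S₀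
  have hSc : Nat.card S = 8 := by
    rw [hS, Subgroup.card_map_of_injective K.subtype_injective, hS₀]; norm_num
  have hord : ∀ g : S, orderOf (g : Perm α) ∣ 2 ^ 3 := fun g => by
    rw [Subgroup.orderOf_coe]; exact (orderOf_dvd_natCard g).trans hSc.dvd
  set F := (fixedPoints S α).toFinset with hF
  have hmemF : ∀ x, x ∈ F ↔ ∀ g ∈ S, g x = x := fun x => by
    rw [hF, Set.mem_toFinset]
    exact ⟨fun hx g hg => hx ⟨g, hg⟩, fun hx g => hx g g.2⟩
  have haF : a ∈ F := (hmemF a).2 fun g hg => (hKab g (hSK hg)).2.1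
  have hbF : b ∈ F := (hmemF b).2 fun g hg => (hKab g (hSK hg)).2.2
  have hF3 : 3 ≤ F.card := by
    have h1 := (IsPGroup.of_card (n := 3) (hSc.trans (by norm_num)) :
      IsPGroup 2 S).card_modEq_card_fixedPoints α
    rw [Nat.card_eq_fintype_card, h.card, Nat.card_coe_set_eq, Set.ncard_eq_toFinset_card'] at h1
    have h2 : 2 ≤ F.card := (Finset.card_pair hab).symm.le.trans
      (Finset.card_le_card (Finset.insert_subset haF (Finset.singleton_subset_iff.2 hbF)))
    have : 11 % 2 = F.card % 2 := h1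
    omega
  obtain ⟨d, hd⟩ : ∃ d, d ∉ F := by
    by_contra hcon
    push Not at hcon
    have : S = ⊥ := S.eq_bot_iff_forall.2 fun g hg => Equiv.ext fun x => (hmemF x).1 (hcon x) g hg
    rw [this, Subgroup.card_bot] at hSc
    omega
  have hda : d ≠ a := fun e => hd (e ▸ haF)
  have hdb : d ≠ b := fun e => hd (e ▸ hbF)
  -- `S` is semiregular at `d`
  have hSd : Nat.card ↥(S ⊓ stabilizer (Perm α) d) = 1 := by
    rw [Subgroup.card_eq_one, Subgroup.eq_bot_iff_forall]
    intro g hg
    obtain ⟨hgS, hgd⟩ := Subgroup.mem_inf.1 hg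
    refine h.eq_one_two_power (hKab g (hSK hgS)).1 (hord ⟨g, hgS⟩) (s := insert d F)
      (by rw [Finset.card_insert_of_notMem hd]; omega) fun x hx => ?_
    rcases Finset.mem_insert.1 hx with rfl | hx
    · exact hgd
    · exact (hmemF x).1 hx g hgS
  have hS8 : (orbit S d).ncard = 8 := by
    have := card_inf_stabilizer S d
    rwa [hSd, one_mul, hSc] at this
  have hsub : orbit K d ⊆ ({a, b} : Set α)ᶜ := by
    rintro _ ⟨⟨g, hg⟩, rfl⟩ he
    rcases he with he | he
    · exact hda (g.injective (Eq.trans he (hKab g hg).2.1.symm))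
    · exact hdb (g.injective (Eq.trans he (hKab g hg).2.2.symm))
  have hle : 8 ≤ (orbit K d).ncard := hS8 ▸ Set.ncard_le_ncard (fun x hx => by
    obtain ⟨⟨g, hg⟩, rfl⟩ := hx; exact ⟨⟨g, hSK hg⟩, rfl⟩) (Set.toFinite _)
  have hab2 : (({a, b} : Set α)ᶜ).ncard = 9 := by
    rw [Set.ncard_compl, Set.ncard_pair hab, Nat.card_eq_fintype_card, h.card]
  have hle' : (orbit K d).ncard ≤ 9 := hab2 ▸ Set.ncard_le_ncard hsub (Set.toFinite _)
  have h9 : (orbit K d).ncard = 9 := by
    by_contra h9
    have h8 : (orbit K d).ncard = 8 := by omega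
    have h1 := card_inf_stabilizer K d
    rw [h8, hKc] at h1
    refine h.toSmall.no_square (p := 3) (K := K ⊓ stabilizer (Perm α) d)
      (fun g hg => (hKab g hg.1).1) (by omega) {a, b, d}
      (by rw [Finset.card_eq_three.2 ⟨a, b, d, hab, hda.symm, hdb.symm, rfl⟩]) (fun g hg x hx => ?_)
      (by rw [Finset.card_eq_three.2 ⟨a, b, d, hab, hda.symm, hdb.symm, rfl⟩]; norm_num)
    simp only [Finset.mem_insert, Finset.mem_singleton] at hx
    rcases hx with rfl | rfl | rfl
    · exact (hKab g hg.1).2.1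
    · exact (hKab g hg.1).2.2
    · exact hg.2
  have hall : orbit K d = ({a, b} : Set α)ᶜ :=
    Set.eq_of_subset_of_ncard_le hsub (by rw [hab2, h9]) (Set.toFinite _)
  have hcd : c ∈ orbit K d := by
    rw [hall]; simp [hca, hcb]
  have h1 := card_inf_stabilizer K c
  rw [orbit_eq_iff.2 hcd, h9, hKc] at h1
  omega

theorem Even11.eq_one_of_four (h : Even11 T) (hc : Nat.card T = 7920) {g : Perm α} (hg : g ∈ T)
    {s : Finset α} (hs : 4 ≤ s.card) (hsf : ∀ x ∈ s, g x = x) : g = 1 := by
  by_contra h1
  obtain ⟨k, p, hp, ho, hpd⟩ := exists_prime_pow h1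
  have hsf' : ∀ x ∈ s, (g ^ k) x = x := fun x hx =>
    Perm.pow_apply_eq_self_of_apply_eq_self (hsf x hx) k
  have hgk := T.pow_mem hg k
  have h2 := support_le_of_fix h.card hsf'
  rcases h.prime_support hgk hp ho with ⟨rfl, -⟩ | ⟨rfl, -⟩ | h3 | h3
  · have := h.involution_even hgk (h.sign hgk) ho
    omega
  · obtain ⟨a, b, c, ha, hb, hcs, hab, hac, hbc⟩ := Finset.two_lt_card_iff.1 (show 2 < s.card by omega)
    have hmem : g ^ k ∈ pairFix T a b ⊓ stabilizer (Perm α) c :=
      Subgroup.mem_inf.2 ⟨mem_pairFix.2 ⟨hgk, hsf' a ha, hsf' b hb⟩, hsf' c hcs⟩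
    have h3 := Subgroup.orderOf_dvd_natCard _ hmem
    rw [ho, h.pair_transitive hc hab hac.symm hbc.symm] at h3
    omega
  · omega
  · omega

theorem fix_embedding {g : Perm α} (x : Fin 4 ↪ α) :
    g • x = x ↔ ∀ e ∈ Finset.univ.image x, g e = e := by
  constructor
  · intro h e he
    obtain ⟨i, -, rfl⟩ := Finset.mem_image.1 he
    exact DFunLike.congr_fun h i
  · intro h
    exact Function.Embedding.ext fun i => h _ (Finset.mem_image_of_mem _ (Finset.mem_univ i))

theorem Even11.four_transitive (h : Even11 T) (hc : Nat.card T = 7920) :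
    IsMultiplyPretransitive T α 4 ∧ ∀ x : Fin 4 ↪ α, stabilizer T x = ⊥ := by
  have hst : ∀ x : Fin 4 ↪ α, stabilizer T x = ⊥ := by
    intro x
    rw [Subgroup.eq_bot_iff_forall]
    rintro ⟨g, hg⟩ hgx
    refine Subtype.ext (h.eq_one_of_four hc hg (s := Finset.univ.image x) ?_ ((fix_embedding x).1 hgx))
    rw [Finset.card_image_of_injective _ x.injective]; rfl
  refine ⟨⟨fun x y => ?_⟩, hst⟩
  have huniv : orbit T x = Set.univ := by
    refine Set.eq_univ_of_forall fun z => ?_
    have h1 := index_stabilizer T x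
    rw [hst, Subgroup.index_bot, hc] at h1
    have : orbit T x = (Set.univ : Set (Fin 4 ↪ α)) := by
      refine Set.eq_of_subset_of_ncard_le (Set.subset_univ _) ?_ (Set.toFinite _)
      refine le_trans (le_of_eq ?_) h1.le
      rw [Set.ncard_univ, Nat.card_eq_fintype_card, Fintype.card_embedding_eq, Fintype.card_fin, h.card]
      decide
    rw [this]; exact Set.mem_univ z
  exact mem_orbit_iff.1 (show y ∈ orbit T x by rw [huniv]; exact Set.mem_univ y)

theorem no_odd_7920 (hH : Small H) (h : Even11 T) (hc : Nat.card T = 7920) (hTH : T ≤ H)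
    (hTe : ∀ g ∈ H, Perm.sign g = 1 → g ∈ T) (hidx : Nat.card H = 2 * Nat.card T) : False := by
  classical
  haveI : Fact (Nat.Prime 5) := ⟨by norm_num⟩
  set I := (Finset.univ : Finset (Perm α)).filter
    (fun g => g ∈ H ∧ g ≠ 1 ∧ 4 ≤ g.supportᶜ.card) with hI
  have hsix : ∀ g ∈ I, g.support.card = 6 ∧ g * g = 1 := by
    intro g hg
    obtain ⟨hgH, hg1, hg4⟩ := (Finset.mem_filter.1 hg).2
    have hfix : ∀ e ∈ g.supportᶜ, g e = e := fun e he => by
      rwa [Finset.mem_compl, Perm.notMem_support] at he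
    have hgT : g ∉ T := fun hgT => hg1 (h.eq_one_of_four hc hgT hg4 hfix)
    have hg2 : g * g = 1 := by
      refine h.eq_one_of_four hc (hTe _ (H.mul_mem hgH hgH) ?_) hg4 fun e he => ?_
      · rw [map_mul]; exact Int.units_mul_self _
      · rw [Perm.mul_apply, hfix e he, hfix e he]
    refine ⟨?_, hg2⟩
    have ho : orderOf g = 2 := orderOf_eq_prime (by rw [pow_two, hg2]) hg1
    rw [Finset.card_compl, h.card] at hg4
    rcases hH.prime_support hgH Nat.prime_two ho with ⟨-, h3⟩ | h3 | h3 | h3 <;> omega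
  obtain ⟨hT4, -⟩ := h.four_transitive hc
  -- exactly one element of `I` fixes a given embedding
  have hone : ∀ x : Fin 4 ↪ α, (I.filter fun g => g • x = x).card = 1 := by
    intro x
    have h1 := index_stabilizer H x
    have huniv : orbit H x = Set.univ := Set.eq_univ_of_forall fun v => by
      haveI := hT4
      obtain ⟨⟨g, hg⟩, e⟩ := exists_smul_eq T x v
      exact ⟨⟨g, hTH hg⟩, e⟩
    replace h1 := h1.trans ((congrArg Set.ncard huniv).trans (Set.ncard_univ _))
    rw [Nat.card_eq_fintype_card, Fintype.card_embedding_eq, Fintype.card_fin, h.card] at h1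
    have h2 := (stabilizer H x).card_mul_index
    rw [h1, hidx, hc] at h2
    have h2' : Nat.card (stabilizer H x) = 2 := by
      rw [show Nat.descFactorial 11 4 = 7920 by decide] at h2
      omega
    obtain ⟨u, hu, huu⟩ := (Nat.card_eq_two_iff' (1 : stabilizer H x)).1 h2'
    refine Finset.card_eq_one.2 ⟨((u : H) : Perm α), Finset.ext fun g => ?_⟩
    simp only [hI, Finset.mem_filter, Finset.mem_univ, true_and, Finset.mem_singleton]
    constructor
    · rintro ⟨⟨hgH, hg1, -⟩, hgx⟩
      have := huu ⟨⟨g, hgH⟩, hgx⟩ fun e => hg1 (congrArg Subtype.val (congrArg Subtype.val e))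
      exact congrArg Subtype.val (congrArg Subtype.val this)
    · rintro rfl
      refine ⟨⟨(u : H).2, fun e => hu (Subtype.ext (Subtype.ext e)), ?_⟩, u.2⟩
      refine le_trans ?_ (Finset.card_le_card (s := Finset.univ.image x) fun e he => ?_)
      · rw [Finset.card_image_of_injective _ x.injective]; rfl
      · rw [Finset.mem_compl, Perm.notMem_support]
        exact (fix_embedding x).1 u.2 e he
  -- every element of `I` fixes 120 embeddings
  have hmany : ∀ g ∈ I, ((Finset.univ : Finset (Fin 4 ↪ α)).filter fun x => g • x = x).card = 120 := by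
    intro g hg
    rw [← Fintype.card_subtype]
    let e : {x : Fin 4 ↪ α // g • x = x} ≃ (Fin 4 ↪ {y // g y = y}) :=
      { toFun := fun x => ⟨fun i => ⟨x.1 i, DFunLike.congr_fun x.2 i⟩,
          fun i j hij => x.1.injective (congrArg Subtype.val hij)⟩
        invFun := fun z => ⟨z.trans (Function.Embedding.subtype _),
          Function.Embedding.ext fun i => (z i).2⟩
        left_inv := fun _ => rfl
        right_inv := fun _ => rfl }
    rw [Fintype.card_congr e, Fintype.card_embedding_eq, Fintype.card_fin]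
    have : Fintype.card {y // g y = y} = 5 := by
      rw [Fintype.card_subtype, show (Finset.univ.filter fun y => g y = y) = g.supportᶜ by
        ext y; simp, Finset.card_compl, h.card, (hsix g hg).1]
    rw [this]; decide
  have hcount := Finset.sum_card_bipartiteAbove_eq_sum_card_bipartiteBelow
    (s := I) (t := (Finset.univ : Finset (Fin 4 ↪ α))) (fun g x => g • x = x)
  simp only [Finset.bipartiteAbove, Finset.bipartiteBelow] at hcount
  rw [Finset.sum_congr rfl hmany, Finset.sum_congr rfl (fun x _ => hone x), Finset.sum_const,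
    Finset.sum_const, Finset.card_univ, Fintype.card_embedding_eq, Fintype.card_fin, h.card,
    show Nat.descFactorial 11 4 = 7920 by decide] at hcount
  simp only [smul_eq_mul, mul_one] at hcount
  -- an element of order five permutes `I`
  obtain ⟨y, hy⟩ := exists_prime_orderOf_dvd_card' (G := T) 5 (by rw [hc]; norm_num)
  have hyo : orderOf (y : Perm α) = 5 := by rw [Subgroup.orderOf_coe, hy]
  have hyH : (y : Perm α) ∈ H := hTH y.2
  have hinv : ∀ g, (MulAut.conj (y : Perm α)).toEquiv g ∈ I ↔ g ∈ I := by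
    intro g
    simp only [hI, Finset.mem_filter, Finset.mem_univ, true_and, MulEquiv.toEquiv_eq_coe,
      EquivLike.coe_coe, MulAut.conj_apply]
    have hcard : ((y : Perm α) * g * (y : Perm α)⁻¹).supportᶜ.card = g.supportᶜ.card := by
      rw [Perm.support_conj, Finset.card_compl, Finset.card_compl, Finset.card_map]
    rw [hcard]
    refine and_congr ⟨fun hh => ?_, fun hh => H.mul_mem (H.mul_mem hyH hh) (H.inv_mem hyH)⟩
      (and_congr_left' ?_)
    · have := H.mul_mem (H.mul_mem (H.inv_mem hyH) hh) hyH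
      simpa [mul_assoc] using this
    · exact not_congr conj_eq_one_iff
  obtain ⟨⟨i, hi⟩, hfix⟩ := Perm.exists_fixed_point_of_prime (p := 5) (n := 1)
    (α := {g // g ∈ I}) (by rw [Fintype.card_coe]; omega)
    (σ := Equiv.Perm.subtypePerm (MulAut.conj (y : Perm α)).toEquiv hinv)
    (by
      rw [pow_one, Perm.subtypePerm_pow]
      ext1 g
      apply Subtype.ext
      show (((MulAut.conj (y : Perm α)).toEquiv : Perm (Perm α)) ^ 5) g.1 = g.1
      have h5 : ∀ n : ℕ, ∀ z : Perm α, ((MulAut.conj (y : Perm α)).toEquiv ^ n) z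
          = (y : Perm α) ^ n * z * ((y : Perm α) ^ n)⁻¹ := by
        intro n
        induction n with
        | zero => intro z; simp
        | succ n ih =>
          intro z
          rw [pow_succ', Perm.mul_apply, ih, pow_succ']
          simp only [MulEquiv.toEquiv_eq_coe, EquivLike.coe_coe, MulAut.conj_apply]
          group
      rw [h5, ← hyo, pow_orderOf_eq_one]; simp)
  have hyi : Commute (y : Perm α) i := by
    have := congrArg Subtype.val hfix
    simp only [Perm.subtypePerm_apply, MulEquiv.toEquiv_eq_coe, EquivLike.coe_coe,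
      MulAut.conj_apply] at this
    exact mul_inv_eq_iff_eq_mul.1 this
  exact hH.not_commute_six hyH hyo (hsix i hi).1 hyi

/-- a group of order six: a power of three element generates the only subgroup of order three -/
theorem mem_zpowers_of_six {P : Subgroup (Perm α)} (hP : Nat.card P = 6) {x z : Perm α}
    (hx : x ∈ P) (hxo : orderOf x = 3) (hz : z ∈ P) (hzo : orderOf z = 3) :
    z ∈ Subgroup.zpowers x := by
  set x' : P := ⟨x, hx⟩
  have hx' : orderOf x' = 3 := by rw [Subgroup.orderOf_mk, hxo]
  have hidx : (Subgroup.zpowers x').index = 2 := by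
    have := (Subgroup.zpowers x').card_mul_index
    rw [Nat.card_zpowers, hx', hP] at this
    omega
  have h2 := Subgroup.mul_self_mem_of_index_two hidx (⟨z, hz⟩ * ⟨z, hz⟩ : P)
  obtain ⟨k, hk⟩ := Subgroup.mem_zpowers_iff.1 h2
  refine Subgroup.mem_zpowers_iff.2 ⟨k, ?_⟩
  have h3 := congrArg (Subtype.val : P → Perm α) hk
  simp only [Subgroup.coe_zpow, Subgroup.coe_mul, x'] at h3
  rw [h3]
  have h4 : z ^ 3 = 1 := hzo ▸ pow_orderOf_eq_one z
  calc z * z * (z * z) = z * z ^ 3 := by simp [pow_succ, mul_assoc]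
    _ = z := by rw [h4, mul_one]

/-- a permutation of order three with two fixed points commutes with no four-group -/
theorem Small.no_four (hH : Small H) {x : Perm α} (hxH : x ∈ H) (hxo : orderOf x = 3) {a b : α}
    (hab : a ≠ b) (hfix : ∀ e, x e = e ↔ e = a ∨ e = b) {W : Subgroup (Perm α)} (hW : W ≤ H)
    (hWc : Nat.card W = 4) (hcomm : ∀ w ∈ W, Commute w x) : False := by
  classical
  haveI : Fact (Nat.Prime 2) := ⟨Nat.prime_two⟩
  have hpres : ∀ w ∈ W, ∀ e, x e = e → x (w e) = w e := fun w hw e he => by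
    rw [← Perm.mul_apply, ← (hcomm w hw).eq, Perm.mul_apply, he]
  set F := (fixedPoints W α).toFinset with hF
  have hmemF : ∀ e, e ∈ F ↔ ∀ w ∈ W, w e = e := fun e => by
    rw [hF, Set.mem_toFinset]
    exact ⟨fun h g hg => h ⟨g, hg⟩, fun h g => h g g.2⟩
  have hodd : F.card % 2 = 1 := by
    have h1 := (IsPGroup.of_card (n := 2) (hWc.trans (by norm_num)) :
      IsPGroup 2 W).card_modEq_card_fixedPoints α
    rw [Nat.card_eq_fintype_card, hH.card, Nat.card_coe_set_eq, Set.ncard_eq_toFinset_card'] at h1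
    exact h1.symm
  have hab2 : ∀ {u v : α}, (∀ e, x e = e ↔ e = u ∨ e = v) → u ∈ F → v ∈ F := by
    intro u v hf hu
    rw [hmemF] at hu ⊢
    intro w hw
    rcases (hf _).1 (hpres w hw v ((hf v).2 (Or.inr rfl))) with h1 | h1
    · have := hu w hw
      have hvu : v = u := w.injective (h1.trans this.symm)
      rw [h1, hvu]
    · exact h1
  obtain ⟨e, heF, hea, heb⟩ : ∃ e ∈ F, e ≠ a ∧ e ≠ b := by
    by_contra hcon
    push Not at hcon
    by_cases ha : a ∈ F
    · have : F = {a, b} := Finset.Subset.antisymm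
        (fun e he => by
          by_cases h1 : e = a
          · simp [h1]
          · simp [hcon e he h1])
        (Finset.insert_subset ha (Finset.singleton_subset_iff.2 (hab2 hfix ha)))
      rw [this, Finset.card_pair hab] at hodd; omega
    · have : F = ∅ := Finset.eq_empty_of_forall_notMem fun e he => by
        by_cases h1 : e = a
        · exact ha (h1 ▸ he)
        · exact ha (hab2 (fun z => (hfix z).trans Or.comm) (hcon e he h1 ▸ he))
      rw [this] at hodd; simp at hodd
  have hxe : x e ≠ e := fun h => by rcases (hfix e).1 h with h | h <;> contradiction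
  have hcyc3 : ∀ d, x (x (x d)) = d := fun d => by
    have : x ^ 3 = 1 := hxo ▸ pow_orderOf_eq_one x
    exact DFunLike.congr_fun this d
  set T3 : α → Finset α := fun d => {d, x d, x (x d)}
  have hT3c : ∀ d, x d ≠ d → (T3 d).card = 3 := fun d hd => Finset.card_eq_three.2
    ⟨d, x d, x (x d), hd.symm, fun h => hd (by nth_rw 1 [h]; exact hcyc3 d),
      fun h => hd (x.injective h).symm, rfl⟩
  have hsemi : ∀ w ∈ W, w ≠ 1 → ∀ d, x d ≠ d → d ∉ T3 e → w d ≠ d := by
    intro w hw hw1 d hd hde hwd
    refine hw1 (hH.eq_one_of_fix (hW hw) (s := T3 e ∪ T3 d) ?_ fun z hz => ?_)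
    · rw [Finset.card_union_of_disjoint, hT3c e hxe, hT3c d hd]
      rw [Finset.disjoint_left]
      intro z hz hz'
      simp only [T3, Finset.mem_insert, Finset.mem_singleton] at hz hz' hde
      refine hde ?_
      rcases hz' with rfl | rfl | rfl
      · exact hz
      · rcases hz with h | h | h
        · right; right; rw [← h]; exact (hcyc3 d).symm
        · left; exact x.injective h
        · right; left; exact x.injective h
      · rcases hz with h | h | h
        · right; left; rw [← h]; exact (hcyc3 d).symm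
        · right; right; exact (by rw [← h, hcyc3 d])
        · left; exact x.injective (x.injective h)
    · have hwc : ∀ u, w u = u → w (x u) = x u := fun u hu => by
        rw [← Perm.mul_apply, (hcomm w hw).eq, Perm.mul_apply, hu]
      have hwe := (hmemF e).1 heF w hw
      simp only [T3, Finset.mem_union, Finset.mem_insert, Finset.mem_singleton] at hz
      rcases hz with (rfl | rfl | rfl) | (rfl | rfl | rfl)
      · exact hwe
      · exact hwc _ hwe
      · exact hwc _ (hwc _ hwe)
      · exact hwd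
      · exact hwc _ hwd
      · exact hwc _ (hwc _ hwd)
  set U := (Finset.univ.filter fun d => x d ≠ d ∧ d ∉ T3 e) with hU
  have hUc : U.card ≤ 6 := by
    have hsub : U ⊆ ({a, b} ∪ T3 e)ᶜ := fun d hd => by
      obtain ⟨h1, h2⟩ := (Finset.mem_filter.1 hd).2
      simp only [Finset.mem_compl, Finset.mem_union, Finset.mem_insert, Finset.mem_singleton, not_or]
      exact ⟨⟨fun h => h1 ((hfix d).2 (Or.inl h)), fun h => h1 ((hfix d).2 (Or.inr h))⟩, h2⟩
    refine (Finset.card_le_card hsub).trans ?_
    rw [Finset.card_compl, hH.card, Finset.card_union_of_disjoint, Finset.card_pair hab, hT3c e hxe]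
    rw [Finset.disjoint_left]
    intro z hz hz'
    simp only [T3, Finset.mem_insert, Finset.mem_singleton] at hz hz'
    have hz0 : x z = z := (hfix z).2 hz
    rcases hz' with rfl | rfl | rfl
    · exact hxe hz0
    · exact hxe (x.injective hz0)
    · exact hxe (x.injective (x.injective hz0))
  -- every orbit inside `U` has size four
  have horb : ∀ d ∈ U, (orbit W d).toFinset.card = 4 ∧ (orbit W d).toFinset ⊆ U := by
    intro d hd
    obtain ⟨hd1, hd2⟩ := (Finset.mem_filter.1 hd).2
    have h1 : Nat.card ↥(W ⊓ stabilizer (Perm α) d) = 1 := by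
      rw [Subgroup.card_eq_one, Subgroup.eq_bot_iff_forall]
      intro w hw
      by_contra hw1
      exact hsemi w hw.1 hw1 d hd1 hd2 hw.2
    have h2 := card_inf_stabilizer W d
    rw [h1, one_mul, hWc, Set.ncard_eq_toFinset_card'] at h2
    refine ⟨h2, fun z hz => ?_⟩
    rw [Set.mem_toFinset] at hz
    obtain ⟨⟨w, hw⟩, rfl⟩ := hz
    show w d ∈ U
    refine Finset.mem_filter.2 ⟨Finset.mem_univ _, fun h => hd1 ?_, fun h => hd2 ?_⟩
    · have := hpres w⁻¹ (W.inv_mem hw) _ h
      simpa using this
    · have hwc : ∀ u, w u = u → w (x u) = x u := fun u hu => by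
        rw [← Perm.mul_apply, (hcomm w hw).eq, Perm.mul_apply, hu]
      have hwe := (hmemF e).1 heF w hw
      simp only [T3, Finset.mem_insert, Finset.mem_singleton] at h ⊢
      rcases h with h | h | h
      · exact Or.inl (w.injective (h.trans hwe.symm))
      · exact Or.inr (Or.inl (w.injective (h.trans (hwc _ hwe).symm)))
      · exact Or.inr (Or.inr (w.injective (h.trans (hwc _ (hwc _ hwe)).symm)))
  have hUne : U.Nonempty := by
    rw [Finset.nonempty_iff_ne_empty]
    intro h
    have h1 : (Finset.univ : Finset α) ⊆ {a, b} ∪ T3 e := fun d _ => by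
      by_contra hd
      simp only [Finset.mem_union, Finset.mem_insert, Finset.mem_singleton, not_or] at hd
      exact Finset.notMem_empty d (h ▸ Finset.mem_filter.2 ⟨Finset.mem_univ d,
        fun h' => by rcases (hfix d).1 h' with h' | h' <;> tauto, hd.2⟩)
    have := (Finset.card_le_card h1).trans (Finset.card_union_le _ _)
    rw [Finset.card_univ, hH.card, Finset.card_pair hab, hT3c e hxe] at this
    omega
  have hU6 : 6 ≤ U.card := by
    have h1 : (Finset.univ : Finset α) ⊆ U ∪ ({a, b} ∪ T3 e) := fun d _ => by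
      by_cases hd : d ∈ ({a, b} : Finset α) ∪ T3 e
      · exact Finset.mem_union_right _ hd
      · refine Finset.mem_union_left _ ?_
        simp only [Finset.mem_union, Finset.mem_insert, Finset.mem_singleton, not_or] at hd
        exact Finset.mem_filter.2 ⟨Finset.mem_univ d,
          fun h' => by rcases (hfix d).1 h' with h' | h' <;> tauto, hd.2⟩
    have := (Finset.card_le_card h1).trans ((Finset.card_union_le _ _).trans
      (Nat.add_le_add_left (Finset.card_union_le _ _) _))
    rw [Finset.card_univ, hH.card, Finset.card_pair hab, hT3c e hxe] at this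
    omega
  obtain ⟨d, hd⟩ := hUne
  obtain ⟨hd4, hdU⟩ := horb d hd
  obtain ⟨d', hd'U, hd'⟩ := Finset.exists_mem_notMem_of_card_lt_card
    (show (orbit W d).toFinset.card < U.card by omega)
  obtain ⟨hd4', hdU'⟩ := horb d' hd'U
  have hdis : Disjoint (orbit W d).toFinset (orbit W d').toFinset := by
    rw [Finset.disjoint_left]
    intro z hz hz'
    rw [Set.mem_toFinset] at hz hz' hd'
    exact hd' (by rw [← orbit_eq_iff.2 hz, orbit_eq_iff.2 hz']; exact mem_orbit_self d')
  have := Finset.card_le_card (Finset.union_subset hdU hdU')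
  rw [Finset.card_union_of_disjoint hdis] at this
  omega

theorem no_odd_660 (hH : Small H) (h : Even11 T) (hc : Nat.card T = 660) (hTH : T ≤ H)
    (hTnorm : ∀ g ∈ H, ∀ t ∈ T, g * t * g⁻¹ ∈ T)
    (hidx : Nat.card H = 2 * Nat.card T) : False := by
  classical
  haveI : Fact (Nat.Prime 2) := ⟨Nat.prime_two⟩
  haveI : Fact (Nat.Prime 3) := ⟨Nat.prime_three⟩
  haveI : Fact (Nat.Prime 5) := ⟨by norm_num⟩
  obtain ⟨a, b, hab⟩ := Fintype.one_lt_card_iff.1 (show 1 < Fintype.card α by rw [h.card]; norm_num)
  have hP : ∀ {c d : α}, c ≠ d → Nat.card (pairFix T c d) = 6 := fun hcd => by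
    have := h.card_pairFix hcd
    omega
  obtain ⟨x₀, hx₀⟩ := exists_prime_orderOf_dvd_card' (G := pairFix T a b) 3 (by rw [hP hab]; norm_num)
  set x : Perm α := (x₀ : Perm α)
  have hxo : orderOf x = 3 := by rw [Subgroup.orderOf_coe, hx₀]
  obtain ⟨hxT, hxa, hxb⟩ := mem_pairFix.1 x₀.2
  set R := Subgroup.zpowers x with hR
  have hRc : Nat.card R = 3 := by rw [Nat.card_zpowers, hxo]
  -- a map carrying one fixed pair to another normalizes `R`
  have hnorm : ∀ g : Perm α, ∀ c d, c ≠ d → x c = c → x d = d → x (g⁻¹ c) = g⁻¹ c →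
      x (g⁻¹ d) = g⁻¹ d → g * x * g⁻¹ ∈ T → g * x * g⁻¹ ∈ R := by
    intro g c d hcd hc' hd' hgc hgd hgT
    have hxP : x ∈ pairFix T c d := mem_pairFix.2 ⟨hxT, hc', hd'⟩
    refine mem_zpowers_of_six (hP hcd) hxP hxo (mem_pairFix.2 ⟨hgT, ?_, ?_⟩) ?_
    · rw [Perm.mul_apply, Perm.mul_apply, hgc]; simp
    · rw [Perm.mul_apply, Perm.mul_apply, hgd]; simp
    · have := (MulAut.conj g).orderOf_eq x
      rw [MulAut.conj_apply] at this
      rw [this, hxo]
  have hfive : x.support.card = 9 := by
    rcases h.prime_support hxT Nat.prime_three hxo with h1 | ⟨-, h6 | h9⟩ | h1 | h1 <;>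
      [omega; skip; exact h9; omega; omega]
    exfalso
    -- five fixed points: an element of order five normalizes `R`
    set N := T ⊓ Subgroup.normalizer (R : Set (Perm α)) with hN
    have hmemR : ∀ g : Perm α, g * x * g⁻¹ ∈ R → g ∈ Subgroup.normalizer (R : Set (Perm α)) := by
      intro g hg
      rw [Subgroup.mem_normalizer_iff_map_conj_eq]
      refine Subgroup.eq_of_le_of_card_ge ?_ (le_of_eq (Nat.card_congr
          (Subgroup.equivMapOfInjective _ _ (MulAut.conj g).injective).toEquiv))
      rw [hR, MonoidHom.map_zpowers, Subgroup.zpowers_le]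
      simpa using hg
    have hfixN : ∀ g ∈ N, ∀ c, x c = c → x (g c) = g c := by
      intro g hg c hc'
      obtain ⟨k, hk⟩ := Subgroup.mem_zpowers_iff.1
        ((Subgroup.mem_normalizer_iff''.1 hg.2 x).1 (Subgroup.mem_zpowers x))
      have h2 : (x ^ k) c = c := Perm.zpow_apply_eq_self_of_apply_eq_self hc' k
      rw [hk] at h2
      simp only [Perm.mul_apply] at h2
      simpa using congrArg g h2
    have horb : orbit N a = {c | x c = c} := by
      ext c
      constructor
      · rintro ⟨⟨g, hg⟩, rfl⟩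
        exact hfixN g hg a hxa
      · intro hc'
        rcases eq_or_ne c a with rfl | hca
        · exact mem_orbit_self c
        obtain ⟨g, hg, hga, hgb⟩ := h.exists_map hab hca
        refine ⟨⟨g, hg, hmemR g (hnorm g c a hca hc' hxa ?_ ?_
          (T.mul_mem (T.mul_mem hg hxT) (T.inv_mem hg)))⟩, hga⟩
        · rw [Perm.inv_eq_iff_eq.2 hga.symm, hxa]
        · rw [Perm.inv_eq_iff_eq.2 hgb.symm, hxb]
    have h5 : 5 ∣ Nat.card N := by
      have := orbit_dvd N a
      rwa [horb, Set.ncard_eq_toFinset_card', show ({c | x c = c} : Set α).toFinset = x.supportᶜ by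
        ext c; simp, Finset.card_compl, h.card, h6] at this
    obtain ⟨y₀, hy₀⟩ := exists_prime_orderOf_dvd_card' (G := N) 5 h5
    set y : Perm α := (y₀ : Perm α)
    have hyo : orderOf y = 5 := by rw [Subgroup.orderOf_coe, hy₀]
    have hcc : ∀ g ∈ Subgroup.normalizer (R : Set (Perm α)), g * g * x * (g * g)⁻¹ = x := by
      intro g hg
      obtain ⟨k, hk⟩ := Subgroup.mem_zpowers_iff.1
        ((Subgroup.mem_normalizer_iff.1 hg x).1 (Subgroup.mem_zpowers x))
      have hkk : g * g * x * (g * g)⁻¹ = x ^ (k * k) := by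
        rw [show g * g * x * (g * g)⁻¹ = g * (g * x * g⁻¹) * g⁻¹ by group, ← hk, ← conj_zpow, ← hk,
          ← zpow_mul]
      rw [hkk]
      have h3 : ¬ (3 : ℤ) ∣ k := fun hd => by
        have : x ^ k = 1 := orderOf_dvd_iff_zpow_eq_one.1 (by rw [hxo]; exact hd)
        rw [hk, conj_eq_one_iff] at this
        rw [this, orderOf_one] at hxo
        omega
      have : (3 : ℤ) ∣ k * k - 1 := by
        have : (k * k) % 3 = 1 := by
          rcases (show k % 3 = 1 ∨ k % 3 = 2 by omega) with h | h <;> rw [Int.mul_emod, h] <;> rfl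
        omega
      have h4 : x ^ (k * k - 1) = 1 := orderOf_dvd_iff_zpow_eq_one.1 (by rw [hxo]; exact this)
      rwa [zpow_sub, zpow_one, mul_inv_eq_one] at h4
    have hy3 : Commute y x := by
      have h6y : y ^ 3 * y ^ 3 = y := by
        rw [← pow_add, show 3 + 3 = 5 + 1 from rfl, pow_succ, ← hyo, pow_orderOf_eq_one, one_mul]
      have := hcc (y ^ 3) ((Subgroup.normalizer (R : Set (Perm α))).pow_mem y₀.2.2 3)
      rw [h6y] at this
      exact mul_inv_eq_iff_eq_mul.1 this
    exact h.not_commute_six y₀.2.1 hyo h6 hy3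
  have hfix : ∀ e, x e = e ↔ e = a ∨ e = b := by
    intro e
    refine ⟨fun he => ?_, by rintro (rfl | rfl) <;> assumption⟩
    by_contra hcon
    push Not at hcon
    have := support_le_of_fix h.card (g := x) (s := {a, b, e}) (by
      intro z hz
      simp only [Finset.mem_insert, Finset.mem_singleton] at hz
      rcases hz with rfl | rfl | rfl <;> assumption)
    rw [Finset.card_eq_three.2 ⟨a, b, e, hab, hcon.1.symm, hcon.2.symm, rfl⟩] at this
    omega
  -- the setwise stabiliser of the pair
  set M := H ⊓ stabilizer (Perm α) ({a, b} : Set α) with hM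
  have hMab : ∀ g ∈ M, (g a = a ∧ g b = b) ∨ (g a = b ∧ g b = a) := by
    intro g hg
    have hs : g • ({a, b} : Set α) = {a, b} := hg.2
    have h1 : g a ∈ ({a, b} : Set α) := hs ▸ Set.smul_mem_smul_set (a := g) (Set.mem_insert a {b})
    have h2 : g b ∈ ({a, b} : Set α) :=
      hs ▸ Set.smul_mem_smul_set (a := g) (Set.mem_insert_of_mem a (Set.mem_singleton b))
    rcases h1 with h1 | h1 <;> rcases h2 with h2 | h2
    · exact absurd (g.injective (h1.trans h2.symm)) hab
    · exact Or.inl ⟨h1, h2⟩
    · exact Or.inr ⟨h1, h2⟩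
    · exact absurd (g.injective (Eq.trans h1 h2.symm)) hab
  have hMc : Nat.card M = 24 := by
    have hPH := hH.card_pairFix hab
    have h1 := card_inf_stabilizer M a
    have h2 : M ⊓ stabilizer (Perm α) a = pairFix H a b := by
      ext g
      rw [Subgroup.mem_inf, mem_pairFix]
      constructor
      · rintro ⟨hgM, hga⟩
        rcases hMab g hgM with h3 | h3
        · exact ⟨hgM.1, h3⟩
        · exact absurd ((Eq.symm hga).trans h3.1) hab
      · rintro ⟨hgH, hga, hgb⟩
        refine ⟨⟨hgH, ?_⟩, hga⟩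
        show g • ({a, b} : Set α) = {a, b}
        rw [Set.smul_set_insert, Set.smul_set_singleton, Perm.smul_def, Perm.smul_def, hga, hgb]
    have h3 : orbit M a = {a, b} := by
      ext c
      constructor
      · rintro ⟨⟨g, hg⟩, rfl⟩
        rcases hMab g hg with h3 | h3
        · exact Or.inl h3.1
        · exact Or.inr h3.1
      · rintro (rfl | rfl)
        · exact mem_orbit_self c
        · obtain ⟨g, hg, hga, hgb⟩ := hH.exists_map hab hab.symm
          refine ⟨⟨g, hg, ?_⟩, hga⟩
          show g • ({a, c} : Set α) = {a, c}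
          rw [Set.smul_set_insert, Set.smul_set_singleton, Perm.smul_def, Perm.smul_def, hga, hgb,
            Set.pair_comm]
    rw [h2, h3, Set.ncard_pair hab] at h1
    omega
  have hMR : ∀ g ∈ M, g * x * g⁻¹ = x ∨ g * x * g⁻¹ = x⁻¹ := by
    intro g hg
    have hgx : g * x * g⁻¹ ∈ R := by
      have hTn : g * x * g⁻¹ ∈ T := hTnorm g hg.1 x hxT
      have hfx : ∀ c, x c = c → x (g⁻¹ c) = g⁻¹ c := by
        intro c hc'
        rcases hMab g⁻¹ (M.inv_mem hg) with h1 | h1 <;> rcases (hfix c).1 hc' with rfl | rfl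
        all_goals (first | rw [h1.1] | rw [h1.2]) <;> assumption
      exact hnorm g a b hab hxa hxb (hfx a hxa) (hfx b hxb) hTn
    obtain ⟨k, hk⟩ := Subgroup.mem_zpowers_iff.1 hgx
    rw [← hk, ← zpow_mod_orderOf, hxo]
    rcases (show k % 3 = 0 ∨ k % 3 = 1 ∨ k % 3 = 2 by omega) with h1 | h1 | h1
    · exfalso
      have : x ^ k = 1 := orderOf_dvd_iff_zpow_eq_one.1 (by rw [hxo]; omega)
      rw [hk, conj_eq_one_iff] at this
      rw [this, orderOf_one] at hxo
      omega
    · left; simp [h1]
    · right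
      rw [show ((3 : ℕ) : ℤ) = 3 from rfl, h1, eq_inv_iff_mul_eq_one, zpow_two]
      rw [show x * x * x = x ^ 3 by simp [pow_succ], ← hxo, pow_orderOf_eq_one]
  set C := M ⊓ Subgroup.centralizer ({x} : Set (Perm α)) with hC
  have hC4 : 4 ∣ Nat.card C := by
    have hle : Nat.card M ≤ Nat.card C * 2 := by
      set Mf := (Finset.univ : Finset (Perm α)).filter (· ∈ M) with hMf
      have hMfc : Mf.card = Nat.card M := by
        rw [Nat.card_eq_fintype_card, Fintype.card_subtype]
      rw [← hMfc]
      refine (Finset.card_le_mul_card_image (f := fun g => g * x * g⁻¹) Mf (Nat.card C) ?_).trans ?_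
      · intro z hz
        obtain ⟨g₀, hg₀, rfl⟩ := Finset.mem_image.1 hz
        refine le_of_le_of_eq (Finset.card_le_card_of_injOn (fun g => g₀⁻¹ * g) ?_ ?_)
          ((Fintype.card_subtype (· ∈ C)).symm.trans Nat.card_eq_fintype_card.symm)
        · intro g hg
          obtain ⟨hgM, hgeq⟩ := Finset.mem_filter.1 hg
          simp only [Finset.coe_filter, Finset.mem_univ, true_and, Set.mem_setOf_eq]
          rw [hMf, Finset.mem_filter] at hgM hg₀
          refine ⟨M.mul_mem (M.inv_mem hg₀.2) hgM.2, Subgroup.mem_centralizer_singleton_iff.2 ?_⟩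
          rw [← mul_inv_eq_iff_eq_mul]
          calc g₀⁻¹ * g * x * (g₀⁻¹ * g)⁻¹ = g₀⁻¹ * (g * x * g⁻¹) * g₀ := by group
            _ = x := by rw [hgeq]; group
        · exact fun u _ v _ h => mul_left_cancel h
      · refine Nat.mul_le_mul_left _ ((Finset.card_le_card (t := {x, x⁻¹}) fun z hz => ?_).trans Finset.card_le_two)
        obtain ⟨g, hg, rfl⟩ := Finset.mem_image.1 hz
        rcases hMR g (Finset.mem_filter.1 hg).2 with h1 | h1 <;> simp [h1]
    have hd : Nat.card C ∣ 24 := hMc ▸ Subgroup.card_dvd_of_le inf_le_left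
    rw [hMc] at hle
    obtain ⟨q, hq⟩ := hd
    have : q ≤ 2 := Nat.le_of_mul_le_mul_left (hq ▸ hle) Nat.card_pos
    interval_cases q <;> omega
  obtain ⟨W₀, hW₀⟩ := Sylow.exists_subgroup_card_pow_prime (G := C) 2 (n := 2) (by simpa using hC4)
  refine hH.no_four (hTH hxT) hxo hab hfix (W := W₀.map C.subtype)
    (fun w hw => (Subgroup.map_subtype_le W₀ hw).1.1)
    (by rw [Subgroup.card_map_of_injective C.subtype_injective, hW₀]; norm_num) fun w hw => ?_
  exact Subgroup.mem_centralizer_singleton_iff.1 (Subgroup.map_subtype_le W₀ hw).2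

end CfsgLib.DegreeEleven
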