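import Cfsg.Agent.Lib.Perm.SharplyThree
import Cfsg.Agent.Lib.BrauerReynolds.Section
import Cfsg.Agent.Lib.Transfer.Basic
import Cfsg.Prelude.Def_Perm
import Mathlib

/-!
# Transitive groups of degree `p + 1` and order `(p + 1) p d` with `d < p`: basic structure
-/

set_option autoImplicit false
set_option linter.style.haveILetI false
set_option linter.unusedSectionVars false

open scoped Classical

namespace CfsgLib.DegreePrimeSucc

open MulAction

universe u

variable {α : Type u} [Fintype α] [DecidableEq α]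

/-- The data: an element `u` of order `p` fixing `a`, which is transitive on the other points. -/
structure Setting (G : Subgroup (Equiv.Perm α)) (p d : ℕ) where
  hp : p.Prime
  hα : Fintype.card α = p + 1
  htrans : MulAction.IsPretransitive G α
  hcard : Nat.card G = (p + 1) * p * d
  hd : d < p
  a : α
  u : G
  hu : orderOf u = p
  hua : u • a = a

variable {G : Subgroup (Equiv.Perm α)} {p d : ℕ}

theorem exists_setting (hp : p.Prime) (hα : Fintype.card α = p + 1) [hT : IsPretransitive G α]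
    (hG : Nat.card G = (p + 1) * p * d) (hd : d < p) : Nonempty (Setting G p d) := by
  haveI : Nonempty α := Fintype.card_pos_iff.mp (by omega)
  obtain ⟨a⟩ : Nonempty α := inferInstance
  haveI := Fact.mk hp
  have h := (stabilizer G a).card_mul_index
  rw [index_stabilizer_of_transitive G a, Nat.card_eq_fintype_card (α := α), hα, hG,
    show (p + 1) * p * d = p * d * (p + 1) by ring] at h
  have hs : Nat.card (stabilizer G a) = p * d := Nat.eq_of_mul_eq_mul_right (by omega) h
  obtain ⟨v, hv⟩ := exists_prime_orderOf_dvd_card' (G := stabilizer G a) p (hs ▸ dvd_mul_right p d)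
  exact ⟨⟨hp, hα, hT, hG, hd, a, v, by rw [Subgroup.orderOf_coe]; exact hv, v.2⟩⟩

variable (S : Setting G p d)
include S

theorem d_pos : 0 < d := Nat.pos_of_ne_zero fun h => by
  have := S.hcard
  rw [h, mul_zero] at this
  exact Nat.card_pos.ne' this

theorem two_le : 2 ≤ p := S.hp.two_le

theorem card_stab (x : α) : Nat.card (stabilizer G x) = p * d := by
  haveI := S.htrans
  have h := (stabilizer G x).card_mul_index
  rw [index_stabilizer_of_transitive G x, Nat.card_eq_fintype_card (α := α), S.hα, S.hcard,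
    show (p + 1) * p * d = p * d * (p + 1) by ring] at h
  exact Nat.eq_of_mul_eq_mul_right (by omega) h

theorem u_isCycle : (S.u : Equiv.Perm α).IsCycle := by
  have ho : orderOf (S.u : Equiv.Perm α) = p := (Subgroup.orderOf_coe S.u).trans S.hu
  refine Equiv.Perm.isCycle_of_prime_order' (ho.symm ▸ S.hp) ?_
  rw [ho, S.hα]
  have := two_le S
  omega

theorem u_move {y : α} (hy : y ≠ S.a) : (S.u : Equiv.Perm α) y ≠ y := by
  intro h
  have hc := (u_isCycle S).orderOf
  rw [(Subgroup.orderOf_coe S.u).trans S.hu] at hc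
  have hsub : (S.u : Equiv.Perm α).support ⊆ (Finset.univ.erase S.a).erase y := fun z hz => by
    rw [Equiv.Perm.mem_support] at hz
    simp only [Finset.mem_erase, Finset.mem_univ, and_true, ne_eq]
    refine ⟨fun e => hz (e ▸ h), fun e => hz (e ▸ ?_)⟩
    exact S.hua
  have := Finset.card_le_card hsub
  rw [Finset.card_erase_of_mem (by simp [hy]), Finset.card_erase_of_mem (Finset.mem_univ _),
    Finset.card_univ, S.hα, ← hc] at this
  have := two_le S
  omega

theorem pow_mod (n : ℕ) : S.u ^ (n % p) = S.u ^ n :=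
  (congrArg (fun k => S.u ^ (n % k)) S.hu.symm).trans (pow_mod_orderOf S.u n)

theorem pow_p : S.u ^ p = 1 :=
  (congrArg (fun k => S.u ^ k) S.hu.symm).trans (pow_orderOf_eq_one S.u)

theorem exists_pow {y z : α} (hy : y ≠ S.a) (hz : z ≠ S.a) : ∃ i : ℕ, S.u ^ i • y = z := by
  obtain ⟨i, hi⟩ := (u_isCycle S).exists_pow_eq (u_move S hy) (u_move S hz)
  exact ⟨i, by show ((S.u ^ i : G) : Equiv.Perm α) y = z; rw [SubmonoidClass.coe_pow]; exact hi⟩

theorem pow_fix : ∀ i : ℕ, S.u ^ i • S.a = S.a
  | 0 => by simp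
  | i + 1 => by rw [pow_succ, mul_smul, S.hua, pow_fix i]

theorem dvd_of_pow_fix {y : α} (hy : y ≠ S.a) {i : ℕ} (h : S.u ^ i • y = y) : p ∣ i := by
  by_contra hi
  refine u_move S hy ?_
  have hco : Nat.Coprime i (orderOf S.u) := S.hu.symm ▸ ((S.hp.coprime_iff_not_dvd.mpr hi).symm)
  obtain ⟨k, hk⟩ := exists_pow_eq_self_of_coprime hco
  show S.u • y = y
  rw [← hk]
  clear hk
  induction k with
  | zero => simp
  | succ k ih => rw [pow_succ, mul_smul, h, ih]

theorem eq_one_of_commute {g : G} (hc : Commute g S.u) (ha : g • S.a = S.a) {y : α} (hy : y ≠ S.a)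
    (hg : g • y = y) : g = 1 := by
  refine Subtype.ext (Equiv.ext fun z => ?_)
  show g • z = z
  rcases eq_or_ne z S.a with rfl | hz
  · exact ha
  · obtain ⟨i, rfl⟩ := exists_pow S hy hz
    rw [← mul_smul, (hc.pow_right i).eq, mul_smul, hg]

theorem conj_mem {g : G} (hg : g • S.a = S.a) : g * S.u * g⁻¹ ∈ Subgroup.zpowers S.u := by
  by_contra hn
  haveI := Fact.mk S.hp
  set v := g * S.u * g⁻¹ with hv
  have hvo : orderOf v = p := by rw [hv, ← MulAut.conj_apply, MulEquiv.orderOf_eq]; exact S.hu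
  have hvA : v ∈ stabilizer G S.a :=
    mul_mem (mul_mem (show g ∈ stabilizer G S.a from hg) (show S.u ∈ stabilizer G S.a from S.hua))
      (inv_mem (show g ∈ stabilizer G S.a from hg))
  let f : Subgroup.zpowers S.u × Subgroup.zpowers v → stabilizer G S.a := fun x =>
    ⟨(x.1 : G) * x.2, mul_mem (Subgroup.zpowers_le.mpr (show S.u ∈ stabilizer G S.a from S.hua) x.1.2)
      (Subgroup.zpowers_le.mpr hvA x.2.2)⟩
  have hf : Function.Injective f := by
    rintro ⟨x1, x2⟩ ⟨y1, y2⟩ e
    have e' : (x1 : G) * x2 = y1 * y2 := congrArg Subtype.val e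
    have hw : (y1 : G)⁻¹ * x1 = y2 * (x2 : G)⁻¹ := by
      rw [eq_mul_inv_iff_mul_eq, mul_assoc, e', inv_mul_cancel_left]
    set w := (y1 : G)⁻¹ * x1
    have hwu : w ∈ Subgroup.zpowers S.u := mul_mem (inv_mem y1.2) x1.2
    have hwv : w ∈ Subgroup.zpowers v := hw ▸ mul_mem y2.2 (inv_mem x2.2)
    have hw1 : w = 1 := by
      by_contra h1
      have hwo : orderOf w = p := by
        have h := Subgroup.orderOf_dvd_natCard _ hwu
        rw [Nat.card_zpowers, S.hu] at h
        exact ((Nat.dvd_prime S.hp).mp h).resolve_left fun h' => h1 (orderOf_eq_one_iff.mp h')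
      have e1 : Subgroup.zpowers w = Subgroup.zpowers S.u :=
        Subgroup.eq_of_le_of_card_ge (Subgroup.zpowers_le.mpr hwu) (by rw [Nat.card_zpowers, Nat.card_zpowers, hwo, S.hu])
      have e2 : Subgroup.zpowers w = Subgroup.zpowers v :=
        Subgroup.eq_of_le_of_card_ge (Subgroup.zpowers_le.mpr hwv) (by rw [Nat.card_zpowers, Nat.card_zpowers, hwo, hvo])
      exact hn (e1 ▸ e2 ▸ Subgroup.mem_zpowers v)
    have h1 : (x1 : G) = y1 := (inv_mul_eq_one.mp hw1).symm
    exact Prod.ext (Subtype.ext h1) (Subtype.ext (by rw [h1] at e'; exact mul_left_cancel e'))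
  have h := Nat.card_le_card_of_injective f hf
  rw [Nat.card_prod, Nat.card_zpowers, Nat.card_zpowers, S.hu, hvo, card_stab S] at h
  exact absurd (Nat.le_of_mul_le_mul_left h S.hp.pos) (not_le.mpr S.hd)

theorem two_trans {x y x' y' : α} (hxy : x ≠ y) (hxy' : x' ≠ y') :
    ∃ g : G, g • x = x' ∧ g • y = y' := by
  haveI := S.htrans
  obtain ⟨g, hg⟩ := exists_smul_eq G x S.a
  obtain ⟨g', hg'⟩ := exists_smul_eq G x' S.a
  obtain ⟨i, hi⟩ := exists_pow S (y := g • y) (z := g' • y') (fun e => hxy (smul_left_cancel g (hg.trans e.symm)))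
    (fun e => hxy' (smul_left_cancel g' (hg'.trans e.symm)))
  refine ⟨g'⁻¹ * S.u ^ i * g, ?_, ?_⟩
  · rw [mul_smul, mul_smul, hg, pow_fix S, ← hg', inv_smul_smul]
  · rw [mul_smul, mul_smul, hi, inv_smul_smul]

theorem free_at {b c : α} (hb : b ≠ S.a) (hc : c ≠ S.a) (hbc : b ≠ c) {g : G} (ha : g • S.a = S.a)
    (hgb : g • b = b) (hgc : g • c = c) : g = 1 := by
  obtain ⟨i, hi⟩ := exists_pow S hb hc
  obtain ⟨s, hs⟩ := mem_powers_iff_mem_zpowers.mpr (conj_mem S ha)
  have hs' : S.u ^ s = g * S.u * g⁻¹ := hs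
  have h1 : S.u ^ (s * i) • b = S.u ^ i • b := by
    rw [pow_mul, hs', conj_pow, mul_smul, mul_smul, show g⁻¹ • b = b by rw [inv_smul_eq_iff, hgb], hi, hgc]
  have hz : (S.u ^ ((s * i : ℕ) : ℤ)) • b = (S.u ^ (i : ℤ)) • b := by rw [zpow_natCast, zpow_natCast]; exact h1
  have hs1 : S.u ^ s = S.u := by
    have hsi : s * i % p = i % p := by
      by_contra hne
      rcases le_total (i % p) (s * i % p) with hle | hle
      · have : S.u ^ (s * i % p - i % p) • (S.u ^ (i % p) • b) = S.u ^ (i % p) • b := by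
          rw [← mul_smul, ← pow_add, Nat.sub_add_cancel hle, pow_mod S, pow_mod S]
          exact h1
        have hd := Nat.eq_zero_of_dvd_of_lt (dvd_of_pow_fix S (fun e => hb (smul_left_cancel _ (e.trans (pow_fix S _).symm))) this)
          (by have := Nat.mod_lt (s * i) S.hp.pos; omega)
        omega
      · have : S.u ^ (i % p - s * i % p) • (S.u ^ (s * i % p) • b) = S.u ^ (s * i % p) • b := by
          rw [← mul_smul, ← pow_add, Nat.sub_add_cancel hle, pow_mod S, pow_mod S]
          exact h1.symm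
        have hd := Nat.eq_zero_of_dvd_of_lt (dvd_of_pow_fix S (fun e => hb (smul_left_cancel _ (e.trans (pow_fix S _).symm))) this)
          (by have := Nat.mod_lt i S.hp.pos; omega)
        omega
    have hco : Nat.Coprime p i := S.hp.coprime_iff_not_dvd.mpr fun hpi => by
      obtain ⟨k, rfl⟩ := hpi
      rw [pow_mul, pow_p S, one_pow, one_smul] at hi
      exact hbc hi
    have h2 : s % p = 1 % p := Nat.ModEq.cancel_right_of_coprime hco (show s * i ≡ 1 * i [MOD p] by rw [one_mul]; exact hsi)
    rw [← pow_mod S, h2, pow_mod S, pow_one]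
  refine eq_one_of_commute S ?_ ha hb hgb
  rw [hs1] at hs'
  exact (mul_inv_eq_iff_eq_mul.mp hs'.symm)

theorem free {g : G} {x y z : α} (hxy : x ≠ y) (hyz : y ≠ z) (hxz : x ≠ z) (hx : g • x = x)
    (hy : g • y = y) (hz : g • z = z) : g = 1 := by
  haveI := S.htrans
  obtain ⟨k, hk⟩ := exists_smul_eq G x S.a
  have key : ∀ w : α, g • w = w → (k * g * k⁻¹) • (k • w) = k • w := fun w hw => by
    rw [mul_smul, mul_smul, inv_smul_smul, hw]
  have h := free_at S (b := k • y) (c := k • z) (fun e => hxy (smul_left_cancel k (hk.trans e.symm)))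
    (fun e => hxz (smul_left_cancel k (hk.trans e.symm))) (fun e => hyz (smul_left_cancel k e))
    (g := k * g * k⁻¹) (hk ▸ key x hx) (key y hy) (key z hz)
  exact conj_eq_one_iff.mp h

/-- The two-point stabilizer. -/
def D (b : α) : Subgroup G := stabilizer G S.a ⊓ stabilizer G b

/-- The action of the two-point stabilizer on the cycle. -/
theorem exists_embedding {b : α} (hb : b ≠ S.a) :
    ∃ f : D S b →* MulAut (Subgroup.zpowers S.u), Function.Injective f := by
  have hn : ∀ g : D S b, (g : G) ∈ Subgroup.normalizer ((Subgroup.zpowers S.u : Subgroup G) : Set G) := fun g => by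
    refine Subgroup.mem_normalizer_fintype fun w hw => ?_
    obtain ⟨i, rfl⟩ := Subgroup.mem_zpowers_iff.mp hw
    rw [← conj_zpow]
    exact Subgroup.zpow_mem _ (conj_mem S g.2.1) i
  refine ⟨(Subgroup.normalizerMonoidHom (Subgroup.zpowers S.u)).comp ((D S b).subtype.codRestrict _ hn), ?_⟩
  rw [injective_iff_map_eq_one]
  intro g hg
  refine Subtype.ext (eq_one_of_commute S ?_ g.2.1 hb g.2.2)
  have h := congrArg Subtype.val (DFunLike.congr_fun hg ⟨S.u, Subgroup.mem_zpowers _⟩)
  exact mul_inv_eq_iff_eq_mul.mp h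

theorem D_comm {b : α} (hb : b ≠ S.a) (g h : D S b) : g * h = h * g := by
  obtain ⟨f, hf⟩ := exists_embedding S hb
  refine hf ((IsCyclic.mulAutMulEquiv (Subgroup.zpowers S.u)).injective ?_)
  rw [map_mul, map_mul, map_mul, map_mul]
  exact mul_comm _ _

theorem card_D {b : α} (hb : b ≠ S.a) : Nat.card (D S b) = d := by
  have horb : (stabilizer (stabilizer G S.a) b).index = p := by
    rw [MulAction.index_stabilizer]
    have : orbit (stabilizer G S.a) b = {z | z ≠ S.a} := by
      ext z
      constructor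
      · rintro ⟨g, rfl⟩ (e : (g : G) • b = S.a)
        exact hb (smul_left_cancel (g : G) (e.trans g.2.symm))
      · intro hz
        obtain ⟨i, hi⟩ := exists_pow S hb hz
        exact ⟨⟨S.u ^ i, pow_fix S i⟩, hi⟩
    rw [this, Set.ncard_eq_toFinset_card']
    simp [Finset.filter_ne', Finset.card_erase_of_mem, S.hα]
  have h := (stabilizer (stabilizer G S.a) b).card_mul_index
  rw [horb, card_stab S] at h
  have e : Nat.card (stabilizer (stabilizer G S.a) b) = Nat.card (D S b) :=
    Nat.card_congr ⟨fun g => ⟨(g : stabilizer G S.a), (g : stabilizer G S.a).2, g.2⟩,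
      fun g => ⟨⟨g, g.2.1⟩, g.2.2⟩, fun _ => rfl, fun _ => rfl⟩
  rw [e, mul_comm p d] at h
  exact Nat.eq_of_mul_eq_mul_right S.hp.pos h

theorem exists_other : ∃ b, b ≠ S.a := Fintype.exists_ne_of_one_lt_card (by have := two_le S; have := S.hα; omega) S.a

theorem d_dvd : d ∣ p - 1 := by
  obtain ⟨b, hb⟩ := exists_other S
  obtain ⟨f, hf⟩ := exists_embedding S hb
  have h := Subgroup.card_dvd_of_injective f hf
  rwa [card_D S hb, IsCyclic.card_mulAut, Nat.card_zpowers, S.hu, Nat.totient_prime S.hp] at h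

end CfsgLib.DegreePrimeSucc
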