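import Cfsg.Agent.Lib.Perm.DegreePrimeSucc

/-!
# The case of a normal subgroup of order prime to `p`: semilinear maps of the field with `p + 1` elements
-/

set_option autoImplicit false
set_option linter.style.haveILetI false
set_option linter.unusedSectionVars false

open scoped Classical

namespace CfsgLib.DegreePrimeSucc

open MulAction

universe u

variable {α : Type u} [Fintype α] [DecidableEq α] {G : Subgroup (Equiv.Perm α)} {p d : ℕ}
variable (S : Setting G p d)
include S

theorem semiregular {M : Subgroup G} [M.Normal] (hM : (Nat.card M).Coprime p) {m : G} (hm : m ∈ M)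
    {x : α} (hx : m • x = x) : m = 1 := by
  haveI := S.htrans
  obtain ⟨k, hk⟩ := exists_smul_eq G x S.a
  set n := k * m * k⁻¹ with hn
  have hnM : n ∈ M := (inferInstance : M.Normal).conj_mem m hm k
  have hna : n • S.a = S.a := by rw [hn, ← hk, mul_smul, mul_smul, inv_smul_smul, hx]
  have hU : Nat.Coprime (Nat.card M) (Nat.card (Subgroup.zpowers S.u)) := by rw [Nat.card_zpowers, S.hu]; exact hM
  have hbot := Subgroup.inf_eq_bot_of_coprime hU
  have hc : Commute n S.u := by
    have h1 : n * S.u * n⁻¹ * S.u⁻¹ ∈ M ⊓ Subgroup.zpowers S.u := Subgroup.mem_inf.mpr ⟨by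
      rw [show n * S.u * n⁻¹ * S.u⁻¹ = n * (S.u * n⁻¹ * S.u⁻¹) by group]
      exact mul_mem hnM ((inferInstance : M.Normal).conj_mem _ (inv_mem hnM) S.u),
      mul_mem (conj_mem S hna) (inv_mem (Subgroup.mem_zpowers _))⟩
    rw [hbot, Subgroup.mem_bot, mul_inv_eq_one, mul_inv_eq_iff_eq_mul] at h1
    exact h1
  obtain ⟨b, hb⟩ := exists_other S
  obtain ⟨i, hi⟩ := exists_pow S hb (z := n • b) (fun e => hb (smul_left_cancel n (e.trans hna.symm)))
  have hni : n = S.u ^ i := by
    have := eq_one_of_commute S (g := (S.u ^ i)⁻¹ * n) (((Commute.refl S.u).pow_left i).inv_left.mul_left hc)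
      (by rw [mul_smul, hna, inv_smul_eq_iff, pow_fix S]) hb (by rw [mul_smul, inv_smul_eq_iff, hi])
    exact (inv_mul_eq_one.mp this).symm
  have : n ∈ M ⊓ Subgroup.zpowers S.u := Subgroup.mem_inf.mpr ⟨hnM, hni ▸ Subgroup.pow_mem _ (Subgroup.mem_zpowers _) i⟩
  rw [hbot, Subgroup.mem_bot, hn, conj_eq_one_iff] at this
  exact this

theorem regular {M : Subgroup G} [M.Normal] (hM : (Nat.card M).Coprime p) (hM1 : M ≠ ⊥) :
    Function.Bijective fun m : M => (m : G) • S.a := by
  refine ⟨fun x y e => ?_, ?_⟩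
  · refine Subtype.ext ?_
    have := semiregular S hM (mul_mem (inv_mem x.2) y.2) (x := S.a)
      (by rw [mul_smul]; exact inv_smul_eq_iff.mpr e.symm)
    exact inv_mul_eq_one.mp this
  · obtain ⟨m, hm, hm1⟩ := (Subgroup.bot_or_exists_ne_one M).resolve_left hM1
    intro z
    rcases eq_or_ne z S.a with rfl | hz
    · exact ⟨1, one_smul _ _⟩
    have hma : m • S.a ≠ S.a := fun e => hm1 (semiregular S hM hm e)
    obtain ⟨i, hi⟩ := exists_pow S hma hz
    refine ⟨⟨S.u ^ i * m * (S.u ^ i)⁻¹, (inferInstance : M.Normal).conj_mem m hm _⟩, ?_⟩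
    show (S.u ^ i * m * (S.u ^ i)⁻¹) • S.a = z
    rw [mul_smul, mul_smul, inv_smul_eq_iff.mpr (pow_fix S i).symm, hi]

theorem conj_smul_a {g : G} (hg : g • S.a = S.a) (w : G) : (g * w * g⁻¹) • S.a = g • w • S.a := by
  rw [mul_smul, mul_smul, inv_smul_eq_iff.mpr hg.symm]

theorem kernel_structure {M : Subgroup G} [M.Normal] (hM : (Nat.card M).Coprime p) (hM1 : M ≠ ⊥)
    (hp2 : p ≠ 2) :
    IsMulCommutative M ∧ ∃ q : ℕ, q.Prime ∧ p + 1 = 2 ^ q := by
  have hbij := regular S hM hM1
  have hcard : Nat.card M = p + 1 := by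
    rw [Nat.card_congr (Equiv.ofBijective _ hbij), Nat.card_eq_fintype_card, S.hα]
  have hconj : ∀ x y : M, x ≠ 1 → y ≠ 1 → ∃ g : G, g * x * g⁻¹ = (y : G) := by
    intro x y hx hy
    have hne : ∀ z : M, z ≠ 1 → (z : G) • S.a ≠ S.a := fun z hz e => hz (hbij.1 (e.trans (one_smul G S.a).symm))
    obtain ⟨i, hi⟩ := exists_pow S (hne x hx) (hne y hy)
    refine ⟨S.u ^ i, ?_⟩
    exact congrArg Subtype.val (hbij.1 (a₁ := ⟨_, (inferInstance : M.Normal).conj_mem _ x.2 (S.u ^ i)⟩) (a₂ := y)
      ((conj_smul_a S (pow_fix S i) _).trans hi))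
  have hev : 2 ∣ Nat.card M := by
    rw [hcard]
    have := S.hp.odd_of_ne_two hp2
    obtain ⟨k, hk⟩ := this
    omega
  haveI := Fact.mk Nat.prime_two
  obtain ⟨t, ht⟩ := exists_prime_orderOf_dvd_card' (G := M) 2 hev
  have hexp : ∀ x : M, x * x = 1 := by
    intro x
    rcases eq_or_ne x 1 with rfl | hx
    · exact one_mul 1
    obtain ⟨g, hg⟩ := hconj t x (fun e => by rw [e, orderOf_one] at ht; omega) hx
    have h : orderOf x = 2 := by
      rw [← Subgroup.orderOf_coe, ← hg, ← MulAut.conj_apply, MulEquiv.orderOf_eq, Subgroup.orderOf_coe, ht]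
    rw [← pow_two, ← h, pow_orderOf_eq_one]
  refine ⟨⟨⟨fun x y => mul_comm_of_exponent_two
    ((Nat.dvd_prime Nat.prime_two).mp (Monoid.exponent_dvd_of_forall_pow_eq_one fun x : M => by
      rw [pow_two]; exact hexp x) |>.resolve_left fun h => by
      have := Monoid.exp_eq_one_iff.mp h
      rw [Nat.card_of_subsingleton (1 : M)] at hcard
      have := two_le S
      omega) x y⟩⟩, ?_⟩
  have hP : IsPGroup 2 M := fun x => ⟨1, by rw [pow_one, pow_two]; exact hexp x⟩
  obtain ⟨q, hq⟩ := hP.exists_card_eq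
  refine ⟨q, ?_, by omega⟩
  refine (Nat.prime_of_pow_sub_one_prime (a := 2) ?_ ?_).2
  · intro h
    rw [h, pow_one] at hq
    have := two_le S
    omega
  · rw [← hq, hcard, Nat.add_sub_cancel]; exact S.hp

set_option maxHeartbeats 1200000 in
theorem affine {M : Subgroup G} [M.Normal] (hM : (Nat.card M).Coprime p) (hM1 : M ≠ ⊥) (hp2 : p ≠ 2) :
    ∃ q : ℕ, ∃ _ : Fact q.Prime, p + 1 = 2 ^ q ∧ (d = 1 ∨ d = q) ∧
      ∃ e : α ≃ GaloisField 2 q, ∀ g : G,
        (e.symm.trans (((g : Equiv.Perm α)).trans e)) ∈ Cfsg.semiaffineGroup (GaloisField 2 q) := by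
  obtain ⟨hcomm, q, hq, hpq⟩ := kernel_structure S hM hM1 hp2
  haveI := Fact.mk hq
  refine ⟨q, inferInstance, hpq, ?_⟩
  haveI := hcomm
  letI : CommGroup M := { (inferInstance : Group M) with mul_comm := fun a b => mul_comm' a b }
  let cj : G →* AddMonoid.End (Additive M) :=
    { toFun := fun g => MonoidHom.toAdditive (MulAut.conjNormal g : MulAut M).toMonoidHom
      map_one' := AddMonoidHom.ext fun x => Additive.toMul.injective (by
        show (MulAut.conjNormal (1 : G) : MulAut M) x.toMul = x.toMul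
        rw [map_one]; rfl)
      map_mul' := fun g h => AddMonoidHom.ext fun x => Additive.toMul.injective (by
        show (MulAut.conjNormal (g * h) : MulAut M) x.toMul = MulAut.conjNormal g (MulAut.conjNormal h x.toMul)
        rw [map_mul]; rfl) }
  have hcj : ∀ (g : G) (x : Additive M), (((cj g x).toMul : M) : G) = g * ((x.toMul : M) : G) * g⁻¹ := fun g x =>
    MulAut.conjNormal_apply g x.toMul
  have hbij := regular S hM hM1
  let pt : Additive M ≃ α := Additive.toMul.trans (Equiv.ofBijective _ hbij)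
  have hpt : ∀ x : Additive M, pt x = ((x.toMul : M) : G) • S.a := fun _ => rfl
  have hptA : ∀ (g : G), g • S.a = S.a → ∀ x, pt (cj g x) = g • pt x := fun g hg x => by
    rw [hpt, hpt, hcj, conj_smul_a S hg]
  have hpt0 : pt 0 = S.a := (hpt 0).trans (one_smul G S.a)
  -- the field
  set T := cj S.u with hT
  set R := Subring.closure ({T} : Set (AddMonoid.End (Additive M))) with hR
  have hTR : T ∈ R := Subring.subset_closure (Set.mem_singleton T)
  have hRc : ∀ r ∈ R, ∀ r' ∈ R, r * r' = r' * r := by
    have h1 : R ≤ Subring.centralizer ({T} : Set (AddMonoid.End (Additive M))) := Subring.closure_le.mpr (by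
      rintro x (rfl : x = T)
      rw [SetLike.mem_coe, Subring.mem_centralizer_iff]
      rintro y (rfl : y = T)
      rfl)
    intro r hr r' hr'
    have h2 : R ≤ Subring.centralizer ({r} : Set (AddMonoid.End (Additive M))) := Subring.closure_le.mpr (by
      rintro x (rfl : x = T)
      rw [SetLike.mem_coe, Subring.mem_centralizer_iff]
      rintro y (rfl : y = r)
      exact (Subring.mem_centralizer_iff.mp (h1 hr) T rfl).symm)
    exact (Subring.mem_centralizer_iff.mp (h2 hr') r rfl)
  have hTi : ∀ v : Additive M, v ≠ 0 → ∀ w : Additive M, w ≠ 0 → ∃ i : ℕ, (T ^ i) v = w := by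
    intro v hv w hw
    have hne : ∀ z : Additive M, z ≠ 0 → pt z ≠ S.a := fun z hz e => hz (pt.injective (e.trans hpt0.symm))
    obtain ⟨i, hi⟩ := exists_pow S (hne v hv) (hne w hw)
    refine ⟨i, pt.injective ?_⟩
    rw [hT, ← map_pow, hptA _ (pow_fix S i), hi]
  have hker : ∀ r ∈ R, ∀ v : Additive M, v ≠ 0 → r v = 0 → r = 0 := by
    intro r hr v hv h
    refine AddMonoidHom.ext fun w => ?_
    rcases eq_or_ne w 0 with rfl | hw
    · exact map_zero r
    obtain ⟨i, rfl⟩ := hTi v hv w hw
    show (r * T ^ i) v = 0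
    rw [hRc r hr _ (pow_mem hTR i)]
    show (T ^ i) (r v) = 0
    rw [h, map_zero]
  obtain ⟨b, hb⟩ := exists_other S
  set v0 := pt.symm b with hv0
  have hv0ne : v0 ≠ 0 := fun h => hb (by rw [← pt.apply_symm_apply b, ← hv0, h, hpt0])
  let ev : R → Additive M := fun r => (r : AddMonoid.End (Additive M)) v0
  have hev : Function.Bijective ev := by
    refine ⟨fun r r' h => ?_, fun w => ?_⟩
    · have := hker _ (r - r').2 v0 hv0ne (by
        show ((r : AddMonoid.End (Additive M)) - r') v0 = 0
        exact sub_eq_zero.mpr h)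
      exact sub_eq_zero.mp (Subtype.ext this)
    · rcases eq_or_ne w 0 with rfl | hw
      · exact ⟨0, rfl⟩
      · obtain ⟨i, hi⟩ := hTi v0 hv0ne w hw
        exact ⟨⟨T ^ i, pow_mem hTR i⟩, hi⟩
  have hMcard : Nat.card M = 2 ^ q := by
    rw [← hpq, Nat.card_congr (Equiv.ofBijective _ hbij), Nat.card_eq_fintype_card, S.hα]
  haveI : Finite R := Finite.of_equiv _ (Equiv.ofBijective ev hev).symm
  haveI : Nontrivial R := (Equiv.ofBijective ev hev).nontrivial_congr.mpr
    ⟨⟨v0, 0, hv0ne⟩⟩
  letI : CommRing R := { (inferInstance : Ring R) with mul_comm := fun a b => Subtype.ext (hRc a a.2 b b.2) }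
  haveI : IsDomain R := by
    haveI : NoZeroDivisors R := ⟨fun {r r'} h => by
      by_contra hne
      push Not at hne
      have hv : (r' : AddMonoid.End (Additive M)) v0 ≠ 0 := fun e => hne.2 (Subtype.ext (hker _ r'.2 v0 hv0ne e))
      refine hne.1 (Subtype.ext (hker _ r.2 _ hv ?_))
      exact congrArg (fun s : R => (s : AddMonoid.End (Additive M)) v0) h⟩
    exact NoZeroDivisors.to_isDomain R
  letI : Field R := (Finite.isField_of_domain R).toField
  letI : Fintype R := Fintype.ofFinite R
  letI : Fintype (GaloisField 2 q) := Fintype.ofFinite _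
  have hcardR : Fintype.card R = Fintype.card (GaloisField 2 q) := by
    rw [← Nat.card_eq_fintype_card, ← Nat.card_eq_fintype_card, GaloisField.card 2 q hq.ne_zero,
      Nat.card_congr (Equiv.ofBijective ev hev), Nat.card_congr Additive.toMul, hMcard]
  let eF : R ≃+* GaloisField 2 q := FiniteField.ringEquivOfCardEq hcardR
  let coord : GaloisField 2 q ≃ α := (eF.symm.toEquiv.trans (Equiv.ofBijective ev hev)).trans pt
  have hcoord : ∀ x, coord x = pt ((eF.symm x : AddMonoid.End (Additive M)) v0) := fun _ => rfl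
  -- the induced field automorphisms
  have haut : ∀ h : G, h • S.a = S.a → ∃ φ : R ≃+* R, ∀ (r : R) (v : Additive M),
      ((φ r : R) : AddMonoid.End (Additive M)) (cj h v) = cj h ((r : AddMonoid.End (Additive M)) v) := by
    intro h hh
    have hinv : cj h⁻¹ * cj h = 1 := by rw [← map_mul, inv_mul_cancel, map_one]
    have hinv' : cj h * cj h⁻¹ = 1 := by rw [← map_mul, mul_inv_cancel, map_one]
    have hmem : ∀ r ∈ R, cj h * r * cj h⁻¹ ∈ R := by
      intro r hr
      induction hr using Subring.closure_induction with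
      | mem x hx =>
        rw [Set.mem_singleton_iff] at hx
        rw [hx, hT, ← map_mul, ← map_mul]
        obtain ⟨s, hs⟩ := mem_powers_iff_mem_zpowers.mpr (conj_mem S hh)
        have hs' : S.u ^ s = h * S.u * h⁻¹ := hs
        rw [← hs', map_pow]
        exact pow_mem hTR s
      | zero => rw [mul_zero, zero_mul]; exact zero_mem R
      | one => rw [mul_one, hinv']; exact one_mem R
      | add x y _ _ hx hy => rw [mul_add, add_mul]; exact add_mem hx hy
      | neg x _ hx =>
        have e : cj h * -x * cj h⁻¹ = -(cj h * x * cj h⁻¹) := AddMonoidHom.ext fun v => map_neg (cj h) _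
        rw [e]; exact neg_mem hx
      | mul x y _ _ hx hy =>
        rw [show cj h * (x * y) * cj h⁻¹ = (cj h * x * cj h⁻¹) * (cj h * y * cj h⁻¹) by
          simp only [mul_assoc]; rw [← mul_assoc (cj h⁻¹) (cj h), hinv, one_mul]]
        exact mul_mem hx hy
    let φ : R →+* R :=
      { toFun := fun r => ⟨cj h * r * cj h⁻¹, hmem r r.2⟩
        map_one' := Subtype.ext (by show cj h * 1 * cj h⁻¹ = 1; rw [mul_one, hinv'])
        map_mul' := fun x y => Subtype.ext (by
          show cj h * ((x : AddMonoid.End (Additive M)) * y) * cj h⁻¹ = (cj h * x * cj h⁻¹) * (cj h * y * cj h⁻¹)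
          simp only [mul_assoc]; rw [← mul_assoc (cj h⁻¹) (cj h), hinv, one_mul])
        map_zero' := Subtype.ext (by show cj h * 0 * cj h⁻¹ = 0; rw [mul_zero, zero_mul])
        map_add' := fun x y => Subtype.ext (by
          show cj h * ((x : AddMonoid.End (Additive M)) + y) * cj h⁻¹ = _
          rw [mul_add, add_mul]; rfl) }
    refine ⟨RingEquiv.ofBijective φ (Finite.injective_iff_bijective.mp φ.injective), fun r v => ?_⟩
    show (cj h * r * cj h⁻¹ * cj h) v = (cj h * r) v
    rw [mul_assoc, hinv, mul_one]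
  refine ⟨?_, coord.symm, fun g => ?_⟩
  · -- the two-point stabilizer acts faithfully on the field
    have hfix : ∀ h : D S b, cj (h : G) v0 = v0 := fun h => pt.injective (by
      rw [hptA _ h.2.1, hv0, Equiv.apply_symm_apply]; exact h.2.2)
    have hφ : ∀ h : D S b, ∀ (r : R), ((haut (h : G) h.2.1).choose r : AddMonoid.End (Additive M)) v0 =
        cj (h : G) ((r : AddMonoid.End (Additive M)) v0) := fun h r => by
      conv_lhs => rw [← hfix h]
      exact (haut (h : G) h.2.1).choose_spec r v0
    let ψ : D S b →* RingAut R :=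
      { toFun := fun h => (haut (h : G) h.2.1).choose
        map_one' := RingEquiv.ext fun r => hev.1 (by
          show _ = (r : AddMonoid.End (Additive M)) v0
          show ((haut ((1 : D S b) : G) (1 : D S b).2.1).choose r : AddMonoid.End (Additive M)) v0 = _
          rw [hφ, OneMemClass.coe_one, map_one]; rfl)
        map_mul' := fun h h' => RingEquiv.ext fun r => hev.1 (by
          show ((haut ((h * h' : D S b) : G) (h * h').2.1).choose r : AddMonoid.End (Additive M)) v0 =
            ((haut (h : G) h.2.1).choose ((haut (h' : G) h'.2.1).choose r) : AddMonoid.End (Additive M)) v0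
          rw [hφ, hφ, hφ, Subgroup.coe_mul, map_mul]; rfl) }
    have hψ : Function.Injective ψ := (injective_iff_map_eq_one ψ).mpr fun h hh => by
      refine Subtype.ext (Subtype.ext (Equiv.ext fun z => ?_))
      show (h : G) • z = z
      obtain ⟨w, rfl⟩ := pt.surjective z
      obtain ⟨r, rfl⟩ := hev.2 w
      rw [← hptA _ h.2.1]
      refine congrArg pt ?_
      show cj (h : G) ((r : AddMonoid.End (Additive M)) v0) = _
      rw [← hφ, show (haut (h : G) h.2.1).choose = ψ h from rfl, hh]
      rfl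
    let conjAut : RingAut R →* RingAut (GaloisField 2 q) :=
      { toFun := fun φ => (eF.symm.trans φ).trans eF
        map_one' := RingEquiv.ext fun x => eF.apply_symm_apply x
        map_mul' := fun φ φ' => RingEquiv.ext fun x => by
          show eF (φ (φ' (eF.symm x))) = eF (φ (eF.symm (eF (φ' (eF.symm x)))))
          rw [RingEquiv.symm_apply_apply] }
    let toAlg : RingAut (GaloisField 2 q) →* (GaloisField 2 q ≃ₐ[ZMod 2] GaloisField 2 q) :=
      { toFun := fun φ => AlgEquiv.ofRingEquiv (f := φ) (fun x => DFunLike.congr_fun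
          (RingHom.ext_zmod (φ.toRingHom.comp (algebraMap (ZMod 2) (GaloisField 2 q))) (algebraMap (ZMod 2) (GaloisField 2 q))) x)
        map_one' := AlgEquiv.ext fun _ => rfl
        map_mul' := fun _ _ => AlgEquiv.ext fun _ => rfl }
    have hinj : Function.Injective ((toAlg.comp conjAut).comp ψ) := by
      intro h h' e
      refine hψ (RingEquiv.ext fun r => eF.injective ?_)
      have := DFunLike.congr_fun e (eF r)
      change eF (ψ h (eF.symm (eF r))) = eF (ψ h' (eF.symm (eF r))) at this
      rwa [RingEquiv.symm_apply_apply] at this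
    have hdd := Subgroup.card_dvd_of_injective _ hinj
    rw [card_D S hb, IsGalois.card_aut_eq_finrank, GaloisField.finrank 2 hq.ne_zero] at hdd
    exact (Nat.dvd_prime hq).mp hdd
  · obtain ⟨m, hm⟩ := hbij.2 (g • S.a)
    change (m : G) • S.a = g • S.a at hm
    set h := (m : G)⁻¹ * g with hh
    have hha : h • S.a = S.a := by rw [hh, mul_smul, ← hm, inv_smul_smul]
    obtain ⟨φ, hφ⟩ := haut h hha
    obtain ⟨ar, har⟩ := hev.2 (cj h v0)
    obtain ⟨br, hbr⟩ := hev.2 (Additive.ofMul m)
    have ha0 : ar ≠ 0 := fun e => by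
      rw [e] at har
      have hinv : cj h⁻¹ * cj h = 1 := by rw [← map_mul, inv_mul_cancel, map_one]
      have h0 : cj h⁻¹ (cj h v0) = v0 := DFunLike.congr_fun hinv v0
      rw [← har] at h0
      exact hv0ne (h0.symm.trans (map_zero _))
    refine ⟨Units.mk0 (eF ar) ((map_ne_zero_iff _ eF.injective).mpr ha0), eF br, (eF.symm.trans φ).trans eF, fun x => ?_⟩
    show coord.symm ((g : G) • coord x) = eF ar * eF (φ (eF.symm x)) + eF br
    rw [Equiv.symm_apply_eq, hcoord, hcoord, ← map_mul, ← map_add, RingEquiv.symm_apply_apply]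
    set w := ((eF.symm x : R) : AddMonoid.End (Additive M)) v0
    have hg : g • pt w = pt (cj h w + Additive.ofMul m) := by
      rw [hpt, hpt, toMul_add, toMul_ofMul, mul_comm, Subgroup.coe_mul, mul_smul,
        hcj, conj_smul_a S hha, ← mul_smul (m : G) h, hh, mul_inv_cancel_left]
    rw [hg]
    refine congrArg pt ?_
    show cj h w + Additive.ofMul m = ((ar * φ (eF.symm x) : R) : AddMonoid.End (Additive M)) v0 +
      ((br : R) : AddMonoid.End (Additive M)) v0
    refine congrArg₂ (· + ·) ?_ hbr.symm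
    rw [← hφ (eF.symm x) v0, ← har, mul_comm ar]
    rfl

end CfsgLib.DegreePrimeSucc
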