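import Cfsg.Agent.Lib.Perm.DegreePrimeSuccAffine
import Cfsg.Agent.Lib.Classical.SmallExceptional
import Cfsg.Agent.Lib.Classical.PSLSmall
import Cfsg.Agent.Lib.Classical.Transvection
import Cfsg.Agent.S0494

/-!
# The classification of transitive groups of degree `p + 1` and order `(p + 1) p d`, `d < p`
-/

set_option autoImplicit false
set_option linter.style.haveILetI false
set_option linter.unusedSectionVars false

open scoped Classical

namespace CfsgLib.DegreePrimeSucc

open MulAction Matrix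

universe u

theorem two_ne_zero_zmod_five : (2 : ZMod 5) ≠ 0 := by decide +kernel

theorem four_ne_one_zmod_five : (2 : ZMod 5) ^ 2 ≠ 1 := by decide +kernel

variable {α : Type u} [Fintype α] [DecidableEq α] {G : Subgroup (Equiv.Perm α)} {p d : ℕ}
variable (S : Setting G p d)
include S

theorem pgl_of_max (hd : d = p - 1) : Nonempty (G ≃* Matrix.ProjGenLinGroup (Fin 2) (ZMod p)) := by
  haveI := Fact.mk S.hp
  have hn : 3 ≤ Fintype.card α := by have := two_le S; have := S.hα; omega
  have hsharp : ∀ x : Fin 3 ↪ α, stabilizer G x = ⊥ := fun x => by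
    rw [eq_bot_iff]
    intro g hg
    have hfix : ∀ i, g • x i = x i := fun i => DFunLike.congr_fun (show g • x = x from hg) i
    exact Subgroup.mem_bot.mpr (free S (x.injective.ne (show (0 : Fin 3) ≠ 1 by decide))
      (x.injective.ne (show (1 : Fin 3) ≠ 2 by decide)) (x.injective.ne (show (0 : Fin 3) ≠ 2 by decide))
      (hfix 0) (hfix 1) (hfix 2))
  have h3 : IsMultiplyPretransitive G α 3 := by
    obtain ⟨t⟩ : Nonempty (Fin 3 ↪ α) := Function.Embedding.nonempty_of_card_le (by simpa using hn)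
    have hinj : Function.Injective fun g : G => g • t := fun g h e => by
      have : h⁻¹ * g ∈ stabilizer G t := by
        rw [mem_stabilizer_iff, mul_smul, inv_smul_eq_iff]; exact e
      rw [hsharp t, Subgroup.mem_bot, inv_mul_eq_one] at this
      exact this.symm
    have hbij := (Nat.bijective_iff_injective_and_card (fun g : G => g • t)).mpr ⟨hinj, by
      rw [S.hcard, Nat.card_eq_fintype_card, Fintype.card_embedding_eq, S.hα, Fintype.card_fin, hd]
      show _ = (p + 1).descFactorial 3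
      simp only [Nat.descFactorial_succ, Nat.descFactorial_zero, mul_one]
      rw [show p + 1 - 2 = p - 1 by omega, show p + 1 - 1 = p by omega, Nat.sub_zero]
      ring⟩
    refine ⟨fun x y => ?_⟩
    obtain ⟨g, rfl⟩ := hbij.2 x
    obtain ⟨h, rfl⟩ := hbij.2 y
    exact ⟨h * g⁻¹, (smul_smul _ _ _).trans (congrArg (· • t) (inv_mul_cancel_right h g))⟩
  obtain ⟨b, hb⟩ := exists_other S
  obtain ⟨c, hca, hcb⟩ : ∃ c : α, c ≠ S.a ∧ c ≠ b := by
    obtain ⟨c, hc⟩ : ∃ c, c ∈ (Finset.univ.erase S.a).erase b := Finset.card_pos.mp (by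
      rw [Finset.card_erase_of_mem (by simp [hb]), Finset.card_erase_of_mem (Finset.mem_univ _), Finset.card_univ]
      omega)
    simp only [Finset.mem_erase, Finset.mem_univ, and_true, ne_eq] at hc
    exact ⟨c, hc.2, hc.1⟩
  obtain ⟨F, iF, fF, hcard, ⟨e⟩⟩ := Cfsg.Agent.Lib.Perm.SharplyThree.exists_pgl h3 hsharp hn hb.symm hca.symm hcb.symm
    (fun g h hga hgb hha hhb => congrArg Subtype.val (D_comm S hb ⟨g, hga, hgb⟩ ⟨h, hha, hhb⟩))
  have hcF : Fintype.card F = Fintype.card (ZMod p) := by rw [ZMod.card]; have := S.hα; omega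
  let φ : F ≃+* ZMod p := FiniteField.ringEquivOfCardEq hcF
  refine ⟨e.trans (MonoidHom.toMulEquiv (ProjGenLinGroup.map φ.toRingHom) (ProjGenLinGroup.map φ.symm.toRingHom) ?_ ?_)⟩
  · rw [← ProjGenLinGroup.map_comp, show φ.symm.toRingHom.comp φ.toRingHom = RingHom.id F from
      RingHom.ext fun x => φ.symm_apply_apply x, ProjGenLinGroup.map_id]
  · rw [← ProjGenLinGroup.map_comp, show φ.toRingHom.comp φ.symm.toRingHom = RingHom.id (ZMod p) from
      RingHom.ext fun x => φ.apply_symm_apply x, ProjGenLinGroup.map_id]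

theorem small_concl (hd : d ≠ p - 1) (hcore : Cfsg.pPrimeCore p G = ⊥) :
    2 * d = p - 1 ∧ Nonempty (G ≃* ProjectiveSpecialLinearGroup (Fin 2) (ZMod p)) := by
  haveI := Fact.mk S.hp
  have hp2 := two_le S
  obtain ⟨k, hk⟩ := d_dvd S
  have hd0 := d_pos S
  have hk2 : 2 ≤ k := by
    rcases Nat.lt_or_ge k 2 with h | h
    · interval_cases k <;> omega
    · exact h
  have hdle : 2 * d ≤ p - 1 := by rw [hk, mul_comm 2 d]; exact Nat.mul_le_mul_left d hk2
  have hbig : Nat.card G < p ^ 3 := by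
    rw [S.hcard]
    calc (p + 1) * p * d = p * ((p + 1) * d) := by ring
      _ < p * (p * p) := by
        refine Nat.mul_lt_mul_of_pos_left ?_ S.hp.pos
        have h1 : d + 1 ≤ p := S.hd
        have h2 : p * (d + 1) ≤ p * p := Nat.mul_le_mul_left p h1
        rw [mul_add, mul_one] at h2
        rw [add_mul, one_mul]
        omega
      _ = p ^ 3 := by ring
  have hdvd : p ∣ Nat.card G := by rw [S.hcard]; exact Dvd.intro ((p + 1) * d) (by ring)
  obtain ⟨P⟩ : Nonempty (Sylow p G) := inferInstance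
  have hn : ¬ (P : Subgroup G).Normal := by
    intro hn
    haveI := S.htrans
    have hpp : IsPGroup p (Subgroup.zpowers S.u) := IsPGroup.of_card (n := 1) (by rw [Nat.card_zpowers, S.hu, pow_one])
    haveI := hn
    obtain ⟨Q, hQ⟩ := hpp.exists_le_sylow
    obtain ⟨g, hg⟩ := exists_smul_eq G P Q
    rw [Sylow.smul_eq_of_normal] at hg
    subst hg
    obtain ⟨b, hb⟩ := exists_other S
    obtain ⟨g, hg⟩ := exists_smul_eq G b S.a
    have hPcard : Nat.card (P : Subgroup G) = p := by
      obtain ⟨j, hj⟩ := P.2.exists_card_eq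
      have hd1 : p ^ j ∣ (p + 1) * d * p := by
        rw [← hj, show (p + 1) * d * p = Nat.card G by rw [S.hcard]; ring]
        exact Subgroup.card_subgroup_dvd_card _
      rcases Nat.lt_or_ge j 2 with h | h
      · interval_cases j
        · have := Subgroup.card_le_of_le hQ
          rw [hj, Nat.card_zpowers, S.hu, pow_zero] at this
          omega
        · rw [hj, pow_one]
      · exfalso
        have h2 : p ^ 2 ∣ (p + 1) * d * p := (pow_dvd_pow p h).trans hd1
        rw [pow_two] at h2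
        have h3 := Nat.dvd_of_mul_dvd_mul_right S.hp.pos h2
        rcases S.hp.dvd_mul.mp h3 with h4 | h4
        · have := (Nat.dvd_add_right dvd_rfl).mp h4
          exact S.hp.not_dvd_one this
        · exact absurd (Nat.le_of_dvd hd0 h4) (not_le.mpr S.hd)
    have hPu : (P : Subgroup G) = Subgroup.zpowers S.u :=
      (Subgroup.eq_of_le_of_card_ge hQ (by rw [hPcard, Nat.card_zpowers, S.hu])).symm
    have hm : g * S.u * g⁻¹ ∈ Subgroup.zpowers S.u := hPu ▸ hn.conj_mem _ (hQ (Subgroup.mem_zpowers _)) g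
    obtain ⟨i, hi⟩ := mem_powers_iff_mem_zpowers.mpr hm
    have hi' : S.u ^ i = g * S.u * g⁻¹ := hi
    have h1 : S.u ^ i • S.a = S.a := pow_fix S i
    rw [hi', mul_smul, mul_smul, inv_smul_eq_iff.mpr hg.symm, ← hg, smul_left_cancel_iff] at h1
    exact u_move S hb h1
  rcases BrauerReynolds.structure_small hbig hdvd P hn with ⟨L, hL, hc⟩ | hnorm
  swap
  · rw [hcore, sup_bot_eq] at hnorm
    exact absurd hnorm hn
  have hp5 := BrauerReynolds.prime_ge_five_of_concl hc
  let eM : (G ⧸ Cfsg.pPrimeCore p G) ≃* G := (QuotientGroup.quotientMulEquivOfEq hcore).trans QuotientGroup.quotientBot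
  have hmul : Nat.card L * L.index = (p + 1) * p * d := by
    rw [L.card_mul_index, Nat.card_congr eM.toEquiv, S.hcard]
  have top_iso : L.index = 1 → Nonempty (G ≃* L) := fun h =>
    ⟨eM.symm.trans (Subgroup.topEquiv.symm.trans (MulEquiv.subgroupCongr (Subgroup.index_eq_one.mp h).symm))⟩
  obtain ⟨t, ht⟩ : ∃ t, p = t + 1 := ⟨p - 1, by omega⟩
  rcases hc with ⟨F, iF, fF, hF, -, ⟨φ⟩⟩ | ⟨m, F, iF, fF, hF, hpm, -, ⟨φ⟩⟩
  · have hcard := Classical.card_PSL_two (F := F)
    rw [← Nat.card_congr φ.toEquiv, hF, Nat.gcd_eq_left (show 2 ∣ p - 1 by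
      have := S.hp.odd_of_ne_two (by omega)
      obtain ⟨j, hj⟩ := this
      omega)] at hcard
    have h1 : 2 * d = L.index * (p - 1) := by
      have e : p ^ 2 - 1 = (p + 1) * (p - 1) := by
        rw [ht, Nat.add_sub_cancel, show (t + 1) ^ 2 = (t + 1 + 1) * t + 1 by ring, Nat.add_sub_cancel]
      have h2 : (p + 1) * p * (2 * d) = (p + 1) * p * (L.index * (p - 1)) := by
        calc (p + 1) * p * (2 * d) = 2 * ((p + 1) * p * d) := by ring
          _ = 2 * (Nat.card L * L.index) := by rw [hmul]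
          _ = (2 * Nat.card L) * L.index := by ring
          _ = p * (p ^ 2 - 1) * L.index := by rw [hcard]
          _ = (p + 1) * p * (L.index * (p - 1)) := by rw [e]; ring
      exact Nat.eq_of_mul_eq_mul_left (by positivity) h2
    have hi : L.index = 1 := by
      have h0 : L.index ≠ 0 := Subgroup.index_ne_zero_of_finite
      by_contra h
      have h2 : 2 * (p - 1) ≤ L.index * (p - 1) := Nat.mul_le_mul_right _ (by omega)
      omega
    rw [hi, one_mul] at h1
    obtain ⟨eL⟩ := top_iso hi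
    obtain ⟨eF⟩ := Classical.SmallExceptional.psl_map (n := 2) (FiniteField.ringEquivOfCardEq (K := F) (K' := ZMod p) (by rw [hF, ZMod.card]))
    exact ⟨h1, ⟨(eL.trans φ).trans eF⟩⟩
  · have hcard := Classical.card_PSL_two (F := F)
    rw [← Nat.card_congr φ.toEquiv, hF] at hcard
    set q := 2 ^ m with hq
    have hm : 2 ≤ m := by
      rcases Nat.lt_or_ge m 2 with h | h
      · interval_cases m <;> simp at hq <;> omega
      · exact h
    rw [Nat.coprime_iff_gcd_eq_one.mp ((Nat.prime_two.coprime_iff_not_dvd).mpr (by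
      have : 2 ∣ q := dvd_pow_self 2 (by omega)
      omega : ¬ 2 ∣ q - 1)), one_mul] at hcard
    obtain ⟨s, hs⟩ : ∃ s, q = s + 1 := ⟨q - 1, by omega⟩
    have e : q ^ 2 - 1 = (q + 1) * s := by
      rw [hs, show (s + 1) ^ 2 = (s + 1 + 1) * s + 1 by ring, Nat.add_sub_cancel]
    have h2 : q * s * L.index = (q + 2) * d := by
      refine Nat.eq_of_mul_eq_mul_left (show 0 < p by omega) ?_
      calc p * (q * s * L.index) = (q + 1) * (q * s * L.index) := congrArg (· * (q * s * L.index)) hpm
        _ = q * (q ^ 2 - 1) * L.index := by rw [e]; ring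
        _ = (p + 1) * p * d := by rw [← hcard, hmul]
        _ = p * ((p + 1) * d) := by ring
        _ = p * ((q + 2) * d) := congrArg (fun x => p * (x * d)) (by omega)
    have hsd : Nat.Coprime s d := by
      have h1 : d ∣ 2 ^ m := by rw [← hq]; exact Dvd.intro k (by omega)
      obtain ⟨j, -, rfl⟩ := (Nat.dvd_prime_pow Nat.prime_two).mp h1
      exact Nat.Coprime.pow_right j ((Nat.prime_two.coprime_iff_not_dvd.mpr (by
        have : 2 ∣ q := dvd_pow_self 2 (by omega)
        omega)).symm)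
    have hs3 : s ∣ 3 := by
      have h3 : s ∣ q + 2 := hsd.dvd_of_dvd_mul_right ⟨q * L.index, by rw [← h2]; ring⟩
      rw [show q + 2 = s + 3 by omega] at h3
      exact (Nat.dvd_add_right dvd_rfl).mp h3
    have hq4 : 4 ≤ q := by rw [hq]; exact le_trans (by norm_num) (Nat.pow_le_pow_right two_pos hm)
    have hqe : q = 4 := by
      have := Nat.le_of_dvd (by norm_num) hs3
      omega
    have hs' : s = 3 := by omega
    rw [hqe, hs'] at h2
    have hd2 : d = 2 := by omega
    have hi : L.index = 1 := by omega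
    refine ⟨by omega, ?_⟩
    obtain ⟨eL⟩ := top_iso hi
    have hp5' : p = 5 := by omega
    subst hp5'
    have hA : Nat.card (ProjectiveSpecialLinearGroup (Fin 2) F) = 60 := by
      rw [← Nat.card_congr φ.toEquiv, hcard, hqe]; norm_num
    obtain ⟨e1⟩ := Classical.PSL_two_equiv_alternating (F := F) (n := 5) (by rw [hF, hqe]) (by rw [hA]; rfl)
    haveI : IsSimpleGroup (ProjectiveSpecialLinearGroup (Fin 2) (ZMod 5)) :=
      Classical.isSimpleGroup_PSL (Or.inr ⟨2, two_ne_zero_zmod_five, four_ne_one_zmod_five⟩)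
    obtain ⟨e2⟩ := Cfsg.Agent.S0494.result (G := ProjectiveSpecialLinearGroup (Fin 2) (ZMod 5)) (by
      have h := Classical.card_PSL_two (F := ZMod 5)
      rw [ZMod.card] at h
      rw [show Nat.gcd 2 (5 - 1) = 2 from rfl] at h
      norm_num at h
      rw [Nat.card_eq_fintype_card]
      omega)
    exact ⟨((eL.trans φ).trans e1).trans e2.symm⟩

theorem main :
    (d = p - 1 ∧ Nonempty (G ≃* Matrix.ProjGenLinGroup (Fin 2) (ZMod p))) ∨
      (2 * d = p - 1 ∧ Nonempty (G ≃* Matrix.ProjectiveSpecialLinearGroup (Fin 2) (ZMod p))) ∨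
      (∃ q : ℕ, q.Prime ∧ p + 1 = 2 ^ q ∧ (d = 1 ∨ d = q) ∧ ∃ e : α ≃ GaloisField 2 q,
        ∀ g : G, (e.symm.trans (((g : Equiv.Perm α)).trans e)) ∈ Cfsg.semiaffineGroup (GaloisField 2 q)) := by
  haveI := Fact.mk S.hp
  by_cases hd : d = p - 1
  · exact Or.inl ⟨hd, pgl_of_max S hd⟩
  refine Or.inr ?_
  by_cases hcore : Cfsg.pPrimeCore p G = ⊥
  · exact Or.inl (small_concl S hd hcore)
  · haveI := Transfer.pPrimeCore_normal p G
    have hp2 : p ≠ 2 := fun h => hd (by have := d_pos S; have := S.hd; omega)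
    obtain ⟨q, hq, h1, h2, h3⟩ := affine S (M := Cfsg.pPrimeCore p G) (Transfer.pPrimeCore_coprime p) hcore hp2
    exact Or.inr ⟨q, hq.out, h1, h2, h3⟩

end CfsgLib.DegreePrimeSucc
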