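/-
The subgroup generated by the derangements, and subgroups of index equal to the degree of a
2-transitive group.
-/
import Mathlib
import Cfsg.Agent.Lib.Perm.Derangement
import Cfsg.Agent.Lib.Perm.SharplyTwo

set_option autoImplicit false
set_option linter.style.haveILetI false

open MulAction

namespace CfsgLib.DerangementSubgroup

variable (G Ω : Type*) [Group G] [MulAction G Ω]

/-- The subgroup generated by the fixed-point-free elements. -/
abbrev derSub : Subgroup G := Subgroup.closure {g : G | ∀ ω : Ω, g • ω ≠ ω}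

theorem derSub_normal : (derSub G Ω).Normal := by
  constructor
  intro x hx g
  have hle : derSub G Ω ≤ (derSub G Ω).comap (MulAut.conj g).toMonoidHom := by
    rw [Subgroup.closure_le]
    intro z hz
    refine Subgroup.subset_closure fun ω hω => hz (g⁻¹ • ω) ?_
    rw [MulEquiv.toMonoidHom_eq_coe, MonoidHom.coe_coe, MulAut.conj_apply, mul_smul, mul_smul] at hω
    exact eq_inv_smul_iff.mpr hω
  simpa using hle hx

variable {G Ω} [Finite G] [Finite Ω]

theorem transitive [IsPretransitive G Ω] [Nonempty Ω] : IsPretransitive (derSub G Ω) Ω := by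
  classical
  haveI := Fintype.ofFinite G
  set D := derSub G Ω
  have hG := CfsgLib.Perm.sum_natCard_fixedBy_of_transitive (G := G) (Ω := Ω)
  have hD : ∑ g : D, Nat.card (fixedBy Ω g) = Nat.card (orbitRel.Quotient D Ω) * Nat.card D :=
    CfsgLib.Perm.sum_natCard_fixedBy
  have hout : ∀ g : G, g ∉ D → 1 ≤ Nat.card (fixedBy Ω g) := by
    intro g hg
    have : ¬ ∀ ω : Ω, g • ω ≠ ω := fun h => hg (Subgroup.subset_closure h)
    push Not at this
    obtain ⟨ω, hω⟩ := this
    haveI : Nonempty (fixedBy Ω g) := ⟨⟨ω, hω⟩⟩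
    exact Nat.one_le_iff_ne_zero.mpr Nat.card_pos.ne'
  rw [← Finset.sum_add_sum_compl (Finset.univ.filter fun g => g ∈ D)] at hG
  have h1 : ∑ g ∈ Finset.univ.filter (fun g => g ∈ D), Nat.card (fixedBy Ω g) =
      ∑ g : D, Nat.card (fixedBy Ω g) := by
    rw [Finset.sum_subtype (p := fun g => g ∈ D) _ (by simp)]
    rfl
  have h2 : (Finset.univ.filter fun g => g ∈ D)ᶜ.card ≤
      ∑ g ∈ (Finset.univ.filter fun g => g ∈ D)ᶜ, Nat.card (fixedBy Ω g) := by
    rw [Finset.card_eq_sum_ones]
    exact Finset.sum_le_sum fun g hg => hout g (by simpa using hg)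
  have h3 : (Finset.univ.filter fun g => g ∈ D).card = Nat.card D := by
    rw [Nat.card_eq_fintype_card, Fintype.card_subtype]
  rw [h1, hD] at hG
  rw [Finset.card_compl, h3, ← Nat.card_eq_fintype_card] at h2
  have hle : Nat.card D ≤ Nat.card G := Nat.le_of_dvd Nat.card_pos D.card_subgroup_dvd_card
  have hone : Nat.card (orbitRel.Quotient D Ω) ≤ 1 := by
    by_contra h
    have : 2 * Nat.card D ≤ Nat.card (orbitRel.Quotient D Ω) * Nat.card D :=
      Nat.mul_le_mul_right _ (by omega)
    have := Nat.card_pos (α := D)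
    omega
  rw [pretransitive_iff_subsingleton_quotient]
  exact Finite.card_le_one_iff_subsingleton.mp hone

theorem natCard_fixedBy_eq_one [IsPretransitive G Ω] [Nonempty Ω] {h : G}
    (hh : h ∉ derSub G Ω) : Nat.card (fixedBy Ω h) = 1 := by
  classical
  haveI := transitive (G := G) (Ω := Ω)
  obtain ⟨a⟩ := ‹Nonempty Ω›
  set D := derSub G Ω
  haveI := Fintype.ofFinite G
  have hG := CfsgLib.Perm.sum_natCard_fixedBy_of_transitive (G := G) (Ω := Ω)
  have hD : ∑ g : D, Nat.card (fixedBy Ω g) = Nat.card D := by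
    rw [CfsgLib.Perm.sum_natCard_fixedBy]
    haveI : Subsingleton (orbitRel.Quotient D Ω) :=
      (pretransitive_iff_subsingleton_quotient D Ω).mp inferInstance
    haveI : Nonempty (orbitRel.Quotient D Ω) := ⟨Quotient.mk'' a⟩
    rw [Nat.card_of_subsingleton (Classical.arbitrary _), one_mul]
  rw [← Finset.sum_add_sum_compl (Finset.univ.filter fun g => g ∈ D)] at hG
  have h1 : ∑ g ∈ Finset.univ.filter (fun g => g ∈ D), Nat.card (fixedBy Ω g) =
      ∑ g : D, Nat.card (fixedBy Ω g) := by
    rw [Finset.sum_subtype (p := fun g => g ∈ D) _ (by simp)]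
    rfl
  rw [h1, hD] at hG
  have h3 : (Finset.univ.filter fun g => g ∈ D).card = Nat.card D := by
    rw [Nat.card_eq_fintype_card, Fintype.card_subtype]
  have hout : ∀ x ∈ (Finset.univ.filter fun g => g ∈ D)ᶜ, 1 ≤ Nat.card (fixedBy Ω x) := by
    intro x hx
    have hxD : x ∉ D := by simpa using hx
    have : ¬ ∀ ω : Ω, x • ω ≠ ω := fun h => hxD (Subgroup.subset_closure h)
    push Not at this
    obtain ⟨ω, hω⟩ := this
    haveI : Nonempty (fixedBy Ω x) := ⟨⟨ω, hω⟩⟩
    exact Nat.one_le_iff_ne_zero.mpr Nat.card_pos.ne'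
  have h4 : ∑ x ∈ (Finset.univ.filter fun g => g ∈ D)ᶜ, 1 =
      ∑ x ∈ (Finset.univ.filter fun g => g ∈ D)ᶜ, Nat.card (fixedBy Ω x) := by
    rw [← Finset.card_eq_sum_ones, Finset.card_compl, h3, ← Nat.card_eq_fintype_card]
    omega
  exact ((Finset.sum_eq_sum_iff_of_le hout).mp h4 h (by simpa using hh)).symm

/-- An element with two fixed points lies in the derangement subgroup. -/
theorem mem_of_fix_two [IsPretransitive G Ω] (a b : Ω) (hb : b ≠ a) (g : G) (hga : g • a = a)
    (hgb : g • b = b) : g ∈ derSub G Ω := by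
  haveI : Nonempty Ω := ⟨a⟩
  by_contra hgD
  haveI := Finite.card_le_one_iff_subsingleton.mp (le_of_eq (natCard_fixedBy_eq_one hgD))
  exact hb (congrArg Subtype.val
    (Subsingleton.elim (⟨b, hgb⟩ : fixedBy Ω g) ⟨a, hga⟩))

theorem index_subgroupOf [IsPretransitive G Ω] (a : Ω) :
    ((derSub G Ω).subgroupOf (stabilizer G a)).index = (derSub G Ω).index := by
  haveI : Nonempty Ω := ⟨a⟩
  haveI := transitive (G := G) (Ω := Ω)
  haveI := derSub_normal G Ω
  set D := derSub G Ω
  refine Nat.dvd_antisymm (D.relIndex_dvd_index_of_normal _) ?_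
  -- `G = D G_a`
  show D.index ∣ D.relIndex (stabilizer G a)
  have htop : stabilizer G a ⊔ D = ⊤ := by
    rw [eq_top_iff]
    intro g _
    obtain ⟨d, hd⟩ := exists_smul_eq D a (g • a)
    have hmem : (d : G)⁻¹ * g ∈ stabilizer G a := by
      rw [mem_stabilizer_iff, mul_smul, inv_smul_eq_iff]
      exact hd.symm
    have := mul_mem ((le_sup_right : D ≤ stabilizer G a ⊔ D) d.2)
      ((le_sup_left : stabilizer G a ≤ stabilizer G a ⊔ D) hmem)
    simpa using this
  rw [← Subgroup.relIndex_sup_left (K := D) (H := stabilizer G a), sup_comm, htop,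
        Subgroup.relIndex_top_right]

/-- The index of the derangement subgroup divides the size of every set of points that is invariant
under the stabiliser of `a` and avoids `a`. -/
theorem index_dvd [IsPretransitive G Ω] (a : Ω) (B : Set Ω) (haB : a ∉ B)
    (hB : ∀ g ∈ stabilizer G a, ∀ b ∈ B, g • b ∈ B) :
    (derSub G Ω).index ∣ B.ncard := by
  classical
  haveI : Nonempty Ω := ⟨a⟩
  haveI := transitive (G := G) (Ω := Ω)
  haveI := derSub_normal G Ω
  set D := derSub G Ω
  -- the orbit of `b` has size divisible by the index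
  have key : ∀ b, b ≠ a → D.index ∣ (orbit (stabilizer G a) b).ncard := by
    intro b hb
    rw [← index_stabilizer]
    have hle : stabilizer (stabilizer G a) b ≤ D.subgroupOf (stabilizer G a) := by
      intro g hg
      rw [Subgroup.mem_subgroupOf]
      exact mem_of_fix_two a b hb (g : G) g.2 hg
    rw [← index_subgroupOf a]
    exact Subgroup.index_dvd_of_le hle
  -- decompose `B` into orbits
  have hfin : B.Finite := Set.toFinite B
  revert haB hB
  induction h : B.ncard using Nat.strong_induction_on generalizing B with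
  | _ m ih =>
    intro haB hB
    subst h
    rcases B.eq_empty_or_nonempty with rfl | ⟨b, hb⟩
    · simp
    have hsub : orbit (stabilizer G a) b ⊆ B := by
      rintro _ ⟨g, rfl⟩
      exact hB g g.2 b hb
    rw [← Set.ncard_sdiff_add_ncard_of_subset hsub (Set.toFinite B)]
    refine Nat.dvd_add (ih _ ?_ (B \ orbit (stabilizer G a) b) (Set.toFinite _) rfl (fun h => haB h.1) ?_)
      (key b fun e => haB (e ▸ hb))
    · exact Set.ncard_lt_ncard (Set.ssubset_iff_subset_ne.mpr ⟨Set.sdiff_subset, fun e => by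
        have : b ∈ B \ orbit (stabilizer G a) b := by rw [e]; exact hb
        exact this.2 (mem_orbit_self b)⟩) (Set.toFinite B)
    · intro g hg c hc
      refine ⟨hB g hg c hc.1, ?_⟩
      rintro ⟨k, hk⟩
      refine hc.2 ⟨(⟨g, hg⟩ : stabilizer G a)⁻¹ * k, ?_⟩
      show ((⟨g, hg⟩ : stabilizer G a)⁻¹ * k) • b = c
      rw [mul_smul]
      show g⁻¹ • (k • b) = c
      rw [show k • b = g • c from hk, inv_smul_smul]

theorem isPrimePow_of_index_eq [FaithfulSMul G Ω] [IsPretransitive G Ω] (hΩ : 2 ≤ Nat.card Ω)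
    (he : (derSub G Ω).index = Nat.card Ω - 1) : IsPrimePow (Nat.card Ω) := by
  classical
  haveI : Nonempty Ω := (Nat.card_pos_iff.mp (show 0 < Nat.card Ω by omega)).1
  haveI := Fintype.ofFinite Ω
  haveI := transitive (G := G) (Ω := Ω)
  haveI := derSub_normal G Ω
  set D := derSub G Ω
  have horb : ∀ a b c : Ω, b ≠ a → c ≠ a → ∃ g : G, g • a = a ∧ g • b = c := by
    intro a b c hb hc
    have hsub : orbit (stabilizer G a) b ⊆ {a}ᶜ := by
      rintro _ ⟨g, rfl⟩ hga
      exact hb (MulAction.injective (g : G) (((Set.mem_singleton_iff.mp hga)).trans g.2.symm))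
    have hd := index_dvd a (orbit (stabilizer G a) b) (fun h => hsub h rfl)
      (fun g hg x hx => by
        obtain ⟨k, rfl⟩ := hx
        exact ⟨⟨g, hg⟩ * k, mul_smul _ _ _⟩)
    rw [he] at hd
    have hpos : 0 < (orbit (stabilizer G a) b).ncard :=
      (Set.ncard_pos (Set.toFinite _)).mpr ⟨b, mem_orbit_self b⟩
    have heq : orbit (stabilizer G a) b = {a}ᶜ := Set.eq_of_subset_of_ncard_le hsub (by
      rw [Set.ncard_compl, Set.ncard_singleton]
      exact Nat.le_of_dvd hpos hd) (Set.toFinite _)
    obtain ⟨g, hg⟩ : c ∈ orbit (stabilizer G a) b := by rw [heq]; exact hc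
    exact ⟨g, g.2, hg⟩
  haveI h2 : IsMultiplyPretransitive G Ω 2 := by
    rw [is_two_pretransitive_iff]
    intro a b c d hab hcd
    obtain ⟨g, rfl⟩ := exists_smul_eq G a c
    obtain ⟨k, hk1, hk2⟩ := horb (g • a) (g • b) d
      (fun h => hab (MulAction.injective g h).symm) (Ne.symm hcd)
    exact ⟨k * g, by rw [mul_smul, hk1], by rw [mul_smul, hk2]⟩
  -- two point stabilisers lie in `D ∩ G_a` for every other point
  obtain ⟨a⟩ := ‹Nonempty Ω›
  have hmul : Nat.card D * (Nat.card Ω - 1) = Nat.card G := by rw [← he]; exact D.card_mul_index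
  have hDa : ∀ d ∈ D, ∀ a : Ω, d • a = a → d = 1 := by
    intro d hd a hda
    refine FaithfulSMul.eq_of_smul_eq_smul (α := Ω) fun b => ?_
    rw [one_smul]
    by_contra hdb
    have hb : b ≠ a := fun e => hdb (e ▸ hda)
    -- orbit sizes
    have hle : stabilizer (stabilizer G a) b ≤ D.subgroupOf (stabilizer G a) := by
      intro g hg
      rw [Subgroup.mem_subgroupOf]
      by_contra hgD
      exact hgD (mem_of_fix_two a b hb (g : G) g.2 hg)
    have hi1 : (stabilizer (stabilizer G a) b).index = Nat.card Ω - 1 := by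
      rw [index_stabilizer]
      have : orbit (stabilizer G a) b = {a}ᶜ := Set.Subset.antisymm (by
        rintro _ ⟨g, rfl⟩ hga
        exact hb (MulAction.injective (g : G) (((Set.mem_singleton_iff.mp hga)).trans g.2.symm)))
        (fun c hc => by
          obtain ⟨g, hg1, hg2⟩ := horb a b c hb hc
          exact ⟨⟨g, hg1⟩, hg2⟩)
      rw [this, Set.ncard_compl, Set.ncard_singleton]
    have hi2 : (D.subgroupOf (stabilizer G a)).index = Nat.card Ω - 1 := by
      rw [← he]
      exact index_subgroupOf a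
    have heq : stabilizer (stabilizer G a) b = D.subgroupOf (stabilizer G a) := by
      refine le_antisymm hle ?_
      by_contra hcon
      have := Subgroup.index_strictAnti (lt_of_le_not_ge hle hcon)
      omega
    have : (⟨d, hda⟩ : stabilizer G a) ∈ stabilizer (stabilizer G a) b := by
      rw [heq]; exact hd
    exact hdb this
  have hsharp : ∀ x : Fin 2 ↪ Ω, stabilizer G x = ⊥ := by
    intro x
    rw [Subgroup.eq_bot_iff_forall]
    intro g hg
    have h0 : g • x 0 = x 0 := DFunLike.congr_fun hg 0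
    have h1 : g • x 1 = x 1 := DFunLike.congr_fun hg 1
    exact hDa g (mem_of_fix_two (x 0) (x 1) (fun e => by simpa using x.injective e) g h0 h1) _ h0
  obtain ⟨N, p, j, hp, hj, hn, -⟩ :=
    CfsgLib.SharplyTwo.exists_translations (G := G) hsharp (by rwa [← Nat.card_eq_fintype_card])
  rw [Nat.card_eq_fintype_card, hn]
  exact hp.prime.isPrimePow.pow (by omega)

end CfsgLib.DerangementSubgroup
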