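import Cfsg.Agent.Lib.Perm.MultFree

/-!
# Eigenvalues of intertwining endomorphisms on a multiplicity-free representation
-/

namespace Cfsg.Agent.Lib.Perm

open Module Representation CfsgLib.Char

universe u

variable {G : Type*} [Group G] [Fintype G]

theorem exists_eigen {V : Type u} [AddCommGroup V] [Module ℂ V] [FiniteDimensional ℂ V]
    (ρ : Representation ℂ G V) (hmf : MultFree ρ) (S : V →ₗ[ℂ] V)
    (hS : ∀ g v, S (ρ g v) = ρ g (S v)) :
    ∃ e : Cfsg.IrrCharacter G → ℂ, ∀ (j : ℕ) (g : G),
      LinearMap.trace ℂ V (ρ g ∘ₗ (S ^ j)) =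
        ∑ ψ : Cfsg.IrrCharacter G, Cfsg.classInner ρ.character (ψ : G → ℂ) * (e ψ) ^ j * (ψ : G → ℂ) g := by
  revert hmf S
  refine rep_induction (G := G) (fun {V} _ _ ρ => ∀ [FiniteDimensional ℂ V], MultFree ρ →
    ∀ (S : V →ₗ[ℂ] V), (∀ g v, S (ρ g v) = ρ g (S v)) →
    ∃ e : Cfsg.IrrCharacter G → ℂ, ∀ (j : ℕ) (g : G),
      LinearMap.trace ℂ V (ρ g ∘ₗ (S ^ j)) =
        ∑ ψ : Cfsg.IrrCharacter G, Cfsg.classInner ρ.character (ψ : G → ℂ) * (e ψ) ^ j * (ψ : G → ℂ) g)
    ?_ ?_ ?_ ρ
  · intro V _ _ _ ρ _ _ S _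
    refine ⟨0, fun j g => ?_⟩
    have h0 : ρ.character = 0 := by
      funext x
      show LinearMap.trace ℂ V (ρ x) = 0
      rw [Subsingleton.elim (ρ x) 0, map_zero]
    rw [Subsingleton.elim (ρ g ∘ₗ (S ^ j)) 0, map_zero, h0]
    simp [classInner_zero_left]
  · intro V _ _ _ ρ hρ _ _ S hS
    classical
    obtain ⟨c, hc⟩ := (IsIrreducible.algebraMap_intertwiningMap_bijective_of_isAlgClosed (ρ := ρ)).2
      ⟨S, fun g => LinearMap.ext fun v => hS g v⟩
    have hS' : S = c • LinearMap.id := by
      have := congrArg IntertwiningMap.toLinearMap hc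
      rw [Algebra.algebraMap_eq_smul_one] at this
      exact this.symm
    refine ⟨fun _ => c, fun j g => ?_⟩
    have hpow : S ^ j = c ^ j • (LinearMap.id : V →ₗ[ℂ] V) := by
      induction j with
      | zero => simp [Module.End.one_eq_id]
      | succ j ih =>
        rw [pow_succ, ih, hS']
        refine LinearMap.ext fun v => ?_
        simp [smul_smul, pow_succ, mul_comm]
    rw [hpow, LinearMap.comp_smul, LinearMap.comp_id, map_smul, smul_eq_mul,
      Finset.sum_eq_single (irrOf ρ)]
    · show _ = Cfsg.classInner ρ.character ρ.character * c ^ j * ρ.character g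
      rw [classInner_irr_self (isIrrCharacter_character ρ), one_mul]
      rfl
    · intro ψ _ hψ
      rw [classInner_irr_ne (isIrrCharacter_character ρ) ψ.2 (fun h => hψ (Subtype.ext h.symm)),
        zero_mul, zero_mul]
    · exact fun h => absurd (Finset.mem_univ _) h
  · intro V _ _ _ ρ A B hAB hA hB _ hmf S hS
    classical
    have hsplit : ρ.character = A.toRepresentation.character + B.toRepresentation.character :=
      char_eq_add_of_isCompl ρ A B hAB
    obtain ⟨a, ha⟩ := exists_multiplicities (isCharacter_character (V := A.toSubmodule) A.toRepresentation)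
    obtain ⟨b, hb⟩ := exists_multiplicities (isCharacter_character (V := B.toSubmodule) B.toRepresentation)
    have hab : ∀ ψ : Cfsg.IrrCharacter G, a ψ + b ψ ≤ 1 := by
      intro ψ
      have := hmf ψ ψ.2
      rw [hsplit, classInner_add_left, ha, hb, classInner_sum_smul_irr, classInner_sum_smul_irr] at this
      norm_cast at this
      omega
    have hcomm := commEnd_of_multFree ρ hmf
    have hc : IsCompl A.toSubmodule B.toSubmodule := by
      constructor
      · rw [disjoint_iff, ← Subrepresentation.toSubmodule_inf, hAB.inf_eq_bot]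
        rfl
      · rw [codisjoint_iff, ← Subrepresentation.toSubmodule_sup, hAB.sup_eq_top]
        rfl
    have hinv : ∀ (C D : Subrepresentation ρ) (hCD : IsCompl C.toSubmodule D.toSubmodule),
        ∀ x ∈ C.toSubmodule, S x ∈ C.toSubmodule := by
      intro C D hCD x hx
      let P : V →ₗ[ℂ] V := C.toSubmodule.subtype ∘ₗ C.toSubmodule.projectionOnto D.toSubmodule hCD
      have e1 : ∀ y ∈ C.toSubmodule, P y = y := fun y hy => by
        show ((C.toSubmodule.projectionOnto D.toSubmodule hCD y : C.toSubmodule) : V) = y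
        rw [Submodule.projectionOnto_apply_left hCD ⟨y, hy⟩]
      have e2 : ∀ z ∈ D.toSubmodule, P z = 0 := fun z hz => by
        show ((C.toSubmodule.projectionOnto D.toSubmodule hCD z : C.toSubmodule) : V) = 0
        rw [(Submodule.projectionOnto_apply_eq_zero_iff hCD).2 hz]
        rfl
      have hP : ∀ g v, P (ρ g v) = ρ g (P v) := by
        intro g v
        obtain ⟨y, hy, z, hz, rfl⟩ := Submodule.mem_sup.1
          (show v ∈ C.toSubmodule ⊔ D.toSubmodule by rw [hCD.sup_eq_top]; trivial)
        rw [map_add, map_add, map_add, e1 y hy, e1 _ (C.apply_mem_toSubmodule g hy), e2 z hz,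
          e2 _ (D.apply_mem_toSubmodule g hz), add_zero, add_zero]
      have := hcomm S P hS hP x
      rw [e1 x hx] at this
      rw [this]
      exact Subtype.property _
    obtain ⟨eA, heA⟩ := hA (fun χ hχ => by
        have h1 := hab ⟨χ, hχ⟩
        rw [ha, show χ = ((⟨χ, hχ⟩ : Cfsg.IrrCharacter G) : G → ℂ) from rfl, classInner_sum_smul_irr]
        norm_cast
        omega) (S.restrict (hinv A B hc)) (fun g w => Subtype.ext (hS g w.1))
    obtain ⟨eB, heB⟩ := hB (fun χ hχ => by
        have h1 := hab ⟨χ, hχ⟩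
        rw [hb, show χ = ((⟨χ, hχ⟩ : Cfsg.IrrCharacter G) : G → ℂ) from rfl, classInner_sum_smul_irr]
        norm_cast
        omega) (S.restrict (hinv B A hc.symm)) (fun g w => Subtype.ext (hS g w.1))
    refine ⟨fun ψ => if a ψ = 0 then eB ψ else eA ψ, fun j g => ?_⟩
    have hres : ∀ (C D : Subrepresentation ρ) (hCD : IsCompl C.toSubmodule D.toSubmodule) (w : C.toSubmodule),
        (ρ g ∘ₗ (S ^ j)) (w : V) = ((C.toRepresentation g ∘ₗ ((S.restrict (hinv C D hCD)) ^ j)) w : V) := by
      intro C D hCD w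
      rw [Module.End.pow_restrict]
      rfl
    have hmapA : Set.MapsTo (ρ g ∘ₗ (S ^ j)) A.toSubmodule A.toSubmodule := fun x hx => by
      rw [hres A B hc ⟨x, hx⟩]; exact Subtype.property _
    have hmapB : Set.MapsTo (ρ g ∘ₗ (S ^ j)) B.toSubmodule B.toSubmodule := fun x hx => by
      rw [hres B A hc.symm ⟨x, hx⟩]; exact Subtype.property _
    let e := A.toSubmodule.prodEquivOfIsCompl B.toSubmodule hc
    have hconj : ρ g ∘ₗ (S ^ j) = e.conj
        (((ρ g ∘ₗ (S ^ j)).restrict hmapA).prodMap ((ρ g ∘ₗ (S ^ j)).restrict hmapB)) := by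
      refine LinearMap.ext fun v => ?_
      obtain ⟨p, rfl⟩ := e.surjective v
      rw [LinearEquiv.conj_apply_apply, LinearEquiv.symm_apply_apply]
      simp [e, Submodule.coe_prodEquivOfIsCompl', map_add]
      rfl
    rw [hconj, LinearMap.trace_conj', LinearMap.trace_prodMap']
    have eAeq : (ρ g ∘ₗ (S ^ j)).restrict hmapA = A.toRepresentation g ∘ₗ ((S.restrict (hinv A B hc)) ^ j) :=
      LinearMap.ext fun w => Subtype.ext (hres A B hc w)
    have eBeq : (ρ g ∘ₗ (S ^ j)).restrict hmapB = B.toRepresentation g ∘ₗ ((S.restrict (hinv B A hc.symm)) ^ j) :=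
      LinearMap.ext fun w => Subtype.ext (hres B A hc.symm w)
    rw [eAeq, eBeq, heA j g, heB j g, ← Finset.sum_add_distrib]
    refine Finset.sum_congr rfl fun ψ _ => ?_
    rw [hsplit, classInner_add_left, ha, hb, classInner_sum_smul_irr, classInner_sum_smul_irr]
    have := hab ψ
    rcases Nat.eq_zero_or_pos (a ψ) with h0 | h0
    · simp [h0]
    · simp only [if_neg h0.ne']
      rw [show b ψ = 0 by omega]
      simp

end Cfsg.Agent.Lib.Perm
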