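import Cfsg.Agent.Lib.Perm.PermModule
import Cfsg.Agent.S0675

/-!
# Prime degree with a Sylow normaliser inducing the squares: orbits of two-point stabilisers

Neumann's argument: a function on `Ω` invariant under a two-point stabiliser is determined, up to
constants, by three scalars, namely its sum and the pairings with the coordinate function on the
two types of pairs.
-/

set_option autoImplicit false
set_option linter.unusedSectionVars false
set_option linter.style.haveILetI false

namespace CfsgLib.HalfNormalizer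

open MulAction
open scoped _root_.Classical

variable {G Ω : Type*} [Group G] [MulAction G Ω] [FaithfulSMul G Ω]

/-- Multiplication by scalars up to sign and translations are induced by elements of `G`. -/
def HalfAffine (p : ℕ) (e : ZMod p ≃ Ω) (G : Type*) [Group G] [MulAction G Ω] : Prop :=
  ∀ d : ZMod p, d ≠ 0 → (∀ b, ∃ σ : G, ∀ i, σ • e i = e (d * i + b)) ∨
    (∀ b, ∃ σ : G, ∀ i, σ • e i = e (-d * i + b))

noncomputable def rangeEquiv : G ≃* (toPermHom G Ω).range :=
  MonoidHom.ofInjective (f := toPermHom G Ω) toPerm_injective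

theorem rangeEquiv_smul (g : G) (a : Ω) : rangeEquiv (Ω := Ω) g • a = g • a := rfl

variable [Fintype Ω] [Finite G] [IsPretransitive G Ω] {p : ℕ} [Fact p.Prime]

theorem range_pretransitive : IsPretransitive (toPermHom G Ω).range Ω :=
  ⟨fun a b => by
    obtain ⟨g, hg⟩ := exists_smul_eq G a b
    exact ⟨rangeEquiv g, by rw [rangeEquiv_smul, hg]⟩⟩

theorem range_not_solvable (hins : ¬ Group.IsSolvable G) :
    ¬ Group.IsSolvable (toPermHom G Ω).range := fun hs => by
  exact hins (solvable_of_solvable_injective (f := (rangeEquiv (G := G) (Ω := Ω)).toMonoidHom)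
    (rangeEquiv (G := G) (Ω := Ω)).injective)

/-- An invariant space of sum-zero functions containing the constants and a non-constant function
is the space of all sum-zero functions. -/
theorem mem_of_sum_eq_zero (hΩ : Fintype.card Ω = p) (hins : ¬ Group.IsSolvable G)
    (W : Submodule (ZMod p) (Ω → ZMod p)) (hW : ∀ g : G, ∀ v ∈ W, (fun a => v (g • a)) ∈ W)
    (h1 : (fun _ => 1) ∈ W) (hsum : ∀ v ∈ W, ∑ a, v a = 0) {w : Ω → ZMod p} (hw : w ∈ W) {a b : Ω}
    (hab : w a ≠ w b) {v : Ω → ZMod p} (hv : ∑ a, v a = 0) : v ∈ W := by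
  haveI := range_pretransitive (G := G) (Ω := Ω)
  let W' : Subrepresentation (Cfsg.permRep (ZMod p) (toPermHom G Ω).range Ω) :=
    { toSubmodule := W
      apply_mem_toSubmodule := by
        intro g v hv
        obtain ⟨g0, hg0⟩ := (g⁻¹).2
        have := hW g0 v hv
        show (fun a => v (g⁻¹ • a)) ∈ W
        convert this using 1
        funext a
        congr 1
        show ((g⁻¹ : (toPermHom G Ω).range) : Equiv.Perm Ω) a = _
        rw [← hg0]
        rfl }
  rcases CfsgLib.PermModule.heart_irreducible (K := ZMod p) hΩ _ (range_not_solvable hins) W'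
    ((Submodule.span_singleton_le_iff_mem _ _).2 h1) hsum with h | h
  · exfalso
    have : w ∈ W'.toSubmodule := hw
    rw [h] at this
    obtain ⟨c, hc⟩ := Submodule.mem_span_singleton.1 this
    rw [← hc] at hab
    exact hab rfl
  · show v ∈ W'.toSubmodule
    rw [h]
    exact hv

theorem two_transitive (hΩ : Fintype.card Ω = p) (hins : ¬ Group.IsSolvable G) {a b c d : Ω}
    (hab : a ≠ b) (hcd : c ≠ d) : ∃ g : G, g • a = c ∧ g • b = d := by
  haveI := range_pretransitive (G := G) (Ω := Ω)
  have h2 := (Cfsg.Agent.S0675.result (hΩ ▸ (Fact.out : p.Prime)) (toPermHom G Ω).range).resolve_left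
    (range_not_solvable hins)
  obtain ⟨g, hg⟩ := is_two_pretransitive_iff.1 h2 hab hcd
  obtain ⟨g0, hg0⟩ := g.2
  refine ⟨g0, ?_, ?_⟩
  · rw [← hg.1]
    show _ = (g : Equiv.Perm Ω) a
    rw [← hg0]; rfl
  · rw [← hg.2]
    show _ = (g : Equiv.Perm Ω) b
    rw [← hg0]; rfl

variable (hΩ : Fintype.card Ω = p) (hins : ¬ Group.IsSolvable G) (hp2 : 2 < p)
  (e : ZMod p ≃ Ω) (he : HalfAffine p e G)

include hΩ hins hp2 he in
/-- A two-point stabiliser has at most four orbits. -/
theorem orbits_le_four {a b : Ω} (hab : a ≠ b) :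
    Nat.card (orbitRel.Quotient ↥(stabilizer G a ⊓ stabilizer G b) Ω) ≤ 4 := by
  set H := stabilizer G a ⊓ stabilizer G b with hH
  let Q := orbitRel.Quotient ↥H Ω
  haveI : Fintype Q := Fintype.ofFinite _
  let mk : Ω → Q := fun δ => Quotient.mk _ δ
  have hmk : ∀ (k : G), k ∈ H → ∀ δ, mk (k • δ) = mk δ := fun k hk δ =>
    Quotient.sound (s := orbitRel ↥H Ω) ⟨⟨k, hk⟩, rfl⟩
  obtain ⟨g0, hg0a, hg0b⟩ := two_transitive hΩ hins hab (e.injective.ne (zero_ne_one (α := ZMod p)))
  obtain ⟨g1, hg1a, hg1b⟩ := two_transitive hΩ hins hab (e.injective.ne (one_ne_zero (α := ZMod p)))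
  let X : Ω → ZMod p := fun δ => e.symm δ
  let F : (Ω → ZMod p) → G → (Q → ZMod p) →ₗ[ZMod p] ZMod p := fun v g =>
    { toFun := fun u => ∑ δ, v (g • δ) * u (mk δ)
      map_add' := fun u u' => by simp [mul_add, Finset.sum_add_distrib]
      map_smul' := fun c u => by simp [Finset.mul_sum, mul_left_comm] }
  let L : (Q → ZMod p) →ₗ[ZMod p] (Fin 3 → ZMod p) :=
    LinearMap.pi ![F (fun _ => 1) 1, F X g0, F X g1]
  have hker : LinearMap.ker L ≤ Submodule.span (ZMod p) {(fun _ => 1 : Q → ZMod p)} := by
    intro u hu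
    have hu' : L u = 0 := hu
    have h0 : ∑ δ, u (mk δ) = 0 := by
      have := congrFun hu' 0
      simpa [L, F] using this
    have hX0 : F X g0 u = 0 := congrFun hu' 1
    have hX1 : F X g1 u = 0 := congrFun hu' 2
    -- the coordinate function pairs to zero everywhere
    have hX : ∀ g : G, F X g u = 0 := by
      intro g
      have hne : e.symm (g • b) - e.symm (g • a) ≠ 0 :=
        sub_ne_zero.2 fun h => hab (smul_left_cancel g (e.symm.injective h).symm)
      have key : ∀ (σ g' : G) (s t : ZMod p), (∀ i, σ • e i = e (s * i + t)) →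
          F X g' u = 0 → (σ * g') • a = g • a → (σ * g') • b = g • b → F X g u = 0 := by
        intro σ g' s t hσ hg' ha hb
        have hk : (σ * g')⁻¹ * g ∈ H :=
          Subgroup.mem_inf.2 ⟨mem_stabilizer_iff.2 (by rw [mul_smul, ← ha, inv_smul_smul]),
           mem_stabilizer_iff.2 (by rw [mul_smul, ← hb, inv_smul_smul])⟩
        set k := (σ * g')⁻¹ * g with hkdef
        have hgk : g = σ * g' * k := by rw [hkdef]; group
        show ∑ δ, X (g • δ) * u (mk δ) = 0
        rw [← Equiv.sum_comp (MulAction.toPerm k⁻¹)]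
        have : ∀ δ, X (g • k⁻¹ • δ) * u (mk (k⁻¹ • δ))
            = s * (X (g' • δ) * u (mk δ)) + t * u (mk δ) := by
          intro δ
          rw [hmk k⁻¹ (H.inv_mem hk), hgk, mul_smul, smul_inv_smul, mul_smul]
          have : X (σ • g' • δ) = s * X (g' • δ) + t := by
            show e.symm _ = _
            rw [show g' • δ = e (X (g' • δ)) from (e.apply_symm_apply _).symm, hσ,
              Equiv.symm_apply_apply]
            simp [X]
          rw [this]; ring
        simp only [MulAction.toPerm_apply, this, Finset.sum_add_distrib, ← Finset.mul_sum, h0]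
        rw [show ∑ δ, X (g' • δ) * u (mk δ) = 0 from hg']
        simp
      set α' := e.symm (g • a) with hα'
      set β' := e.symm (g • b) with hβ'
      have hga : g • a = e α' := (e.apply_symm_apply _).symm
      have hgb : g • b = e β' := (e.apply_symm_apply _).symm
      rcases he (β' - α') hne with hd | hd
      · obtain ⟨σ, hσ⟩ := hd α'
        refine key σ g0 _ _ hσ hX0 ?_ ?_
        · rw [mul_smul, hg0a, hσ, hga]; congr 1; ring
        · rw [mul_smul, hg0b, hσ, hgb]; congr 1; ring
      · obtain ⟨σ, hσ⟩ := hd β'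
        refine key σ g1 _ _ hσ hX1 ?_ ?_
        · rw [mul_smul, hg1a, hσ, hga]; congr 1; ring
        · rw [mul_smul, hg1b, hσ, hgb]; congr 1; ring
    let W : Submodule (ZMod p) (Ω → ZMod p) :=
      { carrier := {v | ∑ δ, v δ = 0 ∧ ∀ g : G, F v g u = 0}
        add_mem' := fun {v v'} hv hv' => ⟨by simp [Finset.sum_add_distrib, hv.1, hv'.1],
          fun g => by
            show ∑ δ, (v + v') (g • δ) * u (mk δ) = 0
            simp only [Pi.add_apply, add_mul, Finset.sum_add_distrib]
            rw [show ∑ δ, v (g • δ) * u (mk δ) = 0 from hv.2 g,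
              show ∑ δ, v' (g • δ) * u (mk δ) = 0 from hv'.2 g, add_zero]⟩
        zero_mem' := ⟨by simp, fun g => by show ∑ δ, _ = 0; simp⟩
        smul_mem' := fun c v hv => ⟨by simp [← Finset.mul_sum, hv.1], fun g => by
            show ∑ δ, (c • v) (g • δ) * u (mk δ) = 0
            simp only [Pi.smul_apply, smul_eq_mul, mul_assoc, ← Finset.mul_sum]
            rw [show ∑ δ, v (g • δ) * u (mk δ) = 0 from hv.2 g, mul_zero]⟩ }
    have hW : ∀ g : G, ∀ v ∈ W, (fun δ => v (g • δ)) ∈ W := fun g v hv =>
      ⟨(Equiv.sum_comp (MulAction.toPerm g) v).trans hv.1, fun g' => by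
        show ∑ δ, v (g • g' • δ) * u (mk δ) = 0
        simp_rw [← mul_smul]
        exact hv.2 (g * g')⟩
    have h1W : (fun _ => 1) ∈ W :=
      ⟨by simp [hΩ], fun g => by show ∑ δ, _ = 0; simpa using h0⟩
    have hXW : X ∈ W := ⟨by
      show ∑ δ, e.symm δ = 0
      rw [Equiv.sum_comp e.symm (fun i => i)]
      have h2 : (2 : ZMod p) ≠ 0 := by
        intro h
        rw [show (2 : ZMod p) = ((2 : ℕ) : ZMod p) by simp, ZMod.natCast_eq_zero_iff] at h
        have := Nat.le_of_dvd (by norm_num) h
        omega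
      have hneg : -(∑ i : ZMod p, i) = ∑ i : ZMod p, i := by
        rw [← Finset.sum_neg_distrib]
        exact Equiv.sum_comp (Equiv.neg (ZMod p)) (fun i => i)
      exact (mul_eq_zero.1 (show (2 : ZMod p) * ∑ i : ZMod p, i = 0 by linear_combination -hneg)
        ).resolve_left h2, hX⟩
    have hall : ∀ δ δ' : Ω, u (mk δ) = u (mk δ') := by
      intro δ δ'
      have hv : ∑ x, ((if x = δ then (1 : ZMod p) else 0) - if x = δ' then 1 else 0) = 0 := by simp
      have := (mem_of_sum_eq_zero hΩ hins W hW h1W (fun v hv => hv.1) hXW (a := e 0) (b := e 1)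
        (by simp [X]) hv).2 1
      have h' : ∑ x, ((if x = δ then (1 : ZMod p) else 0) - if x = δ' then 1 else 0) * u (mk x)
          = 0 := by
        simpa [F] using this
      simp [sub_mul, Finset.sum_sub_distrib] at h'
      exact sub_eq_zero.1 h'
    refine Submodule.mem_span_singleton.2 ⟨u (mk a), funext fun q => ?_⟩
    obtain ⟨δ, rfl⟩ := Quotient.exists_rep q
    simp [hall a δ, mk]
  have hk1 : Module.finrank (ZMod p) (LinearMap.ker L) ≤ 1 :=
    (Submodule.finrank_mono hker).trans ((finrank_span_le_card _).trans (by simp))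
  have hr3 : Module.finrank (ZMod p) (LinearMap.range L) ≤ 3 :=
    (Submodule.finrank_le _).trans (by simp)
  have := L.finrank_range_add_finrank_ker
  rw [Module.finrank_pi] at this
  rw [Nat.card_eq_fintype_card]
  show Fintype.card Q ≤ 4
  omega

end CfsgLib.HalfNormalizer
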