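import Cfsg.Agent.Lib.Perm.HalfNormalizer

/-!
# Coordinates in prime degree when the Sylow normaliser has order `p (p - 1) / 2`, `p ≡ 3 mod 4`
-/

set_option autoImplicit false
set_option linter.unusedSectionVars false
set_option linter.style.haveILetI false

namespace CfsgLib.HalfNormalizer

open MulAction
open scoped _root_.Classical

variable {G Ω : Type*} [Group G] [MulAction G Ω] [FaithfulSMul G Ω] [Fintype Ω] [Finite G]
  [IsPretransitive G Ω] {p : ℕ} [Fact p.Prime]

theorem exists_shift (hΩ : Fintype.card Ω = p) (P : Sylow p G) :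
    ∃ (x : G) (e : ZMod p ≃ Ω), x ∈ (P : Subgroup G) ∧ orderOf x = p ∧
      (∀ i, x • e i = e (i + 1)) ∧ Subgroup.zpowers x = (P : Subgroup G) := by
  have hp : p.Prime := Fact.out
  haveI : Nonempty Ω := Fintype.card_pos_iff.1 (hΩ ▸ hp.pos)
  let a₀ : Ω := Classical.arbitrary Ω
  have hdvd : p ∣ Nat.card G := by
    have h := (MulAction.stabilizer G a₀).index_dvd_card
    rwa [MulAction.index_stabilizer_of_transitive, Nat.card_eq_fintype_card, hΩ] at h
  have hle : (Nat.card G).factorization p ≤ 1 := by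
    have hd : Nat.card G ∣ p.factorial := by
      have := Subgroup.card_dvd_of_injective (toPermHom G Ω) toPerm_injective
      rwa [Nat.card_perm, Nat.card_eq_fintype_card (α := Ω), hΩ] at this
    by_contra hc
    have hd2 : p ^ 2 ∣ p.factorial :=
      ((pow_dvd_pow p (show 2 ≤ _ by omega)).trans (Nat.ordProj_dvd _ _)).trans hd
    obtain ⟨m, hm⟩ : ∃ m, p = m + 1 := ⟨p - 1, (Nat.sub_add_cancel hp.pos).symm⟩
    rw [hm, Nat.factorial_succ, sq] at hd2
    have h3 := Nat.dvd_of_mul_dvd_mul_left (Nat.succ_pos m) hd2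
    rw [← hm] at h3
    exact absurd ((hp.dvd_factorial).1 h3) (by omega)
  have hcardP : Nat.card (P : Subgroup G) = p := by
    have h1 : 1 ≤ (Nat.card G).factorization p :=
      (hp.dvd_iff_one_le_factorization Nat.card_pos.ne').1 hdvd
    rw [P.card_eq_multiplicity, show (Nat.card G).factorization p = 1 by omega, pow_one]
  obtain ⟨x, hx⟩ := exists_prime_orderOf_dvd_card' p (dvd_of_eq hcardP.symm : p ∣ Nat.card (P : Subgroup G))
  have hxG : orderOf (x : G) = p := by rw [Subgroup.orderOf_coe, hx]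
  have hzp : Subgroup.zpowers (x : G) = (P : Subgroup G) := by
    refine Subgroup.eq_of_le_of_card_ge (Subgroup.zpowers_le.2 x.2) ?_
    rw [hcardP, Nat.card_zpowers, hxG]
  have hP : IsPGroup p (Subgroup.zpowers (x : G)) := by rw [hzp]; exact P.2
  have hnofix : ∀ a : Ω, (x : G) • a ≠ a := by
    intro a ha
    have hcong := hP.card_modEq_card_fixedPoints Ω
    have hne1 : (x : G) ≠ 1 := fun h => by
      rw [h, orderOf_one] at hxG
      exact hp.ne_one hxG.symm
    have hfix : ∀ b : Ω, (x : G) • b = b →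
        b ∈ fixedPoints (Subgroup.zpowers (x : G)) Ω := by
      intro b hb g
      have : (g : G) ∈ stabilizer G b :=
        (Subgroup.zpowers_le.2 (show (x : G) ∈ stabilizer G b from hb)) g.2
      exact this
    have hpos : 0 < Nat.card (fixedPoints (Subgroup.zpowers (x : G)) Ω) :=
      Nat.card_pos_iff.2 ⟨⟨a, hfix a ha⟩, inferInstance⟩
    have hlecard : Nat.card (fixedPoints (Subgroup.zpowers (x : G)) Ω) ≤ p := by
      refine (Nat.card_le_card_of_injective _ Subtype.val_injective).trans ?_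
      rw [Nat.card_eq_fintype_card, hΩ]
    rw [Nat.card_eq_fintype_card, hΩ] at hcong
    have hdiv : p ∣ Nat.card (fixedPoints (Subgroup.zpowers (x : G)) Ω) :=
      (Nat.modEq_zero_iff_dvd).1 (hcong.symm.trans (Nat.modEq_zero_iff_dvd.2 dvd_rfl))
    have heq : Nat.card (fixedPoints (Subgroup.zpowers (x : G)) Ω) = p :=
      le_antisymm hlecard (Nat.le_of_dvd hpos hdiv)
    have hall : fixedPoints (Subgroup.zpowers (x : G)) Ω = Set.univ := by
      refine Set.eq_of_subset_of_ncard_le (Set.subset_univ _) ?_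
      rw [Set.ncard_univ, ← Nat.card_coe_set_eq, heq, Nat.card_eq_fintype_card, hΩ]
    exact hne1 (eq_of_smul_eq_smul fun b : Ω => by
      rw [one_smul]
      exact (show b ∈ fixedPoints (Subgroup.zpowers (x : G)) Ω by rw [hall]; trivial)
        ⟨(x : G), Subgroup.mem_zpowers _⟩)
  have hinj : Function.Injective fun i : ZMod p => (x : G) ^ i.val • a₀ := by
    intro i j hij
    by_contra hne
    wlog hlt : j.val < i.val generalizing i j
    · refine this hij.symm (Ne.symm hne) ?_
      rcases lt_trichotomy i.val j.val with h | h | h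
      · exact h
      · exact absurd (ZMod.val_injective p h) hne
      · exact absurd h hlt
    have hk : (x : G) ^ (i.val - j.val) • ((x : G) ^ j.val • a₀) = (x : G) ^ j.val • a₀ := by
      rw [← mul_smul, ← pow_add, Nat.sub_add_cancel hlt.le]
      exact hij
    have hcop : (i.val - j.val).Coprime p := by
      refine ((Nat.Prime.coprime_iff_not_dvd hp).2 fun h => ?_).symm
      have := Nat.le_of_dvd (by omega) h
      have := ZMod.val_lt i
      omega
    obtain ⟨y, hy⟩ := exists_pow_eq_self_of_coprime (x := (x : G)) (n := i.val - j.val)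
      (by rw [hxG]; exact hcop)
    refine hnofix ((x : G) ^ j.val • a₀) ?_
    have : ∀ n : ℕ, ((x : G) ^ (i.val - j.val)) ^ n • ((x : G) ^ j.val • a₀)
        = (x : G) ^ j.val • a₀ := by
      intro n
      induction n with
      | zero => simp
      | succ n ih => rw [pow_succ, mul_smul, hk, ih]
    have h := this y
    rwa [hy] at h
  have hbij : Function.Bijective fun i : ZMod p => (x : G) ^ i.val • a₀ :=
    (Fintype.bijective_iff_injective_and_card _).2 ⟨hinj, by rw [ZMod.card, hΩ]⟩
  have hcast : ∀ n : ℕ, (x : G) ^ (n : ZMod p).val = (x : G) ^ n := fun n => by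
    conv_rhs => rw [← pow_mod_orderOf, hxG]
    rw [ZMod.val_natCast]
  refine ⟨x, Equiv.ofBijective _ hbij, x.2, hxG, fun i => ?_, hzp⟩
  show (x : G) • (x : G) ^ i.val • a₀ = (x : G) ^ (i + 1).val • a₀
  rw [← mul_smul, ← pow_succ', ← hcast, Nat.cast_succ, ZMod.natCast_zmod_val]

theorem exists_half (hΩ : Fintype.card Ω = p) (P : Sylow p G)
    (hN : 2 * Nat.card ↥(Subgroup.normalizer ((P : Subgroup G) : Set G)) = p * (p - 1))
    (hp3 : p % 4 = 3) : ∃ (e : ZMod p ≃ Ω) (S : Finset (ZMod p)),
      (∀ s ∈ S, ∀ t ∈ S, s * t ∈ S) ∧ (∀ s : ZMod p, s ∈ S → -s ∉ S) ∧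
      (∀ s : ZMod p, s ≠ 0 → s ∈ S ∨ -s ∈ S) ∧
      (∀ s ∈ S, ∀ b : ZMod p, ∃ σ : G, ∀ i, σ • e i = e (s * i + b)) := by
  have hp : p.Prime := Fact.out
  obtain ⟨x, e, hxP, hxo, hxe, hzp⟩ := exists_shift hΩ P
  set N := Subgroup.normalizer ((P : Subgroup G) : Set G) with hNdef
  haveI : Fintype N := Fintype.ofFinite _
  have hpow : ∀ (n : ℕ) (i : ZMod p), x ^ n • e i = e (i + n) := by
    intro n
    induction n with
    | zero => simp
    | succ n ih =>
      intro i
      rw [pow_succ', mul_smul, ih, hxe]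
      push_cast; ring_nf
  have hnor : ∀ σ : N, ∃ s b : ZMod p, ∀ i, (σ : G) • e i = e (s * i + b) := by
    intro σ
    have hmem : (σ : G) * x * (σ : G)⁻¹ ∈ (P : Subgroup G) :=
      (Subgroup.mem_normalizer_iff.1 σ.2 x).1 hxP
    rw [← hzp, ← mem_powers_iff_mem_zpowers] at hmem
    obtain ⟨s, hs⟩ := hmem
    refine ⟨(s : ZMod p), e.symm ((σ : G) • e 0), fun i => ?_⟩
    obtain ⟨n, rfl⟩ : ∃ n : ℕ, (n : ZMod p) = i := ⟨i.val, ZMod.natCast_zmod_val i⟩
    induction n with
    | zero => simp
    | succ n ih =>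
      have hcomm : (σ : G) * x = x ^ s * (σ : G) := by
        rw [show x ^ s = (σ : G) * x * (σ : G)⁻¹ from hs]; group
      rw [Nat.cast_succ, ← hxe, ← mul_smul, hcomm, mul_smul, ih, hpow]
      ring_nf
  choose sc off hso using hnor
  have hinj : Function.Injective fun σ : N => (sc σ, off σ) := by
    intro σ τ h
    simp only [Prod.mk.injEq] at h
    refine Subtype.ext (eq_of_smul_eq_smul fun a : Ω => ?_)
    rw [← e.apply_symm_apply a, hso, hso, h.1, h.2]
  have huniq : ∀ (σ : G) (s b s' b' : ZMod p), (∀ i, σ • e i = e (s * i + b)) →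
      (∀ i, σ • e i = e (s' * i + b')) → s = s' ∧ b = b' := by
    intro σ s b s' b' h h'
    have h0 := e.injective ((h 0).symm.trans (h' 0))
    have h1 := e.injective ((h 1).symm.trans (h' 1))
    simp only [mul_zero, zero_add] at h0
    refine ⟨?_, h0⟩
    rw [h0] at h1
    simpa using h1
  set S : Finset (ZMod p) := Finset.univ.image (fun σ : N => sc σ) with hS
  have hS0 : (0 : ZMod p) ∉ S := by
    rw [hS, Finset.mem_image]
    rintro ⟨σ, -, hσ⟩
    have h0 := hso σ 0
    have h1 := hso σ 1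
    rw [hσ, zero_mul] at h0 h1
    exact zero_ne_one (e.injective (smul_left_cancel (σ : G) (h0.trans h1.symm)))
  have hmul : ∀ s ∈ S, ∀ t ∈ S, s * t ∈ S := by
    intro s hs t ht
    rw [hS, Finset.mem_image] at hs ht ⊢
    obtain ⟨σ, -, rfl⟩ := hs
    obtain ⟨τ, -, rfl⟩ := ht
    refine ⟨σ * τ, Finset.mem_univ _, (huniq ((σ : G) * τ) _ (off (σ * τ)) (sc σ * sc τ)
      (sc σ * off τ + off σ) (hso (σ * τ)) fun i => ?_).1⟩
    rw [mul_smul, hso, hso]
    congr 1
    ring
  have hpow' : ∀ s ∈ S, ∀ n : ℕ, s ^ (n + 1) ∈ S := by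
    intro s hs n
    induction n with
    | zero => simpa using hs
    | succ n ih => rw [pow_succ]; exact hmul _ ih _ hs
  have hNodd : Odd (Nat.card N) := by
    obtain ⟨q, hq⟩ : ∃ q, p = 4 * q + 3 := ⟨p / 4, by omega⟩
    have h1 : p * (p - 1) = 2 * (p * (2 * q + 1)) := by
      rw [show p - 1 = 2 * (2 * q + 1) by omega]; ring
    rw [h1] at hN
    rw [show Nat.card N = p * (2 * q + 1) by omega, Nat.odd_mul]
    exact ⟨⟨2 * q + 1, by omega⟩, ⟨q, rfl⟩⟩
  have hneg1 : (-1 : ZMod p) ∉ S := by
    rw [hS, Finset.mem_image]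
    rintro ⟨σ, -, hσ⟩
    have hsq : σ * σ = 1 := by
      refine Subtype.ext (eq_of_smul_eq_smul fun a : Ω => ?_)
      show ((σ : G) * σ) • a = (1 : G) • a
      rw [← e.apply_symm_apply a, mul_smul, hso, hso, one_smul, hσ]
      congr 1
      ring
    have hd2 : orderOf σ ∣ 2 := orderOf_dvd_of_pow_eq_one (by rw [sq]; exact hsq)
    have hdN : orderOf σ ∣ Nat.card N := orderOf_dvd_natCard σ
    rcases (Nat.dvd_prime Nat.prime_two).1 hd2 with h | h
    · rw [orderOf_eq_one_iff] at h
      have h1 := hso σ 1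
      rw [hσ, h] at h1
      have h0 := hso σ 0
      rw [hσ, h] at h0
      simp only [OneMemClass.coe_one, one_smul] at h0 h1
      have e0 := e.injective h0
      have e1 := e.injective h1
      have h2 : ((2 : ℕ) : ZMod p) = 0 := by push_cast; linear_combination e1 - e0
      rw [ZMod.natCast_eq_zero_iff] at h2
      have := Nat.le_of_dvd (by norm_num) h2
      omega
    · rw [h] at hdN
      exact (Nat.not_even_iff_odd.2 hNodd) (even_iff_two_dvd.2 hdN)
  have hdisj : Disjoint S (S.image fun s => -s) := by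
    rw [Finset.disjoint_left]
    intro s hs hs'
    obtain ⟨t, ht, hts⟩ := Finset.mem_image.1 hs'
    refine hneg1 ?_
    have hs0 : s ≠ 0 := fun h => hS0 (h ▸ hs)
    have hinv : t * s ^ (p - 2) = -1 := by
      rw [show t = -s by rw [← hts, neg_neg], neg_mul, ← pow_succ',
        show p - 2 + 1 = p - 1 by omega, ZMod.pow_card_sub_one_eq_one hs0]
    rw [← hinv]
    obtain ⟨m, hm⟩ : ∃ m, p - 2 = m + 1 := ⟨p - 3, by omega⟩
    rw [hm]
    exact hmul _ ht _ (hpow' _ hs m)
  have hcard : p - 1 ≤ (S ∪ S.image fun s => -s).card := by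
    rw [Finset.card_union_of_disjoint hdisj, Finset.card_image_of_injective _ neg_injective]
    have hle : Nat.card N ≤ S.card * p := by
      rw [Nat.card_eq_fintype_card, ← Finset.card_univ]
      calc (Finset.univ : Finset N).card
          = (Finset.univ.image fun σ : N => (sc σ, off σ)).card :=
            (Finset.card_image_of_injective _ hinj).symm
        _ ≤ (S ×ˢ (Finset.univ : Finset (ZMod p))).card := Finset.card_le_card fun z hz => by
            obtain ⟨σ, -, rfl⟩ := Finset.mem_image.1 hz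
            exact Finset.mem_product.2 ⟨Finset.mem_image.2 ⟨σ, Finset.mem_univ _, rfl⟩,
              Finset.mem_univ _⟩
        _ = S.card * p := by rw [Finset.card_product, Finset.card_univ, ZMod.card]
    have : p * (p - 1) ≤ p * (S.card + S.card) := by
      rw [← hN]
      calc 2 * Nat.card N ≤ 2 * (S.card * p) := by omega
        _ = p * (S.card + S.card) := by ring
    exact Nat.le_of_mul_le_mul_left this hp.pos
  have hall : (S ∪ S.image fun s => -s) = (Finset.univ : Finset (ZMod p)).erase 0 := by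
    refine Finset.eq_of_subset_of_card_le (fun z hz => Finset.mem_erase.2 ⟨?_, Finset.mem_univ z⟩) ?_
    · rcases Finset.mem_union.1 hz with h | h
      · exact fun h0 => hS0 (h0 ▸ h)
      · obtain ⟨t, ht, rfl⟩ := Finset.mem_image.1 h
        exact fun h0 => hS0 ((neg_eq_zero.1 h0) ▸ ht)
    · rw [Finset.card_erase_of_mem (Finset.mem_univ _), Finset.card_univ, ZMod.card]
      exact hcard
  have key : ∀ s ∈ S, ∀ b : ZMod p, ∃ σ : G, ∀ i, σ • e i = e (s * i + b) := by
    intro s hs b
    obtain ⟨σ, -, rfl⟩ := Finset.mem_image.1 hs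
    refine ⟨x ^ (b - off σ).val * σ, fun i => ?_⟩
    rw [mul_smul, hso, hpow, ZMod.natCast_zmod_val]
    congr 1
    ring
  refine ⟨e, S, hmul, fun s hs hns => Finset.disjoint_left.1 hdisj hs
    (Finset.mem_image.2 ⟨-s, hns, neg_neg s⟩), fun d hd => ?_, key⟩
  have hdm : d ∈ S ∪ S.image fun s => -s := by
    rw [hall]; exact Finset.mem_erase.2 ⟨hd, Finset.mem_univ d⟩
  rcases Finset.mem_union.1 hdm with h | h
  · exact Or.inl h
  · obtain ⟨t, ht, rfl⟩ := Finset.mem_image.1 h
    exact Or.inr (by rwa [neg_neg])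

theorem halfAffine (hΩ : Fintype.card Ω = p) (P : Sylow p G)
    (hN : 2 * Nat.card ↥(Subgroup.normalizer ((P : Subgroup G) : Set G)) = p * (p - 1))
    (hp3 : p % 4 = 3) : ∃ e : ZMod p ≃ Ω, HalfAffine p e G := by
  obtain ⟨e, S, -, -, htot, key⟩ := exists_half hΩ P hN hp3
  exact ⟨e, fun d hd => (htot d hd).imp (key d) (key (-d))⟩

/-- Either the action is triply transitive or every two-point stabiliser has exactly four orbits. -/
theorem three_transitive_or_four_orbits (hΩ : Fintype.card Ω = p) (hins : ¬ Group.IsSolvable G)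
    (P : Sylow p G)
    (hN : 2 * Nat.card ↥(Subgroup.normalizer ((P : Subgroup G) : Set G)) = p * (p - 1))
    (hp3 : p % 4 = 3) :
    IsMultiplyPretransitive G Ω 3 ∨ ∀ a b : Ω, a ≠ b →
      Nat.card (orbitRel.Quotient ↥(stabilizer G a ⊓ stabilizer G b) Ω) = 4 := by
  have hp2 : 2 < p := by omega
  obtain ⟨e, he⟩ := halfAffine hΩ P hN hp3
  by_cases h : ∀ a b : Ω, a ≠ b →
      Nat.card (orbitRel.Quotient ↥(stabilizer G a ⊓ stabilizer G b) Ω) = 4
  · exact Or.inr h
  left
  push Not at h
  obtain ⟨a, b, hab, h4⟩ := h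
  have hle := orbits_le_four hΩ hins hp2 e he hab
  set H := stabilizer G a ⊓ stabilizer G b with hH
  have horb : ∀ c d : Ω, c ≠ a → c ≠ b → d ≠ a → d ≠ b → ∃ k ∈ H, k • d = c := by
    intro c d hca hcb hda hdb
    by_contra hne
    push Not at hne
    let f : Fin 4 → orbitRel.Quotient ↥H Ω := fun i => Quotient.mk _ (![a, b, c, d] i)
    have hfix : ∀ (k : G), k ∈ H → k • a = a ∧ k • b = b := fun k hk => Subgroup.mem_inf.1 hk
    have hf : Function.Injective f := by
      intro i j hij
      obtain ⟨⟨k, hk⟩, hkij⟩ := Quotient.exact hij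
      change k • (![a, b, c, d] j) = ![a, b, c, d] i at hkij
      obtain ⟨hka, hkb⟩ := hfix k hk
      have hkc : k • c ≠ d := fun h => hne k⁻¹ (H.inv_mem hk) (by rw [← h, inv_smul_smul])
      have hkd : k • d ≠ c := hne k hk
      have nc : k • c ≠ a ∧ k • c ≠ b :=
        ⟨fun h => hca (smul_left_cancel k (h.trans hka.symm)),
         fun h => hcb (smul_left_cancel k (h.trans hkb.symm))⟩
      have nd : k • d ≠ a ∧ k • d ≠ b :=
        ⟨fun h => hda (smul_left_cancel k (h.trans hka.symm)),
         fun h => hdb (smul_left_cancel k (h.trans hkb.symm))⟩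
      fin_cases i <;> fin_cases j <;> simp_all
    have := Nat.card_le_card_of_injective f hf
    rw [Nat.card_fin] at this
    omega
  obtain ⟨c, hca, hcb⟩ : ∃ c : Ω, c ≠ a ∧ c ≠ b := by
    by_contra hne
    push Not at hne
    have : (Finset.univ : Finset Ω) ⊆ {a, b} := fun z _ => by
      by_cases hz : z = a
      · simp [hz]
      · simp [hne z hz]
    have := Finset.card_le_card this
    rw [Finset.card_univ, hΩ] at this
    have := this.trans Finset.card_le_two
    omega
  have hstd : ∀ x : Fin 3 ↪ Ω, ∃ g : G, g • x 0 = a ∧ g • x 1 = b ∧ g • x 2 = c := by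
    intro x
    obtain ⟨g, hga, hgb⟩ := two_transitive hΩ hins (x.injective.ne (by decide : (0 : Fin 3) ≠ 1)) hab
    obtain ⟨k, hk, hkc⟩ := horb c (g • x 2) hca hcb
      (fun h => absurd (x.injective (smul_left_cancel g (h.trans hga.symm))) (by decide))
      (fun h => absurd (x.injective (smul_left_cancel g (h.trans hgb.symm))) (by decide))
    obtain ⟨hka, hkb⟩ := Subgroup.mem_inf.1 hk
    exact ⟨k * g, by rw [mul_smul, hga]; exact hka, by rw [mul_smul, hgb]; exact hkb,
      by rw [mul_smul, hkc]⟩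
  refine ⟨fun x y => ?_⟩
  obtain ⟨g, hg⟩ := hstd x
  obtain ⟨g', hg'⟩ := hstd y
  refine ⟨g'⁻¹ * g, Function.Embedding.ext fun i => ?_⟩
  show (g'⁻¹ * g) • x i = y i
  rw [mul_smul, inv_smul_eq_iff]
  fin_cases i <;> simp [hg, hg']

end CfsgLib.HalfNormalizer
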