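import Mathlib

/-!
# The Netto triple systems are not transitive on triangles

The operation "third point of the line" on `ZMod p` in a Netto system, and three explicit word
identities that hold in one triangle and fail in another one.
-/

set_option autoImplicit false
set_option linter.unusedSectionVars false

namespace CfsgLib.Netto

variable {p : ℕ} [Fact p.Prime]

/-- The data: a "positive half" `S` of the non-zero residues closed under multiplication and a
root `z` of `z² - z + 1` with `-z` positive. -/
structure Data (p : ℕ) where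
  S : Finset (ZMod p)
  z : ZMod p
  mul_mem : ∀ s ∈ S, ∀ t ∈ S, s * t ∈ S
  notMem : ∀ s : ZMod p, s ∈ S → -s ∉ S
  total : ∀ s : ZMod p, s ≠ 0 → s ∈ S ∨ -s ∈ S
  hz : z * z = z - 1
  negz : -z ∈ S

variable (D : Data p)

theorem zero_notMem : (0 : ZMod p) ∉ D.S := fun h => D.notMem 0 h (by rwa [neg_zero])

theorem sq_mem {d : ZMod p} (hd : d ≠ 0) : d * d ∈ D.S := by
  rcases D.total d hd with h | h
  · exact D.mul_mem _ h _ h
  · simpa using D.mul_mem _ h _ h

theorem one_mem : (1 : ZMod p) ∈ D.S := by simpa using sq_mem D (one_ne_zero (α := ZMod p))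

theorem z_sub_one_mem : D.z - 1 ∈ D.S := by
  have := D.mul_mem _ D.negz _ D.negz
  rwa [neg_mul_neg, D.hz] at this

/-- The third point of the line through two points. -/
def op (x y : ZMod p) : ZMod p :=
  if y - x ∈ D.S then x + D.z * (y - x) else y + D.z * (x - y)

theorem op_pos {x y : ZMod p} (h : y - x ∈ D.S) : op D x y = x + D.z * (y - x) := if_pos h

theorem op_neg {x y : ZMod p} (h : x - y ∈ D.S) : op D x y = y + D.z * (x - y) :=
  if_neg fun h' => D.notMem _ h (by rwa [neg_sub])

theorem op_self (x : ZMod p) : op D x x = x := by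
  rw [op, if_neg (by rw [sub_self]; exact zero_notMem D), sub_self, mul_zero, add_zero]

/-- A noncollinear triple. -/
def Triangle (x y w : ZMod p) : Prop := x ≠ y ∧ w ≠ x ∧ w ≠ y ∧ w ≠ op D x y

theorem cast_ne_zero {n : ℕ} (hn0 : n ≠ 0) (hn : n < p) : ((n : ℕ) : ZMod p) ≠ 0 := by
  rw [Ne, ZMod.natCast_eq_zero_iff]
  exact fun h => hn0 (Nat.eq_zero_of_dvd_of_lt h hn)

/-- The automorphisms of a Netto system on more than seven points are not transitive on
triangles. -/
theorem not_triangle_transitive (hp : 7 < p)
    (h : ∀ x y w x' y' w', Triangle D x y w → Triangle D x' y' w' →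
      ∃ π : ZMod p → ZMod p, Function.Injective π ∧ (∀ a b, π (op D a b) = op D (π a) (π b)) ∧
        π x = x' ∧ π y = y' ∧ π w = w') : False := by
  have hp' : p.Prime := Fact.out
  set z := D.z with hzdef
  have hz : z * z = z - 1 := D.hz
  have h2 : (2 : ZMod p) ≠ 0 := by exact_mod_cast cast_ne_zero (p := p) two_ne_zero (by omega)
  have h3 : (3 : ZMod p) ≠ 0 := by exact_mod_cast cast_ne_zero (p := p) three_ne_zero (by omega)
  have h7 : (7 : ZMod p) ≠ 0 := by
    exact_mod_cast cast_ne_zero (p := p) (show (7 : ℕ) ≠ 0 by norm_num) hp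
  have hm3 : (-3 : ZMod p) ∈ D.S := by
    have hne : 2 * z - 1 ≠ 0 := fun he => by
      apply h3
      linear_combination -(2 * z - 1) * he + 4 * hz
    have := sq_mem D hne
    rwa [show (2 * z - 1) * (2 * z - 1) = -3 by linear_combination 4 * hz] at this
  have h1 := one_mem D
  have hnz : -z ∈ D.S := D.negz
  have hz1 : z - 1 ∈ D.S := z_sub_one_mem D
  by_cases hs2 : (2 : ZMod p) ∈ D.S
  · -- `b * ((a * c) * (b * c)) = a` at `(0, 1, 2)`, not at `(4, 0, 1)`
    have hz2 : z ≠ 2 := fun he => h3 (by linear_combination hz - (z + 1) * he)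
    have e1 : op D 0 2 = 2 * z := by
      rw [op_pos D (by rwa [sub_zero])]; ring
    have e2 : op D 1 2 = 1 + z := by
      rw [op_pos D (by norm_num; exact h1)]; ring
    have e3 : op D (2 * z) (1 + z) = z := by
      rw [op_neg D (by rw [show 2 * z - (1 + z) = z - 1 by ring]; exact hz1)]
      linear_combination hz
    have e4 : op D 1 z = 0 := by
      rw [op_pos D hz1]; linear_combination hz
    have hm4 : (4 : ZMod p) ∈ D.S := by
      have := D.mul_mem _ hs2 _ hs2; norm_num at this; exact this
    have f1 : op D 4 1 = 4 - 3 * z := by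
      rw [op_pos D (by norm_num; exact hm3)]; ring
    have f2 : op D 0 1 = z := by
      rw [op_pos D (by rwa [sub_zero])]; ring
    have f3 : op D (4 - 3 * z) z = -3 * z := by
      rw [op_pos D (by
        rw [show z - (4 - 3 * z) = 2 * 2 * (z - 1) by ring]
        exact D.mul_mem _ (D.mul_mem _ hs2 _ hs2) _ hz1)]
      linear_combination 4 * hz
    have f4 : op D 0 (-3 * z) = -3 * z + z * (3 * z) := by
      rw [op_neg D (by
        rw [show 0 - -3 * z = -3 * -z by ring]
        exact D.mul_mem _ hm3 _ hnz)]
      ring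
    have hT : Triangle D 0 1 2 :=
      ⟨zero_ne_one, h2, fun he => one_ne_zero (α := ZMod p) (by linear_combination he),
        fun he => hz2 (by rw [f2] at he; exact he.symm)⟩
    have hT' : Triangle D 4 0 1 := by
      refine ⟨fun he => zero_notMem D (he ▸ hm4), fun he => h3 (by linear_combination -he),
        one_ne_zero, fun he => ?_⟩
      rw [op_neg D (by rwa [sub_zero])] at he
      -- `4 z = 1` forces `p = 13`
      have h13 : ((13 : ℕ) : ZMod p) = 0 := by
        push_cast
        linear_combination (4 * z - 3) * he + 16 * hz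
      have h5 : (5 : ZMod p) ≠ 0 := by
        exact_mod_cast cast_ne_zero (p := p) (show (5 : ℕ) ≠ 0 by norm_num) (by omega)
      push_cast at h13
      have hneg : (-1 : ZMod p) ∈ D.S := by
        have := sq_mem D h5
        rwa [show (5 : ZMod p) * 5 = -1 by linear_combination 2 * h13] at this
      exact D.notMem 1 h1 hneg
    obtain ⟨π, -, hπ, ha, hb, hc⟩ := h _ _ _ _ _ _ hT hT'
    have key : π (op D 1 (op D (op D 0 2) (op D 1 2))) = op D 0 (op D (op D 4 1) (op D 0 1)) := by
      simp only [hπ, ha, hb, hc]
    rw [e1, e2, e3, e4, ha, f1, f2, f3, f4] at key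
    exact h7 (by linear_combination key + 3 * hz)
  have hm2 : (-2 : ZMod p) ∈ D.S := (D.total 2 h2).resolve_left hs2
  have hne : z + 1 ≠ 0 := fun he => h3 (by linear_combination hz - (z - 2) * he)
  have hs : 1 + z ≠ 1 - z := fun he => by
    have : z = 0 := by
      rcases mul_eq_zero.1 (show 2 * z = 0 by linear_combination he) with h | h
      · exact absurd h h2
      · exact h
    exact zero_notMem D (by rwa [this, neg_zero] at hnz)
  have e1 : op D 0 1 = z := by
    rw [op_pos D (by rwa [sub_zero])]; ring
  have hT : Triangle D 0 1 (1 + z) :=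
    ⟨zero_ne_one, fun he => hne (by linear_combination he),
      fun he => zero_notMem D (by rwa [show z = 0 by linear_combination he, neg_zero] at hnz),
      fun he => one_ne_zero (α := ZMod p) (by rw [e1] at he; linear_combination he)⟩
  have hT' : Triangle D 0 1 (1 - z) :=
    ⟨zero_ne_one, fun he => zero_notMem D (by rwa [show z - 1 = 0 by linear_combination -he] at hz1),
      fun he => zero_notMem D (by rwa [show z = 0 by linear_combination -he, neg_zero] at hnz),
      fun he => h3 (by rw [e1] at he; linear_combination (2 * z - 1) * he + 4 * hz)⟩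
  obtain ⟨π, -, hπ, ha, hb, hc⟩ := h _ _ _ _ _ _ hT hT'
  have g1 : op D 0 (1 - z) = -z := by
    rw [op_neg D (by rw [show 0 - (1 - z) = z - 1 by ring]; exact hz1)]
    linear_combination hz
  have g2 : op D 1 (1 - z) = 2 - z := by
    rw [op_pos D (by rw [show 1 - z - 1 = -z by ring]; exact hnz)]
    linear_combination -hz
  have hz2 : 2 * z ∈ D.S := by
    have := D.mul_mem _ hm2 _ hnz; rwa [show (-2) * -z = 2 * z by ring] at this
  have hm22 : -2 * (z - 1) ∈ D.S := D.mul_mem _ hm2 _ hz1
  have h4 : (4 : ZMod p) ∈ D.S := by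
    have := D.mul_mem _ hm2 _ hm2; norm_num at this; exact this
  have g3 : op D z (-z) = z - 2 := by
    rw [op_neg D (by rw [show z - -z = 2 * z by ring]; exact hz2)]
    linear_combination 2 * hz
  have d1 : op D 1 (1 + z) = 2 := by
    rw [op_neg D (by rw [show 1 - (1 + z) = -z by ring]; exact hnz)]
    linear_combination -hz
  by_cases he1 : 1 + z ∈ D.S
  · -- `((a * b) * (a * c)) * ((a * b) * (b * c)) = c`
    have d2 : op D 0 (1 + z) = 2 * z - 1 := by
      rw [op_pos D (by rwa [sub_zero])]; linear_combination hz
    have d3 : op D z (2 * z - 1) = z - 1 := by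
      rw [op_pos D (by rw [show 2 * z - 1 - z = z - 1 by ring]; exact hz1)]
      linear_combination hz
    have d4 : op D z 2 = 1 - z := by
      rw [op_neg D (by
        rw [show z - 2 = (1 + z) * (z - 1) by linear_combination -hz]
        exact D.mul_mem _ he1 _ hz1)]
      linear_combination hz
    have d5 : op D (z - 1) (1 - z) = 1 + z := by
      rw [op_pos D (by rw [show 1 - z - (z - 1) = -2 * (z - 1) by ring]; exact hm22)]
      linear_combination -2 * hz
    have g4 : op D z (2 - z) = z + 2 := by
      rw [op_pos D (by rw [show 2 - z - z = -2 * (z - 1) by ring]; exact hm22)]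
      linear_combination -2 * hz
    have g5 : op D (z - 2) (z + 2) = 5 * z - 2 := by
      rw [op_pos D (by rw [show z + 2 - (z - 2) = 4 by ring]; exact h4)]; ring
    have key : π (op D (op D (op D 0 1) (op D 0 (1 + z))) (op D (op D 0 1) (op D 1 (1 + z))))
        = op D (op D (op D 0 1) (op D 0 (1 - z))) (op D (op D 0 1) (op D 1 (1 - z))) := by
      simp only [hπ, ha, hb, hc]
    rw [e1, d2, d1, d3, d4, d5, hc, g1, g2, g3, g4, g5] at key
    have hne' : 2 * z - 1 ≠ 0 := fun h => h3 (by linear_combination -(2 * z - 1) * h + 4 * hz)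
    exact (mul_ne_zero h3 hne') (by linear_combination -key)
  · -- `((a * b) * (a * c)) * ((a * c) * (b * c)) = b`
    have hm : -(1 + z) ∈ D.S := (D.total _ (by rwa [add_comm])).resolve_left he1
    have d2 : op D 0 (1 + z) = 2 - z := by
      rw [op_neg D (by rw [zero_sub]; exact hm)]; linear_combination -hz
    have g4 : op D z (2 - z) = z + 2 := by
      rw [op_pos D (by rw [show 2 - z - z = -2 * (z - 1) by ring]; exact hm22)]
      linear_combination -2 * hz
    have d4 : op D (2 - z) 2 = 3 - z := by
      rw [op_neg D (by rw [show 2 - z - 2 = -z by ring]; exact hnz)]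
      linear_combination -hz
    have d5 : op D (z + 2) (3 - z) = 1 := by
      rw [op_neg D (by
        rw [show z + 2 - (3 - z) = -z * -(1 + z) by linear_combination -hz]
        exact D.mul_mem _ hnz _ hm)]
      linear_combination 2 * hz
    have g6 : op D (-z) (2 - z) = 2 - 3 * z := by
      rw [op_neg D (by rw [show -z - (2 - z) = -2 by ring]; exact hm2)]; ring
    have g7 : op D (z - 2) (2 - 3 * z) = -2 - 3 * z := by
      rw [op_neg D (by
        rw [show z - 2 - (2 - 3 * z) = 4 * (z - 1) by ring]
        exact D.mul_mem _ h4 _ hz1)]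
      linear_combination 4 * hz
    have key : π (op D (op D (op D 0 1) (op D 0 (1 + z))) (op D (op D 0 (1 + z)) (op D 1 (1 + z))))
        = op D (op D (op D 0 1) (op D 0 (1 - z))) (op D (op D 0 (1 - z)) (op D 1 (1 - z))) := by
      simp only [hπ, ha, hb, hc]
    rw [e1, d2, d1, g4, d4, d5, hb, g1, g2, g3, g6, g7] at key
    exact (mul_ne_zero h3 hne) (by linear_combination key)

end CfsgLib.Netto
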