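import Cfsg.Agent.Lib.Perm.PolyFun
import Cfsg.Agent.Lib.Perm.PermModule
import Cfsg.Agent.Lib.Perm.DegreeSeven

/-!
# Maps from the heart to the pairs module in prime degree
-/

namespace Cfsg.Agent.Lib.Perm

open Polynomial Module CfsgLib.PolyFun
open scoped Pointwise

variable {p : ℕ} [hp : Fact p.Prime] {K : Type*} [Field K] [CharP K p]

theorem cast_injective' : Function.Injective (fun j : ZMod p => (ZMod.cast j : K)) := cast_injective

/-- An equivariant map on sum-zero functions which commutes with translation and negation and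
kills constants kills the linear functions, as soon as it lands in all functions. -/
theorem kills_linear (hp5 : 5 ≤ p) (F : (ZMod p → K) →ₗ[K] (ZMod p → K))
    (hshift : ∀ u ∈ polySpace (p - 1), F (fun j => u (j - 1)) = fun j => F u (j - 1))
    (hneg : ∀ u ∈ polySpace (p - 1), F (fun j => u (-j)) = fun j => F u (-j))
    (hconst : F (fun _ => 1) = 0) : F (fun j => (ZMod.cast j : K)) = 0 := by
  classical
  have hcastneg : ∀ j : ZMod p, (ZMod.cast (-j) : K) = -(ZMod.cast j : K) := fun j =>
    map_neg (ZMod.castHom (dvd_refl p) K) j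
  have hcastsub : ∀ j : ZMod p, (ZMod.cast (j - 1) : K) = (ZMod.cast j : K) - 1 := fun j => by
    have := map_sub (ZMod.castHom (dvd_refl p) K) j 1
    rwa [map_one] at this
  have hmono : ∀ {a b : ℕ}, a ≤ b → polySpace (p := p) (K := K) a ≤ polySpace b := by
    intro a b hab f hf
    obtain ⟨P, hP, hPe⟩ := mem_polySpace.1 hf
    exact mem_polySpace.2 ⟨P, hP.trans_le (by exact_mod_cast hab), hPe⟩
  have hinvar : ∀ {a : ℕ}, ∀ u ∈ polySpace (p := p) (K := K) a, (fun j => u (j - 1)) ∈ polySpace a := by
    intro a u hu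
    obtain ⟨P, hP, hPe⟩ := mem_polySpace.1 hu
    refine mem_polySpace.2 ⟨taylor (-1) P, by rwa [degree_taylor], fun j => ?_⟩
    rw [hPe, taylor_eval, hcastsub, sub_eq_add_neg]
  -- the kernel
  set Z := polySpace (p := p) (K := K) (p - 1) ⊓ LinearMap.ker F with hZdef
  have hZ : ∀ u ∈ Z, (fun j => u (j - 1)) ∈ Z := by
    rintro u ⟨hu, hu0⟩
    refine ⟨hinvar u hu, ?_⟩
    change F _ = 0
    rw [hshift u hu, show F u = 0 from hu0]
    rfl
  obtain ⟨-, hZeq⟩ := eq_polySpace hZ
  set r := finrank K Z with hr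
  have h1Z : (fun _ : ZMod p => (1 : K)) ∈ Z :=
    ⟨mem_polySpace.2 ⟨C 1, by rw [degree_C one_ne_zero]; exact_mod_cast (by omega : 0 < p - 1), fun j => by simp⟩, hconst⟩
  have hr1 : 1 ≤ r := by
    by_contra hc
    have h0 : Z = ⊥ := Submodule.finrank_eq_zero.1 (by omega)
    rw [h0, Submodule.mem_bot] at h1Z
    exact one_ne_zero (congrFun h1Z 0)
  rcases eq_or_lt_of_le hr1 with hreq | hr2
  swap
  · have hX : (fun j => (ZMod.cast j : K)) ∈ Z := by
      rw [hZeq]
      exact hmono hr2 (mem_polySpace.2 ⟨X, by rw [degree_X]; exact_mod_cast (by norm_num : (1 : ℕ) < 2), fun j => by simp⟩)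
    exact hX.2
  exfalso
  -- images
  have himage : ∀ k, 1 ≤ k → k ≤ p - 1 → (polySpace (p := p) (K := K) k).map F = polySpace (k - 1) := by
    intro k hk hkp
    have hinv : ∀ f ∈ (polySpace (p := p) (K := K) k).map F, (fun j => f (j - 1)) ∈ (polySpace k).map F := by
      rintro _ ⟨u, hu, rfl⟩
      exact ⟨_, hinvar u hu, hshift u (hmono hkp hu)⟩
    obtain ⟨-, heq⟩ := eq_polySpace hinv
    rw [heq]
    congr 1
    have hker : LinearMap.ker (F.domRestrict (polySpace (p := p) (K := K) k))
        = Submodule.comap (polySpace (p := p) (K := K) k).subtype (polySpace 1) := by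
      ext u
      simp only [LinearMap.mem_ker, LinearMap.domRestrict_apply, Submodule.mem_comap, Submodule.subtype_apply]
      constructor
      · intro h
        have : (u : ZMod p → K) ∈ Z := ⟨hmono hkp u.2, h⟩
        rw [hZeq, ← hreq] at this
        exact this
      · intro h
        have : (u : ZMod p → K) ∈ Z := by rw [hZeq, ← hreq]; exact h
        exact this.2
    have h := (F.domRestrict (polySpace (p := p) (K := K) k)).finrank_range_add_finrank_ker
    rw [LinearMap.range_domRestrict, hker, (Submodule.comapSubtypeEquivOfLe (hmono hk)).finrank_eq,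
      finrank_polySpace (by omega : 1 ≤ p), finrank_polySpace (by omega : k ≤ p)] at h
    omega
  -- the even function of degree `p - 3`
  set g : ZMod p → K := fun j => (ZMod.cast j : K) ^ (p - 3) with hg
  have hpodd : Odd p := hp.out.odd_of_ne_two (by omega)
  have hgev : ∀ j, g (-j) = g j := fun j => by
    rw [hg]
    simp only [hcastneg]
    exact Even.neg_pow (by obtain ⟨m, hm⟩ := hpodd; exact ⟨m - 1, by omega⟩) _
  have hgmem : g ∈ polySpace (p := p) (K := K) (p - 2) :=
    mem_polySpace.2 ⟨X ^ (p - 3), by rw [degree_X_pow]; exact_mod_cast (by omega : p - 3 < p - 2), fun j => by simp [hg]⟩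
  obtain ⟨u, hu, hFu⟩ : g ∈ (polySpace (p := p) (K := K) (p - 1)).map F := by
    rw [himage (p - 1) (by omega) le_rfl, show p - 1 - 1 = p - 2 by omega]
    exact hgmem
  have h2 : (2 : K) ≠ 0 := by
    intro h
    have h' : ((2 : ℕ) : K) = 0 := by exact_mod_cast h
    rw [CharP.cast_eq_zero_iff K p] at h'
    have := Nat.le_of_dvd (by norm_num) h'
    omega
  obtain ⟨P, hP, hPe⟩ := mem_polySpace.1 hu
  set Q : Polynomial K := C (2 : K)⁻¹ * (P + P.comp (C (-1 : K) * X)) with hQ
  have hQco : ∀ n, Q.coeff n = (2 : K)⁻¹ * (P.coeff n + P.coeff n * (-1) ^ n) := fun n => by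
    rw [hQ, coeff_C_mul, coeff_add, comp_C_mul_X_coeff]
  have hQdeg : Q.degree < (p - 2 : ℕ) := by
    rw [degree_lt_iff_coeff_zero]
    intro n hn
    rw [hQco]
    rcases eq_or_lt_of_le hn with h | h
    · have : Odd n := by obtain ⟨m, hm⟩ := hpodd; exact ⟨m - 1, by omega⟩
      rw [this.neg_one_pow]
      ring
    · rw [(degree_lt_iff_coeff_zero P _).1 hP n (by omega)]
      ring
  have hQu : evalMap (p := p) Q = (2 : K)⁻¹ • (u + fun j => u (-j)) := by
    funext j
    simp [evalMap_apply, hQ, hPe, hcastneg]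
  have hFQ : F (evalMap (p := p) Q) = g := by
    rw [hQu, map_smul, map_add, hneg u hu, hFu]
    funext j
    simp only [Pi.smul_apply, Pi.add_apply, hgev, smul_eq_mul]
    field_simp
    ring
  have hg2 : g ∈ polySpace (p := p) (K := K) (p - 2 - 1) := by
    rw [← himage (p - 2) (by omega) (by omega)]
    exact ⟨_, mem_polySpace.2 ⟨Q, hQdeg, fun j => rfl⟩, hFQ⟩
  obtain ⟨R, hR, hRe⟩ := mem_polySpace.1 hg2
  have heq : R = X ^ (p - 3) := by
    refine evalMap_inj (p := p) ?_ (by rw [natDegree_X_pow]; omega) (funext fun j => ?_)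
    · rcases eq_or_ne R 0 with h0 | h0
      · rw [h0, natDegree_zero]; omega
      · have := (natDegree_lt_iff_degree_lt h0).2 hR; omega
    · rw [evalMap_apply, evalMap_apply, ← hRe, hg]; simp
  rw [heq, degree_X_pow] at hR
  have : p - 3 < p - 2 - 1 := by exact_mod_cast hR
  omega

variable {α : Type*} [Fintype α] [DecidableEq α]

theorem hom_pairs_eq_zero (hα : Fintype.card α = p) (G : Subgroup (Equiv.Perm α))
    [MulAction.IsPretransitive G α] (hG : ¬ Group.IsSolvable G) (hp5 : 5 ≤ p)
    (x : G) (e : ZMod p ≃ α) (he : ∀ i, (x : Equiv.Perm α) (e i) = e (i + 1))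
    (w : G) (hw : ∀ i, (w : Equiv.Perm α) (e i) = e (-i))
    (f : Representation.IntertwiningMap (Cfsg.permSumZero K G α).toRepresentation
      (Cfsg.permRep K G (Set.powersetCard α 2)))
    (hf : ∀ v : (Cfsg.permSumZero K G α).toSubmodule,
      (v : α → K) ∈ (Cfsg.permConstants K G α).toSubmodule → f v = 0) : f = 0 := by
  classical
  have hsumcard : (Fintype.card α : K) = 0 := by rw [hα, CharP.cast_eq_zero]
  -- extend `f` to all functions
  obtain ⟨Φ, hΦ⟩ := LinearMap.exists_extend f.toLinearMap
  have hΦ' : ∀ v : (Cfsg.permSumZero K G α).toSubmodule, Φ (v : α → K) = f v := fun v =>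
    LinearMap.congr_fun hΦ v
  -- sum zero in coordinates
  have hU : ∀ u : ZMod p → K, u ∈ polySpace (p - 1) ↔
      (fun a => u (e.symm a)) ∈ (Cfsg.permSumZero K G α).toSubmodule := by
    let σ : (ZMod p → K) →ₗ[K] K := ∑ i, LinearMap.proj i
    have hσ : ∀ u, σ u = ∑ i, u i := fun u => by simp [σ]
    have hker : ∀ u ∈ LinearMap.ker σ, (fun j => u (j - 1)) ∈ LinearMap.ker σ := by
      intro u hu
      rw [LinearMap.mem_ker, hσ] at hu ⊢
      rw [← hu]
      exact Fintype.sum_equiv (Equiv.subRight 1) _ _ fun j => rfl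
    obtain ⟨-, heq⟩ := eq_polySpace hker
    have hrank : finrank K (LinearMap.ker σ) = p - 1 := by
      have h := σ.finrank_range_add_finrank_ker
      have hsurj : LinearMap.range σ = ⊤ := LinearMap.range_eq_top.2 fun c => ⟨Pi.single 0 c, by simp [hσ]⟩
      rw [hsurj, finrank_top, finrank_self, finrank_pi, ZMod.card] at h
      omega
    rw [hrank] at heq
    intro u
    rw [← heq, LinearMap.mem_ker, hσ]
    show _ ↔ ∑ a, u (e.symm a) = 0
    rw [Fintype.sum_equiv e.symm (fun a => u (e.symm a)) u (fun a => rfl)]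
  have hpair : ∀ (d i : ZMod p), d ≠ 0 → ({e (i - d), e (i + d)} : Finset α).card = 2 := by
    intro d i hd
    refine Finset.card_pair fun h => hd ?_
    have h' := e.injective h
    have h2 : (2 : ZMod p) * d = 0 := by linear_combination -h'
    rcases mul_eq_zero.1 h2 with h3 | h3
    · exfalso
      have h4 : ((2 : ℕ) : ZMod p) = 0 := by exact_mod_cast h3
      rw [ZMod.natCast_eq_zero_iff] at h4
      have := Nat.le_of_dvd (by norm_num) h4
      omega
    · exact h3
  have hxinv : ∀ i, (x⁻¹ : G) • e i = e (i - 1) := fun i => by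
    rw [inv_smul_eq_iff]
    show _ = (x : Equiv.Perm α) (e (i - 1))
    rw [he, sub_add_cancel]
  have hwinv : ∀ i, (w⁻¹ : G) • e i = e (-i) := fun i => by
    rw [inv_smul_eq_iff]
    show _ = (w : Equiv.Perm α) (e (-i))
    rw [hw, neg_neg]
  have key : ∀ (d : ZMod p) (hd : d ≠ 0) (i : ZMod p),
      Φ (fun a => (ZMod.cast (e.symm a) : K)) ⟨{e (i - d), e (i + d)}, hpair d i hd⟩ = 0 := by
    intro d hd i
    let F : (ZMod p → K) →ₗ[K] (ZMod p → K) :=
      { toFun := fun u j => Φ (fun a => u (e.symm a)) ⟨{e (j - d), e (j + d)}, hpair d j hd⟩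
        map_add' := fun u u' => funext fun j => by
          show Φ _ _ = Φ _ _ + Φ _ _
          rw [← Pi.add_apply, ← map_add]; rfl
        map_smul' := fun c u => funext fun j => by
          show Φ _ _ = c * Φ _ _
          rw [← smul_eq_mul, ← Pi.smul_apply, ← map_smul]; rfl }
    have hint : ∀ (g : G) (u : ZMod p → K) (hu : u ∈ polySpace (p - 1)) (P : Set.powersetCard α 2),
        Φ (Cfsg.permRep K G α g fun a => u (e.symm a)) P = Φ (fun a => u (e.symm a)) (g⁻¹ • P) := by
      intro g u hu P
      have h := congrFun (LinearMap.congr_fun (f.isIntertwining' g) ⟨_, (hU u).1 hu⟩) P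
      rw [show Φ (fun a => u (e.symm a)) = f ⟨_, (hU u).1 hu⟩ from hΦ' ⟨_, _⟩,
        show Φ (Cfsg.permRep K G α g fun a => u (e.symm a)) = f ((Cfsg.permSumZero K G α).toRepresentation g ⟨_, (hU u).1 hu⟩) from hΦ' ((Cfsg.permSumZero K G α).toRepresentation g ⟨_, (hU u).1 hu⟩)]
      exact h
    have h := kills_linear hp5 F ?_ ?_ ?_
    · exact congrFun h i
    · intro u hu
      funext j
      show Φ _ _ = Φ _ _
      rw [show (fun a => u (e.symm a - 1)) = Cfsg.permRep K G α x (fun a => u (e.symm a)) from funext fun a => by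
        show _ = u (e.symm (x⁻¹ • a))
        rw [show x⁻¹ • a = e (e.symm a - 1) by rw [← hxinv, Equiv.apply_symm_apply], Equiv.symm_apply_apply],
        hint x u hu]
      refine congrArg (Φ _) (Subtype.ext ?_)
      show x⁻¹ • ({e (j - d), e (j + d)} : Finset α) = _
      rw [Finset.smul_finset_insert, Finset.smul_finset_singleton, hxinv, hxinv, sub_right_comm, add_sub_right_comm]
    · intro u hu
      funext j
      show Φ _ _ = Φ _ _
      rw [show (fun a => u (-(e.symm a))) = Cfsg.permRep K G α w (fun a => u (e.symm a)) from funext fun a => by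
        show _ = u (e.symm (w⁻¹ • a))
        rw [show w⁻¹ • a = e (-(e.symm a)) by rw [← hwinv, Equiv.apply_symm_apply], Equiv.symm_apply_apply],
        hint w u hu]
      refine congrArg (Φ _) (Subtype.ext ?_)
      show w⁻¹ • ({e (j - d), e (j + d)} : Finset α) = _
      rw [Finset.smul_finset_insert, Finset.smul_finset_singleton, hwinv, hwinv, Finset.pair_comm]
      rw [show -(j + d) = -j - d by ring, show -(j - d) = -j + d by ring]
    · funext j
      show Φ (fun _ => (1 : K)) _ = 0
      have hmem : (fun _ : α => (1 : K)) ∈ (Cfsg.permSumZero K G α).toSubmodule := by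
        show ∑ _x : α, (1 : K) = 0
        simp [hsumcard]
      rw [show Φ (fun _ => (1 : K)) = f ⟨_, hmem⟩ from hΦ' ⟨_, hmem⟩,
        hf ⟨_, hmem⟩ (Submodule.mem_span_singleton_self _)]
      rfl
  -- the linear function is killed
  have hmem1 : (fun a => (ZMod.cast (e.symm a) : K)) ∈ (Cfsg.permSumZero K G α).toSubmodule :=
    (hU _).1 (mem_polySpace.2 ⟨X, by rw [degree_X]; exact_mod_cast (by omega : 1 < p - 1), fun j => by simp⟩)
  have hkill : f ⟨_, hmem1⟩ = 0 := by
    funext P
    obtain ⟨s, t, hst, hP⟩ := Finset.card_eq_two.1 P.2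
    have h2 : (2 : ZMod p) ≠ 0 := by
      intro h3
      have h4 : ((2 : ℕ) : ZMod p) = 0 := by exact_mod_cast h3
      rw [ZMod.natCast_eq_zero_iff] at h4
      have := Nat.le_of_dvd (by norm_num) h4
      omega
    have hd : (e.symm t - e.symm s) / 2 ≠ 0 :=
      div_ne_zero (sub_ne_zero.2 fun h => hst (e.symm.injective h).symm) h2
    have := key _ hd ((e.symm t + e.symm s) / 2)
    rw [show Φ (fun a => (ZMod.cast (e.symm a) : K)) = f ⟨_, hmem1⟩ from hΦ' ⟨_, hmem1⟩] at this
    refine (congrArg (f ⟨_, hmem1⟩) (Subtype.ext ?_)).trans this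
    show (P : Finset α) = _
    rw [show (P : Finset α) = {s, t} from hP]
    congr 1
    · rw [← e.apply_symm_apply s]
      congr 1
      rw [e.symm_apply_apply]
      field_simp
      ring
    · congr 1
      rw [← e.apply_symm_apply t]
      congr 1
      rw [e.symm_apply_apply]
      field_simp
      ring
  -- the kernel is everything
  let W : Subrepresentation (Cfsg.permRep K G α) :=
    { toSubmodule := (LinearMap.ker f.toLinearMap).map (Cfsg.permSumZero K G α).toSubmodule.subtype
      apply_mem_toSubmodule := by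
        rintro g _ ⟨v, hv, rfl⟩
        refine ⟨(Cfsg.permSumZero K G α).toRepresentation g v, ?_, rfl⟩
        have hv0 : f.toLinearMap v = 0 := hv
        show f.toLinearMap _ = 0
        refine (LinearMap.congr_fun (f.isIntertwining' g) v).trans ?_
        show Cfsg.permRep K G (Set.powersetCard α 2) g (f.toLinearMap v) = 0
        rw [hv0, map_zero] }
  have hW1 : (Cfsg.permConstants K G α).toSubmodule ≤ W.toSubmodule := by
    intro v hv
    have hmem : v ∈ (Cfsg.permSumZero K G α).toSubmodule := by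
      obtain ⟨c, rfl⟩ := Submodule.mem_span_singleton.1 hv
      show ∑ _x : α, c * 1 = 0
      simp [hsumcard]
    exact ⟨⟨v, hmem⟩, hf ⟨v, hmem⟩ hv, rfl⟩
  have hW2 : W.toSubmodule ≤ (Cfsg.permSumZero K G α).toSubmodule := Submodule.map_subtype_le _ _
  rcases CfsgLib.PermModule.heart_irreducible hα G hG W hW1 hW2 with hW | hW
  · exfalso
    have hin : (fun a => (ZMod.cast (e.symm a) : K)) ∈ W.toSubmodule := ⟨⟨_, hmem1⟩, hkill, rfl⟩
    rw [hW] at hin
    obtain ⟨c, hc⟩ := Submodule.mem_span_singleton.1 hin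
    have h0 := congrFun hc (e 0)
    have h1 := congrFun hc (e 1)
    simp at h0 h1
    rw [h0] at h1
    exact zero_ne_one h1
  · refine Representation.IntertwiningMap.ext (LinearMap.ext fun v => ?_)
    obtain ⟨v', hv', hvv⟩ : (v : α → K) ∈ W.toSubmodule := by rw [hW]; exact v.2
    rw [show v = v' from Subtype.ext hvv.symm]
    exact hv'

end Cfsg.Agent.Lib.Perm
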