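import Cfsg.Agent.Lib.Perm.HalfNormalizerCoords
import Cfsg.Agent.Lib.Perm.NettoTriples
import Cfsg.Agent.S0676

/-!
# Prime degree with half normaliser: point stabilisers are primitive

An imprimitive point stabiliser gives an invariant linear space; its lines have three points and it
is a Netto system, whose automorphisms are not transitive on triangles.
-/

set_option autoImplicit false
set_option linter.unusedSectionVars false
set_option linter.style.haveILetI false

namespace CfsgLib.HalfNormalizer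

open MulAction
open scoped _root_.Classical Pointwise

variable {G Ω : Type*} [Group G] [MulAction G Ω] [FaithfulSMul G Ω] [Fintype Ω] [Finite G]
  [IsPretransitive G Ω] {p : ℕ} [Fact p.Prime]

theorem three_transitive_stabilizer (h3 : IsMultiplyPretransitive G Ω 3) (α : Ω) :
    IsPreprimitive ↥(stabilizer G α) ↥(SubMulAction.ofStabilizer G α) :=
  isPreprimitive_of_is_two_pretransitive (SubMulAction.ofStabilizer.isMultiplyPretransitive.mp h3)

/-- Abstract form: an invariant linear space with triangle transitivity is impossible. -/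
theorem no_linear_space (hΩ : Fintype.card Ω = p) (hins : ¬ Group.IsSolvable G) (hp7 : 7 < p)
    (e : ZMod p ≃ Ω) (S : Finset (ZMod p))
    (hmul : ∀ s ∈ S, ∀ t ∈ S, s * t ∈ S) (hnot : ∀ s : ZMod p, s ∈ S → -s ∉ S)
    (htot : ∀ s : ZMod p, s ≠ 0 → s ∈ S ∨ -s ∈ S)
    (haff : ∀ s ∈ S, ∀ b : ZMod p, ∃ σ : G, ∀ i, σ • e i = e (s * i + b))
    (T : Ω → Ω → Ω → Prop) (hTg : ∀ (g : G) a b c, T a b c → T (g • a) (g • b) (g • c))
    (hne : ∀ a b c, T a b c → a ≠ b ∧ a ≠ c ∧ b ≠ c) (hswap : ∀ a b c, T a b c → T a c b)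
    (hperm : ∀ a b c, T a b c → T b a c)
    (htrans : ∀ a b c d, T a b c → T a b d → c ≠ d → T a c d)
    (hex : ∀ a b, a ≠ b → ∃ c, T a b c) (hex' : ∀ a b, a ≠ b → ∃ c, c ≠ a ∧ c ≠ b ∧ ¬ T a b c)
    (htri : ∀ a b c a' b' c', a ≠ b → c ≠ a → c ≠ b → ¬ T a b c → a' ≠ b' → c' ≠ a' → c' ≠ b' →
      ¬ T a' b' c' → ∃ g : G, g • a = a' ∧ g • b = b' ∧ g • c = c') : False := by
  have hp : p.Prime := Fact.out
  have h1S : (1 : ZMod p) ∈ S := by
    rcases htot 1 one_ne_zero with h | h
    · exact h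
    · exact absurd (by simpa using hmul _ h _ h) (fun h' => hnot 1 h' h)
  have h0S : (0 : ZMod p) ∉ S := fun h => hnot 0 h (by rwa [neg_zero])
  -- lines in coordinates
  let L : ZMod p → ZMod p → Finset (ZMod p) := fun x y =>
    Finset.univ.filter fun w => w = x ∨ w = y ∨ T (e x) (e y) (e w)
  have hLmem : ∀ {x y w}, w ∈ L x y ↔ w = x ∨ w = y ∨ T (e x) (e y) (e w) := by
    intro x y w; simp [L]
  have hLaff : ∀ (σ : G) (s b : ZMod p), s ≠ 0 → (∀ i, σ • e i = e (s * i + b)) → ∀ x y,
      L (s * x + b) (s * y + b) = (L x y).image fun w => s * w + b := by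
    intro σ s b hs hσ x y
    ext w
    simp only [Finset.mem_image, hLmem]
    constructor
    · intro hw
      refine ⟨(w - b) / s, ?_, by field_simp; ring⟩
      have hw' : w = s * ((w - b) / s) + b := by field_simp; ring
      rcases hw with h | h | h
      · left; rw [h]; field_simp; ring
      · right; left; rw [h]; field_simp; ring
      · right; right
        have := hTg σ⁻¹ _ _ _ h
        rw [hw', ← hσ, ← hσ, ← hσ, inv_smul_smul, inv_smul_smul, inv_smul_smul] at this
        exact this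
    · rintro ⟨v, hv | hv | hv, rfl⟩
      · left; rw [hv]
      · right; left; rw [hv]
      · right; right
        have := hTg σ _ _ _ hv
        rwa [hσ, hσ, hσ] at this
  have hLsymm : ∀ x y, L x y = L y x := by
    intro x y; ext w; simp only [hLmem]
    constructor <;> rintro (h | h | h)
    all_goals first | exact Or.inl h | exact Or.inr (Or.inl h) | exact Or.inr (Or.inr (hperm _ _ _ h))
  have hLsub : ∀ {x y w}, x ≠ y → w ∈ L x y → w ≠ x → L x w = L x y := by
    intro x y w hxy hw hwx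
    rcases hLmem.1 hw with h | h | h
    · exact absurd h hwx
    · rw [h]
    · ext v; simp only [hLmem]
      constructor
      · rintro (h' | h' | h')
        · exact Or.inl h'
        · exact Or.inr (Or.inr (h' ▸ h))
        · by_cases hvy : v = y
          · exact Or.inr (Or.inl hvy)
          · exact Or.inr (Or.inr (htrans _ _ _ _ (hswap _ _ _ h) h' (e.injective.ne (Ne.symm hvy))))
      · rintro (h' | h' | h')
        · exact Or.inl h'
        · exact Or.inr (Or.inr (h' ▸ hswap _ _ _ h))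
        · by_cases hvw : v = w
          · exact Or.inr (Or.inl hvw)
          · exact Or.inr (Or.inr (htrans _ _ _ _ h h' (e.injective.ne (Ne.symm hvw))))
  have hLpair : ∀ {a b x y}, a ≠ b → x ∈ L a b → y ∈ L a b → x ≠ y → L x y = L a b := by
    intro a b x y hab hx hy hxy
    by_cases hxa : x = a
    · subst hxa
      exact hLsub hab hy (Ne.symm hxy)
    · have h1 : L x a = L a b := by rw [hLsymm, hLsub hab hx hxa]
      rw [← h1]
      exact hLsub hxa (by rw [h1]; exact hy) (Ne.symm hxy)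
  -- the sum over a line
  set L0 := L 0 1 with hL0
  set K : ℕ := L0.card with hK
  set u : ZMod p := ∑ w ∈ L0, w with hu
  have hsum : ∀ x y, y - x ∈ S →
      L x y = L0.image (fun w => (y - x) * w + x) ∧
      ∑ w ∈ L x y, w = u * (y - x) + (K : ZMod p) * x := by
    intro x y h
    have hs : y - x ≠ 0 := fun h' => h0S (h' ▸ h)
    obtain ⟨σ, hσ⟩ := haff _ h x
    have := hLaff σ _ _ hs hσ 0 1
    rw [mul_zero, zero_add, mul_one, sub_add_cancel] at this
    refine ⟨this, ?_⟩
    rw [this, Finset.sum_image (fun a _ b _ hab => mul_left_cancel₀ hs (add_right_cancel hab))]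
    rw [Finset.sum_add_distrib, Finset.sum_const, ← Finset.mul_sum, nsmul_eq_mul]
    ring
  obtain ⟨c0, hc0⟩ := hex (e 0) (e 1) (e.injective.ne zero_ne_one)
  obtain ⟨d0, hd0a, hd0b, hd0⟩ := hex' (e 0) (e 1) (e.injective.ne zero_ne_one)
  have hK3 : 3 ≤ K := by
    obtain ⟨w, rfl⟩ : ∃ w, e w = c0 := ⟨_, e.apply_symm_apply c0⟩
    obtain ⟨h01, h0w, h1w⟩ := hne _ _ _ hc0
    have hsub : ({0, 1, w} : Finset (ZMod p)) ⊆ L0 := by
      intro v hv
      simp only [Finset.mem_insert, Finset.mem_singleton] at hv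
      rw [hL0, hLmem]
      rcases hv with rfl | rfl | rfl
      · exact Or.inl rfl
      · exact Or.inr (Or.inl rfl)
      · exact Or.inr (Or.inr hc0)
    have := Finset.card_le_card hsub
    have n1 : (1 : ZMod p) ∉ ({w} : Finset (ZMod p)) := by
      rw [Finset.mem_singleton]; exact fun h => h1w (congrArg e h)
    have n0 : (0 : ZMod p) ∉ ({1, w} : Finset (ZMod p)) := by
      rw [Finset.mem_insert, Finset.mem_singleton, not_or]
      exact ⟨zero_ne_one, fun h => h0w (congrArg e h)⟩
    rwa [Finset.card_insert_of_notMem n0, Finset.card_insert_of_notMem n1,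
      Finset.card_singleton] at this
  have hKp : K < p := by
    have : L0 ⊂ Finset.univ := by
      refine (Finset.ssubset_iff_of_subset (Finset.subset_univ _)).2
        ⟨e.symm d0, Finset.mem_univ _, ?_⟩
      rw [hL0, hLmem, e.apply_symm_apply]
      rintro (h | h | h)
      · exact hd0a (by rw [← h, e.apply_symm_apply])
      · exact hd0b (by rw [← h, e.apply_symm_apply])
      · exact hd0 h
    have := Finset.card_lt_card this
    rwa [Finset.card_univ, ZMod.card] at this
  have hK0 : (K : ZMod p) ≠ 0 := by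
    rw [Ne, ZMod.natCast_eq_zero_iff]
    intro h; have := Nat.le_of_dvd (by omega) h; omega
  have hmem0 : (0 : ZMod p) ∈ L0 ∧ (1 : ZMod p) ∈ L0 :=
    ⟨hLmem.2 (Or.inl rfl), hLmem.2 (Or.inr (Or.inl rfl))⟩
  have heq : ∀ x ∈ L0, ∀ y ∈ L0, y - x ∈ S → u * (y - x) + (K : ZMod p) * x = u := by
    intro x hx y hy h
    have hxy : x ≠ y := fun h' => h0S (by rw [h', sub_self] at h; exact h)
    rw [← (hsum x y h).2, hLpair zero_ne_one hx hy hxy]
  -- no transitive triangles on a line
  have hcyc : ∀ a ∈ L0, ∀ b ∈ L0, ∀ c ∈ L0, b - a ∈ S → c - a ∈ S → c - b ∈ S → False := by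
    intro a ha b hb c hc hab hac hbc
    have h1 := heq a ha b hb hab
    have h2 := heq a ha c hc hac
    have h3 := heq b hb c hc hbc
    have hu0 : u = 0 := by
      rcases mul_eq_zero.1 (show u * (c - b) = 0 by linear_combination h2 - h1) with h | h
      · exact h
      · exact absurd hbc (by rw [h]; exact h0S)
    rw [hu0] at h2 h3
    have : (K : ZMod p) * (b - a) = 0 := by linear_combination h3 - h2
    rcases mul_eq_zero.1 this with h | h
    · exact hK0 h
    · exact h0S (h ▸ hab)
  have hKle : K ≤ 3 := by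
    by_contra hlt
    -- two of three points are on the same side of `0`
    have hcard : 3 ≤ (L0.erase 0).card := by
      rw [Finset.card_erase_of_mem hmem0.1]; omega
    have hsplit : (L0.erase 0).card ≤
        ((L0.erase 0).filter fun w => w - 0 ∈ S).card + ((L0.erase 0).filter fun w => 0 - w ∈ S).card := by
      refine (Finset.card_le_card fun w hw => ?_).trans (Finset.card_union_le _ _)
      obtain ⟨hw0, hw'⟩ := Finset.mem_erase.1 hw
      rcases htot w hw0 with h | h
      · exact Finset.mem_union_left _ (Finset.mem_filter.2 ⟨hw, by rwa [sub_zero]⟩)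
      · exact Finset.mem_union_right _ (Finset.mem_filter.2 ⟨hw, by rwa [zero_sub]⟩)
    have hside : ∀ (P : ZMod p → Prop) [DecidablePred P], 2 ≤ ((L0.erase 0).filter P).card →
        ∃ b c, b ∈ L0 ∧ c ∈ L0 ∧ P b ∧ P c ∧ c - b ∈ S := by
      intro P _ h
      obtain ⟨b, hb, c, hc, hbc⟩ := Finset.one_lt_card.1 h
      simp only [Finset.mem_filter, Finset.mem_erase] at hb hc
      rcases htot _ (sub_ne_zero.2 (Ne.symm hbc)) with h' | h'
      · exact ⟨b, c, hb.1.2, hc.1.2, hb.2, hc.2, h'⟩
      · exact ⟨c, b, hc.1.2, hb.1.2, hc.2, hb.2, by rwa [neg_sub] at h'⟩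
    rcases le_or_gt 2 ((L0.erase 0).filter fun w => w - 0 ∈ S).card with h | h
    · obtain ⟨b, c, hb, hc, hPb, hPc, hbc⟩ := hside _ h
      exact hcyc 0 hmem0.1 b hb c hc hPb hPc hbc
    · obtain ⟨b, c, hb, hc, hPb, hPc, hbc⟩ := hside (fun w => 0 - w ∈ S) (by omega)
      exact hcyc b hb c hc 0 hmem0.1 hbc hPb hPc
  obtain ⟨z, rfl⟩ : ∃ w, e w = c0 := ⟨_, e.apply_symm_apply c0⟩
  obtain ⟨h01, h0z, h1z⟩ := hne _ _ _ hc0
  have hz0 : z ≠ 0 := fun h => h0z (by rw [h])
  have hz1 : z ≠ 1 := fun h => h1z (by rw [h])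
  have hzL : z ∈ L0 := hLmem.2 (Or.inr (Or.inr hc0))
  have hzS : -z ∈ S := by
    rcases htot z hz0 with h | h
    · exfalso
      rcases htot (z - 1) (sub_ne_zero.2 hz1) with h' | h'
      · exact hcyc 0 hmem0.1 1 hmem0.2 z hzL (by rwa [sub_zero]) (by rwa [sub_zero]) h'
      · exact hcyc 0 hmem0.1 z hzL 1 hmem0.2 (by rwa [sub_zero]) (by rwa [sub_zero])
          (by rwa [neg_sub] at h')
    · exact h
  have hz1S : z - 1 ∈ S := by
    rcases htot (z - 1) (sub_ne_zero.2 hz1) with h' | h'
    · exact h'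
    · exact (hcyc z hzL 0 hmem0.1 1 hmem0.2 (by rwa [zero_sub]) (by rwa [neg_sub] at h')
        (by rwa [sub_zero])).elim
  have hz : z * z = z - 1 := by
    have h1 := heq 1 hmem0.2 z hzL hz1S
    have h2 := heq z hzL 0 hmem0.1 (by rwa [zero_sub])
    have hv : (K : ZMod p) - u ≠ 0 := fun h => by
      have hu0 : u = 0 := by
        linear_combination -h2 + z * h
      exact hK0 (by linear_combination h + hu0)
    rcases mul_eq_zero.1 (show ((K : ZMod p) - u) * (z * z - z + 1) = 0 by
        linear_combination h1 + (z - 1) * h2) with h | h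
    · exact absurd h hv
    · linear_combination h
  let D : Netto.Data p :=
    { S := S, z := z, mul_mem := hmul, notMem := hnot, total := htot, hz := hz, negz := hzS }
  have hL0eq : L0 = {0, 1, z} := by
    refine (Finset.eq_of_subset_of_card_le (fun v hv => ?_) ?_).symm
    · simp only [Finset.mem_insert, Finset.mem_singleton] at hv
      rcases hv with rfl | rfl | rfl
      exacts [hmem0.1, hmem0.2, hzL]
    · rw [Finset.card_insert_of_notMem (by simp [Ne.symm hz0]),
        Finset.card_insert_of_notMem (by simp [Ne.symm hz1]), Finset.card_singleton]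
      exact hKle
  have hopT : ∀ x y w, x ≠ y → w ≠ x → w ≠ y → (T (e x) (e y) (e w) ↔ w = Netto.op D x y) := by
    intro x y w hxy hwx hwy
    have hiff : T (e x) (e y) (e w) ↔ w ∈ L x y := by
      rw [hLmem]; simp [hwx, hwy]
    rw [hiff]
    rcases htot (y - x) (sub_ne_zero.2 (Ne.symm hxy)) with h | h
    · rw [(hsum x y h).1, hL0eq, Netto.op_pos D h]
      simp only [Finset.image_insert, Finset.image_singleton, Finset.mem_insert,
        Finset.mem_singleton, mul_zero, zero_add, mul_one, sub_add_cancel, hwx, hwy, false_or]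
      show w = (y - x) * z + x ↔ w = x + z * (y - x)
      constructor <;> intro h <;> rw [h] <;> ring
    · rw [neg_sub] at h
      rw [hLsymm, (hsum y x h).1, hL0eq, Netto.op_neg D h]
      simp only [Finset.image_insert, Finset.image_singleton, Finset.mem_insert,
        Finset.mem_singleton, mul_zero, zero_add, mul_one, sub_add_cancel, hwx, hwy, false_or]
      show w = (x - y) * z + y ↔ w = y + z * (x - y)
      constructor <;> intro h <;> rw [h] <;> ring
  have hop_ne : ∀ x y, x ≠ y → Netto.op D x y ≠ x ∧ Netto.op D x y ≠ y := by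
    intro x y hxy
    rcases htot (y - x) (sub_ne_zero.2 (Ne.symm hxy)) with h | h
    · rw [Netto.op_pos D h]
      constructor
      · intro h'
        rcases mul_eq_zero.1 (show z * (y - x) = 0 from by linear_combination h') with h'' | h''
        exacts [hz0 h'', h0S (h'' ▸ h)]
      · intro h'
        rcases mul_eq_zero.1 (show (z - 1) * (y - x) = 0 from by linear_combination h') with h'' | h''
        exacts [hz1 (sub_eq_zero.1 h''), h0S (h'' ▸ h)]
    · rw [neg_sub] at h
      rw [Netto.op_neg D h]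
      constructor
      · intro h'
        rcases mul_eq_zero.1 (show (z - 1) * (x - y) = 0 from by linear_combination h') with h'' | h''
        exacts [hz1 (sub_eq_zero.1 h''), h0S (h'' ▸ h)]
      · intro h'
        rcases mul_eq_zero.1 (show z * (x - y) = 0 from by linear_combination h') with h'' | h''
        exacts [hz0 h'', h0S (h'' ▸ h)]
  refine Netto.not_triangle_transitive D hp7 fun x y w x' y' w' ht ht' => ?_
  obtain ⟨hxy, hwx, hwy, hw⟩ := ht
  obtain ⟨hxy', hwx', hwy', hw'⟩ := ht'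
  obtain ⟨g, hga, hgb, hgc⟩ := htri (e x) (e y) (e w) (e x') (e y') (e w')
    (e.injective.ne hxy) (e.injective.ne hwx) (e.injective.ne hwy) (mt (hopT x y w hxy hwx hwy).1 hw)
    (e.injective.ne hxy') (e.injective.ne hwx') (e.injective.ne hwy')
    (mt (hopT x' y' w' hxy' hwx' hwy').1 hw')
  refine ⟨fun i => e.symm (g • e i), fun i j hij =>
    e.injective (smul_left_cancel g (e.symm.injective hij)), fun a b => ?_, ?_, ?_, ?_⟩
  · rcases eq_or_ne a b with rfl | hab
    · simp [Netto.op_self]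
    · obtain ⟨hna, hnb⟩ := hop_ne a b hab
      have := hTg g _ _ _ ((hopT a b _ hab hna hnb).2 rfl)
      obtain ⟨n1, n2, n3⟩ := hne _ _ _ this
      refine (hopT _ _ _ ?_ ?_ ?_).1 ?_
      · exact fun h => n1 (e.symm.injective h)
      · exact fun h => n2 (e.symm.injective h).symm
      · exact fun h => n3 (e.symm.injective h).symm
      · simpa using this
  · show e.symm (g • e x) = x'
    rw [hga, e.symm_apply_apply]
  · show e.symm (g • e y) = y'
    rw [hgb, e.symm_apply_apply]
  · show e.symm (g • e w) = w'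
    rw [hgc, e.symm_apply_apply]

set_option maxHeartbeats 2000000 in
/-- With exactly four orbits of two-point stabilisers a point stabiliser is primitive. -/
theorem stabilizer_primitive (hΩ : Fintype.card Ω = p) (hins : ¬ Group.IsSolvable G) (hp7 : 7 < p)
    (P : Sylow p G)
    (hN : 2 * Nat.card ↥(Subgroup.normalizer ((P : Subgroup G) : Set G)) = p * (p - 1))
    (hp3 : p % 4 = 3)
    (h4 : ∀ a b : Ω, a ≠ b →
      Nat.card (orbitRel.Quotient ↥(stabilizer G a ⊓ stabilizer G b) Ω) = 4) (α : Ω) :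
    IsPreprimitive ↥(stabilizer G α) ↥(SubMulAction.ofStabilizer G α) := by
  haveI : IsPretransitive ↥(stabilizer G α) ↥(SubMulAction.ofStabilizer G α) := by
    refine ⟨fun x y => ?_⟩
    obtain ⟨g, hg, hgx⟩ := two_transitive hΩ hins (a := α) (b := (x : Ω)) (c := α) (d := (y : Ω))
      (fun h => x.2 h.symm) (fun h => y.2 h.symm)
    exact ⟨⟨g, hg⟩, Subtype.ext hgx⟩
  obtain ⟨e, S, hmul, hnot, htot, haff⟩ := exists_half hΩ P hN hp3
  refine IsPreprimitive.mk fun {B} hB => ?_
  by_contra htriv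
  rw [IsTrivialBlock, not_or] at htriv
  obtain ⟨hsub, hproper⟩ := htriv
  rw [Set.not_subsingleton_iff] at hsub
  obtain ⟨β, hβB, γ0, hγB, hβγ⟩ := hsub
  obtain ⟨δ0, hδB⟩ := (Set.ne_univ_iff_exists_notMem B).1 hproper
  have hblock : ∀ g : G, g • α = α → ∀ x y : Ω, x ∈ Subtype.val '' B → g • x ∈ Subtype.val '' B →
      y ∈ Subtype.val '' B → g • y ∈ Subtype.val '' B := by
    rintro g hg _ _ ⟨x, hx, rfl⟩ hgx ⟨y, hy, rfl⟩
    obtain ⟨w, hw, hwe⟩ := hgx
    let g' : stabilizer G α := ⟨g, hg⟩
    have hgB : g' • x ∈ B := by rwa [show g' • x = w from Subtype.ext hwe.symm]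
    have hfix : g' • B = B := hB.smul_eq_of_mem hx hgB
    exact ⟨g' • y, hfix ▸ Set.smul_mem_smul_set hy, rfl⟩
  set B' : Set Ω := Subtype.val '' B with hB'
  have hβ' : (β : Ω) ∈ B' := ⟨β, hβB, rfl⟩
  have hBne : ∀ y ∈ B', y ≠ α := by
    rintro _ ⟨y, -, rfl⟩
    exact y.2
  let T : Ω → Ω → Ω → Prop := fun a b c => b ≠ c ∧ ∃ g : G, g • a = α ∧ g • b = β ∧ g • c ∈ B'
  have hTg : ∀ (g : G) a b c, T a b c → T (g • a) (g • b) (g • c) := by
    rintro g a b c ⟨hbc, k, ha, hb, hc⟩
    exact ⟨fun h => hbc (smul_left_cancel g h), k * g⁻¹, by simpa [mul_smul] using ha,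
      by simpa [mul_smul] using hb, by simpa [mul_smul] using hc⟩
  have hne : ∀ a b c, T a b c → a ≠ b ∧ a ≠ c ∧ b ≠ c := by
    rintro a b c ⟨hbc, k, ha, hb, hc⟩
    exact ⟨fun h => β.2 (show (β : Ω) = α by rw [← hb, ← h, ha]), fun h => hBne _ hc (by rw [← h, ha]), hbc⟩
  have hswap : ∀ a b c, T a b c → T a c b := by
    rintro a b c ⟨hbc, k, ha, hb, hc⟩
    obtain ⟨h, hhα, hhc⟩ := two_transitive hΩ hins (fun e => hBne _ hc e.symm) (fun e => β.2 e.symm)
      (a := α) (c := α) (b := k • c) (d := (β : Ω))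
    refine ⟨Ne.symm hbc, h * k, by rw [mul_smul, ha, hhα], by rw [mul_smul, hhc], ?_⟩
    rw [mul_smul, hb]
    exact hblock h hhα _ _ hc (by rw [hhc]; exact hβ') hβ'
  have htrans : ∀ a b c d, T a b c → T a b d → c ≠ d → T a c d := by
    rintro a b c d ⟨hbc, k, ha, hb, hc⟩ ⟨hbd, k', ha', hb', hd⟩ hcd
    have hd' : k • d ∈ B' := by
      have h1 : (k * k'⁻¹) • α = α := by
        rw [mul_smul, show k'⁻¹ • α = a by rw [← ha', inv_smul_smul], ha]
      have h2 : (k * k'⁻¹) • (β : Ω) = β := by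
        rw [mul_smul, ← hb', inv_smul_smul, hb, hb']
      have := hblock _ h1 _ _ hβ' (by rw [h2]; exact hβ') hd
      rwa [mul_smul, inv_smul_smul] at this
    obtain ⟨h, hhα, hhc⟩ := two_transitive hΩ hins (fun e => hBne _ hc e.symm) (fun e => β.2 e.symm)
      (a := α) (c := α) (b := k • c) (d := (β : Ω))
    refine ⟨hcd, h * k, by rw [mul_smul, ha, hhα], by rw [mul_smul, hhc], ?_⟩
    rw [mul_smul]
    exact hblock h hhα _ _ hc (by rw [hhc]; exact hβ') hd'
  have hex : ∀ a b, a ≠ b → ∃ c, T a b c := by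
    intro a b hab
    obtain ⟨g, ha, hb⟩ := two_transitive hΩ hins hab (fun e => β.2 e.symm) (c := α) (d := (β : Ω))
    refine ⟨g⁻¹ • (γ0 : Ω), fun h => hβγ (Subtype.ext ?_), g, ha, hb, ?_⟩
    · rw [← hb, h, smul_inv_smul]
    · rw [smul_inv_smul]; exact ⟨γ0, hγB, rfl⟩
  have hex' : ∀ a b, a ≠ b → ∃ c, c ≠ a ∧ c ≠ b ∧ ¬ T a b c := by
    intro a b hab
    obtain ⟨g, ha, hb⟩ := two_transitive hΩ hins hab (fun e => β.2 e.symm) (c := α) (d := (β : Ω))
    refine ⟨g⁻¹ • (δ0 : Ω), fun h => δ0.2 ?_, fun h => hδB ?_, ?_⟩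
    · exact (smul_inv_smul g (δ0 : Ω)).symm.trans (by rw [h, ha])
    · have : (δ0 : Ω) = β := (smul_inv_smul g (δ0 : Ω)).symm.trans (by rw [h, hb])
      rw [Subtype.ext this]; exact hβB
    · intro hT
      obtain ⟨-, k, hka, hkb, hkc⟩ := hT
      have h1 : (g * k⁻¹) • α = α := by rw [mul_smul, ← hka, inv_smul_smul, ha, hka]
      have h2 : (g * k⁻¹) • (β : Ω) = β := by rw [mul_smul, ← hkb, inv_smul_smul, hb, hkb]
      have := hblock _ h1 _ _ hβ' (by rw [h2]; exact hβ') hkc
      rw [mul_smul, inv_smul_smul, smul_inv_smul] at this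
      obtain ⟨y, hy, hye⟩ := this
      exact hδB (Subtype.ext hye ▸ hy)
  -- conjugacy of triples of either kind
  clear_value T
  have hdich : ∀ a b c d, a ≠ b → c ≠ a → c ≠ b → d ≠ a → d ≠ b → (T a b c ↔ T a b d) →
      ∃ g : G, g • a = a ∧ g • b = b ∧ g • c = d := by
    intro a b c d hab hca hcb hda hdb hiff
    by_contra hno
    push Not at hno
    obtain ⟨x, hx⟩ := hex a b hab
    obtain ⟨y, hya, hyb, hy⟩ := hex' a b hab
    obtain ⟨-, hxa, hxb⟩ := hne _ _ _ hx
    set H := stabilizer G a ⊓ stabilizer G b with hH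
    have hTH : ∀ k ∈ H, ∀ v, T a b v → T a b (k • v) := by
      intro k hk v hv
      have := hTg k _ _ _ hv
      rwa [mem_stabilizer_iff.1 (Subgroup.mem_inf.1 hk).1,
        mem_stabilizer_iff.1 (Subgroup.mem_inf.1 hk).2] at this
    have hfixed : ∀ k ∈ H, ∀ v, (k • v = a ↔ v = a) ∧ (k • v = b ↔ v = b) := by
      intro k hk v
      have h1 := mem_stabilizer_iff.1 (Subgroup.mem_inf.1 hk).1
      have h2 := mem_stabilizer_iff.1 (Subgroup.mem_inf.1 hk).2
      exact ⟨⟨fun h => smul_left_cancel k (h.trans h1.symm), fun h => h ▸ h1⟩,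
        ⟨fun h => smul_left_cancel k (h.trans h2.symm), fun h => h ▸ h2⟩⟩
    have hdiff : ∀ k ∈ H, k • c ≠ d ∧ k • d ≠ c := by
      intro k hk
      have h1 := mem_stabilizer_iff.1 (Subgroup.mem_inf.1 hk).1
      have h2 := mem_stabilizer_iff.1 (Subgroup.mem_inf.1 hk).2
      refine ⟨hno k h1 h2, fun h => hno k⁻¹ ?_ ?_ (by rw [← h, inv_smul_smul])⟩
      · rw [inv_smul_eq_iff, h1]
      · rw [inv_smul_eq_iff, h2]
    -- five classes
    obtain ⟨w, hwa, hwb, hw⟩ : ∃ w, w ≠ a ∧ w ≠ b ∧ ((T a b w ↔ ¬ T a b c)) := by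
      by_cases hc : T a b c
      · exact ⟨y, hya, hyb, by simp [hc, hy]⟩
      · exact ⟨x, Ne.symm hxa, Ne.symm hxb, by simp [hc, hx]⟩
    let R : Ω → Ω → Prop := fun u u' => ∀ k ∈ H, k • u ≠ u'
    have hRsymm : ∀ {u u'}, R u u' → R u' u := fun h k hk e =>
      h k⁻¹ (H.inv_mem hk) (by rw [← e, inv_smul_smul])
    have Ra : ∀ {u}, u ≠ a → R u a := fun hu k hk e => hu ((hfixed k hk _).1.1 e)
    have Rb : ∀ {u}, u ≠ b → R u b := fun hu k hk e => hu ((hfixed k hk _).2.1 e)
    have hsame : ∀ k ∈ H, ∀ u, T a b (k • u) ↔ T a b u := fun k hk u =>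
      ⟨fun h => (inv_smul_smul k u) ▸ hTH k⁻¹ (H.inv_mem hk) (k • u) h, hTH k hk u⟩
    have RT : ∀ {u}, (T a b u ↔ ¬ T a b w) → R u w := fun {u} hu k hk e => by
      have h := hsame k hk u
      rw [e] at h
      tauto
    have r01 : R b a := Ra hab.symm
    have r02 : R c a := Ra hca
    have r03 : R d a := Ra hda
    have r04 : R w a := Ra hwa
    have r12 : R c b := Rb hcb
    have r13 : R d b := Rb hdb
    have r14 : R w b := Rb hwb
    have r23 : R c d := fun k hk => (hdiff k hk).1
    have r24 : R c w := RT (by tauto)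
    have r34 : R d w := RT (by tauto)
    have hpw : [a, b, c, d, w].Pairwise fun x y => R y x := by
      simp only [List.pairwise_cons, List.mem_cons, List.not_mem_nil, or_false, forall_eq_or_imp,
        forall_eq, IsEmpty.forall_iff, implies_true, List.Pairwise.nil, and_true]
      exact ⟨⟨r01, r02, r03, r04⟩, ⟨r12, r13, r14⟩, ⟨hRsymm r23, hRsymm r24⟩, hRsymm r34⟩
    have hnd : ([a, b, c, d, w].map fun x =>
        (Quotient.mk _ x : orbitRel.Quotient ↥H Ω)).Nodup := by
      refine hpw.map _ fun x y hxy heq => ?_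
      obtain ⟨⟨k, hk⟩, hkxy⟩ := Quotient.exact heq
      exact hxy k hk hkxy
    haveI : Fintype (orbitRel.Quotient ↥H Ω) := Fintype.ofFinite _
    have hlen := hnd.length_le_card
    rw [← Nat.card_eq_fintype_card, h4 a b hab] at hlen
    simp at hlen
  have hconj : ∀ a b c a' b' c', a ≠ b → c ≠ a → c ≠ b → a' ≠ b' → c' ≠ a' → c' ≠ b' →
      (T a b c ↔ T a' b' c') → ∃ g : G, g • a = a' ∧ g • b = b' ∧ g • c = c' := by
    intro a b c a' b' c' hab hca hcb hab' hca' hcb' hiff
    obtain ⟨g, ha, hb⟩ := two_transitive hΩ hins hab hab'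
    have hiff' : T a' b' (g • c) ↔ T a' b' c' := by
      refine Iff.trans ⟨fun h => ?_, fun h => ?_⟩ hiff
      · have := hTg g⁻¹ _ _ _ h
        rwa [← ha, ← hb, inv_smul_smul, inv_smul_smul, inv_smul_smul] at this
      · have := hTg g _ _ _ h
        rwa [ha, hb] at this
    obtain ⟨h, hha, hhb, hhc⟩ := hdich a' b' (g • c) c' hab'
      (fun e => hca (smul_left_cancel g (e.trans ha.symm)))
      (fun e => hcb (smul_left_cancel g (e.trans hb.symm))) hca' hcb' hiff'
    exact ⟨h * g, by rw [mul_smul, ha, hha], by rw [mul_smul, hb, hhb], by rw [mul_smul, hhc]⟩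
  have hperm : ∀ a b c, T a b c → T b a c := by
    intro a b c hT
    by_contra hn
    obtain ⟨hab, hac, hbc⟩ := hne _ _ _ hT
    have hall : ∀ x y w, T x y w → ¬ T y x w := by
      intro x y w hxyw hyxw
      obtain ⟨hxy, hxw, hyw⟩ := hne _ _ _ hxyw
      obtain ⟨g, g1, g2, g3⟩ := hconj x y w a b c hxy hxw.symm hyw.symm hab hac.symm hbc.symm
        (iff_of_true hxyw hT)
      have := hTg g _ _ _ hyxw
      rw [g1, g2, g3] at this
      exact hn this
    have hn2 : ¬ T b c a := fun h => hn (hswap _ _ _ h)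
    obtain ⟨g, g1, g2, g3⟩ := hconj b a c b c a hab.symm hbc.symm hac.symm hbc hab hac
      (iff_of_false hn hn2)
    have := hTg g _ _ _ hT
    rw [g1, g2, g3] at this
    exact hall _ _ _ (hswap _ _ _ hT) (hswap _ _ _ this)
  exact no_linear_space hΩ hins hp7 e S hmul hnot htot haff T hTg hne hswap hperm htrans hex hex'
    fun a b c a' b' c' hab hca hcb h hab' hca' hcb' h' =>
      hconj a b c a' b' c' hab hca hcb hab' hca' hcb' (iff_of_false h h')

/-- An insoluble group of prime degree with a Sylow normaliser of even order is triply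
transitive. -/
theorem three_transitive_of_even (hΩ : Fintype.card Ω = p) (hins : ¬ Group.IsSolvable G)
    (P : Sylow p G)
    (heven : Even (Nat.card ↥(Subgroup.normalizer ((P : Subgroup G) : Set G)))) :
    IsMultiplyPretransitive G Ω 3 := by
  haveI := range_pretransitive (G := G) (Ω := Ω)
  set f : G ≃* (toPermHom G Ω).range := rangeEquiv with hf
  let P' : Sylow p (toPermHom G Ω).range := P.mapSurjective (f := f.toMonoidHom) f.surjective
  have hev' : Even (Nat.card ↥(Subgroup.normalizer ((P' : Subgroup (toPermHom G Ω).range) : Set (toPermHom G Ω).range))) := by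
    rw [show (P' : Subgroup (toPermHom G Ω).range) = (P : Subgroup G).map f.toMonoidHom from rfl]
    rw [← Subgroup.map_equiv_normalizer_eq]
    rwa [Nat.card_congr ((Subgroup.normalizer ((P : Subgroup G) : Set G)).equivMapOfInjective
      f.toMonoidHom f.injective).toEquiv] at heven
  have h3 := Cfsg.Agent.S0676.result hΩ (toPermHom G Ω).range (range_not_solvable hins) P' hev'
  refine ⟨fun x y => ?_⟩
  obtain ⟨g, hg⟩ := MulAction.exists_smul_eq (toPermHom G Ω).range x y
  obtain ⟨g0, hg0⟩ := g.2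
  refine ⟨g0, Function.Embedding.ext fun i => ?_⟩
  rw [← hg]
  show _ = (g : Equiv.Perm Ω) (x i)
  rw [← hg0]
  rfl

/-- With a half Sylow normaliser and `p > 7` the point stabilisers are primitive. -/
theorem primitive_stabilizer (hΩ : Fintype.card Ω = p) (hins : ¬ Group.IsSolvable G) (P : Sylow p G)
    (hN : 2 * Nat.card ↥(Subgroup.normalizer ((P : Subgroup G) : Set G)) = p * (p - 1))
    (hp7 : 7 < p) (α : Ω) :
    IsPreprimitive ↥(stabilizer G α) ↥(SubMulAction.ofStabilizer G α) := by
  have hp : p.Prime := Fact.out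
  have hodd : p % 2 = 1 := hp.eq_two_or_odd.resolve_left (by omega)
  rcases (show p % 4 = 1 ∨ p % 4 = 3 by omega) with h1 | h3
  · refine three_transitive_stabilizer (three_transitive_of_even hΩ hins P ?_) α
    obtain ⟨q, hq⟩ : ∃ q, p = 4 * q + 1 := ⟨p / 4, by omega⟩
    have h1' : p * (p - 1) = 2 * (2 * (p * q)) := by
      rw [show p - 1 = 4 * q by omega]; ring
    exact ⟨p * q, by omega⟩
  · rcases three_transitive_or_four_orbits hΩ hins P hN h3 with h | h
    · exact three_transitive_stabilizer h α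
    · exact stabilizer_primitive hΩ hins hp7 P hN h3 h α

end CfsgLib.HalfNormalizer
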