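import Mathlib

/-!
# Half-transitive groups of automorphisms

If a group `H` normalises `N`, all centralisers in `H` of non-trivial elements of `N` have the same
order `c`, the number `d = |H| / c` is prime to `|N|`, and not all these centralisers are equal, then
`N` is elementary abelian and has no proper non-trivial `H`-invariant subgroup.
-/

set_option autoImplicit false
set_option linter.unusedSectionVars false
set_option linter.style.haveILetI false

namespace CfsgLib.HalfTransitiveAut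

open scoped _root_.Classical

variable {G : Type*} [Group G] [Finite G] (H N : Subgroup G)

/-- The centraliser in `H` of an element. -/
def cent (v : G) : Subgroup G := H ⊓ Subgroup.centralizer ({v} : Set G)

theorem mem_cent {v h : G} : h ∈ cent H v ↔ h ∈ H ∧ h * v = v * h := by
  rw [cent, Subgroup.mem_inf, Subgroup.mem_centralizer_singleton_iff]

variable (hnorm : ∀ h ∈ H, ∀ v ∈ N, h * v * h⁻¹ ∈ N) (c : ℕ)
  (hc : ∀ v ∈ N, v ≠ 1 → Nat.card (cent H v) = c)
  (hd : ∀ d : ℕ, c * d = Nat.card H → d.Coprime (Nat.card N))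
  (hne : ∃ u ∈ N, ∃ v ∈ N, u ≠ 1 ∧ v ≠ 1 ∧ cent H u ≠ cent H v)

include hc in
theorem cent_eq_of_le {u v : G} (hu : u ∈ N) (hu1 : u ≠ 1) (hv : v ∈ N) (hv1 : v ≠ 1)
    (hle : cent H u ≤ cent H v) : cent H u = cent H v :=
  Subgroup.eq_of_le_of_card_ge hle (by rw [hc u hu hu1, hc v hv hv1])

include hc hd in
/-- An invariant set of order dividing `|N|` is fixed pointwise. -/
theorem fixed_of_invariant (L : Subgroup G) (hLH : L ≤ H) (K : Set G)
    (hK : ∀ v ∈ K, v ∈ N ∧ v ≠ 1) (hinv : ∀ h ∈ L, ∀ v ∈ K, h * v * h⁻¹ ∈ K)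
    (hcent : ∀ v ∈ K, cent H v ≤ L) (hdvd : Nat.card K ∣ Nat.card N) :
    ∀ h ∈ L, ∀ v ∈ K, h * v = v * h := by
  rcases K.eq_empty_or_nonempty with hK0 | ⟨v₀, hv₀⟩
  · simp [hK0]
  haveI : Fintype K := Fintype.ofFinite _
  let act : MulAction L K :=
    { smul := fun h v => ⟨(h : G) * v * (h : G)⁻¹, hinv h h.2 v v.2⟩
      one_smul := fun v => Subtype.ext (show ((1 : L) : G) * v * ((1 : L) : G)⁻¹ = v by simp)
      mul_smul := fun h h' v => Subtype.ext (show ((h * h' : L) : G) * v * ((h * h' : L) : G)⁻¹ =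
        (h : G) * ((h' : G) * v * (h' : G)⁻¹) * (h : G)⁻¹ by simp [mul_assoc]) }
  have hsmul : ∀ (h : L) (v : K), ((h • v : K) : G) = (h : G) * v * (h : G)⁻¹ := fun _ _ => rfl
  have hstab : ∀ v : K, Nat.card (MulAction.stabilizer L v) = c := by
    intro v
    rw [← hc v (hK v v.2).1 (hK v v.2).2]
    refine Nat.card_congr
      ⟨fun h => ⟨((h : L) : G), (mem_cent H).2 ⟨hLH (h : L).2, ?_⟩⟩,
       fun h => ⟨⟨(h : G), hcent v v.2 h.2⟩, ?_⟩,
       fun h => Subtype.ext (Subtype.ext rfl), fun h => Subtype.ext rfl⟩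
    · have := congrArg (fun x : K => (x : G)) h.2
      simp only [hsmul] at this
      exact mul_inv_eq_iff_eq_mul.1 this
    · refine MulAction.mem_stabilizer_iff.2 (Subtype.ext ?_)
      rw [hsmul]
      exact mul_inv_eq_iff_eq_mul.2 ((mem_cent H).1 h.2).2
  have horb : ∀ v : K, Nat.card (MulAction.orbit L v) * c = Nat.card L := fun v => by
    rw [← hstab v, ← Nat.card_prod]
    exact Nat.card_congr (MulAction.orbitProdStabilizerEquivGroup L v)
  set e := Nat.card (MulAction.orbit L (⟨v₀, hv₀⟩ : K)) with he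
  have hc0 : 0 < c := by rw [← hstab ⟨v₀, hv₀⟩]; exact Nat.card_pos
  have horb' : ∀ v : K, Nat.card (MulAction.orbit L v) = e := fun v =>
    Nat.eq_of_mul_eq_mul_right hc0 (by rw [horb, he, horb])
  have heK : e ∣ Nat.card K := by
    have h := Nat.card_congr (MulAction.selfEquivSigmaOrbits L K)
    rw [h, Nat.card_sigma]
    refine Finset.dvd_sum fun ω _ => ?_
    exact dvd_of_eq (horb' _).symm
  have hcH : c ∣ Nat.card H := by
    rw [← hc v₀ (hK v₀ hv₀).1 (hK v₀ hv₀).2]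
    exact Subgroup.card_dvd_of_le inf_le_left
  obtain ⟨d, hdd⟩ := hcH
  have hed : e ∣ d := by
    refine Nat.dvd_of_mul_dvd_mul_right hc0 ?_
    rw [he, horb, mul_comm d c, ← hdd]
    exact Subgroup.card_dvd_of_le hLH
  have he1 : e = 1 := by
    have h1 : e ∣ Nat.gcd d (Nat.card N) := Nat.dvd_gcd hed (heK.trans hdvd)
    rw [(hd d hdd.symm).gcd_eq_one] at h1
    exact Nat.dvd_one.1 h1
  intro h hh v hv
  have hsub : Subsingleton (MulAction.orbit L (⟨v, hv⟩ : K)) :=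
    Finite.card_le_one_iff_subsingleton.1 (by rw [horb', he1])
  have := congrArg (fun x : MulAction.orbit L (⟨v, hv⟩ : K) => ((x : K) : G))
    (hsub.elim ⟨(⟨h, hh⟩ : L) • (⟨v, hv⟩ : K), MulAction.mem_orbit _ _⟩
      ⟨_, MulAction.mem_orbit_self _⟩)
  simp only [hsmul] at this
  exact mul_inv_eq_iff_eq_mul.1 this

include hnorm hc hd in
/-- Conjugate elements of `N` have the same centraliser. -/
theorem cent_conj {u g : G} (hu : u ∈ N) (hg : g ∈ N) :
    cent H u = cent H (g * u * g⁻¹) := by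
  rcases eq_or_ne u 1 with rfl | hu1
  · simp
  let K : Set G := {v | ∃ x ∈ N, v = x * u * x⁻¹}
  let L : Subgroup G :=
    { carrier := {h | h ∈ H ∧ h * u * h⁻¹ ∈ K}
      one_mem' := ⟨H.one_mem, 1, N.one_mem, by group⟩
      mul_mem' := by
        rintro a b ⟨ha, x, hx, hax⟩ ⟨hb, y, hy, hby⟩
        refine ⟨H.mul_mem ha hb, a * y * a⁻¹ * x, N.mul_mem (hnorm a ha y hy) hx, ?_⟩
        rw [show a * b * u * (a * b)⁻¹ = a * (b * u * b⁻¹) * a⁻¹ by group, hby,
          show a * (y * u * y⁻¹) * a⁻¹ = (a * y * a⁻¹) * (a * u * a⁻¹) * (a * y * a⁻¹)⁻¹ by group,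
          hax]
        group
      inv_mem' := by
        rintro a ⟨ha, x, hx, hax⟩
        refine ⟨H.inv_mem ha, a⁻¹ * x⁻¹ * a, ?_, ?_⟩
        · have := hnorm a⁻¹ (H.inv_mem ha) x⁻¹ (N.inv_mem hx)
          rwa [inv_inv] at this
        · have hau : a * u * a⁻¹ * x = x * u := by rw [hax]; group
          have : a⁻¹ * u * a⁻¹⁻¹ = (a⁻¹ * x⁻¹ * a) * u * (a⁻¹ * x⁻¹ * a)⁻¹ := by
            rw [show (a⁻¹ * x⁻¹ * a) * u * (a⁻¹ * x⁻¹ * a)⁻¹ = a⁻¹ * x⁻¹ * (a * u * a⁻¹ * x) * a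
              by group, hau]
            group
          exact this }
  have hK : ∀ v ∈ K, v ∈ N ∧ v ≠ 1 := by
    rintro _ ⟨x, hx, rfl⟩
    exact ⟨N.mul_mem (N.mul_mem hx hu) (N.inv_mem hx), fun h => hu1 (conj_eq_one_iff.1 h)⟩
  have hdvd : Nat.card K ∣ Nat.card N := by
    have hK' : K = (fun x : N => (x : G)) '' MulAction.orbit (ConjAct N) (⟨u, hu⟩ : N) := by
      ext v
      constructor
      · rintro ⟨x, hx, rfl⟩
        exact ⟨_, ⟨ConjAct.toConjAct ⟨x, hx⟩, rfl⟩, rfl⟩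
      · rintro ⟨_, ⟨x, rfl⟩, rfl⟩
        exact ⟨_, (ConjAct.ofConjAct x).2, rfl⟩
    rw [hK', Nat.card_image_of_injective Subtype.val_injective,
      ← Nat.card_congr (ConjAct.toConjAct (G := N)).toEquiv.symm]
    exact Dvd.intro _ ((Nat.card_prod _ _).symm.trans
      (Nat.card_congr (MulAction.orbitProdStabilizerEquivGroup (ConjAct N) (⟨u, hu⟩ : N))))
  have hfix := fixed_of_invariant H N c hc hd L (fun h hh => hh.1) K hK
    (by
      rintro h ⟨hhH, y, hy, hhy⟩ _ ⟨x, hx, rfl⟩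
      refine ⟨h * x * h⁻¹ * y, N.mul_mem (hnorm h hhH x hx) hy, ?_⟩
      rw [show h * (x * u * x⁻¹) * h⁻¹ = (h * x * h⁻¹) * (h * u * h⁻¹) * (h * x * h⁻¹)⁻¹ by group,
        hhy]
      group)
    (by
      rintro _ ⟨x, hx, rfl⟩ h hh
      rw [mem_cent] at hh
      have hcomm : h * (x * u * x⁻¹) * h⁻¹ = x * u * x⁻¹ := mul_inv_eq_iff_eq_mul.2 hh.2
      refine ⟨hh.1, h * x⁻¹ * h⁻¹ * x, N.mul_mem (hnorm h hh.1 _ (N.inv_mem hx)) hx, ?_⟩
      calc h * u * h⁻¹
          = (h * x⁻¹ * h⁻¹) * (h * (x * u * x⁻¹) * h⁻¹) * (h * x⁻¹ * h⁻¹)⁻¹ := by group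
        _ = _ := by rw [hcomm]; group)
    hdvd
  refine cent_eq_of_le H N c hc hu hu1 (N.mul_mem (N.mul_mem hg hu) (N.inv_mem hg))
    (fun h => hu1 (conj_eq_one_iff.1 h)) fun h hh => ?_
  rw [mem_cent] at hh ⊢
  refine ⟨hh.1, hfix h ⟨hh.1, 1, N.one_mem, ?_⟩ _ ⟨g, hg, rfl⟩⟩
  rw [mul_inv_eq_iff_eq_mul.2 hh.2]
  group

include hnorm hc hd hne in
/-- `N` is abelian. -/
theorem comm : ∀ u ∈ N, ∀ v ∈ N, u * v = v * u := by
  have hcomm1 : ∀ h : G, ∀ a b : G, h * a = a * h → h * b = b * h → h * (a * b) = (a * b) * h :=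
    fun h a b ha hb => by rw [← mul_assoc, ha, mul_assoc, hb, mul_assoc]
  have hdiff : ∀ u ∈ N, ∀ v ∈ N, u ≠ 1 → v ≠ 1 → cent H u ≠ cent H v → u * v = v * u := by
    intro u hu v hv hu1 hv1 huv
    by_contra hne'
    set w := u * v * u⁻¹ * v⁻¹ with hw
    have hw1 : w ≠ 1 := fun h => hne' (by
      rw [hw, mul_inv_eq_one, mul_inv_eq_iff_eq_mul] at h; exact h)
    have hwN : w ∈ N := N.mul_mem (N.mul_mem (N.mul_mem hu hv) (N.inv_mem hu)) (N.inv_mem hv)
    have h1 : cent H u ≤ cent H w := fun h hh => by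
      have hh' := hh
      rw [cent_conj H N hnorm c hc hd hu hv] at hh'
      rw [mem_cent] at hh hh' ⊢
      refine ⟨hh.1, ?_⟩
      have e : w = u * (v * u * v⁻¹)⁻¹ := by rw [hw]; group
      rw [e]
      exact hcomm1 h _ _ hh.2 (Commute.inv_right (show Commute h (v * u * v⁻¹) from hh'.2)).eq
    have h2 : cent H v ≤ cent H w := fun h hh => by
      have hh' := hh
      rw [cent_conj H N hnorm c hc hd hv hu] at hh'
      rw [mem_cent] at hh hh' ⊢
      refine ⟨hh.1, ?_⟩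
      have e : w = (u * v * u⁻¹) * v⁻¹ := by rw [hw]
      rw [e]
      exact hcomm1 h _ _ hh'.2 (Commute.inv_right (show Commute h v from hh.2)).eq
    exact huv ((cent_eq_of_le H N c hc hu hu1 hwN hw1 h1).trans
      (cent_eq_of_le H N c hc hv hv1 hwN hw1 h2).symm)
  intro u hu v hv
  rcases eq_or_ne u 1 with rfl | hu1
  · simp
  rcases eq_or_ne v 1 with rfl | hv1
  · simp
  by_cases huv : cent H u = cent H v
  swap
  · exact hdiff u hu v hv hu1 hv1 huv
  obtain ⟨w, hw, hw1, hwu⟩ : ∃ w ∈ N, w ≠ 1 ∧ cent H w ≠ cent H u := by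
    obtain ⟨a, ha, b, hb, ha1, hb1, hab⟩ := hne
    by_cases h : cent H a = cent H u
    · exact ⟨b, hb, hb1, fun h' => hab (h.trans h'.symm)⟩
    · exact ⟨a, ha, ha1, h⟩
  have huw1 : u * w ≠ 1 := fun h => hwu (by
    rw [eq_inv_of_mul_eq_one_right h]
    ext k
    simp only [mem_cent]
    exact and_congr_right fun _ => ⟨fun hk => by simpa using (Commute.inv_right hk).eq,
      fun hk => (Commute.inv_right hk).eq⟩)
  have huwne : cent H (u * w) ≠ cent H v := fun h => hwu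
    ((cent_eq_of_le H N c hc hu hu1 hw hw1 fun k hk => by
      have hk' : k ∈ cent H (u * w) := by rw [h, ← huv]; exact hk
      rw [mem_cent] at hk hk' ⊢
      refine ⟨hk.1, ?_⟩
      have := hcomm1 k u⁻¹ (u * w) (Commute.inv_right (show Commute k u from hk.2)).eq hk'.2
      rwa [inv_mul_cancel_left] at this).symm)
  have hc1 := hdiff (u * w) (N.mul_mem hu hw) v hv huw1 hv1 huwne
  have hc2 := hdiff w hw v hv hw1 hv1 (fun h => hwu (h.trans huv.symm))
  have := Commute.mul_left (show Commute (u * w) v from hc1)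
    (Commute.inv_left (show Commute w v from hc2))
  rwa [mul_inv_cancel_right] at this

include hnorm hc hd hne in
/-- There is no proper non-trivial invariant subgroup. -/
theorem eq_of_invariant (L : Subgroup G) (hLN : L ≤ N)
    (hinv : ∀ h ∈ H, ∀ v ∈ L, h * v * h⁻¹ ∈ L) (hL : L ≠ ⊥) : L = N := by
  by_contra hLne
  obtain ⟨x, hxN, hxL⟩ := SetLike.exists_of_lt (lt_of_le_of_ne hLN hLne)
  have key : ∀ x ∈ N, x ∉ L → ∀ l ∈ L, l ≠ 1 → cent H x = cent H l := by
    intro x hxN hxL l hl hl1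
    let K : Set G := {v | x⁻¹ * v ∈ L}
    let S : Subgroup G :=
      { carrier := {h | h ∈ H ∧ x⁻¹ * (h * x * h⁻¹) ∈ L}
        one_mem' := ⟨H.one_mem, by simp⟩
        mul_mem' := by
          rintro a b ⟨ha, hax⟩ ⟨hb, hbx⟩
          refine ⟨H.mul_mem ha hb, ?_⟩
          have := L.mul_mem hax (hinv a ha _ hbx)
          rwa [show x⁻¹ * (a * x * a⁻¹) * (a * (x⁻¹ * (b * x * b⁻¹)) * a⁻¹)
            = x⁻¹ * (a * b * x * (a * b)⁻¹) by group] at this
        inv_mem' := by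
          rintro a ⟨ha, hax⟩
          refine ⟨H.inv_mem ha, ?_⟩
          have := hinv a⁻¹ (H.inv_mem ha) _ (L.inv_mem hax)
          rwa [show a⁻¹ * (x⁻¹ * (a * x * a⁻¹))⁻¹ * a⁻¹⁻¹ = x⁻¹ * (a⁻¹ * x * a⁻¹⁻¹) by group] at this }
    have hK : ∀ v ∈ K, v ∈ N ∧ v ≠ 1 := by
      intro v hv
      refine ⟨?_, fun h => hxL ?_⟩
      · have := N.mul_mem hxN (hLN hv)
        rwa [mul_inv_cancel_left] at this
      · have hv' : x⁻¹ * v ∈ L := hv
        rw [h, mul_one] at hv'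
        simpa using L.inv_mem hv'
    have hdvd : Nat.card K ∣ Nat.card N := by
      have hK' : K = (fun w => x * w) '' (L : Set G) := by
        ext v
        simp [K, Set.mem_image, eq_comm (a := x * _), inv_mul_eq_iff_eq_mul]
      rw [hK', Nat.card_image_of_injective (mul_right_injective x)]
      exact Subgroup.card_dvd_of_le hLN
    have hfix := fixed_of_invariant H N c hc hd S (fun h hh => hh.1) K hK
      (by
        rintro h ⟨hhH, hhx⟩ v hv
        have := L.mul_mem hhx (hinv h hhH _ hv)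
        show x⁻¹ * (h * v * h⁻¹) ∈ L
        rwa [show x⁻¹ * (h * x * h⁻¹) * (h * (x⁻¹ * v) * h⁻¹) = x⁻¹ * (h * v * h⁻¹) by group]
          at this)
      (by
        intro v hv h hh
        rw [mem_cent] at hh
        refine ⟨hh.1, ?_⟩
        have := L.mul_mem hv (hinv h hh.1 _ (L.inv_mem hv))
        rw [show x⁻¹ * v * (h * (x⁻¹ * v)⁻¹ * h⁻¹) = x⁻¹ * (v * (h * v⁻¹ * h⁻¹)) * (h * x * h⁻¹)
          by group] at this
        rwa [(Commute.inv_right (show Commute h v from hh.2)).eq, mul_inv_cancel_right,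
          mul_inv_cancel, mul_one] at this)
      hdvd
    refine cent_eq_of_le H N c hc hxN (fun h => hxL (h ▸ L.one_mem)) (hLN hl) hl1 fun h hh => ?_
    rw [mem_cent] at hh ⊢
    refine ⟨hh.1, ?_⟩
    have hS : h ∈ S := ⟨hh.1, by rw [mul_inv_eq_iff_eq_mul.2 hh.2]; simp⟩
    have h1 := hfix h hS (x * l) (show x⁻¹ * (x * l) ∈ L by simpa using hl)
    have := (Commute.mul_right (Commute.inv_right (show Commute h x from hh.2))
      (show Commute h (x * l) from h1)).eq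
    rwa [inv_mul_cancel_left] at this
  obtain ⟨l, hl, hl1⟩ := L.bot_or_exists_ne_one.resolve_left hL
  have hall : ∀ v ∈ N, v ≠ 1 → cent H v = cent H l := by
    intro v hv hv1
    by_cases hvL : v ∈ L
    · rw [← key x hxN hxL v hvL hv1, key x hxN hxL l hl hl1]
    · exact key v hv hvL l hl hl1
  obtain ⟨a, ha, b, hb, ha1, hb1, hab⟩ := hne
  exact hab ((hall a ha ha1).trans (hall b hb hb1).symm)

include hnorm hc hd hne in
/-- `N` is elementary abelian. -/
theorem exists_prime_exponent : ∃ p : ℕ, p.Prime ∧ ∀ v ∈ N, v ^ p = 1 := by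
  obtain ⟨a, ha, b, hb, ha1, hb1, hab⟩ := hne
  have hN1 : Nat.card N ≠ 1 := fun h => ha1 (by
    rw [Subgroup.card_eq_one] at h
    rw [h] at ha
    exact Subgroup.mem_bot.1 ha)
  obtain ⟨p, hp, hpN⟩ := Nat.exists_prime_and_dvd hN1
  haveI := Fact.mk hp
  obtain ⟨v, hv⟩ := exists_prime_orderOf_dvd_card' p hpN
  let L : Subgroup G :=
    { carrier := {x | x ∈ N ∧ x ^ p = 1}
      one_mem' := ⟨N.one_mem, one_pow _⟩
      mul_mem' := by
        rintro x y ⟨hx, hxp⟩ ⟨hy, hyp⟩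
        refine ⟨N.mul_mem hx hy, ?_⟩
        rw [Commute.mul_pow (comm H N hnorm c hc hd ⟨a, ha, b, hb, ha1, hb1, hab⟩ x hx y hy), hxp,
          hyp, one_mul]
      inv_mem' := by
        rintro x ⟨hx, hxp⟩
        exact ⟨N.inv_mem hx, by rw [inv_pow, hxp, inv_one]⟩ }
  have hvL : (v : G) ∈ L := ⟨v.2, by rw [← hv, ← Subgroup.orderOf_coe]; exact pow_orderOf_eq_one _⟩
  have hL : L = N := eq_of_invariant H N hnorm c hc hd ⟨a, ha, b, hb, ha1, hb1, hab⟩ L
    (fun x hx => hx.1)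
    (fun h hh x hx => ⟨hnorm h hh x hx.1, by rw [conj_pow, hx.2]; group⟩)
    (fun h => by
      rw [h, Subgroup.mem_bot] at hvL
      have : orderOf (v : G) = 1 := by rw [hvL, orderOf_one]
      rw [Subgroup.orderOf_coe, hv] at this
      exact hp.one_lt.ne' this)
  exact ⟨p, hp, fun x hx => by rw [← hL] at hx; exact hx.2⟩

end CfsgLib.HalfTransitiveAut
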