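/-
`k`-transitive groups with an element of support smaller than `2k - 2`.
-/
import Mathlib

set_option autoImplicit false
set_option linter.style.haveILetI false

open MulAction Equiv Finset

namespace CfsgLib.SmallSupport

variable {α : Type*} [Fintype α] [DecidableEq α]

/-- Prescribing at most `k` values in a `k`-transitive group. -/
theorem exists_map {G : Subgroup (Perm α)} {k : ℕ} (hkn : k ≤ Fintype.card α)
    (hG : IsMultiplyPretransitive G α k) (s : Finset α) (hs : s.card ≤ k) (f : α → α)
    (hf : Set.InjOn f s) : ∃ g ∈ G, ∀ x ∈ s, g x = f x := by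
  haveI := hG
  haveI hj : IsMultiplyPretransitive G α s.card :=
    isMultiplyPretransitive_of_le hs (by rwa [Nat.card_eq_fintype_card])
  let e : Fin s.card ↪ α := s.equivFin.symm.toEmbedding.trans (Function.Embedding.subtype _)
  let e' : Fin s.card ↪ α := ⟨fun i => f (e i), fun i j h =>
    e.injective (hf (s.equivFin.symm i).2 (s.equivFin.symm j).2 h)⟩
  obtain ⟨g, hg⟩ := hj.exists_smul_eq e e'
  refine ⟨g, g.2, fun x hx => ?_⟩
  have := DFunLike.congr_fun hg (s.equivFin ⟨x, hx⟩)
  simpa [e, e', Function.Embedding.smul_apply, Subgroup.smul_def] using this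

/-- Points of `C` whose preimage under `g` is outside `C`. -/
def entries (g : Perm α) (C : Finset α) : Finset α := C.filter fun z => g⁻¹ z ∉ C

theorem mem_entries {g : Perm α} {C : Finset α} {z : α} :
    z ∈ entries g C ↔ z ∈ C ∧ g⁻¹ z ∉ C := by simp [entries]

/-- A subset of the support of prescribed size with at most one entry. -/
theorem exists_small_entries (g : Perm α) : ∀ c, c ≤ g.support.card →
    ∃ C ⊆ g.support, C.card = c ∧ (entries g C).card ≤ 1 := by
  intro c
  induction c with
  | zero => exact fun _ => ⟨∅, by simp, rfl, by simp [entries]⟩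
  | succ c ih =>
    intro hc
    obtain ⟨C, hCS, hCc, hCe⟩ := ih (by omega)
    rcases (entries g C).eq_empty_or_nonempty with he | ⟨a, ha⟩
    · obtain ⟨x, hxS, hxC⟩ := exists_mem_notMem_of_card_lt_card (s := C) (t := g.support) (by omega)
      refine ⟨insert x C, insert_subset hxS hCS, by rw [card_insert_of_notMem hxC, hCc], ?_⟩
      refine (card_le_card (t := {x}) fun z hz => ?_).trans (card_singleton x).le
      rw [mem_entries] at hz
      rw [mem_singleton]
      by_contra hzx
      have hzC : z ∈ C := (mem_insert.mp hz.1).resolve_left hzx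
      exact Finset.notMem_empty z (he ▸ mem_entries.mpr ⟨hzC, fun h => hz.2 (mem_insert_of_mem h)⟩)
    · have hae : ∀ z ∈ entries g C, z = a := fun z hz => card_le_one.mp hCe z hz a ha
      rw [mem_entries] at ha
      have hxS : g⁻¹ a ∈ g.support := by
        rw [← Perm.support_inv, Perm.apply_mem_support, Perm.support_inv]; exact hCS ha.1
      refine ⟨insert (g⁻¹ a) C, insert_subset hxS hCS, by rw [card_insert_of_notMem ha.2, hCc], ?_⟩
      refine (card_le_card (t := {g⁻¹ a}) fun z hz => ?_).trans (card_singleton _).le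
      rw [mem_entries] at hz
      rw [mem_singleton]
      by_contra hzx
      have hzC : z ∈ C := (mem_insert.mp hz.1).resolve_left hzx
      have := hae z (mem_entries.mpr ⟨hzC, fun h => hz.2 (mem_insert_of_mem h)⟩)
      exact hz.2 (by rw [this]; exact mem_insert_self _ _)

theorem dvd_card_of_closed {p : ℕ} (hp : p.Prime) {g : Perm α} (hgp : g ^ p = 1) {C : Finset α}
    (hCS : C ⊆ g.support) (he : entries g C = ∅) : p ∣ C.card := by
  haveI := Fact.mk hp
  have hcl : ∀ z ∈ C, g⁻¹ z ∈ C := fun z hz => by
    by_contra h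
    exact notMem_empty z (he ▸ mem_entries.mpr ⟨hz, h⟩)
  have himg : C.image (g⁻¹ : Perm α) = C :=
    eq_of_subset_of_card_le (image_subset_iff.mpr hcl)
      (card_image_of_injective _ (g⁻¹ : Perm α).injective).ge
  have hiff : ∀ x, g x ∈ C ↔ x ∈ C := fun x => by
    constructor
    · intro h; simpa using hcl _ h
    · intro h
      rw [← himg] at h
      obtain ⟨z, hz, rfl⟩ := mem_image.mp h
      simpa using hz
  by_contra hnd
  obtain ⟨a, ha⟩ := Perm.exists_fixed_point_of_prime (p := p) (n := 1)
    (α := {x // x ∈ C}) (by simpa using hnd) (σ := g.subtypePerm hiff)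
    (by rw [pow_one, Perm.subtypePerm_pow]; ext x; simp [hgp])
  exact Perm.mem_support.mp (hCS a.2) (congrArg Subtype.val ha)

/-- The descent step. -/
theorem exists_smaller {G : Subgroup (Perm α)} {k : ℕ} (hk : 3 ≤ k) (hkn : k ≤ Fintype.card α)
    (hG : IsMultiplyPretransitive G α k) {g : Perm α} (hg : g ∈ G) {p : ℕ} (hp : p.Prime)
    (hgp : g ^ p = 1) (h4 : 4 ≤ g.support.card) (hm : g.support.card < 2 * k - 2) :
    (∃ d ∈ G, d ≠ 1 ∧ d.support.card < g.support.card) ∨
      (g.support = Finset.univ ∧ Fintype.card α ≤ k) := by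
  classical
  set S := g.support with hS
  set m := S.card
  set c := max 1 (m + 1 - k) with hc
  by_cases hex : g.support = Finset.univ ∧ Fintype.card α ≤ k
  · exact .inr hex
  left
  have hc2 : 2 * c < m := by omega
  -- choose the omitted set
  obtain ⟨C, hCS, hCc, hepos, hesmall⟩ : ∃ C ⊆ S, C.card = c ∧ (entries g C).Nonempty ∧
      2 * c + (entries g C).card ≤ m := by
    obtain ⟨C, hCS, hCc, hCe⟩ := exists_small_entries g c (show c ≤ m by omega)
    rcases (entries g C).eq_empty_or_nonempty with he | he
    · -- `C` is closed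
      have hdc := dvd_card_of_closed hp hgp hCS he
      have hdm : p ∣ m := dvd_card_of_closed hp hgp subset_rfl (by
        ext z
        simp only [mem_entries, notMem_empty, iff_false, not_and, not_not]
        intro hz
        show g⁻¹ z ∈ g.support
        rw [← Perm.support_inv, Perm.apply_mem_support, Perm.support_inv]
        exact hz)
      have hne : 2 * c + 1 ≠ m := fun h => by
        exact hp.one_lt.ne' (Nat.dvd_one.mp ((Nat.dvd_add_right (hdc.mul_left 2)).mp
          (by rw [hCc, h]; exact hdm)))
      obtain ⟨w, hw⟩ := card_pos.mp (show 0 < C.card by omega)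
      obtain ⟨x, hxS, hxC⟩ := exists_mem_notMem_of_card_lt_card (s := C) (t := S) (by omega)
      have hcl : ∀ z ∈ C, g⁻¹ z ∈ C := fun z hz => by
        by_contra h
        exact notMem_empty z (he ▸ mem_entries.mpr ⟨hz, h⟩)
      have hgw : g w ∈ C := by
        have himg : C.image (g⁻¹ : Perm α) = C :=
          eq_of_subset_of_card_le (image_subset_iff.mpr hcl)
            (card_image_of_injective _ (g⁻¹ : Perm α).injective).ge
        have hw' := hw
        rw [← himg] at hw'
        obtain ⟨z, hz, hzw⟩ := mem_image.mp hw'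
        rw [← hzw]; simpa using hz
      have hwgw : g w ≠ w := Perm.mem_support.mp (hCS hw)
      refine ⟨insert x (C.erase w), insert_subset hxS ((erase_subset _ _).trans hCS), ?_, ⟨g w, ?_⟩, ?_⟩
      · rw [card_insert_of_notMem (fun h => hxC (mem_of_mem_erase h)), card_erase_of_mem hw]
        omega
      · rw [mem_entries]
        refine ⟨mem_insert_of_mem (mem_erase.mpr ⟨hwgw, hgw⟩), ?_⟩
        rw [Perm.inv_eq_iff_eq.mpr rfl, mem_insert, not_or]
        exact ⟨fun h => hxC (h ▸ hw), fun h => (mem_erase.mp h).1 rfl⟩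
      · have : (entries g (insert x (C.erase w))).card ≤ 2 := by
          refine (card_le_card (t := {x, g w}) fun z hz => ?_).trans card_le_two
          rw [mem_entries] at hz
          simp only [mem_insert, mem_singleton]
          by_contra hcon
          push Not at hcon
          have hzC : z ∈ C := mem_of_mem_erase ((mem_insert.mp hz.1).resolve_left hcon.1)
          refine hz.2 (mem_insert_of_mem (mem_erase.mpr ⟨fun h => hcon.2 ?_, hcl z hzC⟩))
          rw [← h]; simp
        omega
    · exact ⟨C, hCS, hCc, he, by omega⟩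
  obtain ⟨a, ha⟩ := hepos
  rw [mem_entries] at ha
  have hyS : g⁻¹ a ∈ S := by
    rw [hS, ← Perm.support_inv, Perm.apply_mem_support, Perm.support_inv]; exact hCS ha.1
  -- the new image of `a`
  obtain ⟨z, hzF, hza, hzS⟩ : ∃ z, z ∉ S \ C ∧ z ≠ a ∧ (2 ≤ c → z ∈ S) := by
    by_cases h2 : 2 ≤ c
    · obtain ⟨z, hz, hzne⟩ := exists_mem_ne (s := C) (by omega) a
      exact ⟨z, fun h => (mem_sdiff.mp h).2 hz, hzne, fun _ => hCS hz⟩
    · have hSu : S ≠ Finset.univ := fun h => hex ⟨h, by
        rw [← Finset.card_univ, ← h]; omega⟩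
      obtain ⟨z, hz⟩ : ∃ z, z ∉ S := by
        by_contra h; push Not at h; exact hSu (eq_univ_of_forall h)
      exact ⟨z, fun h => hz (mem_sdiff.mp h).1, fun h => hz (h ▸ hCS ha.1), fun h => absurd h h2⟩
  set F := S \ C with hF
  have haF : a ∉ F := fun h => (mem_sdiff.mp h).2 ha.1
  have hFc : F.card = m - c := by rw [hF, card_sdiff_of_subset hCS, hCc]
  obtain ⟨h, hhG, hh⟩ := exists_map hkn hG (insert a F)
    (by rw [card_insert_of_notMem haF, hFc]; omega) (fun x => if x = a then z else x) (by
      intro u hu v hv huv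
      simp only [coe_insert, Set.mem_insert_iff, mem_coe] at hu hv
      simp only at huv
      by_cases h1 : u = a <;> by_cases h2 : v = a
      · rw [h1, h2]
      · rw [if_pos h1, if_neg h2] at huv
        exact absurd (huv ▸ hv.resolve_left h2) hzF
      · rw [if_neg h1, if_pos h2] at huv
        exact absurd (huv ▸ hu.resolve_left h1) hzF
      · rwa [if_neg h1, if_neg h2] at huv)
  have hha : h a = z := by simpa using hh a (mem_insert_self _ _)
  have hhF : ∀ x ∈ F, h x = x := fun x hx => by
    have := hh x (mem_insert_of_mem hx)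
    rwa [if_neg (fun e : x = a => haF (e ▸ hx))] at this
  set g' := h * g * h⁻¹ with hg'
  have hS' : g'.support = S.map h.toEmbedding := Perm.support_conj
  refine ⟨g⁻¹ * g', G.mul_mem (G.inv_mem hg) (G.mul_mem (G.mul_mem hhG hg) (G.inv_mem hhG)), ?_, ?_⟩
  · intro e
    rw [inv_mul_eq_one] at e
    have hyF : g⁻¹ a ∈ F := mem_sdiff.mpr ⟨hyS, ha.2⟩
    have h1 : g' (g⁻¹ a) = z := by
      rw [hg', Perm.mul_apply, Perm.mul_apply,
        show h⁻¹ (g⁻¹ a) = g⁻¹ a from Perm.inv_eq_iff_eq.mpr (hhF _ hyF).symm]
      simpa using hha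
    rw [← e] at h1
    simp at h1
    exact hza h1.symm
  · -- agreement
    set Ag := F.filter fun x => g x ∈ F with hAg
    have hag : ∀ x ∈ Ag, g' x = g x := by
      intro x hx
      obtain ⟨hxF, hgx⟩ := mem_filter.mp hx
      rw [hg', Perm.mul_apply, Perm.mul_apply,
        show h⁻¹ x = x from Perm.inv_eq_iff_eq.mpr (hhF x hxF).symm, hhF _ hgx]
    have hAc : F.card ≤ Ag.card + (entries g C).card := by
      rw [← card_filter_add_card_filter_not (s := F) (fun x => g x ∈ F)]
      refine Nat.add_le_add_left (card_le_card_of_injOn g (fun x hx => ?_) g.injective.injOn) _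
      obtain ⟨hxF, hgx⟩ := mem_filter.mp hx
      obtain ⟨hxS, hxC⟩ := mem_sdiff.mp hxF
      have hgxS : g x ∈ S := Perm.apply_mem_support.mpr hxS
      have hgxC : g x ∈ C := by_contra fun hh => hgx (mem_sdiff.mpr ⟨hgxS, hh⟩)
      exact mem_entries.mpr ⟨hgxC, by simpa using hxC⟩
    have hsub : (g⁻¹ * g').support ⊆ (S ∪ g'.support) \ Ag := by
      intro x hx
      rw [Perm.mem_support] at hx
      refine mem_sdiff.mpr ⟨?_, fun hA => hx ?_⟩
      · by_contra hcon
        rw [mem_union, not_or, hS, Perm.notMem_support, Perm.notMem_support] at hcon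
        refine hx ?_
        rw [Perm.mul_apply, hcon.2, Perm.inv_eq_iff_eq, hcon.1]
      · rw [Perm.mul_apply, hag x hA]; simp
    have hFS' : F ⊆ S ∩ g'.support := fun x hx => by
      rw [mem_inter, hS']
      exact ⟨(mem_sdiff.mp hx).1, mem_map.mpr ⟨x, (mem_sdiff.mp hx).1, hhF x hx⟩⟩
    have hinter : (if 2 ≤ c then F.card + 1 else F.card) ≤ (S ∩ g'.support).card := by
      split_ifs with h2
      · rw [← card_insert_of_notMem hzF]
        refine card_le_card (insert_subset (mem_inter.mpr ⟨hzS h2, ?_⟩) hFS')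
        rw [hS']; exact mem_map.mpr ⟨a, hCS ha.1, hha⟩
      · exact card_le_card hFS'
    have hu := card_union_add_card_inter S g'.support
    have hS'c : g'.support.card = m := by rw [hS', card_map]
    have hAsub : Ag ⊆ S ∪ g'.support :=
      fun x hx => mem_union_left _ (mem_sdiff.mp (mem_filter.mp hx).1).1
    have hec : (entries g C).card ≤ c := hCc ▸ card_le_card (filter_subset _ _)
    refine (card_le_card hsub).trans_lt ?_
    rw [card_sdiff_of_subset hAsub]
    split_ifs at hinter with h2 <;> omega

theorem small_support {G : Subgroup (Perm α)} {k : ℕ} (hk : 3 ≤ k) (hkn : k ≤ Fintype.card α)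
    (hG : IsMultiplyPretransitive G α k) {g : Perm α} (hg : g ∈ G) (hg1 : g ≠ 1)
    (hs : g.support.card < 2 * k - 2) : ∃ h : Perm α, h ∈ G ∧ h ≠ 1 ∧ h.support.card ≤ 3 := by
  classical
  induction hn : g.support.card using Nat.strong_induction_on generalizing g with
  | _ n ih =>
    subst hn
    by_cases h3 : g.support.card ≤ 3
    · exact ⟨g, hg, hg1, h3⟩
    -- pass to prime order
    obtain ⟨p, hp, hpd⟩ := Nat.exists_prime_and_dvd (n := orderOf g) (by rwa [ne_eq, orderOf_eq_one_iff])
    set g₁ := g ^ (orderOf g / p) with hg₁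
    have ho : orderOf g₁ = p := by
      rw [hg₁, orderOf_pow_orderOf_div (orderOf_pos g).ne' hpd]
    have hg₁G : g₁ ∈ G := G.pow_mem hg _
    have hg₁1 : g₁ ≠ 1 := fun h => by rw [h, orderOf_one] at ho; exact hp.one_lt.ne ho
    have hle : g₁.support.card ≤ g.support.card := card_le_card (Perm.support_pow_le g _)
    rcases hle.lt_or_eq with hlt | heq
    · exact ih _ hlt hg₁G hg₁1 (by omega) rfl
    rcases exists_smaller hk hkn hG hg₁G hp (by rw [← ho, pow_orderOf_eq_one]) (by omega) (by omega) with
      ⟨d, hd, hd1, hdlt⟩ | ⟨-, hnk⟩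
    · exact ih _ (by omega) hd hd1 (by omega) rfl
    · haveI := hG
      haveI : IsMultiplyPretransitive G α (Nat.card α - 1) :=
        isMultiplyPretransitive_of_le (n := k) (by rw [Nat.card_eq_fintype_card]; omega)
          (by rwa [Nat.card_eq_fintype_card])
      have htop : G = ⊤ := Equiv.Perm.eq_top_of_isMultiplyPretransitive inferInstance
      haveI : Nontrivial α := Fintype.one_lt_card_iff_nontrivial.mp (by omega)
      obtain ⟨a, b, hab⟩ := exists_pair_ne α
      refine ⟨Equiv.swap a b, htop ▸ Subgroup.mem_top _, fun h => hab ?_, by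
        rw [Perm.card_support_swap hab]; norm_num⟩
      simpa using congrArg (fun σ : Perm α => σ b) h

theorem contains_alternating {G : Subgroup (Perm α)} {k : ℕ} (hk : 3 ≤ k) (hkn : k ≤ Fintype.card α)
    (hG : IsMultiplyPretransitive G α k) {g : Perm α} (hg : g ∈ G) (hg1 : g ≠ 1)
    (hs : g.support.card < 2 * k - 2) :
    (∃ h : Perm α, h ∈ G ∧ h ≠ 1 ∧ h.support.card ≤ 3) ∧ alternatingGroup α ≤ G := by
  obtain ⟨h, hh, h1, h3⟩ := small_support hk hkn hG hg hg1 hs
  haveI := hG
  haveI : IsMultiplyPretransitive G α 2 :=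
    isMultiplyPretransitive_of_le (n := k) (by omega) (by rwa [Nat.card_eq_fintype_card])
  have hprim : IsPreprimitive G α := isPreprimitive_of_is_two_pretransitive inferInstance
  refine ⟨⟨h, hh, h1, h3⟩, ?_⟩
  have hne1 := Perm.card_support_ne_one h
  have hne0 : h.support.card ≠ 0 := fun e => h1 (Perm.support_eq_empty_iff.mp (card_eq_zero.mp e))
  rcases (show h.support.card = 2 ∨ h.support.card = 3 by omega) with e | e
  · rw [Equiv.Perm.subgroup_eq_top_of_isPreprimitive_of_isSwap_mem hprim h
      (Perm.card_support_eq_two.mp e) hh]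
    exact le_top
  · exact Equiv.Perm.alternatingGroup_le_of_isPreprimitive_of_isThreeCycle_mem hprim
      (card_support_eq_three_iff.mp e) hh

end CfsgLib.SmallSupport
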