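import Cfsg.Agent.Lib.Char.Orth

/-!
# Multiplicity-free representations and their centralizer algebras

A representation is multiplicity free exactly when its intertwining endomorphisms commute.
-/

namespace Cfsg.Agent.Lib.Perm

open Module Representation CfsgLib.Char

universe u

variable {G : Type*} [Group G] [Fintype G]

/-- The intertwining endomorphisms of `ρ` commute with each other. -/
def CommEnd {V : Type*} [AddCommGroup V] [Module ℂ V] (ρ : Representation ℂ G V) : Prop :=
  ∀ S T : V →ₗ[ℂ] V, (∀ g v, S (ρ g v) = ρ g (S v)) → (∀ g v, T (ρ g v) = ρ g (T v)) →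
    ∀ v, S (T v) = T (S v)

/-- Every irreducible character occurs at most once in `ρ`. -/
def MultFree {V : Type*} [AddCommGroup V] [Module ℂ V] [FiniteDimensional ℂ V]
    (ρ : Representation ℂ G V) : Prop :=
  ∀ χ : G → ℂ, Cfsg.IsIrrCharacter G χ →
    Cfsg.classInner ρ.character χ = 0 ∨ Cfsg.classInner ρ.character χ = 1

theorem intertwining_eq_zero {V W : Type*} [AddCommGroup V] [Module ℂ V] [FiniteDimensional ℂ V]
    [AddCommGroup W] [Module ℂ W] [FiniteDimensional ℂ W] {ρ : Representation ℂ G V}
    {σ : Representation ℂ G W} (h : Cfsg.classInner σ.character ρ.character = 0)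
    (f : V →ₗ[ℂ] W) (hf : ∀ g v, f (ρ g v) = σ g (f v)) : f = 0 := by
  rw [classInner_character_eq_finrank, Nat.cast_eq_zero] at h
  let F : IntertwiningMap ρ σ := ⟨f, fun g => LinearMap.ext fun v => hf g v⟩
  have : Subsingleton (IntertwiningMap ρ σ) := (Module.finrank_zero_iff (R := ℂ)).1 h
  exact congrArg IntertwiningMap.toLinearMap (Subsingleton.elim F 0)

theorem commEnd_of_multFree {V : Type u} [AddCommGroup V] [Module ℂ V] [FiniteDimensional ℂ V]
    (ρ : Representation ℂ G V) (h : MultFree ρ) : CommEnd ρ := by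
  revert h
  refine (rep_induction (G := G) (fun {V} _ _ ρ => ∀ [FiniteDimensional ℂ V], MultFree ρ → CommEnd ρ)
    ?_ ?_ ?_ ρ)
  · intro V _ _ _ ρ _ _ S T _ _ v
    exact Subsingleton.elim _ _
  · intro V _ _ _ ρ hirr _ _ S T hS hT v
    have : Module.finrank ℂ (IntertwiningMap ρ ρ) = 1 := by
      have h1 := classInner_character_eq_finrank ρ ρ
      rw [classInner_irr_self (isIrrCharacter_character ρ)] at h1
      exact_mod_cast h1.symm
    have hone : (⟨LinearMap.id, fun g => rfl⟩ : IntertwiningMap ρ ρ) ≠ 0 := by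
      intro h0
      have h1 : (LinearMap.id : V →ₗ[ℂ] V) = 0 := congrArg IntertwiningMap.toLinearMap h0
      have : Subsingleton V := ⟨fun a b => by
        rw [← LinearMap.id_apply (R := ℂ) a, ← LinearMap.id_apply (R := ℂ) b, h1]; rfl⟩
      have := finrank_pos_of_irreducible ρ
      rw [Module.finrank_zero_of_subsingleton] at this
      exact lt_irrefl 0 this
    obtain ⟨c, hc⟩ := (finrank_eq_one_iff_of_nonzero' _ hone).1 this ⟨S, fun g => LinearMap.ext fun w => hS g w⟩
    have hSc : ∀ w, S w = c • w := fun w =>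
      (LinearMap.congr_fun (congrArg IntertwiningMap.toLinearMap hc) w).symm
    rw [hSc, hSc, map_smul]
  · intro V _ _ _ ρ A B hAB hA hB _ hmf S T hS hT v
    have hsplit : ρ.character = A.toRepresentation.character + B.toRepresentation.character :=
      char_eq_add_of_isCompl ρ A B hAB
    obtain ⟨a, ha⟩ := exists_multiplicities (isCharacter_character (V := A.toSubmodule) A.toRepresentation)
    obtain ⟨b, hb⟩ := exists_multiplicities (isCharacter_character (V := B.toSubmodule) B.toRepresentation)
    have hab : ∀ ψ : Cfsg.IrrCharacter G, a ψ + b ψ ≤ 1 := by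
      intro ψ
      have := hmf ψ ψ.2
      rw [hsplit, classInner_add_left, ha, hb, classInner_sum_smul_irr, classInner_sum_smul_irr] at this
      norm_cast at this
      omega
    have hAmf : MultFree (V := A.toSubmodule) A.toRepresentation := by
      intro χ hχ
      have h1 := hab ⟨χ, hχ⟩
      rw [ha, show χ = ((⟨χ, hχ⟩ : Cfsg.IrrCharacter G) : G → ℂ) from rfl, classInner_sum_smul_irr]
      norm_cast
      omega
    have hBmf : MultFree (V := B.toSubmodule) B.toRepresentation := by
      intro χ hχ
      have h1 := hab ⟨χ, hχ⟩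
      rw [hb, show χ = ((⟨χ, hχ⟩ : Cfsg.IrrCharacter G) : G → ℂ) from rfl, classInner_sum_smul_irr]
      norm_cast
      omega
    have hperp : Cfsg.classInner (Representation.character (V := B.toSubmodule) B.toRepresentation)
        (Representation.character (V := A.toSubmodule) A.toRepresentation) = 0 := by
      rw [ha, hb, classInner_sum_smul_sum_smul]
      refine Finset.sum_eq_zero fun ψ _ => ?_
      have h1 := hab ψ
      rcases Nat.eq_zero_or_pos (a ψ) with h2 | h2
      · simp [h2]
      · simp [show b ψ = 0 by omega]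
    have hperp' : Cfsg.classInner (Representation.character (V := A.toSubmodule) A.toRepresentation)
        (Representation.character (V := B.toSubmodule) B.toRepresentation) = 0 := by
      rw [← classInner_conj_symm, hperp, map_zero]
    have hc : IsCompl A.toSubmodule B.toSubmodule := by
      constructor
      · rw [disjoint_iff, ← Subrepresentation.toSubmodule_inf, hAB.inf_eq_bot]
        rfl
      · rw [codisjoint_iff, ← Subrepresentation.toSubmodule_sup, hAB.sup_eq_top]
        rfl
    -- endomorphisms preserve each piece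
    have key : ∀ (C D : Subrepresentation ρ) (hCD : IsCompl C.toSubmodule D.toSubmodule),
        Cfsg.classInner (Representation.character (V := D.toSubmodule) D.toRepresentation)
          (Representation.character (V := C.toSubmodule) C.toRepresentation) = 0 →
        ∀ S : V →ₗ[ℂ] V, (∀ g v, S (ρ g v) = ρ g (S v)) → ∀ x ∈ C.toSubmodule, S x ∈ C.toSubmodule := by
      intro C D hCD h0 S hS x hx
      have hproj : ∀ g w, D.toSubmodule.projectionOnto C.toSubmodule hCD.symm (ρ g w)
          = D.toRepresentation g (D.toSubmodule.projectionOnto C.toSubmodule hCD.symm w) := by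
        intro g w
        obtain ⟨d, hd, c, hc', rfl⟩ := Submodule.mem_sup.1
          (show w ∈ D.toSubmodule ⊔ C.toSubmodule by rw [hCD.symm.sup_eq_top]; trivial)
        rw [map_add, map_add, map_add, Submodule.projectionOnto_apply_left _ ⟨d, hd⟩,
          Submodule.projectionOnto_apply_left _ (⟨ρ g d, D.apply_mem_toSubmodule g hd⟩ : D.toSubmodule),
          Submodule.projectionOnto_apply_right _ ⟨c, hc'⟩,
          Submodule.projectionOnto_apply_right _ (⟨ρ g c, C.apply_mem_toSubmodule g hc'⟩ : C.toSubmodule),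
          add_zero, add_zero]
        rfl
      have hz := intertwining_eq_zero (ρ := C.toRepresentation) (σ := D.toRepresentation) h0
        (D.toSubmodule.projectionOnto C.toSubmodule hCD.symm ∘ₗ S ∘ₗ C.toSubmodule.subtype)
        (fun g w => by
          show D.toSubmodule.projectionOnto C.toSubmodule hCD.symm (S (ρ g w.1)) = _
          rw [hS, hproj]
          rfl)
      exact (Submodule.projectionOnto_apply_eq_zero_iff hCD.symm).1 (LinearMap.congr_fun hz ⟨x, hx⟩)
    have main : ∀ (C : Subrepresentation ρ), CommEnd (V := C.toSubmodule) C.toRepresentation →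
        (∀ S : V →ₗ[ℂ] V, (∀ g v, S (ρ g v) = ρ g (S v)) → ∀ x ∈ C.toSubmodule, S x ∈ C.toSubmodule) →
        ∀ x ∈ C.toSubmodule, S (T x) = T (S x) := by
      intro C hC hinv x hx
      exact congrArg Subtype.val (hC (S.restrict (hinv S hS)) (T.restrict (hinv T hT))
        (fun g w => Subtype.ext (hS g w.1)) (fun g w => Subtype.ext (hT g w.1)) ⟨x, hx⟩)
    obtain ⟨x, hx, y, hy, rfl⟩ := Submodule.mem_sup.1
      (show v ∈ A.toSubmodule ⊔ B.toSubmodule by rw [hc.sup_eq_top]; trivial)
    rw [map_add, map_add, map_add, map_add, main A (hA hAmf) (key A B hc hperp) x hx,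
      main B (hB hBmf) (key B A hc.symm hperp') y hy]

theorem multFree_of_commEnd {V : Type*} [AddCommGroup V] [Module ℂ V] [FiniteDimensional ℂ V]
    (ρ : Representation ℂ G V) (h : CommEnd ρ) : MultFree ρ := by
  intro χ hχ
  obtain ⟨n, σ, hσ, rfl⟩ := hχ
  rw [classInner_character_eq_finrank]
  by_contra hne
  push Not at hne
  have hne' : finrank ℂ (IntertwiningMap σ ρ) ≠ 0 ∧ finrank ℂ (IntertwiningMap σ ρ) ≠ 1 := by
    constructor
    · exact fun h0 => hne.1 (by rw [h0, Nat.cast_zero])
    · exact fun h0 => hne.2 (by rw [h0, Nat.cast_one])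
  obtain ⟨ι, hι⟩ : ∃ ι : IntertwiningMap σ ρ, ι ≠ 0 := by
    by_contra hc
    push Not at hc
    have : Subsingleton (IntertwiningMap σ ρ) := ⟨fun a b => (hc a).trans (hc b).symm⟩
    exact hne'.1 Module.finrank_zero_of_subsingleton
  have hιeq : ∀ g v, ι.toLinearMap (σ g v) = ρ g (ι.toLinearMap v) := fun g v =>
    LinearMap.congr_fun (ι.isIntertwining' g) v
  have hker : LinearMap.ker ι.toLinearMap = ⊥ := by
    let K : Subrepresentation σ := ⟨LinearMap.ker ι.toLinearMap, fun g v hv => by
      rw [LinearMap.mem_ker] at hv ⊢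
      rw [hιeq, hv, map_zero]⟩
    rcases hσ.eq_bot_or_eq_top K with h1 | h1
    · exact congrArg Subrepresentation.toSubmodule h1
    · exfalso
      refine hι (IntertwiningMap.ext ?_)
      exact LinearMap.ker_eq_top.1 (congrArg Subrepresentation.toSubmodule h1)
  let R : Subrepresentation ρ := ⟨LinearMap.range ι.toLinearMap, by
    rintro g _ ⟨v, rfl⟩
    exact ⟨σ g v, hιeq g v⟩⟩
  obtain ⟨D, hD⟩ := exists_isCompl_subrep ρ R
  have hc : IsCompl R.toSubmodule D.toSubmodule := by
    constructor
    · rw [disjoint_iff, ← Subrepresentation.toSubmodule_inf, hD.inf_eq_bot]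
      rfl
    · rw [codisjoint_iff, ← Subrepresentation.toSubmodule_sup, hD.sup_eq_top]
      rfl
  let e := LinearEquiv.ofInjective ι.toLinearMap (LinearMap.ker_eq_bot.1 hker)
  let p : V →ₗ[ℂ] (Fin n → ℂ) := e.symm.toLinearMap ∘ₗ R.toSubmodule.projectionOnto D.toSubmodule hc
  have hpι : ∀ v, p (ι.toLinearMap v) = v := by
    intro v
    show e.symm (R.toSubmodule.projectionOnto D.toSubmodule hc ((e v : R.toSubmodule) : V)) = v
    rw [Submodule.projectionOnto_apply_left hc (e v)]
    exact e.symm_apply_apply v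
  have hpd : ∀ w ∈ D.toSubmodule, p w = 0 := by
    intro w hw
    show e.symm _ = 0
    rw [(Submodule.projectionOnto_apply_eq_zero_iff hc).2 hw, map_zero]
  have hp : ∀ g v, p (ρ g v) = σ g (p v) := by
    intro g v
    obtain ⟨_, ⟨x, rfl⟩, d, hd, rfl⟩ := Submodule.mem_sup.1
      (show v ∈ R.toSubmodule ⊔ D.toSubmodule by rw [hc.sup_eq_top]; trivial)
    rw [map_add, map_add, map_add, ← hιeq, hpι, hpι, hpd d hd, hpd _ (D.apply_mem_toSubmodule g hd),
      add_zero, add_zero]
  have hone : Module.finrank ℂ (IntertwiningMap σ σ) = 1 := by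
    have h1 := classInner_character_eq_finrank σ σ
    rw [classInner_irr_self ⟨n, σ, hσ, rfl⟩] at h1
    exact_mod_cast h1.symm
  apply hne'.2
  refine (finrank_eq_one_iff_of_nonzero' ι hι).2 fun φ => ?_
  have hφeq : ∀ g v, φ.toLinearMap (σ g v) = ρ g (φ.toLinearMap v) := fun g v =>
    LinearMap.congr_fun (φ.isIntertwining' g) v
  have hcomm := h (ι.toLinearMap ∘ₗ p) (φ.toLinearMap ∘ₗ p)
    (fun g v => (congrArg ι.toLinearMap (hp g v)).trans (hιeq g (p v)))
    (fun g v => (congrArg φ.toLinearMap (hp g v)).trans (hφeq g (p v)))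
  let idσ : IntertwiningMap σ σ := ⟨LinearMap.id, fun g => rfl⟩
  have hid : idσ ≠ 0 := by
    intro h0
    refine hι (IntertwiningMap.ext (LinearMap.ext fun v => ?_))
    have : v = 0 := LinearMap.congr_fun (congrArg IntertwiningMap.toLinearMap h0) v
    rw [this, map_zero]
    rfl
  obtain ⟨c, hc'⟩ := (finrank_eq_one_iff_of_nonzero' idσ hid).1 hone
    ⟨p ∘ₗ φ.toLinearMap, fun g => LinearMap.ext fun v => (congrArg p (hφeq g v)).trans (hp g (φ.toLinearMap v))⟩
  refine ⟨c, IntertwiningMap.ext (LinearMap.ext fun v => ?_)⟩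
  have h1 : c • v = p (φ.toLinearMap v) := LinearMap.congr_fun (congrArg IntertwiningMap.toLinearMap hc') v
  have h2 := hcomm (ι.toLinearMap v)
  simp only [LinearMap.comp_apply, hpι] at h2
  rw [← h2, ← h1, map_smul]
  rfl

theorem commEnd_iff_multFree {V : Type*} [AddCommGroup V] [Module ℂ V] [FiniteDimensional ℂ V]
    (ρ : Representation ℂ G V) : CommEnd ρ ↔ MultFree ρ :=
  ⟨multFree_of_commEnd ρ, commEnd_of_multFree ρ⟩

end Cfsg.Agent.Lib.Perm
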