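/-
Regular normal subgroups of multiply primitive groups, and normal subgroups of multiply primitive
and multiply transitive groups.
-/
import Mathlib
import Cfsg.Agent.Lib.Perm.SharplyTwo

set_option autoImplicit false
set_option linter.style.haveILetI false

open MulAction
open scoped Pointwise

namespace CfsgLib.MultPrim

variable {G X : Type*} [Group G] [MulAction G X]

/-- A two-element block of a primitive action is everything. -/
theorem pair_block_univ {Y : Type*} [MulAction G Y] (hp : IsPreprimitive G Y) {u v : Y} (huv : u ≠ v)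
    (hb : ∀ g : G, (g • u = u ∨ g • u = v ∨ g • v = u ∨ g • v = v) →
      ((g • u = u ∧ g • v = v) ∨ (g • u = v ∧ g • v = u))) (y : Y) : y = u ∨ y = v := by
  have hB : IsBlock G ({u, v} : Set Y) := by
    rw [isBlock_iff_smul_eq_or_disjoint]
    intro g
    by_cases h : g • u = u ∨ g • u = v ∨ g • v = u ∨ g • v = v
    · left
      rw [Set.smul_set_insert, Set.smul_set_singleton]
      rcases hb g h with ⟨h1, h2⟩ | ⟨h1, h2⟩
      · rw [h1, h2]
      · rw [h1, h2, Set.pair_comm]
    · right
      push Not at h
      rw [Set.disjoint_iff_forall_ne]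
      intro x hx z hz
      rw [Set.smul_set_insert, Set.smul_set_singleton] at hx
      simp only [Set.mem_insert_iff, Set.mem_singleton_iff] at hx hz
      rcases hx with rfl | rfl <;> rcases hz with rfl | rfl
      exacts [h.1, h.2.1, h.2.2.1, h.2.2.2]
  rcases hp.isTrivialBlock_of_isBlock hB with h | h
  · exact absurd (h (Set.mem_insert u _) (Set.mem_insert_of_mem u (Set.mem_singleton v))) huv
  · have : y ∈ ({u, v} : Set Y) := h ▸ Set.mem_univ y
    simpa using this

variable {N : Subgroup G}

/-- Coordinates given by a regular normal subgroup. -/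
theorem exists_coord [N.Normal] (htrans : IsPretransitive N X) (hreg : ∀ x : X, stabilizer N x = ⊥)
    (a : X) : ∃ t : X → N, Function.Bijective t ∧ (∀ x, (t x : G) • a = x) ∧ t a = 1 ∧
      ∀ g : G, g • a = a → ∀ x, (t (g • x) : G) = g * (t x : G) * g⁻¹ := by
  have huniq : ∀ n n' : N, (n : G) • a = (n' : G) • a → n = n' := by
    intro n n' h
    have h' : n'⁻¹ * n ∈ stabilizer N a := by
      rw [mem_stabilizer_iff, mul_smul]
      show n'⁻¹ • ((n : G) • a) = a
      rw [h]
      exact inv_smul_smul n' a
    rw [hreg a, Subgroup.mem_bot, inv_mul_eq_one] at h'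
    exact h'.symm
  have hex : ∀ x, ∃ n : N, (n : G) • a = x := fun x => htrans.exists_smul_eq a x
  choose t ht using hex
  refine ⟨t, ⟨fun x y h => by rw [← ht x, ← ht y, h], fun n => ⟨(n : G) • a, huniq _ _ (ht _)⟩⟩, ht,
    huniq _ _ (by rw [ht a, Subgroup.coe_one, one_smul]), fun g hg x => ?_⟩
  have := huniq (t (g • x)) ⟨g * (t x : G) * g⁻¹, (inferInstance : N.Normal).conj_mem _ (t x).2 g⟩ (by
    rw [ht, mul_smul, mul_smul, inv_smul_eq_iff.mpr hg.symm, ht])
  exact congrArg Subtype.val this

theorem two_primitive [Fintype X] (hX : 2 ≤ Fintype.card X) (h2 : IsMultiplyPreprimitive G X 2)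
    [N.Normal] (htrans : IsPretransitive N X) (hreg : ∀ x : X, stabilizer N x = ⊥) :
    Fintype.card X = 3 ∨
      (IsMulCommutative N ∧ (∀ n ∈ N, n ^ 2 = 1) ∧ ∃ m : ℕ, Fintype.card X = 2 ^ m) := by
  classical
  obtain ⟨a, b, hab⟩ := Fintype.one_lt_card_iff.mp (show 1 < Fintype.card X by omega)
  obtain ⟨t, htb, hta, ht1, hconj⟩ := exists_coord htrans hreg a
  haveI : Finite N := Finite.of_surjective t htb.2
  have hcard : Nat.card N = Fintype.card X := by
    rw [← Nat.card_eq_fintype_card]; exact (Nat.card_congr (Equiv.ofBijective t htb)).symm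
  haveI := h2.isMultiplyPretransitive
  -- automorphisms transitive on the non-identity elements
  have hord : ∀ x y, x ≠ a → y ≠ a → orderOf (t x) = orderOf (t y) := by
    intro x y hx hy
    obtain ⟨g, hga, hgx⟩ := ((is_two_pretransitive_iff (G := G) (α := X)).mp inferInstance) hx.symm hy.symm
    rw [← Subgroup.orderOf_coe (t y), ← hgx, hconj g hga x, ← Subgroup.orderOf_coe]
    exact (orderOf_injective (MulAut.conj g).toMonoidHom (MulAut.conj g).injective _).symm
  have hprim : IsPreprimitive (fixingSubgroup G ({a} : Set X))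
      (SubMulAction.ofFixingSubgroup G ({a} : Set X)) :=
    h2.isPreprimitive_ofFixingSubgroup (by rw [Set.encard_singleton]; rfl)
  by_cases hinv : ∀ n : N, n⁻¹ = n
  · right
    have hsq : ∀ n ∈ N, n ^ 2 = 1 := fun n hn => by
      have := congrArg Subtype.val (hinv ⟨n, hn⟩)
      simp only [Subgroup.coe_inv] at this
      rw [sq]
      conv_lhs => arg 1; rw [← this]
      exact inv_mul_cancel n
    refine ⟨⟨⟨fun u v => by rw [← hinv (u * v), mul_inv_rev, hinv u, hinv v]⟩⟩, hsq, ?_⟩
    have hP : IsPGroup 2 N := fun n => ⟨1, Subtype.ext (by simpa using hsq n n.2)⟩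
    haveI : Fact (Nat.Prime 2) := ⟨Nat.prime_two⟩
    obtain ⟨m, hm⟩ := IsPGroup.iff_card.mp hP
    exact ⟨m, by rw [← hcard, hm]⟩
  · left
    push Not at hinv
    obtain ⟨n, hn⟩ := hinv
    obtain ⟨x, rfl⟩ := htb.2 n
    obtain ⟨y, hy⟩ := htb.2 (t x)⁻¹
    have hxa : x ≠ a := fun h => hn (by rw [h, ht1, inv_one])
    have hya : y ≠ a := fun h => by
      rw [h, ht1, eq_comm, inv_eq_one] at hy
      exact hxa (htb.1 (hy.trans ht1.symm))
    have hxy : x ≠ y := fun h => hn (by rw [← hy, h])
    have hmem : ∀ z, z ≠ a → z ∈ SubMulAction.ofFixingSubgroup G ({a} : Set X) := fun z hz => by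
      rw [SubMulAction.mem_ofFixingSubgroup_iff]; simpa using hz
    have hall := pair_block_univ hprim (u := ⟨x, hmem x hxa⟩) (v := ⟨y, hmem y hya⟩)
      (fun h => hxy (congrArg Subtype.val h)) (fun g hg => by
        have hga : (g : G) • a = a := (mem_fixingSubgroup_iff G).mp g.2 a rfl
        have hgy : ∀ z w, (g : G) • x = z → t w = (t z)⁻¹ → (g : G) • y = w := by
          intro z w hz hw
          refine htb.1 (Subtype.ext ?_)
          rw [hw, hconj _ hga y, hy, ← hz, Subgroup.coe_inv, Subgroup.coe_inv, hconj _ hga x]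
          group
        simp only [Subtype.ext_iff, SubMulAction.val_smul_of_tower] at hg ⊢
        have hgx : ∀ z w, (g : G) • y = z → t w = (t z)⁻¹ → (g : G) • x = w := by
          intro z w hz hw
          refine htb.1 (Subtype.ext ?_)
          rw [hw, hconj _ hga x, ← hz, Subgroup.coe_inv, hconj _ hga y, hy, Subgroup.coe_inv]
          group
        have hy' : t x = (t y)⁻¹ := by rw [hy, inv_inv]
        rcases hg with h | h | h | h
        · exact .inl ⟨h, hgy x y h hy⟩
        · exact .inr ⟨h, hgy y x h hy'⟩
        · exact .inr ⟨hgx x y h hy, h⟩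
        · exact .inl ⟨hgx y x h hy', h⟩)
    have hu : (Finset.univ : Finset X) = {a, x, y} := by
      refine Finset.eq_univ_of_forall (fun z => ?_) |>.symm
      by_cases hz : z = a
      · simp [hz]
      · rcases hall ⟨z, hmem z hz⟩ with h | h <;> simp [show z = _ from congrArg Subtype.val h]
    rw [← Finset.card_univ, hu]
    exact Finset.card_eq_three.mpr ⟨a, x, y, hxa.symm, hya.symm, hxy, rfl⟩

theorem three_primitive [Fintype X] (hX : 3 ≤ Fintype.card X) (h3 : IsMultiplyPreprimitive G X 3)
    [N.Normal] (htrans : IsPretransitive N X) (hreg : ∀ x : X, stabilizer N x = ⊥) :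
    Fintype.card X = 3 ∨ Fintype.card X = 4 := by
  classical
  haveI := h3.isMultiplyPretransitive
  have h2 : IsMultiplyPreprimitive G X 2 := by
    rw [isMultiplyPreprimitive_iff]
    refine ⟨isMultiplyPretransitive_of_le (n := 3) (by norm_num) (by rwa [Nat.card_eq_fintype_card]),
      fun {s} hs => ?_⟩
    have hs1 : s.ncard = 1 := by
      have : s.encard = 1 := ENat.add_left_injective_of_ne_top ENat.one_ne_top (hs.trans rfl)
      rw [Set.ncard, this]; rfl
    haveI : IsMultiplyPretransitive (fixingSubgroup G s) (SubMulAction.ofFixingSubgroup G s) 2 :=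
      SubMulAction.ofFixingSubgroup.isMultiplyPretransitive G s (n := 3) (by rw [hs1])
    exact isPreprimitive_of_is_two_pretransitive inferInstance
  rcases two_primitive (by omega) h2 htrans hreg with h | ⟨hc, hsq, -⟩
  · exact .inl h
  right
  obtain ⟨a, b, hab⟩ := Fintype.one_lt_card_iff.mp (show 1 < Fintype.card X by omega)
  obtain ⟨t, htb, hta, ht1, hconj⟩ := exists_coord htrans hreg a
  obtain ⟨c, hc'⟩ : ∃ c, c ∉ ({a, b} : Finset X) := by
    by_contra h
    push Not at h
    have := (Finset.eq_univ_of_forall h) ▸ (Finset.card_univ (α := X))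
    have h' := Finset.card_le_two (a := a) (b := b)
    omega
  simp only [Finset.mem_insert, Finset.mem_singleton, not_or] at hc'
  obtain ⟨d, hd⟩ := htb.2 (t b * t c)
  have hnn : ∀ n : N, n * n = 1 := fun n => Subtype.ext (by simpa [sq] using hsq n n.2)
  have hb1 : t b ≠ 1 := fun h => hab (htb.1 (ht1.trans h.symm))
  have hc1 : t c ≠ 1 := fun h => hc'.1 (htb.1 (h.trans ht1.symm))
  have hda : d ≠ a := fun h => by
    rw [h, ht1] at hd
    refine hc'.2 (htb.1 ?_)
    calc t c = (t b * t b) * t c := by rw [hnn, one_mul]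
      _ = t b := by rw [mul_assoc, ← hd, mul_one]
  have hdb : d ≠ b := fun h => hc1 (by rw [h] at hd; exact mul_eq_left.mp hd.symm)
  have hdc : c ≠ d := fun h => hb1 (by rw [← h] at hd; exact mul_eq_right.mp hd.symm)
  have hprim : IsPreprimitive (fixingSubgroup G ({a, b} : Set X))
      (SubMulAction.ofFixingSubgroup G ({a, b} : Set X)) :=
    h3.isPreprimitive_ofFixingSubgroup (by rw [Set.encard_pair hab]; rfl)
  have hmem : ∀ z, z ≠ a → z ≠ b → z ∈ SubMulAction.ofFixingSubgroup G ({a, b} : Set X) := fun z h1 h2 => by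
    rw [SubMulAction.mem_ofFixingSubgroup_iff]; simp [h1, h2]
  have hall := pair_block_univ hprim (u := ⟨c, hmem c hc'.1 hc'.2⟩) (v := ⟨d, hmem d hda hdb⟩)
    (fun h => hdc (congrArg Subtype.val h)) (fun g hg => by
      have hga : (g : G) • a = a := (mem_fixingSubgroup_iff G).mp g.2 a (by simp)
      have hgb : (g : G) • b = b := (mem_fixingSubgroup_iff G).mp g.2 b (by simp)
      have htd : t ((g : G) • d) = t b * t ((g : G) • c) := by
        refine Subtype.ext ?_
        have hb2 : (t b : G) = (g : G) * (t b : G) * (g : G)⁻¹ := by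
          have := hconj _ hga b
          rwa [hgb] at this
        rw [Subgroup.coe_mul, hb2, hconj _ hga d, hconj _ hga c, hd, Subgroup.coe_mul]
        group
      have htd' : t c = t b * t d := by rw [hd, ← mul_assoc, hnn, one_mul]
      have hcd : t ((g : G) • c) = t b * t ((g : G) • d) := by rw [htd, ← mul_assoc, hnn, one_mul]
      simp only [Subtype.ext_iff, SubMulAction.val_smul_of_tower] at hg ⊢
      change (g : G) • c = c ∨ (g : G) • c = d ∨ (g : G) • d = c ∨ (g : G) • d = d at hg
      rcases hg with h | h | h | h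
      · exact .inl ⟨h, (htb.1 (htd.trans (by rw [h, hd])) : (g : G) • d = d)⟩
      · exact .inr ⟨h, (htb.1 (htd.trans (by rw [h, htd'])) : (g : G) • d = c)⟩
      · exact .inr ⟨(htb.1 (hcd.trans (by rw [h, hd])) : (g : G) • c = d), h⟩
      · exact .inl ⟨(htb.1 (hcd.trans (by rw [h, htd'])) : (g : G) • c = c), h⟩)
  have hu : (Finset.univ : Finset X) = {a, b, c, d} := by
    refine Finset.eq_univ_of_forall (fun z => ?_) |>.symm
    by_cases h1 : z = a
    · simp [h1]
    by_cases h2 : z = b
    · simp [h2]
    rcases hall ⟨z, hmem z h1 h2⟩ with h | h <;> simp [show z = _ from congrArg Subtype.val h]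
  rw [← Finset.card_univ, hu, Finset.card_insert_of_notMem (by simp [hab, Ne.symm hc'.1, Ne.symm hda]),
    Finset.card_insert_of_notMem (by simp [Ne.symm hc'.2, Ne.symm hdb]), Finset.card_pair hdc]

omit N in
/-- The normal subgroup theorem for `k`-primitive groups. -/
theorem normal_k_primitive : ∀ (k : ℕ) {G X : Type*} [Group G] [Finite G] [Fintype X] [MulAction G X]
    [FaithfulSMul G X], 1 ≤ k → k ≤ Fintype.card X → IsMultiplyPreprimitive G X k →
    ∀ (H : Subgroup G), H.Normal → (∃ a : X, stabilizer H a ≠ ⊥) →
      IsMultiplyPretransitive H X k ∨ (3 ≤ k ∧ Fintype.card X ≤ k + 1) := by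
  intro k
  induction k with
  | zero => intros; omega
  | succ k ih =>
    intro G X _ _ _ _ _ _ hkn hG H hH ⟨a₀, ha₀⟩
    classical
    haveI := hH
    haveI := hG.isMultiplyPretransitive
    have hfix : fixedPoints H X ≠ Set.univ := by
      intro h
      apply ha₀
      rw [Subgroup.eq_bot_iff_forall]
      intro x _
      refine Subtype.ext (FaithfulSMul.eq_of_smul_eq_smul (α := X) fun y => ?_)
      rw [Subgroup.coe_one, one_smul]
      exact (h ▸ Set.mem_univ y : y ∈ fixedPoints H X) x
    have hGprim : IsPreprimitive G X := by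
      rcases Nat.eq_zero_or_pos k with rfl | hk
      · exact (is_one_preprimitive_iff G X).mp hG
      · haveI : IsMultiplyPretransitive G X 2 :=
          isMultiplyPretransitive_of_le (n := k + 1) (by omega) (by rwa [Nat.card_eq_fintype_card])
        exact isPreprimitive_of_is_two_pretransitive inferInstance
    haveI := hGprim
    haveI hHt : IsPretransitive H X := IsQuasiPreprimitive.isPretransitive_of_normal hfix
    rcases Nat.eq_zero_or_pos k with rfl | hk
    · left; exact is_one_pretransitive_iff.mpr hHt
    -- the point stabiliser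
    haveI : Fintype (SubMulAction.ofStabilizer G a₀) := Fintype.ofFinite _
    have hn : Fintype.card (SubMulAction.ofStabilizer G a₀) + 1 = Fintype.card X := by
      rw [← Nat.card_eq_fintype_card, ← Nat.card_eq_fintype_card]
      exact SubMulAction.nat_card_ofStabilizer_add_one_eq G a₀
    haveI : FaithfulSMul (stabilizer G a₀) (SubMulAction.ofStabilizer G a₀) := ⟨fun {g g'} h => by
      refine Subtype.ext (FaithfulSMul.eq_of_smul_eq_smul (α := X) fun y => ?_)
      by_cases hy : y = a₀
      · subst hy; rw [g.2, g'.2]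
      · exact congrArg Subtype.val (h ⟨y, hy⟩)⟩
    set H' : Subgroup (stabilizer G a₀) := H.subgroupOf (stabilizer G a₀)
    haveI hH' : H'.Normal := inferInstance
    have hGa : IsMultiplyPreprimitive (stabilizer G a₀) (SubMulAction.ofStabilizer G a₀) k :=
      (isMultiplyPreprimitive_succ_iff_ofStabilizer G X hk).mp hG
    -- lifting transitivity
    have lift : IsMultiplyPretransitive H' (SubMulAction.ofStabilizer G a₀) k →
        IsMultiplyPretransitive H X (k + 1) := by
      intro hT
      refine (SubMulAction.ofStabilizer.isMultiplyPretransitive (a := a₀)).mpr ⟨fun x y => ?_⟩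
      let x' : Fin k ↪ SubMulAction.ofStabilizer G a₀ :=
        ⟨fun i => ⟨(x i : X), (x i).2⟩, fun i j h => x.injective (Subtype.ext (congrArg Subtype.val h :))⟩
      let y' : Fin k ↪ SubMulAction.ofStabilizer G a₀ :=
        ⟨fun i => ⟨(y i : X), (y i).2⟩, fun i j h => y.injective (Subtype.ext (congrArg Subtype.val h :))⟩
      obtain ⟨g, hg⟩ := hT.exists_smul_eq x' y'
      refine ⟨⟨⟨((g : stabilizer G a₀) : G), g.2⟩, (g : stabilizer G a₀).2⟩, ?_⟩
      ext i
      exact congrArg Subtype.val (DFunLike.congr_fun hg i)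
    -- is the stabiliser regular on the remaining points?
    by_cases hnr : ∃ b : SubMulAction.ofStabilizer G a₀, stabilizer H' b ≠ ⊥
    · rcases ih hk (by omega) hGa H' hH' hnr with h | ⟨h3, hle⟩
      · exact .inl (lift h)
      · exact .inr ⟨by omega, by omega⟩
    rcases (show k = 1 ∨ 2 ≤ k by omega) with rfl | hk2
    · left
      apply lift
      apply is_one_pretransitive_iff.mpr
      haveI : IsPreprimitive (stabilizer G a₀) (SubMulAction.ofStabilizer G a₀) :=
        (is_one_preprimitive_iff _ _).mp hGa
      refine IsQuasiPreprimitive.isPretransitive_of_normal fun h => ha₀ ?_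
      rw [Subgroup.eq_bot_iff_forall]
      intro x hx
      refine Subtype.ext (FaithfulSMul.eq_of_smul_eq_smul (α := X) fun y => ?_)
      rw [Subgroup.coe_one, one_smul]
      by_cases hy : y = a₀
      · subst hy; exact hx
      · have hmem : (⟨y, hy⟩ : SubMulAction.ofStabilizer G a₀) ∈
            fixedPoints H' (SubMulAction.ofStabilizer G a₀) := h ▸ Set.mem_univ _
        exact congrArg Subtype.val (hmem ⟨⟨(x : G), hx⟩, x.2⟩)
    · right
      refine ⟨by omega, ?_⟩
      push Not at hnr
      -- `H` is sharply two-transitive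
      haveI h3p : IsMultiplyPreprimitive G X 3 := by
        rw [isMultiplyPreprimitive_iff]
        refine ⟨isMultiplyPretransitive_of_le (n := k + 1) (by omega) (by rwa [Nat.card_eq_fintype_card]),
          fun {s} hs => ?_⟩
        rcases (show k = 2 ∨ 3 ≤ k by omega) with rfl | hk3
        · exact hG.isPreprimitive_ofFixingSubgroup hs
        · have hs2 : s.ncard = 2 := by
            have : s.encard = 2 := ENat.add_left_injective_of_ne_top ENat.one_ne_top (hs.trans rfl)
            rw [Set.ncard, this]; rfl
          haveI : IsMultiplyPretransitive G X 4 :=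
            isMultiplyPretransitive_of_le (n := k + 1) (by omega) (by rwa [Nat.card_eq_fintype_card])
          haveI : IsMultiplyPretransitive (fixingSubgroup G s) (SubMulAction.ofFixingSubgroup G s) 2 :=
            SubMulAction.ofFixingSubgroup.isMultiplyPretransitive G s (n := 4) (by rw [hs2])
          exact isPreprimitive_of_is_two_pretransitive inferInstance
      haveI hH2 : IsMultiplyPretransitive H X 2 := by
        refine (SubMulAction.ofStabilizer.isMultiplyPretransitive (a := a₀)).mpr
          (is_one_pretransitive_iff.mpr ⟨fun x y => ?_⟩)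
        haveI : IsPreprimitive (stabilizer G a₀) (SubMulAction.ofStabilizer G a₀) := by
          haveI := hGa.isMultiplyPretransitive
          haveI : IsMultiplyPretransitive (stabilizer G a₀) (SubMulAction.ofStabilizer G a₀) 2 :=
            isMultiplyPretransitive_of_le (n := k) hk2 (by rw [Nat.card_eq_fintype_card]; omega)
          exact isPreprimitive_of_is_two_pretransitive inferInstance
        haveI : IsPretransitive H' (SubMulAction.ofStabilizer G a₀) := by
          refine IsQuasiPreprimitive.isPretransitive_of_normal fun h => ha₀ ?_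
          rw [Subgroup.eq_bot_iff_forall]
          intro x hx
          refine Subtype.ext (FaithfulSMul.eq_of_smul_eq_smul (α := X) fun y => ?_)
          rw [Subgroup.coe_one, one_smul]
          by_cases hy : y = a₀
          · subst hy; exact hx
          · have hmem : (⟨y, hy⟩ : SubMulAction.ofStabilizer G a₀) ∈
                fixedPoints H' (SubMulAction.ofStabilizer G a₀) := h ▸ Set.mem_univ _
            exact congrArg Subtype.val (hmem ⟨⟨(x : G), hx⟩, x.2⟩)
        obtain ⟨g, hg⟩ := exists_smul_eq H' (⟨(x : X), x.2⟩ : SubMulAction.ofStabilizer G a₀) ⟨(y : X), y.2⟩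
        exact ⟨⟨⟨((g : stabilizer G a₀) : G), g.2⟩, (g : stabilizer G a₀).2⟩,
          Subtype.ext (congrArg Subtype.val hg :)⟩
      have hsharp : ∀ e : Fin 2 ↪ X, stabilizer H e = ⊥ := by
        intro e
        rw [Subgroup.eq_bot_iff_forall]
        intro h hh
        have h0 : h • e 0 = e 0 := DFunLike.congr_fun hh 0
        have h1 : h • e 1 = e 1 := DFunLike.congr_fun hh 1
        obtain ⟨u, hu⟩ := exists_smul_eq H (e 0) a₀
        have hfix0 : ((u * h * u⁻¹ : H) : G) • a₀ = a₀ := by
          show (u * h * u⁻¹) • a₀ = a₀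
          rw [← hu, mul_smul, mul_smul, inv_smul_smul, h0]
        have hne : u • e 1 ≠ a₀ := fun e' => by
          have := MulAction.injective u (hu.trans e'.symm)
          simpa using e.injective this
        have hmem : (⟨⟨((u * h * u⁻¹ : H) : G), hfix0⟩, (u * h * u⁻¹).2⟩ : H') ∈
            stabilizer H' (⟨u • e 1, hne⟩ : SubMulAction.ofStabilizer G a₀) := by
          refine Subtype.ext ?_
          show (u * h * u⁻¹) • (u • e 1) = u • e 1
          rw [mul_smul, mul_smul, inv_smul_smul, h1]
        rw [hnr, Subgroup.mem_bot] at hmem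
        have h' : u * h * u⁻¹ = 1 := Subtype.ext (congrArg (fun z : H' => ((z : stabilizer G a₀) : G)) hmem :)
        exact conj_eq_one_iff.mp h'
      obtain ⟨N, p, j, hp, hj, hnp, hN, hNc, hNmem, -, -⟩ :=
        CfsgLib.SharplyTwo.exists_translations (G := H) hsharp (by omega)
      have huniq := CfsgLib.SharplyTwo.exists_unique_smul (G := H) hNc (fun g hg => (hNmem g).mp hg)
      set M : Subgroup G := N.map H.subtype with hM
      haveI : M.Normal := by
        refine ⟨?_⟩
        rintro _ ⟨n, hn', rfl⟩ g
        refine ⟨⟨g * (n : G) * g⁻¹, hH.conj_mem _ n.2 g⟩, (hNmem _).mpr ?_, rfl⟩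
        rcases (hNmem n).mp hn' with h | h
        · left; subst h; exact Subtype.ext (by simp)
        · right
          intro x hx
          refine h (g⁻¹ • x) ?_
          show (n : G) • g⁻¹ • x = g⁻¹ • x
          have : (g * (n : G) * g⁻¹) • x = x := hx
          rw [mul_smul, mul_smul] at this
          exact eq_inv_smul_iff.mpr this
      have hMt : IsPretransitive M X := ⟨fun x y => by
        obtain ⟨n, hn', -⟩ := huniq x y
        exact ⟨⟨((n : H) : G), ⟨(n : H), n.2, rfl⟩⟩, hn'⟩⟩
      have hMr : ∀ x : X, stabilizer M x = ⊥ := by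
        intro x
        rw [Subgroup.eq_bot_iff_forall]
        rintro ⟨m, n, hn', rfl⟩ hm
        have := (huniq x x).unique (y₁ := ⟨n, hn'⟩) (y₂ := 1) hm (one_smul _ x)
        exact Subtype.ext (congrArg (fun z : N => ((z : H) : G)) this)
      rcases three_primitive (G := G) (N := M) (by omega) h3p hMt hMr with h | h <;> omega

/-- `k`-transitive groups are `(k-1)`-primitive. -/
theorem preprimitive_of_transitive [Fintype X] {k : ℕ} (hk : 2 ≤ k) (hkn : k ≤ Fintype.card X)
    (hG : IsMultiplyPretransitive G X k) : IsMultiplyPreprimitive G X (k - 1) := by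
  haveI := hG
  rw [isMultiplyPreprimitive_iff]
  refine ⟨isMultiplyPretransitive_of_le (n := k) (by omega) (by rwa [Nat.card_eq_fintype_card]),
    fun {s} hs => ?_⟩
  have hs' : s.ncard + 1 = k - 1 := by
    rw [← (Set.toFinite s).cast_ncard_eq] at hs
    exact_mod_cast hs
  haveI : IsMultiplyPretransitive (fixingSubgroup G s) (SubMulAction.ofFixingSubgroup G s) 2 :=
    SubMulAction.ofFixingSubgroup.isMultiplyPretransitive G s (n := k) (by omega)
  exact isPreprimitive_of_is_two_pretransitive inferInstance

end CfsgLib.MultPrim
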