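import Mathlib
import Cfsg.Agent.Lib.Hall.Carter

/-!
The largest order of a nilpotent permutation group of given degree.
-/

set_option autoImplicit false

namespace CfsgLib.PermNilpotentBound

open MulAction
open scoped Nat Pointwise

/-- The exponent of two in `n !`. -/
def twoVal (n : ℕ) : ℕ := padicValNat 2 n !

theorem twoVal_zero : twoVal 0 = 0 := by simp [twoVal]

theorem twoVal_one : twoVal 1 = 0 := by simp [twoVal]

theorem twoVal_half (n : ℕ) : twoVal n = n / 2 + twoVal (n / 2) := by
  have : Fact (Nat.Prime 2) := ⟨Nat.prime_two⟩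
  unfold twoVal
  rw [← padicValNat_mul_div_factorial (p := 2) n, padicValNat_factorial_mul, add_comm]

theorem twoVal_mono {a b : ℕ} (h : a ≤ b) : twoVal a ≤ twoVal b := by
  induction b using Nat.strong_induction_on generalizing a with
  | _ b ih =>
    rcases Nat.eq_zero_or_pos b with rfl | hb
    · rw [show a = 0 by omega]
    · rw [twoVal_half a, twoVal_half b]
      have := ih (b / 2) (by omega) (show a / 2 ≤ b / 2 by omega)
      omega

theorem twoVal_add : ∀ a b : ℕ, twoVal a + twoVal b ≤ twoVal (a + b) := by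
  suffices h : ∀ n a b : ℕ, a + b ≤ n → twoVal a + twoVal b ≤ twoVal (a + b) from
    fun a b => h (a + b) a b le_rfl
  intro n
  induction n with
  | zero => intro a b h; rw [show a = 0 by omega, show b = 0 by omega]; simp [twoVal_zero]
  | succ n ih =>
    intro a b h
    rcases Nat.eq_zero_or_pos (a + b) with h0 | h0
    · rw [show a = 0 by omega, show b = 0 by omega]; simp [twoVal_zero]
    · rw [twoVal_half a, twoVal_half b, twoVal_half (a + b)]
      have := ih (a / 2) (b / 2) (by omega)
      have := twoVal_mono (show a / 2 + b / 2 ≤ (a + b) / 2 by omega)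
      omega

theorem twoVal_add_odd {a b : ℕ} (ha : a % 2 = 1) (hb : b % 2 = 1) :
    twoVal a + twoVal b + 1 ≤ twoVal (a + b) := by
  rw [twoVal_half a, twoVal_half b, twoVal_half (a + b)]
  have := twoVal_add (a / 2) (b / 2)
  have := twoVal_mono (show a / 2 + b / 2 ≤ (a + b) / 2 by omega)
  omega

theorem twoVal_succ {n : ℕ} (h : n % 4 = 3) : twoVal n + 2 ≤ twoVal (n + 1) := by
  rw [twoVal_half n, twoVal_half (n + 1), twoVal_half (n / 2), twoVal_half ((n + 1) / 2)]
  have := twoVal_mono (show n / 2 / 2 ≤ (n + 1) / 2 / 2 by omega)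
  omega

/-- The bound. -/
def maxOrd (n : ℕ) : ℕ := if n % 4 = 3 then 3 * 2 ^ (twoVal n - 1) else 2 ^ twoVal n

theorem twoVal_pos {n : ℕ} (h : 2 ≤ n) : 1 ≤ twoVal n := by
  rw [twoVal_half n]
  omega

theorem pow_le_maxOrd (n : ℕ) : 2 ^ twoVal n ≤ maxOrd n := by
  unfold maxOrd
  split_ifs with h
  · obtain ⟨v, hv⟩ : ∃ v, twoVal n = v + 1 := ⟨twoVal n - 1, by have := twoVal_pos (show 2 ≤ n by omega); omega⟩
    rw [hv, Nat.add_sub_cancel, pow_succ']
    omega
  · exact le_rfl

theorem maxOrd_le_pow (n : ℕ) : maxOrd n ≤ 2 ^ (twoVal n + 1) := by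
  unfold maxOrd
  split_ifs with h
  · obtain ⟨v, hv⟩ : ∃ v, twoVal n = v + 1 := ⟨twoVal n - 1, by have := twoVal_pos (show 2 ≤ n by omega); omega⟩
    rw [hv, Nat.add_sub_cancel, pow_succ', pow_succ']
    omega
  · rw [pow_succ']; omega

theorem maxOrd_mono {a b : ℕ} (h : a ≤ b) : maxOrd a ≤ maxOrd b := by
  induction h with
  | refl => rfl
  | @step m _ ih =>
    refine ih.trans ?_
    by_cases h3 : m % 4 = 3
    · exact (maxOrd_le_pow m).trans ((Nat.pow_le_pow_right (by norm_num)
        (show twoVal m + 1 ≤ twoVal (m + 1) by have := twoVal_succ h3; omega)).trans (pow_le_maxOrd _))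
    · unfold maxOrd
      rw [if_neg h3]
      exact (Nat.pow_le_pow_right (by norm_num) (twoVal_mono (Nat.le_succ m))).trans (pow_le_maxOrd _)

theorem maxOrd_add (a b : ℕ) : maxOrd a * maxOrd b ≤ maxOrd (a + b) := by
  by_cases ha : a % 4 = 3 <;> by_cases hb : b % 4 = 3
  · have h2 : twoVal a + twoVal b + 2 ≤ twoVal (a + b) := by
      rw [twoVal_half a, twoVal_half b, twoVal_half (a + b)]
      have := twoVal_add_odd (show a / 2 % 2 = 1 by omega) (show b / 2 % 2 = 1 by omega)
      have := twoVal_mono (show a / 2 + b / 2 ≤ (a + b) / 2 by omega)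
      omega
    calc maxOrd a * maxOrd b ≤ 2 ^ (twoVal a + 1) * 2 ^ (twoVal b + 1) :=
          Nat.mul_le_mul (maxOrd_le_pow a) (maxOrd_le_pow b)
      _ = 2 ^ (twoVal a + twoVal b + 2) := by rw [← pow_add]; ring_nf
      _ ≤ 2 ^ twoVal (a + b) := Nat.pow_le_pow_right (by norm_num) h2
      _ ≤ _ := pow_le_maxOrd _
  · exact aux a b ha hb
  · rw [mul_comm, add_comm]; exact aux b a hb ha
  · have : maxOrd a = 2 ^ twoVal a ∧ maxOrd b = 2 ^ twoVal b := by
      simp [maxOrd, ha, hb]
    rw [this.1, this.2, ← pow_add]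
    exact (Nat.pow_le_pow_right (by norm_num) (twoVal_add a b)).trans (pow_le_maxOrd _)
where
  aux (a b : ℕ) (ha : a % 4 = 3) (hb : ¬ b % 4 = 3) : maxOrd a * maxOrd b ≤ maxOrd (a + b) := by
    have hb' : maxOrd b = 2 ^ twoVal b := by simp [maxOrd, hb]
    by_cases h0 : b % 4 = 0
    · have h3 : (a + b) % 4 = 3 := by omega
      have hpos := twoVal_pos (show 2 ≤ a by omega)
      have hadd := twoVal_add a b
      rw [hb']
      unfold maxOrd
      rw [if_pos ha, if_pos h3, mul_assoc, ← pow_add]
      exact Nat.mul_le_mul_left 3 (Nat.pow_le_pow_right (by norm_num) (by omega))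
    · have h1 : twoVal a + twoVal b + 1 ≤ twoVal (a + b) := by
        rcases Nat.mod_two_eq_zero_or_one b with hb2 | hb2
        · rw [twoVal_half a, twoVal_half b, twoVal_half (a + b)]
          have := twoVal_add_odd (show a / 2 % 2 = 1 by omega) (show b / 2 % 2 = 1 by omega)
          have := twoVal_mono (show a / 2 + b / 2 ≤ (a + b) / 2 by omega)
          omega
        · exact twoVal_add_odd (by omega) hb2
      calc maxOrd a * maxOrd b ≤ 2 ^ (twoVal a + 1) * 2 ^ twoVal b :=
            Nat.mul_le_mul (maxOrd_le_pow a) (le_of_eq hb')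
        _ = 2 ^ (twoVal a + twoVal b + 1) := by rw [← pow_add]; ring_nf
        _ ≤ 2 ^ twoVal (a + b) := Nat.pow_le_pow_right (by norm_num) h1
        _ ≤ _ := pow_le_maxOrd _

theorem five_twoVal : ∀ n, 16 ≤ n → 4 * n ≤ 5 * twoVal n + 4 := by
  intro n
  induction n using Nat.strong_induction_on with
  | _ n ih =>
    intro hn
    rcases Nat.lt_or_ge n 32 with h | h
    · interval_cases n <;>
        (rw [twoVal_half, twoVal_half (_ / 2), twoVal_half (_ / 2 / 2), twoVal_half (_ / 2 / 2 / 2)]
         norm_num [twoVal_one])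
    · have := ih (n / 2) (by omega) (by omega)
      rw [twoVal_half n]
      omega

/-- The prime power part of a factorial is within the bound. -/
theorem prime_part_le (p a : ℕ) [hp : Fact p.Prime] (h : 0 < a) :
    p ^ padicValNat p (p ^ a) ! ≤ maxOrd (p ^ a) := by
  obtain ⟨n, hn⟩ : ∃ n, n = p ^ a := ⟨_, rfl⟩
  rw [← hn]
  rcases hp.out.eq_two_or_odd' with rfl | hodd
  · exact pow_le_maxOrd n
  have h3 : 3 ≤ p := by
    have := hp.out.two_le
    rcases hodd with ⟨k, rfl⟩
    omega
  have hpn : p ≤ n := by rw [hn]; exact Nat.le_self_pow (by omega) p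
  obtain ⟨v, hv⟩ : ∃ v, v = padicValNat p n ! := ⟨_, rfl⟩
  rw [← hv]
  have hbound : (p - 1) * v + 1 ≤ n := by
    rw [hv, sub_one_mul_padicValNat_factorial]
    have : 0 < (p.digits n).sum := by
      by_contra h0
      have hall : ∀ d ∈ p.digits n, d = 0 := fun d hd =>
        Nat.le_zero.1 (le_trans (List.le_sum_of_mem hd) (by omega))
      have hne := (Nat.digits_ne_nil_iff_ne_zero (b := p)).2 (show n ≠ 0 by omega)
      exact Nat.getLast_digit_ne_zero p (show n ≠ 0 by omega) (hall _ (List.getLast_mem hne))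
    omega
  by_cases hbig : 16 ≤ n
  · -- squares are compared
    apply le_of_pow_le_pow_left₀ two_ne_zero (Nat.zero_le _)
    have hp2 : ∀ k, 2 * k + 3 ≤ 3 ^ (k + 1) := by
      intro k
      induction k with
      | zero => norm_num
      | succ k ih => rw [pow_succ]; omega
    obtain ⟨j, hj⟩ : ∃ j, p = 2 * j + 3 := by
      obtain ⟨k, hk⟩ := hodd
      exact ⟨k - 1, by omega⟩
    have hpp : p ^ 2 ≤ 3 ^ (p - 1) := by
      calc p ^ 2 ≤ (3 ^ (j + 1)) ^ 2 := Nat.pow_le_pow_left (by rw [hj]; exact hp2 j) 2
        _ = 3 ^ (p - 1) := by rw [← pow_mul]; congr 1; omega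
    calc (p ^ v) ^ 2 = (p ^ 2) ^ v := by rw [← pow_mul, ← pow_mul, mul_comm]
      _ ≤ (3 ^ (p - 1)) ^ v := Nat.pow_le_pow_left hpp v
      _ = 3 ^ ((p - 1) * v) := by rw [← pow_mul]
      _ ≤ 3 ^ (n - 1) := Nat.pow_le_pow_right (by norm_num) (by omega)
      _ ≤ (2 ^ twoVal n) ^ 2 := by
        apply le_of_pow_le_pow_left₀ (show 5 ≠ 0 by norm_num) (Nat.zero_le _)
        have h5 := five_twoVal n hbig
        calc (3 ^ (n - 1)) ^ 5 = (3 ^ 5) ^ (n - 1) := by rw [← pow_mul, ← pow_mul, mul_comm]
          _ ≤ (4 ^ 4) ^ (n - 1) := Nat.pow_le_pow_left (by norm_num) _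
          _ = 2 ^ (8 * (n - 1)) := by rw [pow_mul]; norm_num
          _ ≤ 2 ^ (10 * twoVal n) := Nat.pow_le_pow_right (by norm_num) (by omega)
          _ = ((2 ^ twoVal n) ^ 2) ^ 5 := by rw [← pow_mul, ← pow_mul]; ring_nf
      _ ≤ maxOrd n ^ 2 := Nat.pow_le_pow_left (pow_le_maxOrd n) 2
  · have ha : a ≤ 3 := by
      by_contra hcon
      have : 3 ^ 4 ≤ p ^ a := le_trans (Nat.pow_le_pow_left h3 4)
        (Nat.pow_le_pow_right (by omega) (by omega))
      omega
    have hn9 : n = p ∨ n = 9 := by
      rcases (show a = 1 ∨ a = 2 ∨ a = 3 by omega) with rfl | rfl | rfl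
      · left; rw [hn, pow_one]
      · right
        have : p = 3 := by nlinarith
        rw [hn, this]; rfl
      · exfalso
        have : 27 ≤ p ^ 3 := le_trans (by norm_num) (Nat.pow_le_pow_left h3 3)
        omega
    rcases hn9 with hnp | hnp
    · have hv1 : v ≤ 1 := by
        by_contra hcon
        have : 2 * (p - 1) ≤ (p - 1) * v := by rw [mul_comm]; exact Nat.mul_le_mul_left _ (by omega)
        omega
      calc p ^ v ≤ p ^ 1 := Nat.pow_le_pow_right (by omega) hv1
        _ = n := by rw [pow_one, hnp]
        _ ≤ maxOrd n := by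
          unfold maxOrd
          interval_cases n <;>
            (rw [twoVal_half, twoVal_half (_ / 2), twoVal_half (_ / 2 / 2), twoVal_half (_ / 2 / 2 / 2)]
             norm_num [twoVal_zero, twoVal_one])
    · subst hnp
      have hp3 : p = 3 := by
        have hdvd : p ∣ 3 ^ 2 := by rw [show (3 : ℕ) ^ 2 = p ^ a by rw [← hn]; rfl]; exact dvd_pow_self p (by omega)
        exact (Nat.prime_dvd_prime_iff_eq hp.out Nat.prime_three).1 (hp.out.dvd_of_dvd_pow hdvd)
      subst hp3
      calc 3 ^ v ≤ 3 ^ 4 := Nat.pow_le_pow_right (by norm_num) (by omega)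
        _ ≤ maxOrd 9 := by
          unfold maxOrd
          rw [twoVal_half, twoVal_half (_ / 2), twoVal_half (_ / 2 / 2), twoVal_half (_ / 2 / 2 / 2)]
          norm_num [twoVal_zero, twoVal_one]

/-- A nilpotent permutation group of degree `n` has order at most `maxOrd n`. -/
theorem card_le : ∀ (n : ℕ) {α : Type} [Fintype α] [DecidableEq α],
    Fintype.card α = n → ∀ A : Subgroup (Equiv.Perm α),
      Group.IsNilpotent A → Nat.card A ≤ maxOrd n := by
  intro n
  induction n using Nat.strong_induction_on with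
  | _ n ih =>
    intro α _ _ hn A hA
    classical
    have him : ∀ {β : Type} [Fintype β] [DecidableEq β] (f : A →* Equiv.Perm β),
        Fintype.card β < n → Nat.card f.range ≤ maxOrd (Fintype.card β) := by
      intro β _ _ f hlt
      exact ih _ hlt rfl f.range
        (Group.nilpotent_of_surjective f.rangeRestrict f.rangeRestrict_surjective)
    have hpos : 1 ≤ maxOrd n := le_trans Nat.one_le_two_pow (pow_le_maxOrd n)
    rcases Nat.lt_or_ge n 2 with hn2 | hn2
    · have : Subsingleton α := Fintype.card_le_one_iff_subsingleton.1 (by omega)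
      have : Subsingleton (Equiv.Perm α) := ⟨fun a b => Equiv.ext fun x => Subsingleton.elim _ _⟩
      rw [Nat.card_unique]
      exact hpos
    obtain ⟨x⟩ : Nonempty α := Fintype.card_pos_iff.1 (by omega)
    by_cases htr : MulAction.IsPretransitive A α
    swap
    · -- intransitive
      let O : Set α := orbit A x
      have hO : O ≠ Set.univ := fun h => htr ⟨fun y z => by
        obtain ⟨a, ha⟩ : y ∈ O := by rw [h]; trivial
        obtain ⟨b, hb⟩ : z ∈ O := by rw [h]; trivial
        refine ⟨b * a⁻¹, ?_⟩
        have ha' : a • x = y := ha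
        have hb' : b • x = z := hb
        rw [mul_smul, ← ha', inv_smul_smul, hb']⟩
      have hinv : ∀ (a : A) (y : α), a.1 y ∈ O ↔ y ∈ O := fun a y =>
        ⟨fun h => by
          have := mem_orbit_of_mem_orbit a⁻¹ (show a • y ∈ orbit A x from h)
          rwa [inv_smul_smul] at this, fun h => mem_orbit_of_mem_orbit a h⟩
      let f₁ : A →* Equiv.Perm {y // y ∈ O} :=
        { toFun := fun a => a.1.subtypePerm (hinv a)
          map_one' := by ext y; rfl
          map_mul' := fun a b => by ext y; rfl }
      let f₂ : A →* Equiv.Perm {y // y ∉ O} :=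
        { toFun := fun a => a.1.subtypePerm fun y => not_congr (hinv a y)
          map_one' := by ext y; rfl
          map_mul' := fun a b => by ext y; rfl }
      have hsum : Fintype.card {y // y ∈ O} + Fintype.card {y // y ∉ O} = n := by
        rw [Fintype.card_subtype_compl, ← hn]
        have := Fintype.card_subtype_le (fun y => y ∈ O)
        omega
      have h1 : 0 < Fintype.card {y // y ∈ O} := Fintype.card_pos_iff.2 ⟨⟨x, mem_orbit_self x⟩⟩
      have h2 : 0 < Fintype.card {y // y ∉ O} := by
        obtain ⟨y, hy⟩ := (Set.ne_univ_iff_exists_notMem O).1 hO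
        exact Fintype.card_pos_iff.2 ⟨⟨y, hy⟩⟩
      have hinj : Function.Injective
          (fun a : A => ((⟨f₁ a, a, rfl⟩ : f₁.range), (⟨f₂ a, a, rfl⟩ : f₂.range))) := by
        intro a b h
        apply Subtype.ext
        ext y
        by_cases hy : y ∈ O
        · exact congrArg Subtype.val (congrArg (fun e : Equiv.Perm {y // y ∈ O} => e ⟨y, hy⟩)
            (congrArg Subtype.val (congrArg Prod.fst h)))
        · exact congrArg Subtype.val (congrArg (fun e : Equiv.Perm {y // y ∉ O} => e ⟨y, hy⟩)
            (congrArg Subtype.val (congrArg Prod.snd h)))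
      calc Nat.card A ≤ Nat.card (f₁.range × f₂.range) := Nat.card_le_card_of_injective _ hinj
        _ = Nat.card f₁.range * Nat.card f₂.range := Nat.card_prod _ _
        _ ≤ maxOrd (Fintype.card {y // y ∈ O}) * maxOrd (Fintype.card {y // y ∉ O}) :=
          Nat.mul_le_mul (him f₁ (by omega)) (him f₂ (by omega))
        _ ≤ _ := by rw [← hsum]; exact maxOrd_add _ _
    · -- transitive
      obtain ⟨p, hp, hpn⟩ := Nat.exists_prime_and_dvd (show n ≠ 1 by omega)
      have : Fact p.Prime := ⟨hp⟩
      obtain ⟨e, m, hm, hem⟩ := Nat.exists_eq_pow_mul_and_not_dvd (show n ≠ 0 by omega) p hp.ne_one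
      have he : 0 < e := by
        rcases Nat.eq_zero_or_pos e with rfl | he
        · rw [hem, pow_zero, one_mul] at hpn
          exact absurd hpn hm
        · exact he
      let P : Sylow p A := default
      have hPn : (P : Subgroup A).Normal :=
        Sylow.normal_of_normalizerCondition Group.normalizerCondition_of_isNilpotent P
      obtain ⟨c, hc⟩ := P.isPGroup'.exists_card_eq
      have hcopi : (Nat.card (P : Subgroup A)).Coprime (P : Subgroup A).index := by
        rw [hc]
        exact ((Nat.Prime.coprime_iff_not_dvd hp).2 P.not_dvd_index).pow_left c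
      obtain ⟨Q, hQ⟩ := Subgroup.exists_right_complement'_of_coprime hcopi
      have hQcard : (Nat.card Q).Coprime p := by
        have h1 := hQ.card_mul_card
        have h2 := (P : Subgroup A).card_mul_index
        have : Nat.card Q = (P : Subgroup A).index :=
          Nat.eq_of_mul_eq_mul_left (Nat.card_pos (α := (P : Subgroup A))) (h1.trans h2.symm)
        rw [this]
        exact (Nat.Coprime.symm ((Nat.Prime.coprime_iff_not_dvd hp).2 P.not_dvd_index))
      have hcomm : ∀ g ∈ (P : Subgroup A), ∀ h ∈ Q, g * h = h * g := by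
        intro g hg h hh
        refine CfsgLib.Hall.commute_of_coprime_orderOf (p := p) (j := c) ?_ ?_
        · rw [← hc]
          exact Subgroup.orderOf_dvd_natCard _ hg
        · exact Nat.Coprime.coprime_dvd_left (Subgroup.orderOf_dvd_natCard _ hh) hQcard
      have hfact : ∀ a : A, ∃ g ∈ (P : Subgroup A), ∃ h ∈ Q, a = g * h := fun a => by
        obtain ⟨⟨g, h⟩, hgh⟩ := hQ.2 a
        exact ⟨g.1, g.2, h.1, h.2, hgh.symm⟩
      have hQn : Q.Normal := ⟨fun k hk a => by
        obtain ⟨g, hg, h, hh, rfl⟩ := hfact a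
        have hhk : h * k * h⁻¹ ∈ Q := mul_mem (mul_mem hh hk) (inv_mem hh)
        have : g * h * k * (g * h)⁻¹ = h * k * h⁻¹ := by
          calc g * h * k * (g * h)⁻¹ = g * (h * k * h⁻¹) * g⁻¹ := by group
            _ = _ := by rw [hcomm g hg _ hhk, mul_inv_cancel_right]
        rwa [this]⟩
      have hne : ∀ (K : Subgroup A) (y : α), (orbit K y).Nonempty := fun K y => ⟨y, mem_orbit_self y⟩
      have hblk : ∀ (K : Subgroup A) [K.Normal] (y : α), (orbit K y).ncard ∣ n := by
        intro K _ y
        have := IsBlock.ncard_dvd_card (IsBlock.orbit_of_normal (G := A) (N := K) y) (hne K y)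
        rwa [Nat.card_eq_fintype_card, hn] at this
      have horb : ∀ (K : Subgroup A) (y : α), (orbit K y).ncard ∣ Nat.card K := fun K y => by
        rw [← index_stabilizer]
        exact Subgroup.index_dvd_card _
      have hPdiv : ∀ y : α, (orbit (P : Subgroup A) y).ncard ∣ p ^ e := by
        intro y
        refine (Nat.Coprime.dvd_mul_right ?_).1 (hem ▸ hblk _ y)
        refine Nat.Coprime.coprime_dvd_left (horb _ y) ?_
        rw [hc]
        exact ((Nat.Prime.coprime_iff_not_dvd hp).2 hm).pow_left c
      have hQdiv : ∀ y : α, (orbit Q y).ncard ∣ m := by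
        intro y
        refine (Nat.Coprime.dvd_mul_left ?_).1 (hem ▸ hblk _ y)
        exact Nat.Coprime.coprime_dvd_left (horb _ y) (hQcard.pow_right e)
      have hm0 : 0 < m := Nat.pos_of_ne_zero fun h => hm (h ▸ dvd_zero p)
      have hcov : ∀ y z : α, ∃ g ∈ (P : Subgroup A), ∃ h ∈ Q, (g * h : A) • y = z := fun y z => by
        obtain ⟨a, ha⟩ := exists_smul_eq A y z
        obtain ⟨g, hg, h, hh, rfl⟩ := hfact a
        exact ⟨g, hg, h, hh, ha⟩
      -- the two orbits have the extreme sizes and meet in a point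
      have hsur : ∀ y : α, Function.Surjective
          (fun w : (orbit (P : Subgroup A) y) × Q => ((w.2 : A) • (w.1 : α) : α)) := by
        intro y z
        obtain ⟨g, hg, h, hh, e'⟩ := hcov y z
        exact ⟨(⟨g • y, ⟨g, hg⟩, rfl⟩, ⟨h, hh⟩), by
          show h • g • y = z
          rw [smul_smul, ← hcomm g hg h hh]; exact e'⟩
      have hprod : ∀ y : α, ∃ ψ : (orbit (P : Subgroup A) y) × (orbit Q y) → α,
          Function.Surjective ψ ∧
          ∀ (w : (orbit (P : Subgroup A) y) × (orbit Q y)) (h : Q),
            (h : A) • y = w.2.1 → ψ w = (h : A) • (w.1 : α) := by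
        intro y
        let ψ : (orbit (P : Subgroup A) y) × (orbit Q y) → α := fun w =>
          (Classical.choose w.2.2 : Q).1 • (w.1 : α)
        have hψ : ∀ (w : (orbit (P : Subgroup A) y) × (orbit Q y)) (h : Q),
            (h : A) • y = w.2.1 → ψ w = (h : A) • (w.1 : α) := by
          intro w h hh
          obtain ⟨⟨g, hg⟩, hgy⟩ := w.1.2
          have hgy' : g • y = (w.1 : α) := hgy
          have hc' : ((Classical.choose w.2.2 : Q) : A) • y = w.2.1 := Classical.choose_spec w.2.2
          show ((Classical.choose w.2.2 : Q) : A) • (w.1 : α) = _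
          rw [← hgy', smul_smul, smul_smul, ← hcomm g hg _ (Classical.choose w.2.2).2,
            ← hcomm g hg _ h.2, mul_smul, mul_smul, hc', hh]
        have hψs : Function.Surjective ψ := by
          intro u
          obtain ⟨⟨w₁, h⟩, hw⟩ := hsur y u
          exact ⟨(w₁, ⟨(h : A) • y, h, rfl⟩), (hψ _ h rfl).trans hw⟩
        exact ⟨ψ, hψs, hψ⟩
      have hmeet : ∀ y z : α, z ∈ orbit (P : Subgroup A) y → z ∈ orbit Q y → z = y := by
        intro y z hz1 hz2
        obtain ⟨ψ, hψs, hψ⟩ := hprod y
        have hcard : Nat.card ((orbit (P : Subgroup A) y) × (orbit Q y)) ≤ Nat.card α := by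
          rw [Nat.card_prod, Nat.card_coe_set_eq, Nat.card_coe_set_eq, Nat.card_eq_fintype_card, hn, hem]
          exact Nat.mul_le_mul (Nat.le_of_dvd (pow_pos hp.pos e) (hPdiv y)) (Nat.le_of_dvd hm0 (hQdiv y))
        have hψb : Function.Bijective ψ := by
          refine (Nat.bijective_iff_surjective_and_card ψ).2 ⟨hψs, ?_⟩
          exact le_antisymm hcard (Nat.card_le_card_of_surjective ψ hψs)
        obtain ⟨⟨g, hg⟩, hgy⟩ := hz1
        obtain ⟨⟨h, hh⟩, hhy⟩ := hz2
        have hgy' : g • y = z := hgy
        have hhy' : h • y = z := hhy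
        have e1 := hψ (⟨z, ⟨g, hg⟩, hgy⟩, ⟨y, mem_orbit_self y⟩) 1 (one_smul _ _)
        have e2 := hψ (⟨y, mem_orbit_self y⟩, ⟨z, ⟨h, hh⟩, hhy⟩) ⟨h, hh⟩ hhy'
        rw [OneMemClass.coe_one, one_smul] at e1
        exact congrArg (fun w => (w.1 : α)) (hψb.1 (e1.trans (hhy'.symm.trans e2.symm)))
      by_cases hm1 : m = 1
      · -- prime power degree
        subst hm1
        rw [mul_one] at hem
        have hQ1 : ∀ h ∈ Q, h = (1 : A) := by
          intro h hh
          apply Subtype.ext
          ext y
          have hy : (orbit Q y).ncard = 1 := Nat.dvd_one.1 (hQdiv y)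
          obtain ⟨z, hz⟩ := Set.ncard_eq_one.1 hy
          have h1 : h • y ∈ orbit Q y := ⟨⟨h, hh⟩, rfl⟩
          have h2 := mem_orbit_self (M := Q) y
          rw [hz, Set.mem_singleton_iff] at h1 h2
          exact h1.trans h2.symm
        have hA : Nat.card A = p ^ c := by
          rw [← hQ.card_mul_card, hc, show Nat.card Q = 1 from ?_, mul_one]
          have : Subsingleton Q := ⟨fun a b => Subtype.ext ((hQ1 _ a.2).trans (hQ1 _ b.2).symm)⟩
          exact Nat.card_unique
        have hdvd : p ^ c ∣ n ! := by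
          rw [← hA, ← hn, ← Fintype.card_perm, ← Nat.card_eq_fintype_card]
          exact Subgroup.card_subgroup_dvd_card A
        rw [hA, hem]
        refine le_trans ?_ (prime_part_le p e he)
        refine Nat.pow_le_pow_right hp.pos ?_
        rw [hem] at hdvd
        exact (padicValNat_dvd_iff_le (Nat.factorial_ne_zero _)).1 hdvd
      · -- the two block systems
        have hm2 : 2 ≤ m := by omega
        have hpe : 2 ≤ p ^ e := le_trans hp.two_le (Nat.le_self_pow (by omega) p)
        let OP : Set (Set α) := orbit A (orbit (P : Subgroup A) x)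
        let OQ : Set (Set α) := orbit A (orbit Q x)
        have hPx : (orbit (P : Subgroup A) x).ncard = p ^ e ∧ (orbit Q x).ncard = m := by
          obtain ⟨χ, hχs, -⟩ := hprod x
          have h1 := Nat.card_le_card_of_surjective χ hχs
          rw [Nat.card_prod, Nat.card_coe_set_eq, Nat.card_coe_set_eq, Nat.card_eq_fintype_card, hn, hem] at h1
          have h2 := Nat.le_of_dvd (pow_pos hp.pos e) (hPdiv x)
          have h3 := Nat.le_of_dvd hm0 (hQdiv x)
          constructor <;> nlinarith
        have hOP : OP.ncard = m := by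
          have := IsBlock.ncard_block_mul_ncard_orbit_eq
            (IsBlock.orbit_of_normal (G := A) (N := (P : Subgroup A)) x) (hne _ x)
          rw [hPx.1, Nat.card_eq_fintype_card, hn, hem] at this
          exact Nat.eq_of_mul_eq_mul_left (pow_pos hp.pos e) this
        have hOQ : OQ.ncard = p ^ e := by
          have := IsBlock.ncard_block_mul_ncard_orbit_eq
            (IsBlock.orbit_of_normal (G := A) (N := Q) x) (hne _ x)
          rw [hPx.2, Nat.card_eq_fintype_card, hn, hem, mul_comm _ m] at this
          exact Nat.eq_of_mul_eq_mul_left hm0 this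
        let f₁ : A →* Equiv.Perm OP := MulAction.toPermHom A OP
        let f₂ : A →* Equiv.Perm OQ := MulAction.toPermHom A OQ
        have hinj : Function.Injective
            (fun a : A => ((⟨f₁ a, a, rfl⟩ : f₁.range), (⟨f₂ a, a, rfl⟩ : f₂.range))) := by
          intro a b h
          have key : ∀ (K : Subgroup A) [K.Normal] (y : α),
              (∀ B : orbit A (orbit K x), a • B = b • B) → (b⁻¹ * a) • y ∈ orbit K y := by
            intro K _ y hB
            obtain ⟨g, hg⟩ := exists_smul_eq A x y
            have h1 : g • orbit K x = orbit K y := by rw [smul_orbit_eq_orbit_smul, hg]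
            have h2 := congrArg Subtype.val (hB ⟨orbit K y, g, h1⟩)
            have h3 : a • orbit K y = b • orbit K y := h2
            have h4 : a • y ∈ b • orbit K y := h3 ▸ Set.smul_mem_smul_set (mem_orbit_self y)
            rw [Set.mem_smul_set_iff_inv_smul_mem] at h4
            rw [mul_smul]
            exact h4
          have hP' : ∀ B : OP, a • B = b • B := fun B =>
            congrArg (fun e : Equiv.Perm OP => e B) (congrArg Subtype.val (congrArg Prod.fst h))
          have hQ' : ∀ B : OQ, a • B = b • B := fun B =>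
            congrArg (fun e : Equiv.Perm OQ => e B) (congrArg Subtype.val (congrArg Prod.snd h))
          apply Subtype.ext
          ext y
          have := hmeet y _ (key _ y hP') (key _ y hQ')
          rw [mul_smul, inv_smul_eq_iff] at this
          exact this
        have hc1 : Fintype.card OP = m := by rw [← Nat.card_eq_fintype_card, Nat.card_coe_set_eq, hOP]
        have hc2 : Fintype.card OQ = p ^ e := by rw [← Nat.card_eq_fintype_card, Nat.card_coe_set_eq, hOQ]
        calc Nat.card A ≤ Nat.card (f₁.range × f₂.range) := Nat.card_le_card_of_injective _ hinj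
          _ = Nat.card f₁.range * Nat.card f₂.range := Nat.card_prod _ _
          _ ≤ maxOrd m * maxOrd (p ^ e) := by
            refine Nat.mul_le_mul ?_ ?_
            · rw [← hc1]; exact him f₁ (by rw [hc1, hem]; nlinarith)
            · rw [← hc2]; exact him f₂ (by rw [hc2, hem]; nlinarith)
          _ ≤ maxOrd (m + p ^ e) := maxOrd_add _ _
          _ ≤ _ := maxOrd_mono (by rw [hem]; nlinarith)

end CfsgLib.PermNilpotentBound
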