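import Cfsg.Agent.Lib.Perm.NilpotentOrderBound

/-!
Numerical facts for the order of nilpotent permutation groups that are not 2-groups.
-/

set_option autoImplicit false

namespace CfsgLib.PermNilpotentSecond

open scoped Nat
open CfsgLib.PermNilpotentBound

theorem twoVal_small :
    twoVal 2 = 1 ∧ twoVal 3 = 1 ∧ twoVal 4 = 3 ∧ twoVal 5 = 3 ∧ twoVal 6 = 4 ∧ twoVal 7 = 4 ∧
    twoVal 8 = 7 ∧ twoVal 9 = 7 ∧ twoVal 10 = 8 ∧ twoVal 11 = 8 ∧ twoVal 12 = 10 ∧
    twoVal 13 = 10 ∧ twoVal 14 = 11 ∧ twoVal 15 = 11 := by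
  have h2 : twoVal 2 = 1 := by rw [twoVal_half]; norm_num [twoVal_one]
  have h3 : twoVal 3 = 1 := by rw [twoVal_half]; norm_num [twoVal_one]
  have h4 : twoVal 4 = 3 := by rw [twoVal_half]; norm_num [h2]
  have h5 : twoVal 5 = 3 := by rw [twoVal_half]; norm_num [h2]
  have h6 : twoVal 6 = 4 := by rw [twoVal_half]; norm_num [h3]
  have h7 : twoVal 7 = 4 := by rw [twoVal_half]; norm_num [h3]
  refine ⟨h2, h3, h4, h5, h6, h7, ?_, ?_, ?_, ?_, ?_, ?_, ?_, ?_⟩ <;>
    (rw [twoVal_half]; norm_num [h4, h5, h6, h7])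

theorem twoVal_large : ∀ n, 16 ≤ n → 4 * n + 1 ≤ 5 * twoVal n := by
  intro n
  induction n using Nat.strong_induction_on with
  | _ n ih =>
    intro hn
    rcases Nat.lt_or_ge n 32 with h | h
    · obtain ⟨-, -, -, -, -, -, h8, h9, h10, h11, h12, h13, h14, h15⟩ := twoVal_small
      rw [twoVal_half n]
      interval_cases n <;> norm_num [h8, h9, h10, h11, h12, h13, h14, h15]
    · have := ih (n / 2) (by omega) (by omega)
      rw [twoVal_half n]
      omega

theorem twoVal_sub_three {n : ℕ} (h : n % 4 = 3) : twoVal n = twoVal (n - 3) + 1 := by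
  rw [twoVal_half n, twoVal_half (n - 3), twoVal_half (n / 2), twoVal_half ((n - 3) / 2),
    show (n - 3) / 2 / 2 = n / 2 / 2 by omega]
  omega

theorem twoVal_add_three {n : ℕ} (h : n % 4 ≠ 3) (h4 : 4 ≤ n) :
    twoVal (n - 3) + 2 ≤ twoVal n := by
  rw [twoVal_half n, twoVal_half (n - 3), twoVal_half (n / 2), twoVal_half ((n - 3) / 2)]
  have := twoVal_mono (show (n - 3) / 2 / 2 ≤ n / 2 / 2 by omega)
  by_cases h0 : (n - 3) / 2 / 2 = n / 2 / 2
  · omega
  · obtain ⟨a, ha⟩ : ∃ a, a = (n - 3) / 2 / 2 := ⟨_, rfl⟩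
    have hb : n / 2 / 2 = a + 1 := by omega
    rw [hb, ← ha]
    have := twoVal_add a 1
    rw [twoVal_one] at this
    omega

theorem le_of_sq {y b k : ℕ} (h : y ^ 2 ≤ 3 ^ k) (h' : 3 ^ k < (b + 1) ^ 2) : y ≤ b := by
  have := lt_of_pow_lt_pow_left₀ 2 (Nat.zero_le _) (lt_of_le_of_lt h h')
  omega

/-- What is known of the group induced on the points moved by the odd part. -/
def Moved (r y : ℕ) : Prop :=
  3 ≤ r ∧ r ≠ 4 ∧ y ^ 2 ≤ 3 ^ (r - 1) ∧
    ((Squarefree r → y ∣ r) ∨ (6 ≤ r ∧ r ≠ 7 ∧ y ^ 2 ≤ 3 ^ (r - 2)))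

theorem le_two_pow_pred_of_large {n r y : ℕ} (hn : 16 ≤ n) (hr : r ≤ n) (hy : y ^ 2 ≤ 3 ^ (r - 1)) :
    y ≤ 2 ^ (twoVal n - 1) := by
  have h5 := twoVal_large n hn
  apply le_of_pow_le_pow_left₀ two_ne_zero (Nat.zero_le _)
  refine hy.trans ((Nat.pow_le_pow_right (by norm_num) (show r - 1 ≤ n - 1 by omega)).trans ?_)
  apply le_of_pow_le_pow_left₀ (show 5 ≠ 0 by norm_num) (Nat.zero_le _)
  calc (3 ^ (n - 1)) ^ 5 = (3 ^ 5) ^ (n - 1) := by rw [← pow_mul, ← pow_mul, mul_comm]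
    _ ≤ (2 ^ 8) ^ (n - 1) := Nat.pow_le_pow_left (by norm_num) _
    _ = 2 ^ (8 * (n - 1)) := by rw [← pow_mul]
    _ ≤ 2 ^ ((twoVal n - 1) * 2 * 5) := Nat.pow_le_pow_right (by norm_num) (by omega)
    _ = _ := by rw [pow_mul, pow_mul]

theorem moved_le {r y : ℕ} (h : Moved r y) (h5 : 5 ≤ r) : y ≤ 2 ^ twoVal r := by
  obtain ⟨-, -, hsq, hd⟩ := h
  rcases Nat.lt_or_ge r 16 with hlt | hge
  · obtain ⟨-, -, -, e5, e6, e7, e8, e9, e10, e11, e12, e13, e14, e15⟩ := twoVal_small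
    by_cases hbad : r = 5 ∨ r = 7 ∨ r = 15
    · rcases hd with hd | ⟨h6, h7, hd⟩
      · rcases hbad with rfl | rfl | rfl
        · have := Nat.le_of_dvd (by norm_num) (hd (by decide +kernel))
          rw [e5]; omega
        · have := Nat.le_of_dvd (by norm_num) (hd (by decide +kernel))
          rw [e7]; omega
        · have := Nat.le_of_dvd (by norm_num) (hd (by decide +kernel))
          rw [e15]; omega
      · rcases hbad with rfl | rfl | rfl
        · omega
        · omega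
        · exact le_of_sq hd (by norm_num [e15])
    · apply le_of_sq hsq
      interval_cases r <;>
        first
          | omega
          | norm_num [e5, e6, e7, e8, e9, e10, e11, e12, e13, e14, e15]
  · exact (le_two_pow_pred_of_large hge le_rfl hsq).trans
      (Nat.pow_le_pow_right (by norm_num) (Nat.sub_le _ _))

theorem moved_le_alt {n r y : ℕ} (h : Moved r y) (h5r : 5 ≤ r) (hr : r ≤ n) (hr' : n - 1 ≤ r)
    (h3 : n % 4 ≠ 3) (h5 : n ≠ 5) (h6 : n ≠ 6) (h9 : n ≠ 9) : y ≤ 2 ^ (twoVal n - 1) := by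
  obtain ⟨-, -, hsq, hd⟩ := h
  rcases Nat.lt_or_ge n 16 with hlt | hge
  · obtain ⟨-, -, -, e5, e6, e7, e8, e9, e10, e11, e12, e13, e14, e15⟩ := twoVal_small
    by_cases hbad : (n = 10 ∧ r = 10) ∨ (n = 13 ∧ r = 13) ∨ (n = 14 ∧ r = 14)
    · rcases hd with hd | ⟨-, -, hd⟩
      · rcases hbad with ⟨rfl, rfl⟩ | ⟨rfl, rfl⟩ | ⟨rfl, rfl⟩
        · have := Nat.le_of_dvd (by norm_num) (hd (by decide +kernel))
          rw [e10]; omega
        · have := Nat.le_of_dvd (by norm_num) (hd (by decide +kernel))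
          rw [e13]; omega
        · have := Nat.le_of_dvd (by norm_num) (hd (by decide +kernel))
          rw [e14]; omega
      · apply le_of_sq hd
        rcases hbad with ⟨rfl, rfl⟩ | ⟨rfl, rfl⟩ | ⟨rfl, rfl⟩ <;>
          norm_num [e10, e13, e14]
    · apply le_of_sq hsq
      interval_cases n <;> interval_cases r <;>
        first
          | omega
          | norm_num [e5, e6, e7, e8, e9, e10, e11, e12, e13, e14, e15]
  · exact le_two_pow_pred_of_large hge hr hsq

theorem moved_lt_alt {n r y : ℕ} (h : Moved r y) (h5r : 5 ≤ r) (hr : r ≤ n) (hr' : n - 1 ≤ r)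
    (h3 : n % 4 = 3) : y < 3 * 2 ^ (twoVal n - 2) := by
  obtain ⟨-, -, hsq, hd⟩ := h
  rcases Nat.lt_or_ge n 16 with hlt | hge
  · obtain ⟨-, -, -, -, -, e7, -, -, -, e11, -, -, -, e15⟩ := twoVal_small
    have hlt' : ∀ {b k : ℕ}, y ^ 2 ≤ 3 ^ k → 3 ^ k < b ^ 2 → y < b := fun h h' =>
      lt_of_pow_lt_pow_left₀ 2 (Nat.zero_le _) (lt_of_le_of_lt h h')
    rcases hd with hd | ⟨h6, h7, hd⟩
    · by_cases hbad : r = 6 ∨ r = 7 ∨ r = 11 ∨ r = 15
      · rcases hbad with rfl | rfl | rfl | rfl <;>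
          (have := Nat.le_of_dvd (by norm_num) (hd (by decide +kernel))
           interval_cases n <;> first | omega | (norm_num [e7, e11, e15]; omega))
      · apply hlt' hsq
        interval_cases n <;> interval_cases r <;>
          first
            | omega
            | norm_num [e7, e11, e15]
    · apply hlt' hd
      interval_cases n <;> interval_cases r <;>
        first
          | omega
          | norm_num [e7, e11, e15]
  · have := le_two_pow_pred_of_large hge hr hsq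
    have hv := twoVal_large n hge
    obtain ⟨v, hv'⟩ : ∃ v, twoVal n = v + 2 := ⟨twoVal n - 2, by omega⟩
    rw [hv'] at this ⊢
    simp only [Nat.add_sub_cancel, show v + 2 - 1 = v + 1 by omega, pow_succ] at this ⊢
    have := Nat.one_le_two_pow (n := v)
    omega

end CfsgLib.PermNilpotentSecond
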