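import Cfsg.Agent.Lib.Perm.NilpotentSecondCore

/-!
Largest nilpotent subgroups of symmetric and alternating groups.
-/

set_option autoImplicit false

namespace CfsgLib.PermNilpotentSecond

open scoped Nat Pointwise
open Equiv CfsgLib.PermNilpotentBound

theorem card_sylow_perm {f : ℕ} (X : Sylow 2 (Perm (Fin f))) :
    Nat.card (X : Subgroup (Perm (Fin f))) = 2 ^ twoVal f := by
  have : Fact (Nat.Prime 2) := ⟨Nat.prime_two⟩
  rw [X.card_eq_multiplicity, Nat.card_perm, Nat.card_eq_fintype_card, Fintype.card_fin, twoVal,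
    Nat.factorization_def _ Nat.prime_two]

theorem half {α : Type*} [Fintype α] [DecidableEq α] (H : Subgroup (Perm α)) (o : Perm α) (ho : o ∈ H)
    (hs : Perm.sign o = -1) : Nat.card (H ⊓ alternatingGroup α : Subgroup (Perm α)) * 2 = Nat.card H := by
  let s : H →* ℤˣ := Perm.sign.comp H.subtype
  have hsur : Function.Surjective s := fun u => by
    rcases Int.units_eq_one_or u with rfl | rfl
    · exact ⟨1, map_one s⟩
    · exact ⟨⟨o, ho⟩, hs⟩
  have h1 := s.ker.card_mul_index
  rw [Subgroup.index_ker, MonoidHom.range_eq_top.2 hsur, Subgroup.card_top] at h1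
  have h2 : Nat.card ℤˣ = 2 := by rw [Nat.card_eq_fintype_card]; rfl
  rw [h2] at h1
  rw [← h1]
  congr 1
  refine Nat.card_congr
    { toFun := fun a => ⟨⟨a.1, a.2.1⟩, Perm.mem_alternatingGroup.1 a.2.2⟩
      invFun := fun a => ⟨a.1.1, a.1.2, Perm.mem_alternatingGroup.2 a.2⟩
      left_inv := fun _ => rfl
      right_inv := fun _ => rfl }

theorem exists_odd {f : ℕ} (hf : 2 ≤ f) (X : Sylow 2 (Perm (Fin f))) :
    ∃ o ∈ (X : Subgroup (Perm (Fin f))), Perm.sign o = -1 := by
  by_contra hcon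
  push Not at hcon
  have : Fact (Nat.Prime 2) := ⟨Nat.prime_two⟩
  have hle : (X : Subgroup (Perm (Fin f))) ≤ alternatingGroup (Fin f) := fun o ho =>
    Perm.mem_alternatingGroup.2 ((Int.units_eq_one_or _).resolve_right (hcon o ho))
  have h1 := Subgroup.card_dvd_of_le hle
  have : Nontrivial (Fin f) := Fin.nontrivial_iff_two_le.2 hf
  have h2 : 2 * Nat.card (alternatingGroup (Fin f)) = f ! := by
    rw [two_mul_nat_card_alternatingGroup, Nat.card_perm, Nat.card_eq_fintype_card, Fintype.card_fin]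
  rw [card_sylow_perm] at h1
  have h3 : 2 ^ (twoVal f + 1) ∣ f ! := by
    rw [← h2, pow_succ']
    exact Nat.mul_dvd_mul_left 2 h1
  have := (padicValNat_dvd_iff_le (Nat.factorial_ne_zero f)).1 h3
  unfold twoVal at this
  omega

theorem card_map_emb {α : Type*} [Fintype α] [DecidableEq α] {f r : ℕ} (e : Fin f ⊕ Fin r ≃ α) (X : Sylow 2 (Perm (Fin f)))
    (Y : Subgroup (Perm (Fin r))) :
    Nat.card (((X : Subgroup (Perm (Fin f))).prod Y).map (emb e)) = 2 ^ twoVal f * Nat.card Y := by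
  rw [← Nat.card_congr (Subgroup.equivMapOfInjective _ _ (emb_injective e)).toEquiv,
    Nat.card_congr (Subgroup.prodEquiv _ _).toEquiv, Nat.card_prod, card_sylow_perm]

theorem split_bounds {α : Type*} [Fintype α] [DecidableEq α] {f r : ℕ} (e : Fin f ⊕ Fin r ≃ α)
    (X : Sylow 2 (Perm (Fin f))) (Y : Subgroup (Perm (Fin r))) (N : Subgroup (Perm α))
    (hN : N ≤ ((X : Subgroup (Perm (Fin f))).prod Y).map (emb e)) :
    Nat.card N ≤ 2 ^ twoVal f * Nat.card Y ∧
      (N ≤ alternatingGroup α → 2 ≤ f → Nat.card N * 2 ≤ 2 ^ twoVal f * Nat.card Y) := by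
  refine ⟨(Subgroup.card_le_of_le hN).trans_eq (card_map_emb e X Y), fun hA hf => ?_⟩
  obtain ⟨o, ho, hos⟩ := exists_odd hf X
  rw [← card_map_emb e X Y, ← half (((X : Subgroup (Perm (Fin f))).prod Y).map (emb e)) (emb e (o, 1)) ⟨(o, 1), ⟨ho, one_mem _⟩, rfl⟩
    (by rw [sign_emb, hos, map_one, mul_one])]
  exact Nat.mul_le_mul_right 2 (Subgroup.card_le_of_le (le_inf hN hA))

/-- The model subgroup. -/
noncomputable def std {α : Type*} [Fintype α] [DecidableEq α] {f : ℕ} (e : Fin f ⊕ Fin 3 ≃ α) (X : Sylow 2 (Perm (Fin f))) :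
    Subgroup (Perm α) :=
  ((X : Subgroup (Perm (Fin f))).prod (alternatingGroup (Fin 3))).map (emb e)

theorem card_alt_three : Nat.card (alternatingGroup (Fin 3)) = 3 := by
  rw [nat_card_alternatingGroup, Nat.card_eq_fintype_card, Fintype.card_fin]
  rfl

theorem card_std {α : Type*} [Fintype α] [DecidableEq α] {f : ℕ} (e : Fin f ⊕ Fin 3 ≃ α) (X : Sylow 2 (Perm (Fin f))) :
    Nat.card (std e X) = 3 * 2 ^ twoVal f := by
  rw [std, card_map_emb, card_alt_three, mul_comm]

theorem moved_three {y : Subgroup (Perm (Fin 3))} (h : Moved 3 (Nat.card y)) :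
    y ≤ alternatingGroup (Fin 3) := by
  intro g hg
  have hdvd : Nat.card y ∣ 3 := by
    rcases h.2.2.2 with h' | ⟨h6, -, -⟩
    · exact h' Nat.prime_three.squarefree
    · omega
  have hg3 : g ^ 3 = 1 := orderOf_dvd_iff_pow_eq_one.1 ((Subgroup.orderOf_dvd_natCard _ hg).trans hdvd)
  have h1 := congrArg Perm.sign hg3
  rw [map_pow, map_one] at h1
  apply Perm.mem_alternatingGroup.2
  rcases Int.units_eq_one_or (Perm.sign g) with h2 | h2
  · exact h2
  · rw [h2] at h1
    exact absurd h1 (by decide)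

theorem split_card {n f r : ℕ} (e : Fin f ⊕ Fin r ≃ Fin n) : f + r = n := by
  have := Fintype.card_congr e
  rwa [Fintype.card_sum, Fintype.card_fin, Fintype.card_fin, Fintype.card_fin] at this

theorem card_zero (Y : Subgroup (Perm (Fin 0))) : Nat.card Y = 1 := Nat.card_unique

theorem sym_bound {n : ℕ} (hn : n % 4 = 3) (N : Subgroup (Perm (Fin n))) (hN : Group.IsNilpotent N) :
    Nat.card N < 3 * 2 ^ twoVal (n - 3) ∨
      ∃ (e : Fin (n - 3) ⊕ Fin 3 ≃ Fin n) (X : Sylow 2 (Perm (Fin (n - 3)))), N ≤ std e X := by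
  obtain ⟨f, r, e, X, Y, hle, hr⟩ := structure_nilpotent N hN
  have hfr := split_card e
  have hb := (split_bounds e X Y N hle).1
  have hv := twoVal_sub_three hn
  have hpos : 1 ≤ 2 ^ twoVal (n - 3) := Nat.one_le_two_pow
  rcases hr with rfl | hmv
  · left
    rw [card_zero, mul_one, show f = n by omega, hv, pow_succ] at hb
    omega
  · by_cases h3 : r = 3
    · subst h3
      obtain rfl : f = n - 3 := by omega
      exact Or.inr ⟨e, X, hle.trans (Subgroup.map_mono (Subgroup.prod_mono le_rfl (moved_three hmv)))⟩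
    · left
      have h5 : 5 ≤ r := by have h := hmv.1; have h' := hmv.2.1; omega
      have h1 := hb.trans (Nat.mul_le_mul_left _ (moved_le hmv h5))
      rw [← pow_add] at h1
      have h2 := Nat.pow_le_pow_right (show 2 > 0 by norm_num)
        (show twoVal f + twoVal r ≤ twoVal n by rw [← hfr]; exact twoVal_add f r)
      have h4 := h1.trans h2
      rw [hv, pow_succ] at h4
      omega

theorem alt_bound {n : ℕ} (hn : n % 4 ≠ 3) (h2 : 2 ≤ n) (h5 : n ≠ 5) (h6 : n ≠ 6) (h9 : n ≠ 9)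
    (N : Subgroup (Perm (Fin n))) (hN : Group.IsNilpotent N) (hA : N ≤ alternatingGroup (Fin n)) :
    Nat.card N * 2 ≤ 2 ^ twoVal n := by
  obtain ⟨f, r, e, X, Y, hle, hr⟩ := structure_nilpotent N hN
  have hfr := split_card e
  obtain ⟨hb, hb2⟩ := split_bounds e X Y N hle
  rcases hr with rfl | hmv
  · have := hb2 hA (by omega)
    rwa [card_zero, mul_one, show f = n by omega] at this
  by_cases h3 : r = 3
  · subst h3
    have hy : Nat.card Y ≤ 3 := (Subgroup.card_le_of_le (moved_three hmv)).trans_eq card_alt_three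
    rcases Nat.lt_or_ge f 2 with hf | hf
    · obtain rfl : f = 1 := by omega
      obtain rfl : n = 4 := by omega
      rw [twoVal_one] at hb
      rw [twoVal_small.2.2.1]
      omega
    · refine (hb2 hA hf).trans ?_
      calc 2 ^ twoVal f * Nat.card Y ≤ 2 ^ twoVal f * 2 ^ 2 := Nat.mul_le_mul_left _ (by omega)
        _ = 2 ^ (twoVal f + 2) := by rw [← pow_add]
        _ ≤ _ := Nat.pow_le_pow_right (by norm_num) (by
            rw [show f = n - 3 by omega]; exact twoVal_add_three hn (by omega))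
  · have h5r : 5 ≤ r := by have h := hmv.1; have h' := hmv.2.1; omega
    rcases Nat.lt_or_ge f 2 with hf | hf
    · have hy := moved_le_alt hmv h5r (by omega) (by omega) hn h5 h6 h9
      have hf0 : twoVal f = 0 := by
        rcases (show f = 0 ∨ f = 1 by omega) with rfl | rfl
        · exact twoVal_zero
        · exact twoVal_one
      rw [hf0, pow_zero, one_mul] at hb
      calc Nat.card N * 2 ≤ 2 ^ (twoVal n - 1) * 2 := Nat.mul_le_mul_right 2 (hb.trans hy)
        _ = _ := by rw [← pow_succ]; congr 1; have := twoVal_pos h2; omega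
    · refine (hb2 hA hf).trans ((Nat.mul_le_mul_left _ (moved_le hmv h5r)).trans ?_)
      rw [← pow_add, ← hfr]
      exact Nat.pow_le_pow_right (by norm_num) (twoVal_add f r)

theorem alt_bound_three {n : ℕ} (hn : n % 4 = 3) (h7 : 7 ≤ n) (N : Subgroup (Perm (Fin n)))
    (hN : Group.IsNilpotent N) (hA : N ≤ alternatingGroup (Fin n)) :
    Nat.card N * 2 < 3 * 2 ^ twoVal (n - 3) ∨
      ∃ (e : Fin (n - 3) ⊕ Fin 3 ≃ Fin n) (X : Sylow 2 (Perm (Fin (n - 3)))),
        N ≤ std e X ⊓ alternatingGroup (Fin n) := by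
  obtain ⟨f, r, e, X, Y, hle, hr⟩ := structure_nilpotent N hN
  have hfr := split_card e
  obtain ⟨hb, hb2⟩ := split_bounds e X Y N hle
  have hv := twoVal_sub_three hn
  have hpos : 1 ≤ 2 ^ twoVal (n - 3) := Nat.one_le_two_pow
  rcases hr with rfl | hmv
  · left
    have := hb2 hA (by omega)
    rw [card_zero, mul_one, show f = n by omega, hv, pow_succ] at this
    omega
  by_cases h3 : r = 3
  · subst h3
    obtain rfl : f = n - 3 := by omega
    exact Or.inr ⟨e, X, le_inf
      (hle.trans (Subgroup.map_mono (Subgroup.prod_mono le_rfl (moved_three hmv)))) hA⟩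
  · left
    have h5r : 5 ≤ r := by have h := hmv.1; have h' := hmv.2.1; omega
    rcases Nat.lt_or_ge f 2 with hf | hf
    · have hy := moved_lt_alt hmv h5r (by omega) (by omega) hn
      have hf0 : twoVal f = 0 := by
        rcases (show f = 0 ∨ f = 1 by omega) with rfl | rfl
        · exact twoVal_zero
        · exact twoVal_one
      rw [hf0, pow_zero, one_mul] at hb
      obtain ⟨v, hv'⟩ : ∃ v, twoVal (n - 3) = v + 1 :=
        ⟨twoVal (n - 3) - 1, by have := twoVal_pos (show 2 ≤ n - 3 by omega); omega⟩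
      rw [show twoVal n - 2 = v by omega] at hy
      rw [hv', pow_succ]
      omega
    · have h1 := (hb2 hA hf).trans (Nat.mul_le_mul_left _ (moved_le hmv h5r))
      rw [← pow_add] at h1
      have h2 := Nat.pow_le_pow_right (show 2 > 0 by norm_num)
        (show twoVal f + twoVal r ≤ twoVal n by rw [← hfr]; exact twoVal_add f r)
      have h4 := h1.trans h2
      rw [hv, pow_succ] at h4
      omega

theorem std_conj {α : Type*} [Fintype α] [DecidableEq α] {f : ℕ} (e e' : Fin f ⊕ Fin 3 ≃ α)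
    (X X' : Sylow 2 (Perm (Fin f))) :
    ∃ g : Perm α, std e' X' = (std e X).map (MulAut.conj g).toMonoidHom := by
  have : Fact (Nat.Prime 2) := ⟨Nat.prime_two⟩
  obtain ⟨x, rfl⟩ := MulAction.exists_smul_eq (Perm (Fin f)) X X'
  have hg : ∀ w : Perm (Fin f) × Perm (Fin 3),
      emb e' w = (e.symm.trans e' : Perm α) * emb e w * (e.symm.trans e' : Perm α)⁻¹ := fun w => by
    ext y
    simp [emb, Perm.inv_def]
  refine ⟨(e.symm.trans e' : Perm α) * emb e (x, 1), ?_⟩
  have key : ∀ (a : Perm (Fin f)) (b : Perm (Fin 3)),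
      MulAut.conj ((e.symm.trans e' : Perm α) * emb e (x, 1)) (emb e (a, b)) =
        emb e' (x * a * x⁻¹, b) := fun a b => by
    rw [MulAut.conj_apply, hg]
    have : emb e (x * a * x⁻¹, b) = emb e (x, 1) * emb e (a, b) * (emb e (x, 1))⁻¹ := by
      rw [← map_inv, ← map_mul, ← map_mul]
      congr 1
    rw [this]
    group
  ext y
  simp only [std, Subgroup.mem_map, Sylow.coe_subgroup_smul, MulEquiv.coe_toMonoidHom]
  constructor
  · rintro ⟨⟨a, b⟩, ⟨ha, hb⟩, rfl⟩
    obtain ⟨c, hc, hca⟩ := (Subgroup.mem_smul_pointwise_iff_exists _ _ _).1 ha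
    refine ⟨emb e (c, b), ⟨(c, b), ⟨hc, hb⟩, rfl⟩, ?_⟩
    rw [key]
    have hca' : x * c * x⁻¹ = a := hca
    rw [hca']
  · rintro ⟨-, ⟨⟨c, b⟩, ⟨hc, hb⟩, rfl⟩, rfl⟩
    exact ⟨(x * c * x⁻¹, b), ⟨Subgroup.smul_mem_pointwise_smul c (MulAut.conj x) _ hc, hb⟩,
      (key c b).symm⟩

theorem std_inf_conj {α : Type*} [Fintype α] [DecidableEq α] {f : ℕ} (hf : 2 ≤ f)
    (e e' : Fin f ⊕ Fin 3 ≃ α) (X X' : Sylow 2 (Perm (Fin f))) :
    ∃ g ∈ alternatingGroup α, (std e' X' ⊓ alternatingGroup α) =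
      (std e X ⊓ alternatingGroup α).map (MulAut.conj g).toMonoidHom := by
  obtain ⟨g₀, hg₀⟩ := std_conj e e' X X'
  obtain ⟨o, ho, hos⟩ := exists_odd hf X'
  have hoK : emb e' (o, 1) ∈ std e' X' := ⟨(o, 1), ⟨ho, one_mem _⟩, rfl⟩
  have hosign : Perm.sign (emb e' (o, 1)) = -1 := by rw [sign_emb, hos, map_one, mul_one]
  obtain ⟨g, hgA, hg⟩ : ∃ g ∈ alternatingGroup α,
      std e' X' = (std e X).map (MulAut.conj g).toMonoidHom := by
    rcases Int.units_eq_one_or (Perm.sign g₀) with h | h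
    · exact ⟨g₀, Perm.mem_alternatingGroup.2 h, hg₀⟩
    · refine ⟨emb e' (o, 1) * g₀, Perm.mem_alternatingGroup.2 (by rw [map_mul, hosign, h]; rfl), ?_⟩
      have : (MulAut.conj (emb e' (o, 1) * g₀)).toMonoidHom =
          (MulAut.conj (emb e' (o, 1))).toMonoidHom.comp (MulAut.conj g₀).toMonoidHom := by
        ext1 y
        simp [mul_assoc]
      rw [this, ← Subgroup.map_map, ← hg₀]
      ext y
      constructor
      · intro hy
        exact ⟨(emb e' (o, 1))⁻¹ * y * emb e' (o, 1), mul_mem (mul_mem (inv_mem hoK) hy) hoK, by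
          simp [mul_assoc]⟩
      · rintro ⟨z, hz, rfl⟩
        exact mul_mem (mul_mem hoK hz) (inv_mem hoK)
  refine ⟨g, hgA, ?_⟩
  rw [Subgroup.map_inf _ _ _ (MulAut.conj g).injective, ← hg]
  congr 1
  ext y
  constructor
  · intro hy
    exact ⟨g⁻¹ * y * g, mul_mem (mul_mem (inv_mem hgA) hy) hgA, by simp [mul_assoc]⟩
  · rintro ⟨z, hz, rfl⟩
    exact mul_mem (mul_mem hgA hz) (inv_mem hgA)

end CfsgLib.PermNilpotentSecond
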