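import Cfsg.Agent.Lib.Perm.NilpotentSecondArith
import Cfsg.Agent.Lib.Hall.Carter

/-!
The structure of a nilpotent permutation group: a 2-group on the orbits of 2-power size, times
a small group on the others.
-/

set_option autoImplicit false

namespace CfsgLib.PermNilpotentSecond

open MulAction
open scoped Nat Pointwise
open CfsgLib.PermNilpotentBound

/-- The Sylow subgroups of a transitive nilpotent group. -/
theorem transitive_factorization {G β : Type*} [Group G] [Finite G] [MulAction G β] [Finite β]
    [FaithfulSMul G β] [IsPretransitive G β] [Nonempty β] (hG : Group.IsNilpotent G)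
    (p : ℕ) [hp : Fact p.Prime] :
    (Nat.card G).factorization p ≤
      padicValNat p (p ^ (Nat.card β).factorization p) ! := by
  classical
  obtain ⟨P⟩ : Nonempty (Sylow p G) := ⟨default⟩
  have hPn : (P : Subgroup G).Normal :=
    Sylow.normal_of_normalizerCondition Group.normalizerCondition_of_isNilpotent P
  obtain ⟨c, hc⟩ := P.isPGroup'.exists_card_eq
  have hcp : (p ^ c).Coprime (P : Subgroup G).index :=
    ((Nat.Prime.coprime_iff_not_dvd hp.out).2 P.not_dvd_index).pow_left c
  obtain ⟨Q, hQ⟩ := Subgroup.exists_right_complement'_of_coprime (hc ▸ hcp)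
  have hQcard : (Nat.card Q).Coprime p := by
    have h1 := hQ.card_mul_card
    have h2 := (P : Subgroup G).card_mul_index
    have : Nat.card Q = (P : Subgroup G).index :=
      Nat.eq_of_mul_eq_mul_left (Nat.card_pos (α := (P : Subgroup G))) (h1.trans h2.symm)
    rw [this]
    exact ((Nat.Prime.coprime_iff_not_dvd hp.out).2 P.not_dvd_index).symm
  have hcomm : ∀ g ∈ (P : Subgroup G), ∀ h ∈ Q, g * h = h * g := fun g hg h hh => by
    refine CfsgLib.Hall.commute_of_coprime_orderOf (p := p) (j := c) ?_ ?_
    · rw [← hc]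
      exact Subgroup.orderOf_dvd_natCard _ hg
    · exact Nat.Coprime.coprime_dvd_left (Subgroup.orderOf_dvd_natCard _ hh) hQcard
  obtain ⟨x⟩ := ‹Nonempty β›
  -- the orbit is small
  have hsize : (orbit (P : Subgroup G) x).ncard ∣ p ^ (Nat.card β).factorization p := by
    have h1 : (orbit (P : Subgroup G) x).ncard ∣ Nat.card β :=
      IsBlock.ncard_dvd_card (IsBlock.orbit_of_normal (G := G) (N := (P : Subgroup G)) x)
        ⟨x, mem_orbit_self x⟩
    have h2 : (orbit (P : Subgroup G) x).ncard ∣ p ^ c := by
      rw [← hc, ← index_stabilizer]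
      exact Subgroup.index_dvd_card _
    obtain ⟨k, -, hk⟩ := (Nat.dvd_prime_pow hp.out).1 h2
    rw [hk] at h1 ⊢
    exact pow_dvd_pow p ((hp.out.pow_dvd_iff_le_factorization Nat.card_pos.ne').1 h1)
  -- the action on it is faithful
  let f : (P : Subgroup G) →* Equiv.Perm (orbit (P : Subgroup G) x) :=
    MulAction.toPermHom (P : Subgroup G) (orbit (P : Subgroup G) x)
  have hf : Function.Injective f := by
    rw [injective_iff_map_eq_one]
    intro g hg
    apply Subtype.ext
    apply eq_of_smul_eq_smul (α := β)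
    intro y
    rw [OneMemClass.coe_one, one_smul]
    obtain ⟨a, rfl⟩ := exists_smul_eq G x y
    obtain ⟨⟨g₁, h⟩, rfl⟩ := hQ.2 a
    have h1 := congrArg (fun e : Equiv.Perm (orbit (P : Subgroup G) x) =>
      ((e ⟨(g₁ : G) • x, g₁, rfl⟩ : orbit (P : Subgroup G) x) : β)) hg
    have h2 : (g : G) • (g₁ : G) • x = (g₁ : G) • x := h1
    show (g : G) • ((g₁ : G) * (h : G)) • x = ((g₁ : G) * (h : G)) • x
    rw [hcomm g₁ g₁.2 h h.2, mul_smul, smul_smul, hcomm g g.2 h h.2, mul_smul, h2]
  have h1 := Subgroup.card_dvd_of_injective f hf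
  rw [hc, Nat.card_perm, Nat.card_coe_set_eq] at h1
  have h2 : p ^ c ∣ (p ^ (Nat.card β).factorization p) ! :=
    h1.trans (Nat.factorial_dvd_factorial (Nat.le_of_dvd (pow_pos hp.out.pos _) hsize))
  rw [← P.card_eq_multiplicity.symm.trans hc |> Nat.pow_right_injective hp.out.two_le] at h2
  exact (padicValNat_dvd_iff_le (Nat.factorial_ne_zero _)).1 h2

theorem pow_val_bound (p e k : ℕ) [hp : Fact p.Prime] (h : k ≤ padicValNat p (p ^ e) !) :
    (p - 1) * k + 1 ≤ p ^ e := by
  have h1 := Nat.mul_le_mul_left (p - 1) h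
  rw [sub_one_mul_padicValNat_factorial] at h1
  have hne : p ^ e ≠ 0 := pow_ne_zero e hp.out.ne_zero
  have : 0 < (p.digits (p ^ e)).sum := by
    by_contra h0
    have hall : ∀ d ∈ p.digits (p ^ e), d = 0 := fun d hd =>
      Nat.le_zero.1 (le_trans (List.le_sum_of_mem hd) (by omega))
    have hne' := (Nat.digits_ne_nil_iff_ne_zero (b := p)).2 hne
    exact Nat.getLast_digit_ne_zero p hne (hall _ (List.getLast_mem hne'))
  omega

theorem sq_le : ∀ d : ℕ, 0 < d → ∀ c : ℕ, 0 < c →
    (∀ p : ℕ, p.Prime → (p - 1) * c.factorization p + 1 ≤ p ^ d.factorization p) →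
    c ^ 2 ≤ 9 ^ (d - 1) ∧ ((∃ p : ℕ, p.Prime ∧ p ≠ 2 ∧ p ∣ d) → c ^ 2 ≤ 3 ^ (d - 1)) := by
  intro d
  induction d using Nat.strong_induction_on with
  | _ d ih =>
    intro hd c hc hH
    by_cases hodd : ∃ p : ℕ, p.Prime ∧ p ≠ 2 ∧ p ∣ d
    · have key : c ^ 2 ≤ 3 ^ (d - 1) := by
        obtain ⟨p, hp, hp2, hpd⟩ := hodd
        obtain ⟨e, m, hm, hdm⟩ := Nat.exists_eq_pow_mul_and_not_dvd hd.ne' p hp.ne_one
        obtain ⟨k, c', hc', hck⟩ := Nat.exists_eq_pow_mul_and_not_dvd hc.ne' p hp.ne_one
        have he : 0 < e := by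
          rcases Nat.eq_zero_or_pos e with rfl | he
          · rw [hdm, pow_zero, one_mul] at hpd
            exact absurd hpd hm
          · exact he
        have hm0 : 0 < m := Nat.pos_of_ne_zero fun h => hm (h ▸ dvd_zero p)
        have hc'0 : 0 < c' := Nat.pos_of_ne_zero fun h => hc' (h ▸ dvd_zero p)
        have hfd : ∀ q : ℕ, d.factorization q = (if q = p then e else 0) + m.factorization q := by
          intro q
          rw [hdm, Nat.factorization_mul (pow_ne_zero _ hp.ne_zero) hm0.ne', hp.factorization_pow,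
            Finsupp.add_apply, Finsupp.single_apply]
          simp [eq_comm]
        have hfc : ∀ q : ℕ, c.factorization q = (if q = p then k else 0) + c'.factorization q := by
          intro q
          rw [hck, Nat.factorization_mul (pow_ne_zero _ hp.ne_zero) hc'0.ne', hp.factorization_pow,
            Finsupp.add_apply, Finsupp.single_apply]
          simp [eq_comm]
        have hk : (p - 1) * k + 1 ≤ p ^ e := by
          have := hH p hp
          rwa [hfd, hfc, if_pos rfl, if_pos rfl, Nat.factorization_eq_zero_of_not_dvd hm,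
            Nat.factorization_eq_zero_of_not_dvd hc', add_zero, add_zero] at this
        have hpe : 3 ≤ p ^ e := by
          have : 3 ≤ p := by have := hp.two_le; omega
          exact this.trans (Nat.le_self_pow (by omega) p)
        have hmd : m < d := by rw [hdm]; nlinarith
        have hrest := (ih m hmd hm0 c' hc'0 fun q hq => by
          rcases eq_or_ne q p with rfl | hqp
          · rw [Nat.factorization_eq_zero_of_not_dvd hc', Nat.factorization_eq_zero_of_not_dvd hm]
            simp
          · have := hH q hq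
            rwa [hfd, hfc, if_neg hqp, if_neg hqp, zero_add, zero_add] at this).1
        have hp3 : ∀ j, (2 * j + 3) ^ 2 ≤ 3 ^ (2 * j + 2) := by
          intro j
          induction j with
          | zero => norm_num
          | succ j ihj =>
            rw [show 2 * (j + 1) + 2 = 2 * j + 2 + 2 by omega, pow_add _ (2 * j + 2)]
            generalize 3 ^ (2 * j + 2) = T at ihj ⊢
            show (2 * (j + 1) + 3) ^ 2 ≤ T * 9
            nlinarith only [ihj, Nat.zero_le j]
        have hpk : (p ^ k) ^ 2 ≤ 3 ^ (p ^ e - 1) := by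
          obtain ⟨j, hj⟩ : ∃ j, p = 2 * j + 3 := by
            obtain ⟨i, hi⟩ := hp.odd_of_ne_two hp2
            exact ⟨i - 1, by have := hp.two_le; omega⟩
          calc (p ^ k) ^ 2 = (p ^ 2) ^ k := by rw [← pow_mul, ← pow_mul, mul_comm]
            _ ≤ (3 ^ (p - 1)) ^ k := Nat.pow_le_pow_left (by
                rw [hj, show 2 * j + 3 - 1 = 2 * j + 2 by omega]; exact hp3 j) _
            _ = 3 ^ ((p - 1) * k) := by rw [← pow_mul]
            _ ≤ _ := Nat.pow_le_pow_right (by norm_num) (by omega)
        calc c ^ 2 = (p ^ k) ^ 2 * c' ^ 2 := by rw [hck, mul_pow]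
          _ ≤ 3 ^ (p ^ e - 1) * 9 ^ (m - 1) := Nat.mul_le_mul hpk hrest
          _ = 3 ^ (p ^ e - 1 + 2 * (m - 1)) := by
              rw [pow_add, pow_mul]; norm_num
          _ ≤ 3 ^ (d - 1) := Nat.pow_le_pow_right (by norm_num) (by
              rw [hdm]
              obtain ⟨a, ha⟩ : ∃ a, p ^ e = a + 2 := ⟨p ^ e - 2, by omega⟩
              obtain ⟨b, rfl⟩ : ∃ b, m = b + 1 := ⟨m - 1, by omega⟩
              rw [ha, Nat.add_sub_cancel]
              have : (a + 2) * (b + 1) = a * b + a + 2 * b + 2 := by ring
              omega)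
      exact ⟨key.trans (Nat.pow_le_pow_left (by norm_num) _), fun _ => key⟩
    · refine ⟨?_, fun h => absurd h hodd⟩
      have hc2 : c = 2 ^ c.factorization 2 := by
        apply Nat.eq_of_factorization_eq hc.ne' (pow_ne_zero _ (by norm_num))
        intro q
        rw [Nat.prime_two.factorization_pow, Finsupp.single_apply]
        split_ifs with h
        · rw [h]
        · by_cases hq : q.Prime
          · have := hH q hq
            rw [Nat.factorization_eq_zero_of_not_dvd (n := d) fun hqd => hodd ⟨q, hq, Ne.symm h, hqd⟩,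
              pow_zero] at this
            have := hq.two_le
            rcases Nat.eq_zero_or_pos (c.factorization q) with h0 | h0
            · exact h0
            · have : 0 < (q - 1) * c.factorization q := Nat.mul_pos (by omega) h0
              omega
          · exact Nat.factorization_eq_zero_of_not_prime _ hq
      have h2 := hH 2 Nat.prime_two
      have : 2 ^ d.factorization 2 ≤ d := Nat.le_of_dvd hd (Nat.ordProj_dvd d 2)
      rw [hc2, ← pow_mul]
      calc 2 ^ (c.factorization 2 * 2) ≤ 2 ^ ((d - 1) * 2) :=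
            Nat.pow_le_pow_right (by norm_num) (by omega)
        _ = 4 ^ (d - 1) := by rw [mul_comm, pow_mul]; norm_num
        _ ≤ _ := Nat.pow_le_pow_left (by norm_num) _

section
variable {α : Type*} [Fintype α] [DecidableEq α] (N : Subgroup (Equiv.Perm α))

/-- A point in an orbit of 2-power size. -/
def Small (x : α) : Prop := ∀ p : ℕ, p.Prime → p ∣ (orbit N x).ncard → p = 2

theorem small_smul (a : N) (x : α) : Small N (a.1 x) ↔ Small N x := by
  have : orbit N (a.1 x) = orbit N x := orbit_smul a x
  unfold Small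
  rw [this]

/-- Index of the pointwise fixer. -/
noncomputable def fx (s : Set α) : ℕ := (fixingSubgroup N s).index

theorem fx_orbit (hN : Group.IsNilpotent N) (x : α) :
    0 < fx N (orbit N x) ∧ (fixingSubgroup N (orbit N x)).Normal ∧
    ∀ p : ℕ, p.Prime → (fx N (orbit N x)).factorization p ≤
      padicValNat p (p ^ ((orbit N x).ncard).factorization p) ! := by
  classical
  let f : N →* Equiv.Perm (orbit N x) := MulAction.toPermHom N (orbit N x)
  have hker : f.ker = fixingSubgroup N (orbit N x) := by
    ext a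
    rw [MonoidHom.mem_ker, mem_fixingSubgroup_iff, Equiv.ext_iff]
    exact ⟨fun h y hy => congrArg Subtype.val (h ⟨y, hy⟩), fun h y => Subtype.ext (h y.1 y.2)⟩
  have hcard : fx N (orbit N x) = Nat.card f.range := by
    rw [fx, ← hker, Subgroup.index_ker]
  refine ⟨hcard ▸ Nat.card_pos, hker ▸ inferInstance, fun p hp => ?_⟩
  have : Fact p.Prime := ⟨hp⟩
  have : Nonempty (orbit N x) := ⟨⟨x, mem_orbit_self x⟩⟩
  have : IsPretransitive f.range (orbit N x) := ⟨fun y z => by
    obtain ⟨a, ha⟩ := exists_smul_eq N y z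
    exact ⟨⟨f a, a, rfl⟩, ha⟩⟩
  have h := transitive_factorization (G := f.range) (β := orbit N x)
    (Group.nilpotent_of_surjective f.rangeRestrict f.rangeRestrict_surjective) p
  rw [← hcard, Nat.card_coe_set_eq] at h
  exact h

theorem fx_moved (hN : Group.IsNilpotent N) : ∀ s : Finset α, s.Nonempty →
    (∀ (a : N), ∀ x ∈ s, a.1 x ∈ s) → (∀ x ∈ s, ¬ Small N x) →
    Moved s.card (fx N (s : Set α)) := by
  intro s
  induction s using Finset.strongInduction with
  | _ s ih =>
    intro hne hinv hbig
    classical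
    obtain ⟨x, hx⟩ := hne
    have hOs : orbit N x ⊆ (s : Set α) := by
      rintro y ⟨a, rfl⟩
      exact hinv a x hx
    obtain ⟨d, hd⟩ : ∃ d, d = (orbit N x).ncard := ⟨_, rfl⟩
    obtain ⟨hpos, -, hfac⟩ := fx_orbit N hN x
    rw [← hd] at hfac
    have hd0 : 0 < d := hd ▸ (Set.ncard_pos).2 ⟨x, mem_orbit_self x⟩
    obtain ⟨p, hp, hp2, hpd⟩ : ∃ p : ℕ, p.Prime ∧ p ≠ 2 ∧ p ∣ d := by
      have := hbig x hx
      unfold Small at this
      push Not at this
      obtain ⟨p, h1, h2, h3⟩ := this
      exact ⟨p, h1, h3, hd ▸ h2⟩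
    have hp3 : 3 ≤ p := by have := hp.two_le; omega
    have hd3 : 3 ≤ d := hp3.trans (Nat.le_of_dvd hd0 hpd)
    have hd4 : d ≠ 4 := by
      rintro rfl
      have : p ∣ 2 ^ 2 := hpd
      exact hp2 ((Nat.prime_dvd_prime_iff_eq hp Nat.prime_two).1 (hp.dvd_of_dvd_pow this))
    have hsq : fx N (orbit N x) ^ 2 ≤ 3 ^ (d - 1) := by
      refine (sq_le d hd0 _ hpos fun q hq => ?_).2 ⟨p, hp, hp2, hpd⟩
      have : Fact q.Prime := ⟨hq⟩
      exact pow_val_bound q _ _ (hfac q hq)
    have hsqf : Squarefree d → fx N (orbit N x) ∣ d := fun hsf => by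
      rw [← Nat.factorization_le_iff_dvd hpos.ne' hd0.ne']
      intro q
      by_cases hq : q.Prime
      · have : Fact q.Prime := ⟨hq⟩
        refine (hfac q hq).trans ?_
        rcases Nat.le_one_iff_eq_zero_or_eq_one.1 (hsf.natFactorization_le_one q) with h | h
        · simp [h]
        · rw [h, pow_one]
          have h1 : padicValNat q (q !) = 1 := by
            have := padicValNat_factorial_mul (p := q) 1
            simpa using this
          omega
      · simp [Nat.factorization_eq_zero_of_not_prime _ hq]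
    by_cases hall : (orbit N x) = (s : Set α)
    · have hcard : s.card = d := by rw [hd, hall, Set.ncard_coe_finset]
      rw [← hall, hcard]
      exact ⟨hd3, hd4, hsq, Or.inl hsqf⟩
    · let t : Finset α := s.filter fun y => y ∉ orbit N x
      have hts : t ⊂ s := Finset.filter_ssubset.2 ⟨x, hx, fun h => h (mem_orbit_self x)⟩
      have htne : t.Nonempty := by
        obtain ⟨y, hy, hy'⟩ := Set.exists_of_ssubset (lt_of_le_of_ne hOs hall)
        exact ⟨y, Finset.mem_filter.2 ⟨hy, hy'⟩⟩
      obtain ⟨ht3, ht4, htsq, -⟩ := ih t hts htne (fun a y hy => by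
          obtain ⟨h1, h2⟩ := Finset.mem_filter.1 hy
          refine Finset.mem_filter.2 ⟨hinv a y h1, fun h => h2 ?_⟩
          have := mem_orbit_of_mem_orbit a⁻¹ (show a • y ∈ orbit N x from h)
          rwa [inv_smul_smul] at this)
        fun y hy => hbig y (Finset.mem_filter.1 hy).1
      have hunion : (s : Set α) = orbit N x ∪ (t : Set α) := by
        ext y
        simp only [t, Finset.coe_filter, Set.mem_union, Set.mem_ofPred_eq, Finset.mem_coe]
        constructor
        · intro h
          by_cases hy : y ∈ orbit N x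
          · exact Or.inl hy
          · exact Or.inr ⟨h, hy⟩
        · rintro (h | h)
          · exact hOs h
          · exact h.1
      have hcard : s.card = d + t.card := by
        rw [← Set.ncard_coe_finset, hunion, Set.ncard_union_eq, hd, Set.ncard_coe_finset]
        exact Set.disjoint_left.2 fun y h1 h2 => (Finset.mem_filter.1 h2).2 h1
      have hle : fx N (s : Set α) ≤ fx N (orbit N x) * fx N (t : Set α) := by
        rw [fx, hunion, fixingSubgroup_union]
        exact Subgroup.index_inf_le
      have hsq2 : fx N (s : Set α) ^ 2 ≤ 3 ^ (s.card - 2) := by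
        calc fx N (s : Set α) ^ 2 ≤ (fx N (orbit N x) * fx N (t : Set α)) ^ 2 :=
              Nat.pow_le_pow_left hle 2
          _ ≤ 3 ^ (d - 1) * 3 ^ (t.card - 1) := by rw [mul_pow]; exact Nat.mul_le_mul hsq htsq
          _ = _ := by rw [← pow_add]; congr 1; omega
      exact ⟨by omega, by omega, hsq2.trans (Nat.pow_le_pow_right (by norm_num) (by omega)),
        Or.inr ⟨by omega, by omega, hsq2⟩⟩

/-- The embedding of a product of two symmetric groups. -/
noncomputable def emb {f r : ℕ} (e : Fin f ⊕ Fin r ≃ α) :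
    Equiv.Perm (Fin f) × Equiv.Perm (Fin r) →* Equiv.Perm α :=
  e.permCongrHom.toMonoidHom.comp (Equiv.Perm.sumCongrHom (Fin f) (Fin r))

theorem emb_injective {f r : ℕ} (e : Fin f ⊕ Fin r ≃ α) : Function.Injective (emb e) :=
  e.permCongrHom.injective.comp Equiv.Perm.sumCongrHom_injective

theorem sign_emb {f r : ℕ} (e : Fin f ⊕ Fin r ≃ α) (w : Equiv.Perm (Fin f) × Equiv.Perm (Fin r)) :
    Equiv.Perm.sign (emb e w) = Equiv.Perm.sign w.1 * Equiv.Perm.sign w.2 := by
  show Equiv.Perm.sign (e.permCongr (Equiv.Perm.sumCongr w.1 w.2)) = _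
  rw [Equiv.Perm.sign_permCongr, Equiv.Perm.sign_sumCongr]

/-- Structure. -/
theorem structure_nilpotent (hN : Group.IsNilpotent N) :
    ∃ (f r : ℕ) (e : Fin f ⊕ Fin r ≃ α) (X : Sylow 2 (Equiv.Perm (Fin f)))
      (Y : Subgroup (Equiv.Perm (Fin r))),
      N ≤ ((X : Subgroup (Equiv.Perm (Fin f))).prod Y).map (emb e) ∧
        (r = 0 ∨ Moved r (Nat.card Y)) := by
  classical
  let S := {x : α // Small N x}
  let R := {x : α // ¬ Small N x}
  let eF : S ≃ Fin (Fintype.card S) := Fintype.equivFin S
  let eR : R ≃ Fin (Fintype.card R) := Fintype.equivFin R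
  let e : Fin (Fintype.card S) ⊕ Fin (Fintype.card R) ≃ α :=
    (Equiv.sumCongr eF.symm eR.symm).trans (Equiv.sumCompl (Small N))
  let σF : N →* Equiv.Perm (Fin (Fintype.card S)) :=
    { toFun := fun a => eF.permCongr (a.1.subtypePerm fun x => small_smul N a x)
      map_one' := Equiv.ext fun i => (congrArg eF (Subtype.ext rfl)).trans (eF.apply_symm_apply i)
      map_mul' := fun a b => by
        ext i
        simp only [Equiv.permCongr_apply, Equiv.Perm.mul_apply, Equiv.symm_apply_apply]
        rfl }
  let σR : N →* Equiv.Perm (Fin (Fintype.card R)) :=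
    { toFun := fun a => eR.permCongr (a.1.subtypePerm fun x => not_congr (small_smul N a x))
      map_one' := Equiv.ext fun i => (congrArg eR (Subtype.ext rfl)).trans (eR.apply_symm_apply i)
      map_mul' := fun a b => by
        ext i
        simp only [Equiv.permCongr_apply, Equiv.Perm.mul_apply, Equiv.symm_apply_apply]
        rfl }
  have hemb : ∀ a : N, emb e (σF a, σR a) = a.1 := fun a => by
    ext x
    obtain ⟨w, rfl⟩ := e.surjective x
    rcases w with i | i <;> simp [emb, e, σF, σR] <;> rfl
  -- the small part is a 2-group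
  have hF : IsPGroup 2 σF.range := by
    rintro ⟨-, a, rfl⟩
    refine ⟨Fintype.card α, Subtype.ext ?_⟩
    show σF a ^ 2 ^ Fintype.card α = 1
    rw [← map_pow]
    have key : ∀ x : α, Small N x → (a ^ 2 ^ Fintype.card α : N) • x = x := by
      intro x hx
      obtain ⟨hpos, hnorm, hfac⟩ := fx_orbit N hN x
      have hd0 : 0 < (orbit N x).ncard := (Set.ncard_pos).2 ⟨x, mem_orbit_self x⟩
      have hc : fx N (orbit N x) = 2 ^ (fx N (orbit N x)).factorization 2 := by
        apply Nat.eq_of_factorization_eq hpos.ne' (pow_ne_zero _ (by norm_num))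
        intro q
        rw [Nat.prime_two.factorization_pow, Finsupp.single_apply]
        split_ifs with h
        · rw [h]
        · by_cases hq : q.Prime
          · have := hfac q hq
            rw [Nat.factorization_eq_zero_of_not_dvd (n := (orbit N x).ncard)
              fun hqd => h (hx q hq hqd).symm] at this
            simpa using this
          · exact Nat.factorization_eq_zero_of_not_prime _ hq
      have hle : (fx N (orbit N x)).factorization 2 ≤ Fintype.card α := by
        have : Fact (Nat.Prime 2) := ⟨Nat.prime_two⟩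
        have h1 := pow_val_bound 2 _ _ (hfac 2 Nat.prime_two)
        have h2 := Nat.le_of_dvd hd0 (Nat.ordProj_dvd (orbit N x).ncard 2)
        have h3 : (orbit N x).ncard ≤ Nat.card α := Set.ncard_le_card _
        rw [Nat.card_eq_fintype_card] at h3
        omega
      have h1 : a ^ fx N (orbit N x) ∈ fixingSubgroup N (orbit N x) := by
        have := hnorm
        exact Subgroup.pow_index_mem _ a
      have h2 : a ^ 2 ^ Fintype.card α ∈ fixingSubgroup N (orbit N x) := by
        obtain ⟨u, hu⟩ := pow_dvd_pow 2 hle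
        rw [hu, ← hc, pow_mul]
        exact pow_mem h1 u
      exact (mem_fixingSubgroup_iff N).1 h2 x (mem_orbit_self x)
    generalize hb : a ^ 2 ^ Fintype.card α = b at key
    refine Equiv.ext fun i => eF.symm.injective (Subtype.ext ?_)
    simp [σF]
    exact key _ (eF.symm i).2
  obtain ⟨X, hX⟩ := hF.exists_le_sylow
  refine ⟨_, _, e, X, σR.range, fun a ha => ⟨(σF ⟨a, ha⟩, σR ⟨a, ha⟩),
    ⟨hX ⟨_, rfl⟩, ⟨_, rfl⟩⟩, hemb ⟨a, ha⟩⟩, ?_⟩
  rcases Nat.eq_zero_or_pos (Fintype.card R) with h0 | h0
  · exact Or.inl h0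
  refine Or.inr ?_
  let s : Finset α := Finset.univ.filter fun x => ¬ Small N x
  have hs : s.card = Fintype.card R := (Fintype.card_subtype _).symm
  have hker : σR.ker = fixingSubgroup N (s : Set α) := by
    ext a
    rw [MonoidHom.mem_ker, mem_fixingSubgroup_iff, Equiv.ext_iff]
    constructor
    · intro h y hy
      have hy' : ¬ Small N y := by simpa [s] using hy
      have := congrArg (fun i => ((eR.symm i : R) : α)) (h (eR ⟨y, hy'⟩))
      simp [σR] at this
      exact this
    · intro h i
      refine eR.symm.injective (Subtype.ext ?_)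
      simp [σR]
      exact h (eR.symm i : R).1 (by simpa [s] using (eR.symm i).2)
  have h := fx_moved N hN s ?_ (fun a x hx => ?_) (fun x hx => by simpa [s] using hx)
  · rwa [hs, fx, ← hker, Subgroup.index_ker] at h
  · rw [← Finset.card_pos, hs]
    exact h0
  · simpa [s, small_smul] using hx

end

end CfsgLib.PermNilpotentSecond
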