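import Cfsg.Agent.Lib.Perm.NilpotentSecondBound

/-!
The model nilpotent subgroup: a 2-group on all but three points, times a 3-cycle.
-/

set_option autoImplicit false

namespace CfsgLib.PermNilpotentSecond

open scoped Nat
open Equiv CfsgLib.PermNilpotentBound

/-- The decomposition of the points. -/
def splitThree {n : ℕ} (h : 3 ≤ n) : Fin (n - 3) ⊕ Fin 3 ≃ Fin n :=
  finSumFinEquiv.trans (finCongr (by omega))

theorem alt_three_iso : Nonempty (alternatingGroup (Fin 3) ≃* Multiplicative (ZMod 3)) := by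
  have : Fact (Nat.Prime 3) := ⟨Nat.prime_three⟩
  exact ⟨mulEquivOfPrimeCardEq (p := 3) card_alt_three (by simp)⟩

theorem model {α : Type*} [Fintype α] [DecidableEq α] {f : ℕ} (e : Fin f ⊕ Fin 3 ≃ α)
    (X : Subgroup (Perm (Fin f))) (hX : IsPGroup 2 X) :
    Group.IsNilpotent ((X.prod (alternatingGroup (Fin 3))).map (emb e)) ∧
    Nat.card ((X.prod (alternatingGroup (Fin 3))).map (emb e)) = 3 * Nat.card X ∧
    Nonempty ((X.prod (alternatingGroup (Fin 3))).map (emb e) ≃* X × Multiplicative (ZMod 3)) := by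
  obtain ⟨t⟩ := alt_three_iso
  let i : (X.prod (alternatingGroup (Fin 3))).map (emb e) ≃* X × Multiplicative (ZMod 3) :=
    (Subgroup.equivMapOfInjective _ _ (emb_injective e)).symm.trans
      ((Subgroup.prodEquiv _ _).trans (MulEquiv.prodCongr (MulEquiv.refl X) t))
  have : Fact (Nat.Prime 2) := ⟨Nat.prime_two⟩
  have : Fact (Nat.Prime 3) := ⟨Nat.prime_three⟩
  have : Group.IsNilpotent X := hX.isNilpotent
  have : Group.IsNilpotent (Multiplicative (ZMod 3)) := CommGroup.isNilpotent
  refine ⟨Group.nilpotent_of_mulEquiv i.symm, ?_, ⟨i⟩⟩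
  rw [Nat.card_congr i.toEquiv, Nat.card_prod, mul_comm,
    show Nat.card (Multiplicative (ZMod 3)) = 3 by simp]

theorem card_sylow_alt {m : ℕ} (hm : 2 ≤ m) (P : Sylow 2 (alternatingGroup (Fin m))) :
    Nat.card P * 2 = 2 ^ twoVal m := by
  have : Fact (Nat.Prime 2) := ⟨Nat.prime_two⟩
  have : Nontrivial (Fin m) := Fin.nontrivial_iff_two_le.2 hm
  have h2 : 2 * Nat.card (alternatingGroup (Fin m)) = m ! := by
    rw [two_mul_nat_card_alternatingGroup, Nat.card_perm, Nat.card_eq_fintype_card, Fintype.card_fin]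
  have h1 : twoVal m = (Nat.card (alternatingGroup (Fin m))).factorization 2 + 1 := by
    rw [twoVal, ← Nat.factorization_def _ Nat.prime_two, ← h2,
      Nat.factorization_mul (by norm_num) Nat.card_pos.ne', Finsupp.add_apply,
      Nat.prime_two.factorization_self]
    omega
  rw [h1, pow_succ]
  congr 1
  exact P.card_eq_multiplicity

end CfsgLib.PermNilpotentSecond
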