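import Mathlib

/-!
# Automorphisms of odd order of doubly transitive groups

If the image of a point stabilizer has an orbit of length coprime to the degree then the automorphism
is induced by a permutation: the incidence matrix `M` of the two actions satisfies `M * Mᵀ = q + λ J`,
and the product over a cycle of odd length commutes with the group.
-/

set_option autoImplicit false

namespace Cfsg.Agent.PermOddAutomorphism

open Matrix

/-- The arithmetic of the design parameters. -/
theorem num {n k lam m : ℕ} (hm : Odd m) (hk0 : 1 ≤ k) (hkn : k ≤ n) (hn : 2 ≤ n)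
    (hcop : k.Coprime n) (hlam : lam ≤ k) (hsq : k - lam + n * lam = k * k) {a b : ℤ}
    (ha : a ^ 2 = ((k - lam : ℕ) : ℤ) ^ m) (hab : a + n * b = (k : ℤ) ^ m) :
    k = 1 ∨ k = n - 1 := by
  have hklt : k < n := lt_of_le_of_ne hkn fun e => by
    rw [e, Nat.coprime_self] at hcop; omega
  obtain ⟨j, rfl⟩ := hm
  set q := k - lam with hq
  have hq0 : 0 < q := by
    refine Nat.pos_of_ne_zero fun e => ?_
    have : lam = k := by omega
    rw [e, this, zero_add] at hsq
    have := Nat.eq_of_mul_eq_mul_right (by omega) hsq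
    omega
  obtain ⟨s, hs⟩ : ∃ s, q = s * s := by
    have h1 : q * (q ^ j) ^ 2 = a.natAbs ^ 2 := by
      rw [← Int.natAbs_pow, ha, Int.natAbs_pow, Int.natAbs_natCast]; ring
    obtain ⟨c, hc⟩ := (Nat.pow_dvd_pow_iff two_ne_zero).mp (dvd_of_mul_left_eq q h1)
    refine ⟨c, Nat.eq_of_mul_eq_mul_right (pow_pos (pow_pos hq0 j) 2) ?_⟩
    rw [h1, hc]; ring
  have hs0 : 0 < s := Nat.pos_of_ne_zero fun e => by rw [e] at hs; omega
  have hsn : s < n := by
    have : s ≤ s * s := Nat.le_mul_self s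
    omega
  have hkq : (k : ℤ) - lam = s * s := by rw [← Nat.cast_sub hlam, ← hq, hs, Nat.cast_mul]
  have hsq' : (s : ℤ) * s + n * lam = k * k := by
    rw [← hkq, ← Nat.cast_sub hlam]; exact_mod_cast hsq
  have hcs : IsCoprime (n : ℤ) (((s : ℤ) ^ 2) ^ j) := by
    refine IsCoprime.pow_right ?_
    have h1 : IsCoprime (n : ℤ) ((k : ℤ) ^ 2) :=
      IsCoprime.pow_right (Nat.isCoprime_iff_coprime.mpr hcop.symm)
    have h2 : (k : ℤ) ^ 2 = (s : ℤ) ^ 2 + (n : ℤ) * lam := by rw [sq, sq]; linarith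
    rw [h2] at h1
    exact IsCoprime.of_add_mul_left_right h1
  have key : ∀ t : ℤ, t ^ 2 = 1 → a = t * (s : ℤ) ^ (2 * j + 1) → (n : ℤ) ∣ (k : ℤ) - t * s := by
    intro t ht hat
    refine hcs.dvd_of_dvd_mul_left ?_
    have h1 : (n : ℤ) ∣ ((k : ℤ) ^ 2) ^ j - ((s : ℤ) ^ 2) ^ j :=
      dvd_trans ⟨(lam : ℤ), by rw [sq, sq]; linarith⟩ (sub_dvd_pow_sub_pow _ _ j)
    have h2 : (n : ℤ) ∣ (k : ℤ) ^ (2 * j + 1) - a := ⟨b, by linarith⟩
    have h3 : ((s : ℤ) ^ 2) ^ j * ((k : ℤ) - t * s) =
        ((k : ℤ) ^ (2 * j + 1) - a) - k * (((k : ℤ) ^ 2) ^ j - ((s : ℤ) ^ 2) ^ j) := by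
      rw [hat]; ring
    rw [h3]
    exact dvd_sub h2 (dvd_mul_of_dvd_right h1 _)
  have ha' : a = (s : ℤ) ^ (2 * j + 1) ∨ a = -(s : ℤ) ^ (2 * j + 1) := by
    apply sq_eq_sq_iff_eq_or_eq_neg.mp
    rw [ha, hs, Nat.cast_mul]; ring
  rcases ha' with e | e
  · left
    have h := key 1 (one_pow 2) (by rw [e, one_mul])
    rw [one_mul] at h
    have h0 : (k : ℤ) - s = 0 := Int.eq_zero_of_abs_lt_dvd h (by rw [abs_lt]; omega)
    have hks : k = s := by omega
    subst hks
    have : lam = 0 := by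
      rcases Nat.mul_eq_zero.mp (show n * lam = 0 by omega) with h' | h' <;> omega
    subst this
    have : k * k = k * 1 := by omega
    exact Nat.eq_of_mul_eq_mul_left hs0 this
  · right
    obtain ⟨c, hc⟩ := key (-1) (by norm_num) (by rw [e, neg_one_mul])
    rw [neg_one_mul, sub_neg_eq_add] at hc
    have hc1 : c = 1 := by
      have h1 : (n : ℤ) * 0 < n * c := by rw [← hc]; omega
      have h2 : (n : ℤ) * c < n * 2 := by rw [← hc]; omega
      have := lt_of_mul_lt_mul_left h1 (by omega)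
      have := lt_of_mul_lt_mul_left h2 (by omega)
      omega
    rw [hc1, mul_one] at hc
    have hl : (lam : ℤ) = n - 2 * s := by
      refine mul_left_cancel₀ (show (n : ℤ) ≠ 0 by omega) ?_
      linear_combination hsq' + ((k : ℤ) - s + n) * hc
    have h3 : (s : ℤ) * s = s * 1 := by rw [← hkq, mul_one]; omega
    have : (s : ℤ) = 1 := mul_left_cancel₀ (by omega) h3
    omega

variable {Ω : Type*} [Fintype Ω] [DecidableEq Ω] {G : Type*} [Group G] [MulAction G Ω]

/-- The all-one matrix. -/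
def jay : Matrix Ω Ω ℤ := Matrix.of fun _ _ => 1

theorem jay_apply (x y : Ω) : jay x y = 1 := rfl

theorem eq_of_invariant (h2 : MulAction.IsMultiplyPretransitive G Ω 2) (X : Matrix Ω Ω ℤ)
    (hX : ∀ (g : G) x y, X (g • x) (g • y) = X x y) {o z : Ω} (hoz : o ≠ z) :
    X = (X o o - X o z) • (1 : Matrix Ω Ω ℤ) + X o z • jay := by
  haveI := MulAction.isPretransitive_of_is_two_pretransitive (G := G) (α := Ω)
  ext x y
  rw [Matrix.add_apply, Matrix.smul_apply, Matrix.smul_apply, jay_apply, smul_eq_mul, smul_eq_mul,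
    Matrix.one_apply]
  split_ifs with h
  · subst h
    obtain ⟨g, hg⟩ := MulAction.exists_smul_eq G o x
    rw [← hg, hX]; ring
  · obtain ⟨g, hg1, hg2⟩ := (MulAction.is_two_pretransitive_iff (G := G) (α := Ω)).mp h2 hoz h
    rw [← hg1, ← hg2, hX]; ring

/-- The orbit length coprime to the degree is `1` or `n - 1`. -/
theorem orbit_card (h2 : MulAction.IsMultiplyPretransitive G Ω 2) (o : Ω) (α : MulAut G)
    (hα : Odd (orderOf α)) (ω : Ω)
    (hk : (Nat.card (MulAction.orbit ((MulAction.stabilizer G o).map α.toMonoidHom) ω)).Coprime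
      (Fintype.card Ω)) :
    Nat.card (MulAction.orbit ((MulAction.stabilizer G o).map α.toMonoidHom) ω) = 1 ∨
      Nat.card (MulAction.orbit ((MulAction.stabilizer G o).map α.toMonoidHom) ω) = Fintype.card Ω - 1 := by
  classical
  set k := Nat.card (MulAction.orbit ((MulAction.stabilizer G o).map α.toMonoidHom) ω) with hkdef
  have hk0 : 1 ≤ k := by
    haveI : Nonempty (MulAction.orbit ((MulAction.stabilizer G o).map α.toMonoidHom) ω) :=
      ⟨⟨ω, MulAction.mem_orbit_self ω⟩⟩
    exact Nat.card_pos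
  have hkn : k ≤ Fintype.card Ω := by
    rw [← Nat.card_eq_fintype_card]; exact Nat.card_le_card_of_injective _ Subtype.val_injective
  rcases Nat.lt_or_ge (Fintype.card Ω) 2 with hn | hn
  · exact Or.inl (by omega)
  obtain ⟨z, hz⟩ := Fintype.exists_ne_of_one_lt_card hn o
  haveI := MulAction.isPretransitive_of_is_two_pretransitive (G := G) (α := Ω)
  let O : Ω → Ω → Prop := fun x y => ∃ g : G, g • o = x ∧ α g • ω = y
  have hO : ∀ (g : G) x y, O (g • x) (α g • y) ↔ O x y := by
    intro g x y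
    constructor
    · rintro ⟨h, h1, h2⟩
      exact ⟨g⁻¹ * h, by rw [mul_smul, h1, inv_smul_smul],
        by rw [map_mul, map_inv, mul_smul, h2, inv_smul_smul]⟩
    · rintro ⟨h, rfl, rfl⟩
      exact ⟨g * h, mul_smul _ _ _, by rw [map_mul, mul_smul]⟩
  let M : Matrix Ω Ω ℤ := Matrix.of fun x y => if O x y then 1 else 0
  have hM : ∀ (g : G) x y, M (g • x) (α g • y) = M x y := fun g x y =>
    if_congr (hO g x y) rfl rfl
  have hrow : ∀ x, ∑ y, M x y = k := by
    intro x
    obtain ⟨g, rfl⟩ := MulAction.exists_smul_eq G o x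
    rw [← Equiv.sum_comp (MulAction.toPerm (α g) : Equiv.Perm Ω) fun y => M (g • o) y]
    simp only [MulAction.toPerm_apply, hM]
    simp only [M, Matrix.of_apply, Finset.sum_boole]
    rw [Nat.cast_inj, hkdef, Nat.card_eq_fintype_card, ← Set.toFinset_card]
    congr 1
    ext y
    simp only [Finset.mem_filter, Finset.mem_univ, true_and, Set.mem_toFinset, O]
    constructor
    · rintro ⟨h, h1, rfl⟩
      exact ⟨⟨α h, h, h1, rfl⟩, rfl⟩
    · rintro ⟨⟨_, h, h1, rfl⟩, rfl⟩
      exact ⟨h, h1, rfl⟩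
  have hcol : ∀ y, ∑ x, M x y = k := by
    have hc : ∀ y y', ∑ x, M x y = ∑ x, M x y' := by
      intro y y'
      obtain ⟨g, rfl⟩ := MulAction.exists_smul_eq G y y'
      rw [← Equiv.sum_comp (MulAction.toPerm (α.symm g) : Equiv.Perm Ω) fun x => M x (g • y)]
      refine Finset.sum_congr rfl fun x _ => ?_
      conv_lhs => rw [← hM (α.symm g) x y, α.apply_symm_apply]
      rfl
    intro y
    have h := Finset.sum_comm (γ := Ω) (s := Finset.univ) (t := Finset.univ) (f := fun x y => M x y)
    simp only [hrow, fun y' => hc y' y, Finset.sum_const, Finset.card_univ, nsmul_eq_mul] at h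
    exact (mul_left_cancel₀ (show (Fintype.card Ω : ℤ) ≠ 0 by omega) h).symm
  have hMJ : M * jay = (k : ℤ) • jay := by
    ext x y; simp [Matrix.mul_apply, jay_apply, hrow]
  have hJM : (jay : Matrix Ω Ω ℤ) * Mᵀ = (k : ℤ) • jay := by
    ext x y; simp [Matrix.mul_apply, jay_apply, hrow]
  have hB : ∀ (g : G) x y, (M * Mᵀ) (g • x) (g • y) = (M * Mᵀ) x y := by
    intro g x y
    simp only [Matrix.mul_apply, Matrix.transpose_apply]
    rw [← Equiv.sum_comp (MulAction.toPerm (α g) : Equiv.Perm Ω) fun w => M (g • x) w * M (g • y) w]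
    simp only [MulAction.toPerm_apply, hM]
  have hBd : (M * Mᵀ) o o = k := by
    simp only [Matrix.mul_apply, Matrix.transpose_apply]
    rw [← hrow o]
    refine Finset.sum_congr rfl fun w _ => ?_
    simp only [M, Matrix.of_apply]
    split_ifs <;> norm_num
  have h01 : ∀ x y, 0 ≤ M x y ∧ M x y ≤ 1 := fun x y => by
    simp only [M, Matrix.of_apply]; split_ifs <;> norm_num
  obtain ⟨lam, hlam⟩ : ∃ l : ℕ, (M * Mᵀ) o z = l := Int.eq_ofNat_of_zero_le (by
    simp only [Matrix.mul_apply, Matrix.transpose_apply]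
    exact Finset.sum_nonneg fun w _ => mul_nonneg (h01 _ _).1 (h01 _ _).1)
  have hlk : lam ≤ k := by
    have h : (M * Mᵀ) o z ≤ k := by
      simp only [Matrix.mul_apply, Matrix.transpose_apply]
      rw [← hrow o]
      exact Finset.sum_le_sum fun w _ => mul_le_of_le_one_right (h01 _ _).1 (h01 _ _).2
    omega
  have hBeq := eq_of_invariant h2 _ hB hz.symm
  rw [hBd, hlam, ← Nat.cast_sub hlk] at hBeq
  have hsq : k - lam + Fintype.card Ω * lam = k * k := by
    have h := congrArg (fun X : Matrix Ω Ω ℤ => ∑ y, X o y) hBeq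
    simp only [Matrix.add_apply, Matrix.smul_apply, jay_apply, smul_eq_mul, Matrix.one_apply,
      Finset.sum_add_distrib, mul_ite, mul_one, mul_zero, Finset.sum_ite_eq, Finset.mem_univ,
      ↓reduceIte, Finset.sum_const, Finset.card_univ, nsmul_eq_mul] at h
    simp only [Matrix.mul_apply, Matrix.transpose_apply] at h
    rw [Finset.sum_comm] at h
    simp only [← Finset.mul_sum, hcol, ← Finset.sum_mul, hrow] at h
    exact_mod_cast h.symm
  have hpow : ∀ i : ℕ, (∀ x, ∑ y, (M ^ i) x y = (k : ℤ) ^ i) ∧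
      ∃ c : ℤ, M ^ i * (M ^ i)ᵀ = ((k - lam : ℕ) : ℤ) ^ i • (1 : Matrix Ω Ω ℤ) + c • jay := by
    intro i
    induction i with
    | zero => exact ⟨fun x => by simp [Matrix.one_apply], 0, by simp⟩
    | succ i ih =>
      obtain ⟨hr, c, hc⟩ := ih
      refine ⟨fun x => ?_, ((k - lam : ℕ) : ℤ) ^ i * lam + c * k * k, ?_⟩
      · simp only [pow_succ, Matrix.mul_apply]
        rw [Finset.sum_comm]
        simp only [← Finset.mul_sum, hrow, ← Finset.sum_mul, hr]
      · rw [pow_succ', Matrix.transpose_mul, Matrix.mul_assoc, ← Matrix.mul_assoc (M ^ i), hc]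
        rw [Matrix.add_mul, Matrix.mul_add, Matrix.smul_mul, Matrix.one_mul, Matrix.mul_smul,
          Matrix.smul_mul, hJM, Matrix.mul_smul, Matrix.mul_smul, hMJ, hBeq]
        simp only [smul_add, smul_smul, add_assoc, ← add_smul]
        congr 2 <;> ring
  have hinv : ∀ (i : ℕ) (g : G) x y, (M ^ i) (g • x) ((α ^ i) g • y) = (M ^ i) x y := by
    intro i
    induction i with
    | zero =>
      intro g x y
      simp [Matrix.one_apply]
    | succ i ih =>
      intro g x y
      simp only [pow_succ M, Matrix.mul_apply]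
      rw [← Equiv.sum_comp (MulAction.toPerm ((α ^ i) g) : Equiv.Perm Ω)]
      refine Finset.sum_congr rfl fun w _ => ?_
      simp only [MulAction.toPerm_apply]
      rw [ih, pow_succ' α, MulAut.mul_apply, hM]
  set m := orderOf α
  have hA : ∀ (g : G) x y, (M ^ m) (g • x) (g • y) = (M ^ m) x y := fun g x y => by
    simpa [m, pow_orderOf_eq_one] using hinv m g x y
  obtain ⟨hAr, c, hAA⟩ := hpow m
  have hAeq := eq_of_invariant h2 _ hA hz.symm
  set a := (M ^ m) o o - (M ^ m) o z with ha
  set b := (M ^ m) o z with hb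
  refine num hα hk0 hkn hn hk hlk hsq (a := a) (b := b) ?_ ?_
  · have hJJ : (jay : Matrix Ω Ω ℤ) * jay = (Fintype.card Ω : ℤ) • jay := by
      ext x y; simp [Matrix.mul_apply, jay_apply]
    have hJT : (jay : Matrix Ω Ω ℤ)ᵀ = jay := by ext x y; rfl
    rw [hAeq, Matrix.transpose_add, Matrix.transpose_smul, Matrix.transpose_smul, Matrix.transpose_one,
      hJT] at hAA
    simp only [Matrix.add_mul, Matrix.mul_add, Matrix.smul_mul, Matrix.mul_smul, Matrix.one_mul,
      Matrix.mul_one, hJJ, smul_smul] at hAA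
    have h1 := congrFun (congrFun hAA o) o
    have h3 := congrFun (congrFun hAA o) z
    simp only [Matrix.add_apply, Matrix.smul_apply, jay_apply, Matrix.one_apply_eq,
      Matrix.one_apply_ne hz.symm, smul_eq_mul] at h1 h3
    linear_combination h1 - h3
  · rw [← hAr o, hAeq]
    simp only [Matrix.add_apply, Matrix.smul_apply, Matrix.one_apply, jay_apply, smul_eq_mul, mul_ite,
      mul_one, mul_zero, Finset.sum_add_distrib, Finset.sum_ite_eq, Finset.mem_univ, ↓reduceIte,
      Finset.sum_const, Finset.card_univ, nsmul_eq_mul]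

/-- A coprime orbit yields a fixed point and the conjugating permutation. -/
theorem exists_perm {Ω : Type*} [Fintype Ω] (G : Subgroup (Equiv.Perm Ω))
    (h2 : MulAction.IsMultiplyPretransitive G Ω 2) (o : Ω) (α : MulAut G) (hα : Odd (orderOf α))
    (ω : Ω) (hk : (Nat.card (MulAction.orbit ((MulAction.stabilizer G o).map α.toMonoidHom) ω)).Coprime
      (Fintype.card Ω)) :
    ∃ σ : Equiv.Perm Ω, σ ∈ Subgroup.normalizer (G : Set (Equiv.Perm Ω)) ∧
      ∀ g : G, ((α g : G) : Equiv.Perm Ω) = σ * (g : Equiv.Perm Ω) * σ⁻¹ := by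
  classical
  haveI := MulAction.isPretransitive_of_is_two_pretransitive (G := G) (α := Ω)
  set D := (MulAction.stabilizer G o).map α.toMonoidHom with hD
  obtain ⟨p, hp⟩ : ∃ p : Ω, ∀ d ∈ D, d • p = p := by
    rcases orbit_card h2 o α hα ω hk with h | h
    · obtain ⟨hs, -⟩ := Nat.card_eq_one_iff_unique.mp h
      exact ⟨ω, fun d hd => congrArg Subtype.val
        (Subsingleton.elim (⟨d • ω, ⟨⟨d, hd⟩, rfl⟩⟩ : MulAction.orbit D ω) ⟨ω, MulAction.mem_orbit_self ω⟩)⟩
    · have hn : 0 < Fintype.card Ω := Fintype.card_pos_iff.mpr ⟨o⟩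
      have hc : (MulAction.orbit D ω)ᶜ.ncard = 1 := by
        rw [Set.ncard_compl, ← Nat.card_coe_set_eq, h, Nat.card_eq_fintype_card]; omega
      obtain ⟨p, hp⟩ := Set.ncard_eq_one.mp hc
      refine ⟨p, fun d hd => ?_⟩
      have hpc : p ∉ MulAction.orbit D ω := by
        rw [← Set.mem_compl_iff, hp]; rfl
      by_contra hne
      have h1 : d • p ∈ MulAction.orbit D ω := by
        by_contra h1
        rw [← Set.mem_compl_iff, hp] at h1
        exact hne h1
      exact hpc (by
        have := MulAction.mem_orbit_of_mem_orbit (⟨d, hd⟩⁻¹ : D) h1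
        simpa [Subgroup.smul_def] using this)
  have hDeq : D = MulAction.stabilizer G p := by
    refine Subgroup.eq_of_le_of_card_ge (fun d hd => hp d hd) (le_of_eq ?_)
    have e1 : D.index = Nat.card Ω := by
      rw [hD, ← MulAction.index_stabilizer_of_transitive G o]
      exact Subgroup.index_map_equiv _ α
    have e2 := MulAction.index_stabilizer_of_transitive G p
    have h1 := Subgroup.card_mul_index D
    have h2 := Subgroup.card_mul_index (MulAction.stabilizer G p)
    rw [e1] at h1; rw [e2] at h2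
    haveI : Nonempty Ω := ⟨o⟩
    exact Nat.eq_of_mul_eq_mul_right Nat.card_pos (h2.trans h1.symm)
  choose rep hrep using fun x : Ω => MulAction.exists_smul_eq G o x
  have key : ∀ g h : G, g • o = h • o ↔ α g • p = α h • p := by
    intro g h
    rw [← inv_smul_eq_iff, ← mul_smul, ← inv_smul_eq_iff (g := α h) (a := α g • p), ← mul_smul,
      ← map_inv, ← map_mul, ← MulAction.mem_stabilizer_iff, ← MulAction.mem_stabilizer_iff, ← hDeq, hD]
    rw [Subgroup.mem_map_equiv]; simp
  let s : Ω → Ω := fun x => α (rep x) • p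
  have hs : Function.Injective s := fun x y h => by
    rw [← hrep x, ← hrep y]; exact (key _ _).mpr h
  let σ : Equiv.Perm Ω := Equiv.ofBijective s (Finite.injective_iff_bijective.mp hs)
  have hσ : ∀ g : G, ((α g : G) : Equiv.Perm Ω) = σ * (g : Equiv.Perm Ω) * σ⁻¹ := by
    intro g
    rw [eq_mul_inv_iff_mul_eq]
    ext x
    show α g • (α (rep x) • p) = α (rep (g • x)) • p
    rw [← mul_smul, ← map_mul]
    exact (key _ _).mp (by rw [mul_smul, hrep, hrep])
  refine ⟨σ, ?_, hσ⟩
  rw [Subgroup.mem_normalizer_iff]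
  intro h
  constructor
  · intro hh
    have e := hσ ⟨h, hh⟩
    exact e ▸ (α ⟨h, hh⟩).2
  · intro hh
    have e := hσ (α.symm ⟨_, hh⟩)
    rw [α.apply_symm_apply] at e
    simp only [mul_left_inj, mul_right_inj] at e
    exact e ▸ (α.symm ⟨_, hh⟩).2

end Cfsg.Agent.PermOddAutomorphism
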