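import Cfsg.Agent.Lib.Perm.ThreeCycleFStar
import Cfsg.Agent.Lib.Perm.MinDegSmall
import Cfsg.Agent.Lib.Classical.GLFourTwo

/-!
Permutation groups containing the products of two transpositions from a system of pairs.
-/

set_option autoImplicit false
set_option linter.style.haveILetI false
set_option linter.unusedSectionVars false

namespace CfsgLib.PairSystem

open Cfsg Equiv CfsgLib.AltOnSet

theorem apply_inv' {α : Type*} (e : Perm α) (z : α) : e (e⁻¹ z) = z := e.apply_symm_apply z

theorem inv_apply' {α : Type*} (e : Perm α) (z : α) : e⁻¹ (e z) = z := e.symm_apply_apply z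

/-- If all commutators of `t` with a perfect normalised group are central in it, `t` centralizes it. -/
theorem comm_of_central {G : Type*} [Group G] {E : Subgroup G} [Group.IsPerfect E] {t : G}
    (h : ∀ e ∈ E, e * t * e⁻¹ * t⁻¹ ∈ E ∧ ∀ f ∈ E, f * (e * t * e⁻¹ * t⁻¹) = e * t * e⁻¹ * t⁻¹ * f)
    {e : G} (he : e ∈ E) : t * e = e * t := by
  have hk : ∀ e : E, (⟨(e : G) * t * (e : G)⁻¹ * t⁻¹, (h e e.2).1⟩ : E) ∈ Subgroup.center E :=
    fun e => Subgroup.mem_center_iff.mpr fun f => Subtype.ext ((h e e.2).2 f f.2)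
  let φ : E →* Subgroup.center E := MonoidHom.mk' (fun e => ⟨_, hk e⟩) fun e f => by
    apply Subtype.ext
    apply Subtype.ext
    show (e : G) * f * t * ((e : G) * f)⁻¹ * t⁻¹ =
      (e : G) * t * (e : G)⁻¹ * t⁻¹ * ((f : G) * t * (f : G)⁻¹ * t⁻¹)
    rw [(h f f.2).2 _ (h e e.2).1]
    calc (e : G) * f * t * ((e : G) * f)⁻¹ * t⁻¹
        = (e : G) * ((f : G) * t * (f : G)⁻¹ * t⁻¹) * (t * (e : G)⁻¹ * t⁻¹) := by group
      _ = _ := by rw [(h f f.2).2 e e.2]; group
  have hφ : φ.range = ⊥ := by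
    by_contra hne
    haveI : Group.IsPerfect φ.range := Group.IsPerfect.ofSurjective φ.rangeRestrict_surjective
    haveI : Nontrivial φ.range := (Subgroup.nontrivial_iff_ne_bot _).mpr hne
    haveI : IsMulCommutative φ.range := inferInstance
    exact (Group.IsSolvable.commutator_lt_top_of_nontrivial φ.range).ne Group.IsPerfect.commutator_eq_top
  have : φ ⟨e, he⟩ = 1 := Subgroup.mem_bot.mp (hφ ▸ ⟨_, rfl⟩)
  have : e * t * e⁻¹ * t⁻¹ = 1 := congrArg (fun u : Subgroup.center E => ((u : E) : G)) this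
  rw [mul_inv_eq_one, mul_inv_eq_iff_eq_mul] at this
  exact this.symm

variable {n k : ℕ}

/-- The pair of index `i`. -/
def pr (ι : Fin k × Fin 2 ↪ Fin n) (i : Fin k) : Finset (Fin n) := {ι (i, 0), ι (i, 1)}

/-- The product of two transpositions. -/
def tau (ι : Fin k × Fin 2 ↪ Fin n) (i j : Fin k) : Perm (Fin n) :=
  swap (ι (i, 0)) (ι (i, 1)) * swap (ι (j, 0)) (ι (j, 1))

theorem mem_pr {ι : Fin k × Fin 2 ↪ Fin n} {i : Fin k} {z : Fin n} :
    z ∈ pr ι i ↔ ∃ b, ι (i, b) = z := by
  simp only [pr, Finset.mem_insert, Finset.mem_singleton]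
  constructor
  · rintro (rfl | rfl) <;> exact ⟨_, rfl⟩
  · rintro ⟨b, rfl⟩
    rcases Fin.exists_fin_two.mp ⟨b, rfl⟩ with rfl | rfl <;> simp

theorem pr_disjoint {ι : Fin k × Fin 2 ↪ Fin n} {i j : Fin k} (h : i ≠ j) : Disjoint (pr ι i) (pr ι j) := by
  rw [Finset.disjoint_left]
  intro z hi hj
  obtain ⟨b, rfl⟩ := mem_pr.mp hi
  obtain ⟨c, hc⟩ := mem_pr.mp hj
  exact h (congrArg Prod.fst (ι.injective hc)).symm

theorem card_pr (ι : Fin k × Fin 2 ↪ Fin n) (i : Fin k) : (pr ι i).card = 2 := by
  rw [pr, Finset.card_pair (fun e => by simpa using ι.injective e)]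

theorem support_tau {ι : Fin k × Fin 2 ↪ Fin n} {i j : Fin k} (h : i ≠ j) :
    (tau ι i j).support = pr ι i ∪ pr ι j := by
  have hd : Perm.Disjoint (swap (ι (i, 0)) (ι (i, 1))) (swap (ι (j, 0)) (ι (j, 1))) := by
    rw [Perm.disjoint_iff_disjoint_support, Perm.support_swap (fun e => by simpa using ι.injective e),
      Perm.support_swap (fun e => by simpa using ι.injective e)]
    exact pr_disjoint h
  rw [tau, hd.support_mul, Perm.support_swap (fun e => by simpa using ι.injective e),
    Perm.support_swap (fun e => by simpa using ι.injective e)]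
  rfl

theorem tau_comm (ι : Fin k × Fin 2 ↪ Fin n) {i j : Fin k} (h : i ≠ j) : tau ι i j = tau ι j i := by
  have hd : Perm.Disjoint (swap (ι (i, 0)) (ι (i, 1))) (swap (ι (j, 0)) (ι (j, 1))) := by
    rw [Perm.disjoint_iff_disjoint_support, Perm.support_swap (fun e => by simpa using ι.injective e),
      Perm.support_swap (fun e => by simpa using ι.injective e)]
    exact pr_disjoint h
  exact hd.commute

theorem card_support_tau {ι : Fin k × Fin 2 ↪ Fin n} {i j : Fin k} (h : i ≠ j) :
    (tau ι i j).support.card = 4 := by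
  rw [support_tau h, Finset.card_union_of_disjoint (pr_disjoint h), card_pr, card_pr]

theorem sign_tau (ι : Fin k × Fin 2 ↪ Fin n) (i j : Fin k) : Perm.sign (tau ι i j) = 1 := by
  rw [tau, map_mul, Perm.sign_swap (fun e => by simpa using ι.injective e),
    Perm.sign_swap (fun e => by simpa using ι.injective e)]
  decide

theorem tau_apply {ι : Fin k × Fin 2 ↪ Fin n} {i j : Fin k} (h : i ≠ j) (b : Fin 2) :
    tau ι i j (ι (i, b)) = ι (i, b + 1) := by
  have hne : ∀ (c d : Fin 2), ι (i, c) ≠ ι (j, d) := fun c d e => h (congrArg Prod.fst (ι.injective e))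
  rw [tau, Perm.mul_apply, swap_apply_of_ne_of_ne (hne b 0) (hne b 1)]
  fin_cases b <;> simp

theorem tau_sq {ι : Fin k × Fin 2 ↪ Fin n} {i j : Fin k} (h : i ≠ j) : tau ι i j * tau ι i j = 1 := by
  have e := tau_comm ι h
  rw [tau, tau] at e
  rw [tau, mul_assoc, ← mul_assoc (swap (ι (j, 0)) (ι (j, 1))), ← e]
  simp [mul_assoc]

/-- The double transpositions. -/
def DT (t : Perm (Fin n)) : Prop := t.support.card = 4 ∧ t * t = 1 ∧ Perm.sign t = 1

theorem dt_tau {ι : Fin k × Fin 2 ↪ Fin n} {i j : Fin k} (h : i ≠ j) : DT (tau ι i j) :=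
  ⟨card_support_tau h, tau_sq h, sign_tau ι i j⟩

theorem DT.conj {t : Perm (Fin n)} (h : DT t) (g : Perm (Fin n)) : DT (g * t * g⁻¹) :=
  ⟨by rw [Perm.card_support_conj]; exact h.1, by
    rw [show g * t * g⁻¹ * (g * t * g⁻¹) = g * (t * t) * g⁻¹ by group, h.2.1, mul_one, mul_inv_cancel],
    by rw [map_mul, map_mul, map_inv, h.2.2, mul_one, mul_inv_cancel]⟩

theorem isThreeCycle_of_even {u : Perm (Fin n)} (hs : u.support.card ≤ 3) (hne : u ≠ 1)
    (hsign : Perm.sign u = 1) : u.IsThreeCycle := by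
  have h0 : u.support.card ≠ 0 := fun e => hne (Perm.support_eq_empty_iff.mp (Finset.card_eq_zero.mp e))
  have h1 : u.support.card ≠ 1 := Perm.card_support_ne_one u
  have h2 : u.support.card ≠ 2 := fun e => by
    rw [(Perm.card_support_eq_two.mp e).sign_eq] at hsign
    exact absurd hsign (by decide)
  exact card_support_eq_three_iff.mp (by omega)

variable {H : Subgroup (Perm (Fin n))} {ι : Fin k × Fin 2 ↪ Fin n}

/-- Without three cycles the supports meet evenly. -/
theorem even_meet (h3 : ∀ c ∈ H, ¬ c.IsThreeCycle) (hk : 4 ≤ k)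
    (hπ : ∀ i j, i ≠ j → tau ι i j ∈ H) {t : Perm (Fin n)} (ht : t ∈ H) (hd : DT t) {i j : Fin k} (hij : i ≠ j) :
    (t.support ∩ (pr ι i ∪ pr ι j)).card ≠ 1 ∧ (t.support ∩ (pr ι i ∪ pr ι j)).card ≠ 3 := by
  classical
  have hone : ∀ s ∈ H, ∀ i j : Fin k, i ≠ j → (s.support ∩ (pr ι i ∪ pr ι j)).card ≠ 1 := by
    intro s hs i j hij e
    obtain ⟨a, ha⟩ := Finset.card_eq_one.mp e
    have hm : ∀ z, z ∈ s.support → z ∈ pr ι i ∪ pr ι j → z = a := fun z h h' =>
      Finset.mem_singleton.mp (ha ▸ Finset.mem_inter.mpr ⟨h, h'⟩)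
    have ha' : a ∈ s.support ∩ (pr ι i ∪ pr ι j) := ha ▸ Finset.mem_singleton_self a
    obtain ⟨ha1, ha2⟩ := Finset.mem_inter.mp ha'
    refine h3 _ (mul_mem (mul_mem (mul_mem hs (hπ i j hij)) (inv_mem hs)) (inv_mem (hπ i j hij)))
      (Cfsg.Agent.MinDegBabai.commutator_isThreeCycle s (tau ι i j) a (Perm.mem_support.mp ha1)
        (Perm.mem_support.mp (support_tau hij ▸ ha2)) fun z hz hz' => hm z (Perm.mem_support.mpr hz)
        (support_tau hij ▸ Perm.mem_support.mpr hz'))
  refine ⟨hone t ht i j hij, fun e => ?_⟩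
  -- a point of the second pair is fixed
  suffices key : ∀ i j : Fin k, i ≠ j → (t.support ∩ (pr ι i ∪ pr ι j)).card = 3 →
      ∀ b0, ι (j, b0) ∉ t.support → False by
    obtain ⟨z, hz, hzt⟩ : ∃ z ∈ pr ι i ∪ pr ι j, z ∉ t.support := by
      by_contra hall
      push Not at hall
      rw [Finset.inter_eq_right.mpr (fun z hz => hall z hz),
        Finset.card_union_of_disjoint (pr_disjoint hij), card_pr, card_pr] at e
      omega
    rcases Finset.mem_union.mp hz with hz | hz
    · obtain ⟨b, rfl⟩ := mem_pr.mp hz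
      exact key j i hij.symm (by rwa [Finset.union_comm]) b hzt
    · obtain ⟨b, rfl⟩ := mem_pr.mp hz
      exact key i j hij e b hzt
  clear e hij i j
  intro i j hij e b0 hdt
  obtain ⟨d, hd'⟩ : ∃ d, d = ι (j, b0) := ⟨_, rfl⟩
  obtain ⟨c, hc⟩ : ∃ c, c = ι (j, b0 + 1) := ⟨_, rfl⟩
  obtain ⟨a, ha⟩ : ∃ a, a = ι (i, 0) := ⟨_, rfl⟩
  obtain ⟨b, hb⟩ : ∃ b, b = ι (i, 1) := ⟨_, rfl⟩
  rw [← hd'] at hdt
  have hb01 : b0 + 1 ≠ b0 := (show ∀ x : Fin 2, x + 1 ≠ x by decide) b0
  have hcd : c ≠ d := fun h => hb01 (congrArg Prod.snd (ι.injective (hc ▸ hd' ▸ h)))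
  have hab : a ≠ b := fun h => absurd (congrArg Prod.snd (ι.injective (ha ▸ hb ▸ h))) (by simp)
  have hac : a ≠ c := fun h => hij (congrArg Prod.fst (ι.injective (ha ▸ hc ▸ h)))
  have hbc : b ≠ c := fun h => hij (congrArg Prod.fst (ι.injective (hb ▸ hc ▸ h)))
  have hU : pr ι i ∪ pr ι j = {a, b, c, d} := by
    ext z
    simp only [Finset.mem_union, mem_pr, Finset.mem_insert, Finset.mem_singleton]
    constructor
    · rintro (⟨x, rfl⟩ | ⟨x, rfl⟩)
      · rcases (show ∀ x : Fin 2, x = 0 ∨ x = 1 by decide) x with rfl | rfl <;> simp [ha, hb]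
      · rcases (show ∀ x y : Fin 2, x = y ∨ x = y + 1 by decide) x b0 with rfl | rfl <;> simp [hc, hd']
    · rintro (rfl | rfl | rfl | rfl)
      · exact Or.inl ⟨0, ha.symm⟩
      · exact Or.inl ⟨1, hb.symm⟩
      · exact Or.inr ⟨_, hc.symm⟩
      · exact Or.inr ⟨_, hd'.symm⟩
  have hin : t.support ∩ (pr ι i ∪ pr ι j) = {a, b, c} := by
    apply Finset.eq_of_subset_of_card_le
    · intro z hz
      rw [hU, Finset.mem_inter] at hz
      obtain ⟨hz1, hz2⟩ := hz
      simp only [Finset.mem_insert, Finset.mem_singleton] at hz2 ⊢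
      rcases hz2 with h | h | h | h
      · exact Or.inl h
      · exact Or.inr (Or.inl h)
      · exact Or.inr (Or.inr h)
      · exact absurd (h ▸ hz1) hdt
    · rw [e]; exact Finset.card_le_three
  have hat : a ∈ t.support := Finset.mem_of_mem_inter_left (hin.symm ▸ (by simp : a ∈ ({a, b, c} : Finset (Fin n))))
  have hbt : b ∈ t.support := Finset.mem_of_mem_inter_left (hin.symm ▸ (by simp : b ∈ ({a, b, c} : Finset (Fin n))))
  have hct : c ∈ t.support := Finset.mem_of_mem_inter_left (hin.symm ▸ (by simp : c ∈ ({a, b, c} : Finset (Fin n))))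
  obtain ⟨f, hf⟩ : ∃ f, t.support \ {a, b, c} = {f} := Finset.card_eq_one.mp (by
    rw [Finset.card_sdiff_of_subset (fun z hz => by
      simp only [Finset.mem_insert, Finset.mem_singleton] at hz
      rcases hz with rfl | rfl | rfl <;> assumption), hd.1, ← hin, e])
  have hsupp : ∀ z, t z ≠ z → z = a ∨ z = b ∨ z = c ∨ z = f := fun z hz => by
    by_cases h : z ∈ ({a, b, c} : Finset (Fin n))
    · simp only [Finset.mem_insert, Finset.mem_singleton] at h; tauto
    · exact Or.inr (Or.inr (Or.inr (Finset.mem_singleton.mp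
        (hf ▸ Finset.mem_sdiff.mpr ⟨Perm.mem_support.mpr hz, h⟩))))
  have htd : t d = d := Perm.notMem_support.mp hdt
  have htt : ∀ z, t (t z) = z := fun z => by rw [← Perm.mul_apply, hd.2.1, Perm.one_apply]
  have hmoved : ∀ z, t z ≠ z → t (t z) ≠ t z := fun z hz h => hz (t.injective h)
  have πa : tau ι i j a = b := by rw [ha, hb, tau_apply hij]; rfl
  have πb : tau ι i j b = a := by rw [ha, hb, tau_apply hij]; rfl
  have πd : tau ι i j d = c := by rw [hd', hc, tau_comm ι hij, tau_apply hij.symm]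
  by_cases htab : t a = b
  · have htba : t b = a := by rw [← htab, htt]
    refine h3 _ (mul_mem (hπ i j hij) ht) (isThreeCycle_of_even ?_ (fun h => hcd ?_) ?_)
    · refine (Finset.card_le_card (t := {c, d, f}) fun z hz => ?_).trans Finset.card_le_three
      rw [Perm.mem_support, Perm.mul_apply] at hz
      simp only [Finset.mem_insert, Finset.mem_singleton]
      by_cases h1 : t z = z
      · rw [h1] at hz
        have h' : z ∈ pr ι i ∪ pr ι j := support_tau hij ▸ Perm.mem_support.mpr hz
        rw [hU] at h'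
        simp only [Finset.mem_insert, Finset.mem_singleton] at h'
        rcases h' with rfl | rfl | rfl | rfl
        · exact absurd h1 (Perm.mem_support.mp hat)
        · exact absurd h1 (Perm.mem_support.mp hbt)
        · exact Or.inl rfl
        · exact Or.inr (Or.inl rfl)
      · rcases hsupp z h1 with rfl | rfl | rfl | rfl
        · exact absurd (by rw [htab, πb]) hz
        · exact absurd (by rw [htba, πa]) hz
        · exact Or.inl rfl
        · exact Or.inr (Or.inr rfl)
    · have := congrArg (fun P : Perm (Fin n) => P d) h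
      rwa [Perm.mul_apply, htd, πd, Perm.one_apply] at this
    · rw [map_mul, sign_tau, hd.2.2, one_mul]
  · -- a conjugate meets another product in one point
    obtain ⟨m, hmi, hmj, hmf⟩ : ∃ m : Fin k, m ≠ i ∧ m ≠ j ∧ f ∉ pr ι m := by
      have h2 : 1 < (((Finset.univ : Finset (Fin k)).erase i).erase j).card := by
        rw [Finset.card_erase_of_mem (by simp [hij.symm]), Finset.card_erase_of_mem (Finset.mem_univ i),
          Finset.card_univ, Fintype.card_fin]
        omega
      obtain ⟨m, hm, m', hm', hne⟩ := Finset.one_lt_card.mp h2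
      simp only [Finset.mem_erase, Finset.mem_univ, and_true] at hm hm'
      by_cases hmf : f ∈ pr ι m
      · exact ⟨m', hm'.2, hm'.1, fun h => Finset.disjoint_left.mp (pr_disjoint hne) hmf h⟩
      · exact ⟨m, hm.2, hm.1, hmf⟩
    have hy : t * tau ι i j * t⁻¹ ∈ H := mul_mem (mul_mem ht (hπ i j hij)) (inv_mem ht)
    have hysupp : ∀ z, z ∈ (t * tau ι i j * t⁻¹).support ↔ t z ∈ pr ι i ∪ pr ι j := fun z => by
      rw [← support_tau hij, Perm.mem_support, Perm.mem_support, Perm.mul_apply, Perm.mul_apply,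
        show t⁻¹ z = t z from t.injective (by rw [apply_inv', htt])]
      refine not_congr ⟨fun h => t.injective (by rw [h, htt]), fun h => by rw [h, htt]⟩
    have htc : t c = a ∨ t c = b := by
      have hta : t a ≠ a := Perm.mem_support.mp hat
      rcases hsupp (t a) (hmoved a hta) with h | h | h | h
      · exact absurd h hta
      · exact absurd h htab
      · exact Or.inl (by rw [← h, htt])
      · rcases hsupp (t c) (hmoved c (Perm.mem_support.mp hct)) with g | g | g | g
        · exact Or.inl g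
        · exact Or.inr g
        · exact absurd g (Perm.mem_support.mp hct)
        · exact absurd (t.injective (g.trans h.symm)) hac.symm
    refine hone _ hy i m hmi.symm (Finset.card_eq_one.mpr ⟨t c, ?_⟩)
    ext z
    rw [Finset.mem_inter, hysupp, Finset.mem_singleton]
    constructor
    · rintro ⟨h1, h2⟩
      rw [hU] at h1
      simp only [Finset.mem_insert, Finset.mem_singleton] at h1
      have hzd : t z ≠ d := fun h => by
        have : z = d := t.injective (h.trans htd.symm)
        subst this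
        rcases Finset.mem_union.mp h2 with h2 | h2
        · exact Finset.disjoint_left.mp (pr_disjoint hij) h2 (hd' ▸ mem_pr.mpr ⟨_, rfl⟩)
        · exact Finset.disjoint_left.mp (pr_disjoint hmj) h2 (hd' ▸ mem_pr.mpr ⟨_, rfl⟩)
      rcases Finset.mem_union.mp h2 with h2 | h2
      · have hz : z = a ∨ z = b := by
          obtain ⟨x, rfl⟩ := mem_pr.mp h2
          rcases (show ∀ x : Fin 2, x = 0 ∨ x = 1 by decide) x with rfl | rfl
          · exact Or.inl ha.symm
          · exact Or.inr hb.symm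
        rcases h1 with h | h | h | h
        · exfalso
          rcases hz with rfl | rfl
          · exact Perm.mem_support.mp hat h
          · exact htab (by rw [← h, htt])
        · exfalso
          rcases hz with rfl | rfl
          · exact htab h
          · exact Perm.mem_support.mp hbt h
        · rw [← h, htt]
        · exact absurd h hzd
      · exfalso
        have hzi : ∀ w ∈ pr ι i ∪ pr ι j, z ≠ w := fun w hw e => by
          subst e
          rcases Finset.mem_union.mp hw with hw | hw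
          · exact Finset.disjoint_left.mp (pr_disjoint hmi) h2 hw
          · exact Finset.disjoint_left.mp (pr_disjoint hmj) h2 hw
        rw [hU] at hzi
        by_cases h' : t z = z
        · rw [h'] at h1
          rcases h1 with g | g | g | g <;> exact hzi _ (by simp) g
        · rcases hsupp z h' with g | g | g | g
          · exact hzi a (by simp) g
          · exact hzi b (by simp) g
          · exact hzi c (by simp) g
          · exact hmf (g ▸ h2)
    · rintro rfl
      refine ⟨by rw [htt, hU]; simp, Finset.mem_union_left _ ?_⟩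
      rcases htc with h | h <;> rw [h]
      · exact mem_pr.mpr ⟨0, ha.symm⟩
      · exact mem_pr.mpr ⟨1, hb.symm⟩

/-- All points of the pairs. -/
def dom (ι : Fin k × Fin 2 ↪ Fin n) : Finset (Fin n) := Finset.univ.biUnion (pr ι)

theorem mem_dom {z : Fin n} : z ∈ dom ι ↔ ∃ x, ι x = z := by
  simp only [dom, Finset.mem_biUnion, Finset.mem_univ, true_and, mem_pr]
  exact ⟨fun ⟨i, b, h⟩ => ⟨(i, b), h⟩, fun ⟨⟨i, b⟩, h⟩ => ⟨i, b, h⟩⟩

theorem card_dom (ι : Fin k × Fin 2 ↪ Fin n) : (dom ι).card = 2 * k := by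
  rw [dom, Finset.card_biUnion fun i _ j _ h => pr_disjoint h]
  simp [card_pr, mul_comm]

theorem sdiff_card_le (hn : n ≤ 2 * k + 1) (S : Finset (Fin n)) : (S \ dom ι).card ≤ 1 := by
  refine (Finset.card_le_card (Finset.sdiff_subset_sdiff (Finset.subset_univ S) le_rfl)).trans ?_
  rw [Finset.card_sdiff_of_subset (Finset.subset_univ _), Finset.card_univ, Fintype.card_fin, card_dom]
  omega

/-- The two types of double transpositions. -/
theorem types (h3 : ∀ c ∈ H, ¬ c.IsThreeCycle) (hk : 4 ≤ k) (hn : n ≤ 2 * k + 1)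
    (hπ : ∀ i j, i ≠ j → tau ι i j ∈ H) {t : Perm (Fin n)} (ht : t ∈ H) (hd : DT t) :
    t.support ⊆ dom ι ∧ ((∀ i, (t.support ∩ pr ι i).card ≠ 1) ∨ k = 4) := by
  classical
  obtain ⟨f, hf⟩ : ∃ f : Fin k → ℕ, ∀ i, f i = (t.support ∩ pr ι i).card := ⟨_, fun _ => rfl⟩
  have hpar : ∀ i j, i ≠ j → f i + f j ≠ 1 ∧ f i + f j ≠ 3 := fun i j hij => by
    have := even_meet h3 hk hπ ht hd hij
    rwa [Finset.inter_union_distrib_left, Finset.card_union_of_disjoint
      (Finset.disjoint_of_subset_left Finset.inter_subset_right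
        (Finset.disjoint_of_subset_right Finset.inter_subset_right (pr_disjoint hij))), ← hf, ← hf] at this
  have hf2 : ∀ i, f i ≤ 2 := fun i => hf i ▸
    (Finset.card_le_card Finset.inter_subset_right).trans (card_pr ι i).le
  have hsum : (t.support ∩ dom ι).card = ∑ i, f i := by
    rw [dom, Finset.inter_biUnion, Finset.card_biUnion fun i _ j _ h =>
      Finset.disjoint_of_subset_left Finset.inter_subset_right
        (Finset.disjoint_of_subset_right Finset.inter_subset_right (pr_disjoint h))]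
    exact Finset.sum_congr rfl fun i _ => (hf i).symm
  have hsplit := Finset.card_inter_add_card_sdiff t.support (dom ι)
  have hle := sdiff_card_le (ι := ι) hn t.support
  rw [hd.1, hsum] at hsplit
  have hsub : ((∀ i, f i ≠ 1) ∨ k = 4) ∧ (t.support \ dom ι).card = 0 := by
    by_cases hone : ∃ i, f i = 1
    · obtain ⟨i, hi⟩ := hone
      have hall : ∀ j, f j = 1 := fun j => by
        by_cases h : j = i
        · rw [h, hi]
        · have := hpar j i h; have := hf2 j; omega
      simp only [hall, Finset.sum_const, Finset.card_univ, Fintype.card_fin, smul_eq_mul, mul_one] at hsplit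
      exact ⟨Or.inr (by omega), by omega⟩
    · push Not at hone
      have hev : 2 ∣ ∑ i, f i := Finset.dvd_sum fun i _ => by
        have := hone i; have := hf2 i
        rcases (show f i = 0 ∨ f i = 2 by omega) with h | h <;> simp [h]
      exact ⟨Or.inl hone, by omega⟩
  refine ⟨Finset.sdiff_eq_empty_iff_subset.mp (Finset.card_eq_zero.mp hsub.2), ?_⟩
  simpa only [hf] using hsub.1

theorem dom_invariant (h3 : ∀ c ∈ H, ¬ c.IsThreeCycle) (hk : 4 ≤ k) (hn : n ≤ 2 * k + 1)
    (hπ : ∀ i j, i ≠ j → tau ι i j ∈ H) {g : Perm (Fin n)} (hg : g ∈ H) {z : Fin n} (hz : z ∈ dom ι) :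
    g z ∈ dom ι := by
  obtain ⟨i, -, hi⟩ := Finset.mem_biUnion.mp hz
  obtain ⟨j, hj⟩ := Fintype.exists_ne_of_one_lt_card (by rw [Fintype.card_fin]; omega) i
  refine (types h3 hk hn hπ (mul_mem (mul_mem hg (hπ i j hj.symm)) (inv_mem hg)) ((dt_tau hj.symm).conj g)).1 ?_
  rw [Perm.support_conj, Finset.mem_map]
  exact ⟨z, support_tau hj.symm ▸ Finset.mem_union_left _ hi, rfl⟩

/-- The partner map on the points of the pairs commutes with `H` if all double transpositions are unions of pairs. -/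
theorem partner (hk : 4 ≤ k)
    (hπ : ∀ i j, i ≠ j → tau ι i j ∈ H)
    (hev : ∀ t ∈ H, DT t → t.support ⊆ dom ι ∧ ∀ i, (t.support ∩ pr ι i).card ≠ 1)
    {g : Perm (Fin n)} (hg : g ∈ H) (i : Fin k) :
    ∃ r, (pr ι i).image g = pr ι r := by
  classical
  obtain ⟨j, hj, l, hl, hjl⟩ : ∃ j ∈ (Finset.univ : Finset (Fin k)).erase i,
      ∃ l ∈ (Finset.univ : Finset (Fin k)).erase i, j ≠ l := Finset.one_lt_card.mp (by
    rw [Finset.card_erase_of_mem (Finset.mem_univ i), Finset.card_univ, Fintype.card_fin]; omega)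
  have hji := (Finset.mem_erase.mp hj).1.symm
  have hli := (Finset.mem_erase.mp hl).1.symm
  have himg : ∀ j, i ≠ j → ∀ z, z ∈ (g * tau ι i j * g⁻¹).support ↔ z ∈ (pr ι i ∪ pr ι j).image g := by
    intro j hij z
    rw [Perm.support_conj, support_tau hij, Finset.mem_map, Finset.mem_image]
    exact Iff.rfl
  have hclosed : ∀ j, i ≠ j → ∀ r, ∀ z ∈ pr ι r, z ∈ (pr ι i ∪ pr ι j).image g →
      pr ι r ⊆ (pr ι i ∪ pr ι j).image g := by
    intro j hij r z hzr hz w hw
    have h := (hev _ (mul_mem (mul_mem hg (hπ i j hij)) (inv_mem hg)) ((dt_tau hij).conj g)).2 r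
    rw [← himg j hij] at hz ⊢
    by_contra hw'
    apply h
    refine Finset.card_eq_one.mpr ⟨z, Finset.eq_singleton_iff_unique_mem.mpr
      ⟨Finset.mem_inter.mpr ⟨hz, hzr⟩, fun v hv => ?_⟩⟩
    obtain ⟨hv1, hv2⟩ := Finset.mem_inter.mp hv
    obtain ⟨p, hp⟩ : ∃ p, pr ι r = {z, p} := by
      obtain ⟨x, y, hxy, he⟩ := Finset.card_eq_two.mp (card_pr ι r)
      rw [he, Finset.mem_insert, Finset.mem_singleton] at hzr
      rcases hzr with rfl | rfl
      · exact ⟨y, he⟩
      · exact ⟨x, by rw [he, Finset.pair_comm]⟩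
    rw [hp, Finset.mem_insert, Finset.mem_singleton] at hv2 hw
    rcases hv2 with h' | h'
    · exact h'
    · rcases hw with h'' | h''
      · exact absurd (h'' ▸ hz) hw'
      · exact absurd (h'' ▸ h' ▸ hv1) hw'
  have h0 : g (ι (i, 0)) ∈ (g * tau ι i j * g⁻¹).support :=
    (himg j hji _).mpr (Finset.mem_image_of_mem _ (Finset.mem_union_left _ (mem_pr.mpr ⟨0, rfl⟩)))
  obtain ⟨r, -, hr⟩ := Finset.mem_biUnion.mp
    ((hev _ (mul_mem (mul_mem hg (hπ i j hji)) (inv_mem hg)) ((dt_tau hji).conj g)).1 h0)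
  refine ⟨r, (Finset.eq_of_subset_of_card_le (fun z hz => ?_) ?_).symm⟩
  · have hm : ∀ j, i ≠ j → g (ι (i, 0)) ∈ (pr ι i ∪ pr ι j).image g := fun j _ =>
      Finset.mem_image_of_mem _ (Finset.mem_union_left _ (mem_pr.mpr ⟨0, rfl⟩))
    obtain ⟨a, ha, rfl⟩ := Finset.mem_image.mp (hclosed j hji r _ hr (hm j hji) hz)
    obtain ⟨b, hb, hab⟩ := Finset.mem_image.mp (hclosed l hli r _ hr (hm l hli) hz)
    obtain rfl := g.injective hab
    rcases Finset.mem_union.mp ha with h | h
    · exact Finset.mem_image_of_mem _ h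
    · rcases Finset.mem_union.mp hb with h' | h'
      · exact Finset.mem_image_of_mem _ h'
      · exact absurd h' (Finset.disjoint_left.mp (pr_disjoint hjl) h)
  · rw [Finset.card_image_of_injective _ g.injective, card_pr, card_pr]

/-- Five points of eight: some translate meets in three. -/
theorem five_cycle_meet : ∀ X : Finset (Fin 5), 3 ≤ X.card → X.card ≤ 4 →
    ∃ j : Fin 5, (X.image (· + j) ∩ X).card + 4 = 3 + X.card := by decide +kernel

end CfsgLib.PairSystem
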