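import Cfsg.Prelude.Def_Perm
import Mathlib.RepresentationTheory.Character
import Mathlib.Analysis.Complex.Basic
import Mathlib.Data.Set.Card

/-!
# The permutation character
-/

namespace Cfsg.Agent.Lib.Perm

variable {G : Type*} [Group G] {Ω : Type*} [MulAction G Ω] [Fintype Ω]

/-- The character of the permutation representation counts fixed points. -/
theorem permRep_character :
    (Cfsg.permRep ℂ G Ω).character = fun g : G => (Nat.card (MulAction.fixedBy Ω g) : ℂ) := by
  classical
  funext g
  show LinearMap.trace ℂ _ (Cfsg.permRep ℂ G Ω g) = _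
  rw [LinearMap.trace_eq_matrix_trace ℂ (Pi.basisFun ℂ Ω), LinearMap.toMatrix_eq_toMatrix', Matrix.trace]
  simp only [Matrix.diag, LinearMap.toMatrix'_apply]
  have : ∀ i, Cfsg.permRep ℂ G Ω g (Pi.single i 1) i = if g • i = i then (1 : ℂ) else 0 := by
    intro i
    show (Pi.single i (1 : ℂ) : Ω → ℂ) (g⁻¹ • i) = _
    rw [Pi.single_apply]
    exact if_congr (by rw [inv_smul_eq_iff]; exact eq_comm) rfl rfl
  rw [Finset.sum_congr rfl fun i _ => this i, Finset.sum_boole, Nat.card_coe_set_eq,
    Set.ncard_eq_toFinset_card']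
  congr 2
  ext i
  simp

/-- Invariants of the conjugation action are the commuting linear maps. -/
theorem mem_invariants_iff (S : (Ω → ℂ) →ₗ[ℂ] (Ω → ℂ)) :
    S ∈ ((Cfsg.permRep ℂ G Ω).linHom (Cfsg.permRep ℂ G Ω)).invariants ↔
      ∀ (g : G) v, S (Cfsg.permRep ℂ G Ω g v) = Cfsg.permRep ℂ G Ω g (S v) := by
  constructor
  · intro h g v
    have h1 := LinearMap.congr_fun (h g) (Cfsg.permRep ℂ G Ω g v)
    simp only [Representation.linHom_apply, LinearMap.comp_apply,
      Representation.inv_self_apply] at h1
    exact h1.symm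
  · intro h g
    refine LinearMap.ext fun v => ?_
    simp only [Representation.linHom_apply, LinearMap.comp_apply]
    rw [h g⁻¹ v, Representation.self_inv_apply]

end Cfsg.Agent.Lib.Perm
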