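/-
Certificates for subgroups of `GL₂(ZMod p)` regular on the non-zero vectors.
-/
import Mathlib

set_option autoImplicit false
set_option linter.style.haveILetI false

namespace CfsgLib.RegularGL2

/-- Matrices as quadruples of natural numbers. -/
abbrev Q : Type := ℕ × ℕ × ℕ × ℕ

def mulQ (p : ℕ) : Q → Q → Q
  | (a, b, c, d), (a', b', c', d') =>
    ((a * a' + b * c') % p, (a * b' + b * d') % p, (c * a' + d * c') % p, (c * b' + d * d') % p)

def beqQ : Q → Q → Bool
  | (a, b, c, d), (a', b', c', d') => a.beq a' && b.beq b' && c.beq c' && d.beq d'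

def scaleCol (p z : ℕ) (a c : ℕ) : ℕ → ℕ × ℕ
  | 0 => (a, c)
  | n + 1 => (((scaleCol p z a c n).1 * z) % p, ((scaleCol p z a c n).2 * z) % p)

/-- All the checks: `E i` is element `i` with a parent index and generator index. -/
def check (p z k : ℕ) (gens : List Q) (E : List (Q × ℕ × ℕ)) : Bool :=
  let L := E.map (·.1)
  (beqQ (L.getD 0 (0, 0, 0, 0)) (1, 0, 0, 1)) && (decide (E.length * k + 1 = p * p)) &&
  ((List.range E.length).all fun i => i.beq 0 ||
    (let e := E.getD i ((0, 0, 0, 0), 0, 0)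
     decide (e.2.1 < i) && decide (e.2.2 < gens.length) &&
      beqQ (mulQ p (L.getD e.2.1 (0, 0, 0, 0)) (gens.getD e.2.2 (0, 0, 0, 0))) e.1)) &&
  (L.all fun m => gens.all fun g => L.any fun m' => beqQ (mulQ p m g) m') &&
  ((List.range E.length).all fun i =>
    let m := L.getD i (0, 0, 0, 0)
    decide (m.1 < p) && decide (m.2.2.1 < p) && !(m.1.beq 0 && m.2.2.1.beq 0) &&
    (List.range k).all (fun t => t.beq 0 ||
      !((scaleCol p z m.1 m.2.2.1 t).1.beq m.1 && (scaleCol p z m.1 m.2.2.1 t).2.beq m.2.2.1)) &&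
    (List.range E.length).all fun j => i.beq j ||
      (let m' := L.getD j (0, 0, 0, 0)
       !(((m.1 * m'.2.2.1) % p).beq ((m.2.2.1 * m'.1) % p)) ||
        (List.range k).all (fun t =>
          !((scaleCol p z m.1 m.2.2.1 t).1.beq m'.1 && (scaleCol p z m.1 m.2.2.1 t).2.beq m'.2.2.1))))

variable {p : ℕ} [Fact p.Prime]

/-- The matrix of a quadruple. -/
def mat (m : Q) : Matrix (Fin 2) (Fin 2) (ZMod p) :=
  !![(m.1 : ZMod p), m.2.1; m.2.2.1, m.2.2.2]

theorem mat_mulQ (m m' : Q) : (mat (mulQ p m m') : Matrix (Fin 2) (Fin 2) (ZMod p)) = mat m * mat m' := by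
  obtain ⟨a, b, c, d⟩ := m
  obtain ⟨a', b', c', d'⟩ := m'
  ext i j
  fin_cases i <;> fin_cases j <;>
    simp [mat, mulQ, Matrix.mul_apply, Fin.sum_univ_two, ZMod.natCast_mod, Nat.cast_add, Nat.cast_mul]

theorem beqQ_eq {m m' : Q} (h : beqQ m m' = true) : m = m' := by
  obtain ⟨a, b, c, d⟩ := m
  obtain ⟨a', b', c', d'⟩ := m'
  simp only [beqQ, Bool.and_eq_true, Nat.beq_eq] at h
  obtain ⟨⟨⟨rfl, rfl⟩, rfl⟩, rfl⟩ := h
  rfl

theorem scaleCol_cast (z a c : ℕ) (n : ℕ) :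
    ((scaleCol p z a c n).1 : ZMod p) = (z : ZMod p) ^ n * a ∧
      ((scaleCol p z a c n).2 : ZMod p) = (z : ZMod p) ^ n * c := by
  induction n with
  | zero => simp [scaleCol]
  | succ n ih =>
    simp only [scaleCol, ZMod.natCast_mod, Nat.cast_mul, ih.1, ih.2, pow_succ]
    constructor <;> ring

theorem scaleCol_lt (z a c : ℕ) (ha : a < p) (hc : c < p) (n : ℕ) :
    (scaleCol p z a c n).1 < p ∧ (scaleCol p z a c n).2 < p := by
  cases n with
  | zero => exact ⟨ha, hc⟩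
  | succ n => exact ⟨Nat.mod_lt _ (Fact.out : p.Prime).pos, Nat.mod_lt _ (Fact.out : p.Prime).pos⟩

theorem regular_of_check (z k : ℕ) (hk : 0 < k) (hz : (z : ZMod p) ^ k = 1) (gens : List Q)
    (E : List (Q × ℕ × ℕ)) (h : check p z k gens E = true)
    (S : Set (Matrix.GeneralLinearGroup (Fin 2) (ZMod p)))
    (hS : ∀ g ∈ S, (∃ q ∈ gens, (g : Matrix (Fin 2) (Fin 2) (ZMod p)) = mat q) ∨
      (g : Matrix (Fin 2) (Fin 2) (ZMod p)) = (z : ZMod p) • 1)
    (hgen : ∀ q ∈ gens, ∃ g ∈ Subgroup.closure S, (g : Matrix (Fin 2) (Fin 2) (ZMod p)) = mat q)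
    (hscal : ∃ g ∈ Subgroup.closure S, (g : Matrix (Fin 2) (Fin 2) (ZMod p)) = (z : ZMod p) • 1) :
    Nat.card (Subgroup.closure S) = E.length * k ∧
      ∀ v w : Fin 2 → ZMod p, v ≠ 0 → w ≠ 0 → ∃! h : Subgroup.closure S,
        Matrix.mulVec ((h : Matrix.GeneralLinearGroup (Fin 2) (ZMod p)) : Matrix (Fin 2) (Fin 2) (ZMod p)) v = w := by
  classical
  simp only [check, Bool.and_eq_true, Bool.or_eq_true, decide_eq_true_eq, List.all_eq_true,
    List.any_eq_true, List.mem_range, Nat.beq_eq, Bool.not_eq_true', Bool.and_eq_false_iff,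
    Bool.eq_false_iff, ne_eq] at h
  obtain ⟨⟨⟨⟨h0, hlen⟩, hpar⟩, hclosed⟩, hcols⟩ := h
  set L := E.map (·.1) with hL
  set n := E.length with hn
  have hLn : L.length = n := by rw [hL, List.length_map]
  let el : ℕ → Q := fun i => L.getD i (0, 0, 0, 0)
  have hel : ∀ i < n, el i ∈ L := fun i hi => by
    simp only [el]
    rw [List.getD_eq_getElem _ _ (hLn ▸ hi)]
    exact List.getElem_mem _
  have hmemL : ∀ m ∈ L, ∃ i < n, el i = m := fun m hm => by
    obtain ⟨i, hi, rfl⟩ := List.mem_iff_getElem.mp hm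
    exact ⟨i, hLn ▸ hi, List.getD_eq_getElem _ _ hi⟩
  have hone : (mat (el 0) : Matrix (Fin 2) (Fin 2) (ZMod p)) = 1 := by
    show mat (L.getD 0 (0, 0, 0, 0)) = 1
    rw [beqQ_eq h0]
    ext i j
    fin_cases i <;> fin_cases j <;> simp [mat]
  set Γ := Subgroup.closure S
  -- every listed element lies in the group
  obtain ⟨zg, hzgΓ, hzg⟩ := hscal
  have hmem : ∀ i < n, ∃ g ∈ Γ, (g : Matrix (Fin 2) (Fin 2) (ZMod p)) = mat (el i) := by
    intro i
    induction i using Nat.strong_induction_on with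
    | _ i ih =>
      intro hi
      rcases hpar i hi with h | ⟨⟨hlt, hg⟩, heq⟩
      · subst h
        exact ⟨1, one_mem _, by rw [hone]; rfl⟩
      · set e := E.getD i ((0, 0, 0, 0), 0, 0) with he
        obtain ⟨g₁, hg₁, hv₁⟩ := ih e.2.1 hlt (hlt.trans hi)
        obtain ⟨g₂, hg₂, hv₂⟩ := hgen (gens.getD e.2.2 (0, 0, 0, 0)) (by
          rw [List.getD_eq_getElem _ _ hg]; exact List.getElem_mem _)
        refine ⟨g₁ * g₂, mul_mem hg₁ hg₂, ?_⟩
        rw [Matrix.GeneralLinearGroup.coe_mul, hv₁, hv₂, ← mat_mulQ, beqQ_eq heq]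
        congr 1
        simp only [el, hL]
        rw [List.getD_eq_getElem _ _ (by rw [List.length_map]; exact hi), List.getElem_map, he,
          List.getD_eq_getElem _ _ hi]
  -- and every element of the group is a scalar times a listed one
  let T : Set (Matrix.GeneralLinearGroup (Fin 2) (ZMod p)) :=
    {g | ∃ t < k, ∃ i < n, (g : Matrix (Fin 2) (Fin 2) (ZMod p)) = (z : ZMod p) ^ t • mat (el i)}
  have hnpos : 0 < n := by
    rcases Nat.eq_zero_or_pos n with h | h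
    · exfalso
      rw [h, zero_mul, zero_add] at hlen
      have h2 := (Fact.out : p.Prime).two_le
      nlinarith
    · exact h
  have hmod : ∀ t : ℕ, (z : ZMod p) ^ t = (z : ZMod p) ^ (t % k) := fun t => by
    conv_lhs => rw [← Nat.div_add_mod t k, pow_add, pow_mul, hz, one_pow, one_mul]
  have hTS : ∀ g ∈ T, ∀ s ∈ S, g * s ∈ T := by
    rintro g ⟨t, ht, i, hi, hg⟩ s hs
    rcases hS s hs with ⟨q, hq, hsq⟩ | hsz
    · obtain ⟨m', hm', hmm⟩ := hclosed (el i) (hel i hi) q hq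
      obtain ⟨j, hj, rfl⟩ := hmemL m' hm'
      refine ⟨t, ht, j, hj, ?_⟩
      rw [Matrix.GeneralLinearGroup.coe_mul, hg, hsq, smul_mul_assoc, ← mat_mulQ, beqQ_eq hmm]
    · refine ⟨(t + 1) % k, Nat.mod_lt _ hk, i, hi, ?_⟩
      rw [Matrix.GeneralLinearGroup.coe_mul, hg, hsz, ← hmod, mul_smul_comm, mul_one, smul_smul, pow_succ']
  have hTΓ : ∀ h ∈ Γ, ∀ g ∈ T, g * h ∈ T := by
    intro h hh
    induction hh using Subgroup.closure_induction with
    | mem s hs => exact fun g hg => hTS g hg s hs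
    | one => intro g hg; rwa [mul_one]
    | mul a b _ _ iha ihb => intro g hg; rw [← mul_assoc]; exact ihb _ (iha g hg)
    | inv a _ iha =>
      intro g hg
      obtain ⟨u, hu⟩ := (Finite.injective_iff_surjective
        (f := fun g : T => (⟨(g : _) * a, iha g g.2⟩ : T))).mp
        (fun u v huv => Subtype.ext (mul_right_cancel (congrArg Subtype.val huv :))) ⟨g, hg⟩
      have hu' : (u : _) * a = g := congrArg Subtype.val hu
      rw [← hu', mul_inv_cancel_right]
      exact u.2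
  have h1T : (1 : Matrix.GeneralLinearGroup (Fin 2) (ZMod p)) ∈ T :=
    ⟨0, hk, 0, hnpos, by rw [pow_zero, one_smul, hone]; rfl⟩
  have hsubT : ∀ h ∈ Γ, h ∈ T := fun h hh => by simpa using hTΓ h hh 1 h1T
  -- first columns separate the elements
  let col : ℕ × ℕ → (Fin 2 → ZMod p) := fun x =>
    ![(z : ZMod p) ^ x.1 * (el x.2).1, (z : ZMod p) ^ x.1 * (el x.2).2.2.1]
  have hcast : ∀ a b : ℕ, a < p → b < p → (a : ZMod p) = b → a = b := fun a b ha hb h => by
    rw [ZMod.natCast_eq_natCast_iff'] at h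
    rwa [Nat.mod_eq_of_lt ha, Nat.mod_eq_of_lt hb] at h
  have hz0 : (z : ZMod p) ≠ 0 := fun h => by rw [h, zero_pow hk.ne'] at hz; exact zero_ne_one hz
  have hsep : ∀ t < k, ∀ i < n, ∀ t' < k, ∀ i' < n, col (t, i) = col (t', i') → t = t' ∧ i = i' := by
    intro t ht i hi t' ht' i' hi' he
    obtain ⟨⟨⟨⟨hp1, hp2⟩, hne⟩, hfix⟩, hsepij⟩ := hcols i hi
    have h1 : (z : ZMod p) ^ t * (el i).1 = (z : ZMod p) ^ t' * (el i').1 := congrFun he 0
    have h2 : (z : ZMod p) ^ t * (el i).2.2.1 = (z : ZMod p) ^ t' * (el i').2.2.1 := congrFun he 1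
    -- the exponent difference
    set s := (t + (k - t')) % k with hs
    have hsk : s < k := Nat.mod_lt _ hk
    have hzs : ∀ a b : ZMod p, (z : ZMod p) ^ t * a = (z : ZMod p) ^ t' * b → (z : ZMod p) ^ s * a = b := by
      intro a b hab
      rw [hs, ← hmod, pow_add]
      calc (z : ZMod p) ^ t * (z : ZMod p) ^ (k - t') * a
          = (z : ZMod p) ^ (k - t') * ((z : ZMod p) ^ t * a) := by ring
        _ = (z : ZMod p) ^ (k - t' + t') * b := by rw [hab, pow_add]; ring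
        _ = b := by rw [Nat.sub_add_cancel ht'.le, hz, one_mul]
    have e1 := hzs _ _ h1
    have e2 := hzs _ _ h2
    obtain ⟨c1, c2⟩ := scaleCol_cast (p := p) z (el i).1 (el i).2.2.1 s
    obtain ⟨l1, l2⟩ := scaleCol_lt (p := p) z (el i).1 (el i).2.2.1 hp1 hp2 s
    by_cases hij : i = i'
    · subst hij
      have hs0 : s = 0 := by
        rcases hfix s hsk with h | h
        · exact h
        · exact absurd ⟨hcast _ _ l1 hp1 (c1.trans e1), hcast _ _ l2 hp2 (c2.trans e2)⟩ h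
      refine ⟨?_, rfl⟩
      rcases le_or_gt t' t with h | h
      · have e : t + (k - t') = (t - t') + k := by omega
        rw [hs, e, Nat.add_mod_right, Nat.mod_eq_of_lt (by omega)] at hs0
        omega
      · rw [hs, Nat.mod_eq_of_lt (by omega)] at hs0
        omega
    · exfalso
      obtain ⟨⟨⟨⟨hq1, hq2⟩, -⟩, -⟩, -⟩ := hcols i' hi'
      rcases hsepij i' hi' with h | h | h
      · exact hij h
      · refine h ?_
        rw [← ZMod.natCast_eq_natCast_iff', Nat.cast_mul, Nat.cast_mul]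
        show ((el i).1 : ZMod p) * (el i').2.2.1 = (el i).2.2.1 * (el i').1
        rw [← e1, ← e2]; ring
      · exact h s hsk ⟨hcast _ _ l1 hq1 (c1.trans e1), hcast _ _ l2 hq2 (c2.trans e2)⟩
  have hne0 : ∀ t < k, ∀ i < n, col (t, i) ≠ 0 := by
    intro t ht i hi hc
    obtain ⟨⟨⟨⟨hp1, hp2⟩, hne⟩, -⟩, -⟩ := hcols i hi
    have h1 : (z : ZMod p) ^ t * (el i).1 = 0 := congrFun hc 0
    have h2 : (z : ZMod p) ^ t * (el i).2.2.1 = 0 := congrFun hc 1
    have hp0 := (Fact.out : p.Prime).pos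
    exact hne ⟨hcast _ _ hp1 hp0 (((mul_eq_zero.mp h1).resolve_left (pow_ne_zero _ hz0)).trans Nat.cast_zero.symm),
      hcast _ _ hp2 hp0 (((mul_eq_zero.mp h2).resolve_left (pow_ne_zero _ hz0)).trans Nat.cast_zero.symm)⟩
  let Φ : Fin k × Fin n → {v : Fin 2 → ZMod p // v ≠ 0} := fun x =>
    ⟨col ((x.1 : ℕ), (x.2 : ℕ)), hne0 x.1 x.1.2 x.2 x.2.2⟩
  have hcardv : Nat.card {v : Fin 2 → ZMod p // v ≠ 0} = n * k := by
    rw [Nat.card_eq_fintype_card, Fintype.card_subtype_compl, Fintype.card_subtype_eq, Fintype.card_fun,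
      Fintype.card_fin, ZMod.card, pow_two]
    omega
  have hΦ : Function.Bijective Φ := by
    refine (Fintype.bijective_iff_injective_and_card _).mpr ⟨fun x y hxy => ?_, ?_⟩
    · obtain ⟨h1, h2⟩ := hsep _ x.1.2 _ x.2.2 _ y.1.2 _ y.2.2 (congrArg Subtype.val hxy)
      exact Prod.ext (Fin.ext h1) (Fin.ext h2)
    · rw [← Nat.card_eq_fintype_card (α := {v : Fin 2 → ZMod p // v ≠ 0}), hcardv, Fintype.card_prod,
        Fintype.card_fin, Fintype.card_fin, mul_comm]
  -- orbit map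
  let e₁ : Fin 2 → ZMod p := ![1, 0]
  have hcolval : ∀ t i, ((z : ZMod p) ^ t • (mat (el i) : Matrix (Fin 2) (Fin 2) (ZMod p))).mulVec e₁ = col (t, i) := by
    intro t i
    funext j
    fin_cases j <;> simp [e₁, col, mat, Matrix.mulVec, dotProduct, Fin.sum_univ_two]
  let act : Γ → (Fin 2 → ZMod p) → (Fin 2 → ZMod p) := fun g v =>
    ((g : Matrix.GeneralLinearGroup (Fin 2) (ZMod p)) : Matrix (Fin 2) (Fin 2) (ZMod p)).mulVec v
  have hactmul : ∀ g h v, act (g * h) v = act g (act h v) := fun g h v => by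
    show Matrix.mulVec _ v = Matrix.mulVec _ (Matrix.mulVec _ v)
    rw [Matrix.mulVec_mulVec]
    rfl
  have hact1 : ∀ v, act 1 v = v := fun v => Matrix.one_mulVec v
  have hactne : ∀ g v, v ≠ 0 → act g v ≠ 0 := fun g v hv h => hv (by
    rw [← hact1 v, ← inv_mul_cancel g, hactmul, h]; simp [act])
  let Ψ : Γ → {v : Fin 2 → ZMod p // v ≠ 0} := fun g =>
    ⟨act g e₁, hactne g e₁ (fun h => one_ne_zero (congrFun h 0 : (1 : ZMod p) = 0))⟩
  have hΨ : Function.Bijective Ψ := by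
    refine ⟨fun g g' h => ?_, fun v => ?_⟩
    · obtain ⟨t, ht, i, hi, hg⟩ := hsubT g g.2
      obtain ⟨t', ht', i', hi', hg'⟩ := hsubT g' g'.2
      have he : act g e₁ = act g' e₁ := congrArg Subtype.val h
      simp only [act, hg, hg', hcolval] at he
      obtain ⟨rfl, rfl⟩ := hsep t ht i hi t' ht' i' hi' he
      exact Subtype.ext (Units.ext (hg.trans hg'.symm))
    · obtain ⟨⟨t, i⟩, rfl⟩ := hΦ.2 v
      obtain ⟨g, hg, hgv⟩ := hmem i i.2
      have hzv : ∀ t : ℕ, ((zg ^ t : Matrix.GeneralLinearGroup (Fin 2) (ZMod p)) :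
          Matrix (Fin 2) (Fin 2) (ZMod p)) = (z : ZMod p) ^ t • 1 := by
        intro t
        induction t with
        | zero => simp
        | succ t ih =>
          rw [pow_succ, Matrix.GeneralLinearGroup.coe_mul, ih, hzg, mul_smul_comm, mul_one, smul_smul,
            pow_succ']
      refine ⟨⟨zg ^ (t : ℕ) * g, mul_mem (pow_mem hzgΓ _) hg⟩, Subtype.ext ?_⟩
      show Matrix.mulVec _ e₁ = col ((t : ℕ), (i : ℕ))
      rw [Matrix.GeneralLinearGroup.coe_mul, hzv, hgv, smul_mul_assoc, one_mul, hcolval]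
  refine ⟨(Nat.card_congr (Equiv.ofBijective Ψ hΨ)).trans hcardv, fun v w hv hw => ?_⟩
  obtain ⟨gv, hgv⟩ := hΨ.2 ⟨v, hv⟩
  obtain ⟨gw, hgw⟩ := hΨ.2 ⟨w, hw⟩
  have hgv' : act gv e₁ = v := congrArg Subtype.val hgv
  have hgw' : act gw e₁ = w := congrArg Subtype.val hgw
  refine ⟨gw * gv⁻¹, ?_, fun h hh => ?_⟩
  · show act (gw * gv⁻¹) v = w
    rw [← hgv', ← hactmul, inv_mul_cancel_right, hgw']
  · have h1 : h * gv = gw := hΨ.1 (Subtype.ext (by
      show act (h * gv) e₁ = act gw e₁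
      rw [hactmul, hgv', hgw']; exact hh))
    rw [← h1, mul_inv_cancel_right]

end CfsgLib.RegularGL2
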