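/-
Linear groups regular on the non-zero vectors: maximal normal abelian subgroups.
-/
import Mathlib

set_option autoImplicit false
set_option linter.style.haveILetI false

open Module

namespace CfsgLib.RegularLinear

variable {p : ℕ} [Fact p.Prime] {V : Type*} [AddCommGroup V] [Module (ZMod p) V] [Finite V]

/-- `W` is invariant under `A`. -/
def Inv (H : Subgroup (V ≃ₗ[ZMod p] V)) (A : Subgroup H) (W : Submodule (ZMod p) V) : Prop :=
  ∀ a ∈ A, ∀ v ∈ W, ((a : H) : V ≃ₗ[ZMod p] V) v ∈ W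

variable (H : Subgroup (V ≃ₗ[ZMod p] V)) (A : Subgroup H)

theorem eq_one_of_fix (hreg : ∀ v w : V, v ≠ 0 → w ≠ 0 → ∃! h : H, (h : V ≃ₗ[ZMod p] V) v = w)
    {h : H} {v : V} (hv : v ≠ 0) (hf : (h : V ≃ₗ[ZMod p] V) v = v) : h = 1 :=
  (hreg v v hv hv).unique hf rfl

/-- An abelian subgroup acting fixed-point-freely is cyclic, of order dividing `p ^ d - 1` for the
dimension `d` of a minimal invariant subspace. -/
theorem cyclic_of_minimal (hreg : ∀ v w : V, v ≠ 0 → w ≠ 0 → ∃! h : H, (h : V ≃ₗ[ZMod p] V) v = w)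
    (hAc : IsMulCommutative A) (W : Submodule (ZMod p) V) (hW : W ≠ ⊥) (hWi : Inv H A W)
    (hWmin : ∀ W' : Submodule (ZMod p) V, W' ≤ W → Inv H A W' → W' = ⊥ ∨ W' = W) :
    IsCyclic A ∧ Nat.card A ∣ p ^ finrank (ZMod p) W - 1 := by
  classical
  let ρ : A →* Module.End (ZMod p) W :=
    { toFun := fun a => (((a : H) : V ≃ₗ[ZMod p] V).toLinearMap).restrict (fun v hv => hWi a a.2 v hv)
      map_one' := by ext v; rfl
      map_mul' := fun a b => by ext v; rfl }
  have hρ : ∀ (a : A) (v : W), ((ρ a v : W) : V) = ((a : H) : V ≃ₗ[ZMod p] V) v := fun _ _ => rfl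
  have hρinj : Function.Injective ρ := by
    rw [injective_iff_map_eq_one]
    intro a ha
    obtain ⟨w, hw, hw0⟩ := (Submodule.ne_bot_iff W).mp hW
    refine Subtype.ext (eq_one_of_fix H hreg hw0 ?_)
    rw [← hρ a ⟨w, hw⟩, ha]
    rfl
  let R : Subalgebra (ZMod p) (Module.End (ZMod p) W) := Algebra.adjoin (ZMod p) (Set.range ρ)
  have hcomm : ∀ x ∈ R, ∀ y ∈ R, x * y = y * x := by
    intro x hx y hy
    refine Algebra.commute_of_mem_adjoin_of_forall_mem_commute hy ?_
    rintro _ ⟨b, rfl⟩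
    refine (Algebra.commute_of_mem_adjoin_of_forall_mem_commute hx ?_).symm
    rintro _ ⟨a, rfl⟩
    show ρ b * ρ a = ρ a * ρ b
    rw [← map_mul, ← map_mul, hAc.is_comm.comm]
  -- the non-zero elements are bijective
  have hinv : ∀ x ∈ R, x ≠ 0 → Function.Injective x := by
    intro x hx hx0
    rw [← LinearMap.ker_eq_bot]
    rcases hWmin ((LinearMap.ker x).map W.subtype) (Submodule.map_subtype_le W _) (fun a ha v hv => by
      obtain ⟨u, hu, rfl⟩ := hv
      refine ⟨ρ ⟨a, ha⟩ u, ?_, rfl⟩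
      have := DFunLike.congr_fun (hcomm x hx (ρ ⟨a, ha⟩) (Algebra.subset_adjoin ⟨_, rfl⟩)) u
      simp only [Module.End.mul_apply] at this
      rw [SetLike.mem_coe, LinearMap.mem_ker] at hu ⊢
      rw [this, hu, map_zero]) with h | h
    · exact Submodule.map_injective_of_injective W.injective_subtype (h.trans (Submodule.map_bot _).symm)
    · exfalso
      refine hx0 (LinearMap.ext fun u => ?_)
      obtain ⟨u', hu', he⟩ : (u : V) ∈ (LinearMap.ker x).map W.subtype := by rw [h]; exact u.2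
      rw [show u = u' from Subtype.ext he.symm]
      exact hu'
  haveI : Finite (Module.End (ZMod p) W) := Finite.of_injective _ DFunLike.coe_injective
  haveI : Fintype R := Fintype.ofFinite R
  haveI : Nontrivial W := Submodule.nontrivial_iff_ne_bot.mpr hW
  letI : CommRing R := { (inferInstance : Ring R) with mul_comm := fun a b => Subtype.ext (hcomm a a.2 b b.2) }
  haveI : NoZeroDivisors R := ⟨fun {a b} h => by
    by_contra hcon
    push Not at hcon
    obtain ⟨u, hu⟩ := exists_ne (0 : W)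
    have h' : (a : Module.End (ZMod p) W) ((b : Module.End (ZMod p) W) u) = 0 := by
      rw [← Module.End.mul_apply, ← Subalgebra.coe_mul, h]; rfl
    have ha := hinv a a.2 fun e => hcon.1 (Subtype.ext e)
    have hb := hinv b b.2 fun e => hcon.2 (Subtype.ext e)
    exact hu (hb ((ha (h'.trans (map_zero _).symm)).trans (map_zero _).symm))⟩
  haveI : IsDomain R := NoZeroDivisors.to_isDomain R
  let f : A →* R :=
    { toFun := fun a => ⟨ρ a, Algebra.subset_adjoin ⟨a, rfl⟩⟩
      map_one' := Subtype.ext (map_one ρ)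
      map_mul' := fun a b => Subtype.ext (map_mul ρ a b) }
  have hfinj : Function.Injective f := fun a b h => hρinj (congrArg Subtype.val h)
  haveI : Finite A := Finite.of_injective f hfinj
  refine ⟨isCyclic_of_subgroup_isDomain f hfinj, ?_⟩
  obtain ⟨w, hw⟩ := exists_ne (0 : W)
  have hev : Function.Bijective (fun x : R => (x : Module.End (ZMod p) W) w) := by
    refine ⟨fun x y h => ?_, fun v => ?_⟩
    · by_contra hne
      have h' : ((x - y : R) : Module.End (ZMod p) W) w = 0 := by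
        simp only at h
        simp [h]
      exact hw (hinv _ (x - y).2 (fun e => hne (sub_eq_zero.mp (Subtype.ext e)))
        (h'.trans (map_zero _).symm))
    · let U : Submodule (ZMod p) W := R.toSubmodule.map (LinearMap.applyₗ w)
      rcases hWmin (U.map W.subtype) (Submodule.map_subtype_le W _) (fun a ha v hv => by
        obtain ⟨u, ⟨r, hr, rfl⟩, rfl⟩ := hv
        exact ⟨_, ⟨ρ ⟨a, ha⟩ * r, R.mul_mem (Algebra.subset_adjoin ⟨_, rfl⟩) hr, rfl⟩, rfl⟩) with h | h
      · exfalso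
        refine hw (Subtype.ext ?_)
        have : (w : V) ∈ U.map W.subtype := ⟨w, ⟨1, R.one_mem, rfl⟩, rfl⟩
        rwa [h, Submodule.mem_bot] at this
      · obtain ⟨u, ⟨r, hr, rfl⟩, he⟩ : (v : V) ∈ U.map W.subtype := by rw [h]; exact v.2
        exact ⟨⟨r, hr⟩, Subtype.ext he⟩
  have hcard : Fintype.card R = p ^ finrank (ZMod p) W := by
    haveI := Fintype.ofFinite W
    rw [Fintype.card_congr (Equiv.ofBijective _ hev), Module.card_eq_pow_finrank (K := ZMod p),
      ZMod.card]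
  letI : Field R := Fintype.fieldOfDomain R
  have h1 : Nat.card A ∣ Nat.card Rˣ :=
    Subgroup.card_dvd_of_injective f.toHomUnits (fun a b h => hfinj (congrArg Units.val h))
  rwa [Nat.card_units, Nat.card_eq_fintype_card (α := R), hcard] at h1

/-- Existence of a minimal invariant subspace inside a given one. -/
theorem exists_minimal (W₀ : Submodule (ZMod p) V) (h₀ : W₀ ≠ ⊥) (hi : Inv H A W₀) :
    ∃ W ≤ W₀, W ≠ ⊥ ∧ Inv H A W ∧ ∀ W', W' ≤ W → Inv H A W' → W' = ⊥ ∨ W' = W := by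
  obtain ⟨W, ⟨hle, hne, hWi⟩, hmin⟩ := Set.Finite.exists_minimalFor id
    {W : Submodule (ZMod p) V | W ≤ W₀ ∧ W ≠ ⊥ ∧ Inv H A W} (Set.toFinite _) ⟨W₀, le_rfl, h₀, hi⟩
  refine ⟨W, hle, hne, hWi, fun W' hW' hi' => ?_⟩
  by_cases h : W' = ⊥
  · exact .inl h
  · exact .inr (le_antisymm hW' (hmin (j := W') ⟨hW'.trans hle, h, hi'⟩ hW'))

theorem isCyclic_and_reducible [Nontrivial V] (hreg : ∀ v w : V, v ≠ 0 → w ≠ 0 → ∃! h : H, (h : V ≃ₗ[ZMod p] V) v = w)
    (hI : ∀ A : Subgroup H, A.Normal → IsCyclic A → ∃ W : Submodule (ZMod p) V, W ≠ ⊥ ∧ W ≠ ⊤ ∧ Inv H A W)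
    (hAn : A.Normal) (hAc : IsMulCommutative A) :
    IsCyclic A ∧ ∃ W : Submodule (ZMod p) V, W ≠ ⊥ ∧ W ≠ ⊤ ∧ Inv H A W ∧
      (∀ W', W' ≤ W → Inv H A W' → W' = ⊥ ∨ W' = W) ∧ Nat.card A ∣ p ^ finrank (ZMod p) W - 1 := by
  obtain ⟨W₁, -, hne₁, hi₁, hmin₁⟩ := exists_minimal H A ⊤ top_ne_bot (fun _ _ _ _ => trivial)
  have hc := (cyclic_of_minimal H A hreg hAc W₁ hne₁ hi₁ hmin₁).1
  obtain ⟨W₀, h₀, htop, hi₀⟩ := hI A hAn hc
  obtain ⟨W, hle, hne, hi, hmin⟩ := exists_minimal H A W₀ h₀ hi₀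
  exact ⟨hc, W, hne, fun h => htop (eq_top_iff.mpr (h ▸ hle)), hi, hmin,
    (cyclic_of_minimal H A hreg hAc W hne hi hmin).2⟩

theorem centralizer_ne [Nontrivial V]
    (hreg : ∀ v w : V, v ≠ 0 → w ≠ 0 → ∃! h : H, (h : V ≃ₗ[ZMod p] V) v = w)
    (hI : ∀ A : Subgroup H, A.Normal → IsCyclic A → ∃ W : Submodule (ZMod p) V, W ≠ ⊥ ∧ W ≠ ⊤ ∧ Inv H A W)
    (hAn : A.Normal) (hAc : IsMulCommutative A) :
    Subgroup.centralizer (A : Set H) ≠ A := by
  classical
  intro hCA
  obtain ⟨hc, W, hne, htop, hi, hmin, hdvd⟩ := isCyclic_and_reducible H A hreg hI hAn hAc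
  haveI : Finite H := Finite.of_injective (fun h : H => ((h : V ≃ₗ[ZMod p] V) : V → V))
    fun a b h => Subtype.ext (LinearEquiv.ext fun v => congrFun h v)
  set d := finrank (ZMod p) W with hd
  set n := finrank (ZMod p) V with hn
  have hp2 := (Fact.out : p.Prime).two_le
  -- translate `W` away from itself
  obtain ⟨w, hw, hw0⟩ := (Submodule.ne_bot_iff W).mp hne
  obtain ⟨v, hv⟩ : ∃ v, v ∉ W := by
    by_contra h; push Not at h; exact htop (eq_top_iff.mpr fun x _ => h x)
  obtain ⟨h, hh, -⟩ := hreg w v hw0 (fun e => hv (e ▸ W.zero_mem))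
  let W' : Submodule (ZMod p) V := W.map (h : V ≃ₗ[ZMod p] V).toLinearMap
  have hi' : Inv H A W' := by
    rintro a ha _ ⟨u, hu, rfl⟩
    refine ⟨_, hi (h⁻¹ * a * h) ?_ u hu, ?_⟩
    · simpa using hAn.conj_mem a ha h⁻¹
    · show ((h * (h⁻¹ * a * h) : H) : V ≃ₗ[ZMod p] V) u = ((a * h : H) : V ≃ₗ[ZMod p] V) u
      congr 2
      simp [mul_assoc]
  have hdisj : W ⊓ W' = ⊥ := by
    refine (hmin _ inf_le_left fun a ha u hu => ⟨hi a ha u hu.1, hi' a ha u hu.2⟩).resolve_right
      fun he => ?_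
    have hle : W ≤ W' := inf_eq_left.mp he
    have heq : W = W' := Submodule.eq_of_le_of_finrank_le hle
      (by rw [show finrank (ZMod p) W' = d from LinearEquiv.finrank_map_eq _ W])
    exact hv (heq ▸ ⟨w, hw, hh⟩)
  have h2d : 2 * d ≤ n := by
    have h1 := Submodule.finrank_sup_add_finrank_inf_eq W W'
    rw [hdisj, finrank_bot, show finrank (ZMod p) W' = d from LinearEquiv.finrank_map_eq _ W,
      ← hd] at h1
    have h2 := Submodule.finrank_le (W ⊔ W')
    omega
  have hd1 : 1 ≤ d := Submodule.one_le_finrank_iff.mpr hne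
  -- orders
  have hH : Nat.card H = p ^ n - 1 := by
    obtain ⟨x, hx⟩ := exists_ne (0 : V)
    have hb : Function.Bijective (fun g : H => (⟨(g : V ≃ₗ[ZMod p] V) x, by simp [hx]⟩ : {y : V // y ≠ 0})) := by
      refine ⟨fun g g' e => ?_, fun y => ?_⟩
      · exact (hreg x ((g : V ≃ₗ[ZMod p] V) x) hx (by simp [hx])).unique rfl
          (congrArg Subtype.val e).symm
      · exact ⟨(hreg x y hx y.2).exists.choose, Subtype.ext (hreg x y hx y.2).exists.choose_spec⟩
    haveI := Fintype.ofFinite V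
    rw [Nat.card_congr (Equiv.ofBijective _ hb), Nat.card_eq_fintype_card, Fintype.card_subtype_compl,
      Fintype.card_subtype_eq, Module.card_eq_pow_finrank (K := ZMod p), ZMod.card]
  obtain ⟨a, ha⟩ := hc.exists_generator
  -- cosets of `A` are determined by the conjugate of the generator
  have hidx : A.index ≤ Nat.card A := by
    refine Nat.card_le_card_of_injective
      (fun q : H ⧸ A => (⟨q.out * (a : H) * q.out⁻¹, hAn.conj_mem _ a.2 _⟩ : A)) fun q q' e => ?_
    have e' : q.out * (a : H) * q.out⁻¹ = q'.out * (a : H) * q'.out⁻¹ := congrArg Subtype.val e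
    have hmem : q.out⁻¹ * q'.out ∈ A := by
      refine hCA.le (Subgroup.mem_centralizer_iff.mpr ?_)
      intro b hb
      obtain ⟨k, hk⟩ := ha ⟨b, hb⟩
      have hca : Commute (a : H) (q.out⁻¹ * q'.out) := by
        show (a : H) * (q.out⁻¹ * q'.out) = (q.out⁻¹ * q'.out) * a
        calc (a : H) * (q.out⁻¹ * q'.out) = q.out⁻¹ * (q.out * a * q.out⁻¹) * q'.out := by group
          _ = q.out⁻¹ * (q'.out * a * q'.out⁻¹) * q'.out := by rw [e']
          _ = (q.out⁻¹ * q'.out) * a := by group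
      have : b = (a : H) ^ k := by
        rw [← Subgroup.coe_zpow]; exact (congrArg Subtype.val hk).symm
      rw [this]
      exact (hca.zpow_left k).eq
    rw [← q.out_eq', ← q'.out_eq']
    exact QuotientGroup.eq.mpr hmem
  have hA : Nat.card A ≤ p ^ d - 1 := Nat.le_of_dvd (by
    have : p ^ 1 ≤ p ^ d := Nat.pow_le_pow_right (by omega) hd1
    rw [pow_one] at this
    omega) hdvd
  have hmul := A.card_mul_index
  rw [hH] at hmul
  have h3 : p ^ d * p ^ d ≤ p ^ n := by
    rw [← pow_add]; exact Nat.pow_le_pow_right (by omega) (by omega)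
  have h4 : Nat.card A * A.index ≤ (p ^ d - 1) * (p ^ d - 1) :=
    Nat.mul_le_mul hA (hidx.trans hA)
  have h5 : p ^ 1 ≤ p ^ d := Nat.pow_le_pow_right (by omega) hd1
  rw [pow_one] at h5
  obtain ⟨s, hs⟩ : ∃ s, p ^ d = s + 1 := ⟨p ^ d - 1, by omega⟩
  rw [hs] at h3 h4
  simp only [Nat.add_sub_cancel] at h4
  nlinarith [Nat.sub_add_cancel (show 1 ≤ p ^ n from Nat.one_le_pow _ _ (by omega))]

end CfsgLib.RegularLinear
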