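import Cfsg.Agent.Lib.TransLinear.Transitive

/-!
Odd order groups of linear maps that are transitive up to sign on the nonzero vectors are
semilinear over a finite field.
-/

set_option autoImplicit false
set_option linter.style.haveILetI false
set_option linter.unusedSimpArgs false

namespace CfsgLib.SignTransitive

variable {p f : ℕ} [Fact p.Prime] {V : Type*} [AddCommGroup V] [Module (ZMod p) V] [Finite V]
  [Nontrivial V] {K : Type*} [Group K] [Finite K]

/-- The linear form. -/
theorem exists_field_linear [Group.IsSolvable K] (hp2 : p ≠ 2) (hV : Nat.card V = p ^ f)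
    (hmod : p ^ f % 4 = 3) (hodd : Odd (Nat.card K)) (c : K →* (V ≃ₗ[ZMod p] V))
    (hinj : Function.Injective c)
    (htr : ∀ v w : V, v ≠ 0 → w ≠ 0 → ∃ k, c k v = w ∨ c k v = -w) :
    ∃ e : V ≃+ GaloisField p f, ∀ k : K, ∃ (a : (GaloisField p f)ˣ)
      (σ : GaloisField p f ≃+* GaloisField p f), ∀ v : V, e (c k v) = (a : GaloisField p f) * σ (e v) := by
  classical
  have hf0 : f ≠ 0 := fun h => by subst h; simp at hmod
  let sgn : ℤˣ →* (V ≃ₗ[ZMod p] V) :=
    { toFun := fun u => if u = 1 then LinearEquiv.refl (ZMod p) V else LinearEquiv.neg (ZMod p)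
      map_one' := if_pos rfl
      map_mul' := fun u v => by
        rcases Int.units_eq_one_or u with rfl | rfl <;> rcases Int.units_eq_one_or v with rfl | rfl <;>
          (ext x; simp) }
  have hsgn : ∀ (u : ℤˣ) (g : V ≃ₗ[ZMod p] V), Commute (sgn u) g := fun u g => by
    rcases Int.units_eq_one_or u with rfl | rfl
    · rw [map_one]; exact Commute.one_left g
    · refine LinearEquiv.ext fun x => ?_
      simp [sgn]
  let ρ : K × ℤˣ →* (V ≃ₗ[ZMod p] V) := MonoidHom.mk' (fun gu => sgn gu.2 * c gu.1) fun g h => by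
    show sgn (g.2 * h.2) * c (g.1 * h.1) = sgn g.2 * c g.1 * (sgn h.2 * c h.1)
    rw [map_mul, map_mul, mul_assoc, mul_assoc, ← mul_assoc (sgn h.2), (hsgn h.2 (c g.1)).eq, mul_assoc]
  have hρ1 : ∀ (g : K) (x : V), ρ (g, 1) x = c g x := fun g x => by
    simp [ρ]
  have hρ2 : ∀ (g : K) (x : V), ρ (g, -1) x = -c g x := fun g x => by
    simp [ρ, sgn]
  have hρinj : Function.Injective ρ := by
    refine (injective_iff_map_eq_one ρ).mpr ?_
    rintro ⟨g, u⟩ h
    have hx : ∀ x : V, ρ (g, u) x = x := fun x => by rw [h]; rfl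
    rcases Int.units_eq_one_or u with rfl | rfl
    · have : c g = 1 := LinearEquiv.ext fun x => by rw [← hρ1, hx]; rfl
      rw [(injective_iff_map_eq_one c).mp hinj g this]; rfl
    · exfalso
      have hneg : c g = sgn (-1) := LinearEquiv.ext fun x => by
        have h1 := hρ2 g x
        rw [hx] at h1
        calc c g x = -(-c g x) := (neg_neg _).symm
          _ = -x := by rw [← h1]
          _ = sgn (-1) x := by simp [sgn]
      obtain ⟨k, hk⟩ := hodd.of_dvd_nat (orderOf_dvd_natCard g)
      have h2 := congrArg c (pow_orderOf_eq_one g)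
      rw [map_pow, map_one, hneg, ← map_pow, hk, pow_succ, pow_mul, Int.units_sq, one_pow, one_mul] at h2
      obtain ⟨x, hx0⟩ := exists_ne (0 : V)
      have h5 := LinearEquiv.congr_fun h2 x
      have h6 : (2 : ZMod p) • x = 0 := by
        have : -x = x := by simpa [sgn] using h5
        rw [two_smul]
        calc x + x = -x + x := by rw [this]
          _ = 0 := neg_add_cancel x
      have h20 : (2 : ZMod p) = 0 := (smul_eq_zero.mp h6).resolve_right hx0
      have : p ∣ 2 := (ZMod.natCast_eq_zero_iff 2 p).mp (by exact_mod_cast h20)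
      exact hp2 ((Nat.prime_dvd_prime_iff_eq Fact.out Nat.prime_two).mp this)
  have htrans : ∀ v w : V, v ≠ 0 → w ≠ 0 → ∃ g, ρ g v = w := by
    intro v w hv hw
    obtain ⟨k, hk | hk⟩ := htr v w hv hw
    · exact ⟨(k, 1), by rw [hρ1, hk]⟩
    · exact ⟨(k, -1), by rw [hρ2, hk, neg_neg]⟩
  rcases CfsgLib.TransLinear.transitive_main (ρ := ρ) hρinj htrans with ⟨F, _, _, e, he⟩ | hsmall
  swap
  · exfalso
    rw [hV] at hsmall
    simp only [Set.mem_insert_iff, Set.mem_singleton_iff] at hsmall
    rcases hsmall with h | h | h | h | h | h <;> omega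
  have hF : Fintype.card F = p ^ f := by
    rw [← Nat.card_eq_fintype_card, ← Nat.card_congr e.toEquiv]; exact hV
  haveI : Fintype (GaloisField p f) := Fintype.ofFinite _
  let iso : F ≃+* GaloisField p f := FiniteField.ringEquivOfCardEq (K := F) (K' := GaloisField p f) (by
    rw [hF, ← Nat.card_eq_fintype_card, GaloisField.card p f hf0])
  refine ⟨e.trans iso.toAddEquiv, fun k => ?_⟩
  obtain ⟨a, σ, haσ⟩ := he (k, 1)
  have ha : a ≠ 0 := by
    rintro rfl
    obtain ⟨x, hx0⟩ := exists_ne (0 : V)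
    refine hx0 ((c k).injective (e.injective ?_))
    rw [← hρ1, haσ, zero_mul, map_zero, map_zero]
  refine ⟨Units.mk0 (iso a) (fun h => ha (iso.injective (h.trans (map_zero iso).symm))),
    iso.symm.trans (σ.trans iso), fun v => ?_⟩
  show iso (e (c k v)) = iso a * iso (σ (iso.symm (iso (e v))))
  rw [← hρ1, haσ, map_mul, RingEquiv.symm_apply_apply]

/-- The additive form. -/
theorem exists_field [Group.IsSolvable K] {W : Type*} [AddCommGroup W] [Finite W] [Nontrivial W]
    (hexp : ∀ w : W, p • w = 0) (hp2 : p ≠ 2) (hW : Nat.card W = p ^ f) (hmod : p ^ f % 4 = 3)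
    (hodd : Odd (Nat.card K)) (c : K → W ≃+ W) (hmul : ∀ g h w, c (g * h) w = c g (c h w))
    (hinj : ∀ k, (∀ w, c k w = w) → k = 1)
    (htr : ∀ v w : W, v ≠ 0 → w ≠ 0 → ∃ k, c k v = w ∨ c k v = -w) :
    ∃ e : W ≃+ GaloisField p f, ∀ k : K, ∃ (a : (GaloisField p f)ˣ)
      (σ : GaloisField p f ≃+* GaloisField p f), ∀ v : W, e (c k v) = (a : GaloisField p f) * σ (e v) := by
  haveI : Module (ZMod p) W := AddCommGroup.zmodModule hexp
  let cl : K → (W ≃ₗ[ZMod p] W) := fun k =>
    (c k).toLinearEquiv fun r x => ZMod.map_smul (c k).toAddMonoidHom r x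
  let C : K →* (W ≃ₗ[ZMod p] W) := MonoidHom.mk' cl fun g h => LinearEquiv.ext fun w => hmul g h w
  refine exists_field_linear hp2 hW hmod hodd C ((injective_iff_map_eq_one C).mpr fun k hk => ?_) htr
  exact hinj k fun w => LinearEquiv.congr_fun hk w

end CfsgLib.SignTransitive
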