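import Mathlib

/-!
Powers of a non-abelian simple group: automorphisms permute the factors, and subdirect subgroups
are diagonal over a partition of the factors (Scott's lemma).
-/

set_option autoImplicit false
set_option linter.style.haveILetI false

namespace CfsgLib.SubdirectSimple

variable {ι T : Type*} [Finite ι] [Group T] [IsSimpleGroup T]

theorem exists_not_commute (hT : ¬ IsMulCommutative T) {u : T} (hu : u ≠ 1) :
    ∃ t : T, t * u ≠ u * t := by
  by_contra! h
  have hmem : u ∈ Subgroup.center T := Subgroup.mem_center_iff.mpr h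
  rcases (inferInstance : (Subgroup.center T).Normal).eq_bot_or_eq_top with hc | hc
  · rw [hc, Subgroup.mem_bot] at hmem
    exact hu hmem
  · exact hT ⟨⟨fun a b => (Subgroup.mem_center_iff.mp (hc ▸ Subgroup.mem_top b : b ∈ Subgroup.center T) a)⟩⟩

omit [Finite ι] in
/-- A nontrivial normal subgroup of `ι → T` contains a factor. -/
theorem exists_single_mem [DecidableEq ι] (hT : ¬ IsMulCommutative T) {M : Subgroup (ι → T)} (hM : M.Normal)
    {x : ι → T} (hx : x ∈ M) {i : ι} (hxi : x i ≠ 1) (t : T) : Pi.mulSingle i t ∈ M := by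
  let A : Subgroup T := M.comap (MonoidHom.mulSingle (fun _ : ι => T) i)
  have hA : A.Normal := hM.comap _
  obtain ⟨u, hu⟩ := exists_not_commute hT hxi
  have hc : u * x i * u⁻¹ * (x i)⁻¹ ∈ A := by
    show Pi.mulSingle i (u * x i * u⁻¹ * (x i)⁻¹) ∈ M
    have h1 := M.mul_mem (hM.conj_mem x hx (Pi.mulSingle i u)) (M.inv_mem hx)
    convert h1 using 1
    funext j
    by_cases hj : j = i
    · subst hj; simp
    · simp [Pi.mulSingle_eq_of_ne hj]
  rcases hA.eq_bot_or_eq_top with h | h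
  · rw [h, Subgroup.mem_bot, mul_inv_eq_one, mul_inv_eq_iff_eq_mul] at hc
    exact absurd hc hu
  · exact (h ▸ Subgroup.mem_top t : t ∈ A)

/-- An automorphism of `ι → T` permutes the factors. -/
theorem exists_factor_map [DecidableEq ι] (hT : ¬ IsMulCommutative T) (φ : (ι → T) ≃* (ι → T)) :
    ∃ σ : ι → ι, ∃ α : ι → T →* T,
      (∀ i, Function.Surjective (α i)) ∧
        ∀ (i : ι) (x : ι → T), φ x (σ i) = α i (x i) := by
  obtain ⟨t₀, ht₀⟩ := exists_ne (1 : T)
  have key : ∀ i, ∃ j, ∀ u, ∃ t, φ (Pi.mulSingle i t) = Pi.mulSingle j u := by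
    intro i
    let F : Subgroup (ι → T) := ((MonoidHom.mulSingle (fun _ : ι => T) i).range).map φ.toMonoidHom
    have hFn : F.Normal := by
      refine Subgroup.Normal.map ⟨?_⟩ _ φ.surjective
      rintro _ ⟨t, rfl⟩ g
      refine ⟨g i * t * (g i)⁻¹, funext fun j => ?_⟩
      by_cases hj : j = i
      · subst hj; simp
      · simp [Pi.mulSingle_eq_of_ne hj]
    have hne : φ (Pi.mulSingle i t₀) ≠ 1 := by
      rw [Ne, map_eq_one_iff φ φ.injective, Pi.mulSingle_eq_one_iff]; exact ht₀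
    obtain ⟨j, hj⟩ := Function.ne_iff.mp hne
    refine ⟨j, fun u => ?_⟩
    obtain ⟨_, ⟨t, rfl⟩, ht⟩ :=
      exists_single_mem hT hFn (x := φ (Pi.mulSingle i t₀)) ⟨_, ⟨t₀, rfl⟩, rfl⟩ hj u
    exact ⟨t, ht⟩
  choose σ hσ using key
  refine ⟨σ, fun i => ((Pi.evalMonoidHom (fun _ : ι => T) (σ i)).comp
    φ.toMonoidHom).comp (MonoidHom.mulSingle (fun _ : ι => T) i), fun i u => ?_, fun i x => ?_⟩
  · obtain ⟨t, ht⟩ := hσ i u
    exact ⟨t, by simp [ht]⟩
  · set y : ι → T := x * (Pi.mulSingle i (x i))⁻¹ with hy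
    have hyi : y i = 1 := by simp [hy]
    have hcomm : ∀ u : T, u * φ y (σ i) = φ y (σ i) * u := by
      intro u
      obtain ⟨t, ht⟩ := hσ i u
      have h1 : Pi.mulSingle i t * y = y * Pi.mulSingle i t := by
        funext j
        by_cases hj : j = i
        · subst hj; simp [hyi]
        · simp [Pi.mulSingle_eq_of_ne hj]
      have h2 := congrFun (congrArg φ h1) (σ i)
      simpa [map_mul, ht] using h2
    have hy1 : φ y (σ i) = 1 := by
      by_contra hne
      obtain ⟨u, hu⟩ := exists_not_commute hT hne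
      exact hu (hcomm u)
    have hx : φ x = φ y * φ (Pi.mulSingle i (x i)) := by rw [← map_mul, hy, inv_mul_cancel_right]
    rw [hx, Pi.mul_apply, hy1, one_mul]
    rfl

theorem factor_map_unique [DecidableEq ι] {φ : (ι → T) ≃* (ι → T)} {σ τ : ι → ι}
    {α β : ι → T →* T} (hσi : Function.Injective σ) (hα : ∀ i, Function.Surjective (α i))
    (h : ∀ (i : ι) (x : ι → T), φ x (σ i) = α i (x i))
    (h' : ∀ (i : ι) (x : ι → T), φ x (τ i) = β i (x i)) (hβ : ∀ i, Function.Surjective (β i)) :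
    σ = τ := by
  funext i
  obtain ⟨u, hu⟩ := exists_ne (1 : T)
  obtain ⟨t, ht⟩ := hβ i u
  obtain ⟨k, hk⟩ := Finite.surjective_of_injective hσi (τ i)
  have h1 := h k (Pi.mulSingle i t)
  rw [hk, h', Pi.mulSingle_eq_same, ht] at h1
  by_cases hki : k = i
  · rw [← hk, hki]
  · rw [Pi.mulSingle_eq_of_ne hki, map_one] at h1
    exact absurd h1 hu

omit [Finite ι] in
theorem factor_map_injective [DecidableEq ι] {φ : (ι → T) ≃* (ι → T)} {σ : ι → ι}
    {α : ι → T →* T} (hα : ∀ i, Function.Surjective (α i))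
    (h : ∀ (i : ι) (x : ι → T), φ x (σ i) = α i (x i)) : Function.Injective σ := by
  intro i j hij
  by_contra hne
  obtain ⟨u, hu⟩ := exists_ne (1 : T)
  obtain ⟨t, ht⟩ := hα i u
  have h1 := h i (Pi.mulSingle i t)
  have h2 := h j (Pi.mulSingle i t)
  rw [hij, h2, Pi.mulSingle_eq_same, ht, Pi.mulSingle_eq_of_ne (Ne.symm hne), map_one] at h1
  exact hu h1.symm

variable {D : Subgroup (ι → T)}

omit [Finite ι] in
theorem ker_incl_symm (hD : ∀ i, ∀ t : T, ∃ x ∈ D, x i = t) {i j : ι}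
    (h : ∀ x ∈ D, x i = 1 → x j = 1) : ∀ x ∈ D, x j = 1 → x i = 1 := by
  intro x hx hxj
  let B : Subgroup T :=
    (D ⊓ (Pi.evalMonoidHom (fun _ : ι => T) j).ker).map (Pi.evalMonoidHom (fun _ : ι => T) i)
  have hxB : x i ∈ B := ⟨x, ⟨hx, hxj⟩, rfl⟩
  have hB : B.Normal := by
    refine ⟨?_⟩
    rintro _ ⟨y, ⟨hy, hyj⟩, rfl⟩ u
    obtain ⟨d, hd, rfl⟩ := hD i u
    have hyj' : y j = 1 := hyj
    refine ⟨d * y * d⁻¹, ⟨D.mul_mem (D.mul_mem hd hy) (D.inv_mem hd), ?_⟩, rfl⟩
    show (d * y * d⁻¹) j = 1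
    simp [hyj']
  rcases hB.eq_bot_or_eq_top with h1 | h1
  · rwa [h1, Subgroup.mem_bot] at hxB
  · exfalso
    obtain ⟨u, hu⟩ := exists_ne (1 : T)
    obtain ⟨d, hd, hdj⟩ := hD j u
    obtain ⟨y, ⟨hy, hyj⟩, hyi⟩ := (h1 ▸ Subgroup.mem_top (d i) : d i ∈ B)
    have hyj' : y j = 1 := hyj
    have hyi' : y i = d i := hyi
    have := h (y⁻¹ * d) (D.mul_mem (D.inv_mem hy) hd) (by simp [hyi'])
    simp [hyj', hdj] at this
    exact hu this

omit [Finite ι] in
/-- With pairwise distinct kernels on `R`, the projection to `R` is onto. -/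
theorem exists_isolating (hT : ¬ IsMulCommutative T) (hD : ∀ i, ∀ t : T, ∃ x ∈ D, x i = t)
    [DecidableEq ι] (i : ι) (S : Finset ι) (hS : ∀ j ∈ S, ∃ x ∈ D, x j = 1 ∧ x i ≠ 1) (t : T) :
    ∃ x ∈ D, (∀ j ∈ S, x j = 1) ∧ x i = t := by
  induction S using Finset.induction generalizing t with
  | empty =>
    obtain ⟨x, hx, hxi⟩ := hD i t
    exact ⟨x, hx, by simp, hxi⟩
  | insert j S hj ih =>
    have hS' : ∀ k ∈ S, ∃ x ∈ D, x k = 1 ∧ x i ≠ 1 := fun k hk => hS k (Finset.mem_insert_of_mem hk)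
    obtain ⟨y, hy, hyj, hyi⟩ := hS j (Finset.mem_insert_self j S)
    let K : Subgroup (ι → T) := D ⊓ ⨅ k ∈ insert j S, (Pi.evalMonoidHom (fun _ : ι => T) k).ker
    let A : Subgroup T := K.map (Pi.evalMonoidHom (fun _ : ι => T) i)
    have hA : A.Normal := by
      refine ⟨?_⟩
      rintro _ ⟨x, hx, rfl⟩ u
      obtain ⟨d, hd, rfl⟩ := hD i u
      simp only [K, SetLike.mem_coe, Subgroup.mem_inf, Subgroup.mem_iInf, MonoidHom.mem_ker,
        Pi.evalMonoidHom_apply] at hx
      refine ⟨d * x * d⁻¹, ?_, rfl⟩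
      simp only [K, SetLike.mem_coe, Subgroup.mem_inf, Subgroup.mem_iInf, MonoidHom.mem_ker,
        Pi.evalMonoidHom_apply]
      exact ⟨D.mul_mem (D.mul_mem hd hx.1) (D.inv_mem hd), fun k hk => by simp [hx.2 k hk]⟩
    rcases hA.eq_bot_or_eq_top with hA1 | hA1
    · exfalso
      obtain ⟨u, hu⟩ := exists_not_commute hT hyi
      obtain ⟨x, hx, hxS, hxi⟩ := ih hS' u
      have hmem : (x * y * x⁻¹ * y⁻¹) i ∈ A := by
        refine ⟨x * y * x⁻¹ * y⁻¹, ?_, rfl⟩
        simp only [K, SetLike.mem_coe, Subgroup.mem_inf, Subgroup.mem_iInf, MonoidHom.mem_ker,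
          Pi.evalMonoidHom_apply]
        refine ⟨D.mul_mem (D.mul_mem (D.mul_mem hx hy) (D.inv_mem hx)) (D.inv_mem hy), fun k hk => ?_⟩
        rcases Finset.mem_insert.mp hk with rfl | hk
        · simp [hyj]
        · simp [hxS k hk]
      rw [hA1, Subgroup.mem_bot] at hmem
      simp only [Pi.mul_apply, Pi.inv_apply, hxi, mul_inv_eq_iff_eq_mul, one_mul] at hmem
      exact hu hmem
    · obtain ⟨x, hx, hxi⟩ := (hA1 ▸ Subgroup.mem_top t : t ∈ A)
      simp only [K, SetLike.mem_coe, Subgroup.mem_inf, Subgroup.mem_iInf, MonoidHom.mem_ker,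
        Pi.evalMonoidHom_apply] at hx
      exact ⟨x, hx.1, hx.2, hxi⟩

/-- **Scott's lemma**: a subdirect subgroup is diagonal over a partition of the factors. -/
theorem exists_diagonal (hT : ¬ IsMulCommutative T) (hD : ∀ i, ∀ t : T, ∃ x ∈ D, x i = t) :
    ∃ (c : ι → ι) (θ : ι → T ≃* T),
      (∀ i, c (c i) = c i) ∧
      (∀ i j, c i = c j ↔ ∀ x ∈ D, x i = 1 → x j = 1) ∧
      ∀ x : ι → T, x ∈ D ↔ ∀ i, x i = θ i (x (c i)) := by
  classical
  let r : Setoid ι :=
    { r := fun i j => ∀ x ∈ D, x i = 1 → x j = 1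
      iseqv := ⟨fun _ _ _ h => h, fun h => ker_incl_symm hD h,
        fun h h' x hx hxi => h' x hx (h x hx hxi)⟩ }
  let c : ι → ι := fun i => (Quotient.mk r i).out
  have hc : ∀ i, r (c i) i := fun i => Quotient.mk_out (s := r) i
  have hcr : ∀ i j, c i = c j ↔ r i j := by
    intro i j
    refine ⟨fun h => ?_, fun h => ?_⟩
    · have h1 : r (c i) j := h ▸ hc j
      exact r.trans (r.symm (hc i)) h1
    · show (Quotient.mk r i).out = (Quotient.mk r j).out
      rw [Quotient.sound (show r i j from h)]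
  choose lift hlift hlift' using id hD
  have hθ : ∀ i, ∀ x ∈ D, ∀ y ∈ D, x (c i) = y (c i) → x i = y i := by
    intro i x hx y hy h
    have := hc i (x⁻¹ * y) (D.mul_mem (D.inv_mem hx) hy) (by simp [h])
    simpa [inv_mul_eq_one] using this
  have hθ' : ∀ i, ∀ x ∈ D, ∀ y ∈ D, x i = y i → x (c i) = y (c i) := by
    intro i x hx y hy h
    have := (r.symm (hc i)) (x⁻¹ * y) (D.mul_mem (D.inv_mem hx) hy) (by simp [h])
    simpa [inv_mul_eq_one] using this
  let f : ι → T →* T := fun i =>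
    { toFun := fun t => lift (c i) t i
      map_one' := by
        refine hθ i _ (hlift _ _) 1 D.one_mem ?_
        simp [hlift']
      map_mul' := fun s t => by
        refine hθ i _ (hlift _ _) (lift (c i) s * lift (c i) t)
          (D.mul_mem (hlift _ _) (hlift _ _)) ?_
        simp [hlift'] }
  have hf : ∀ i, ∀ x ∈ D, x i = f i (x (c i)) := fun i x hx =>
    hθ i x hx _ (hlift _ _) (hlift' _ _).symm
  have hbij : ∀ i, Function.Bijective (f i) := by
    intro i
    refine ⟨fun s t h => ?_, fun t => ⟨lift i t (c i), ?_⟩⟩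
    · have := hθ' i _ (hlift (c i) s) _ (hlift (c i) t) h
      rwa [hlift', hlift'] at this
    · rw [← hf i _ (hlift i t), hlift']
  refine ⟨c, fun i => MulEquiv.ofBijective (f i) (hbij i), fun i => ((hcr _ _).mpr (hc i)), hcr,
    fun x => ⟨fun hx i => hf i x hx, fun hx => ?_⟩⟩
  haveI := Fintype.ofFinite ι
  have hd : ∀ S : Finset ι, (∀ i ∈ S, c i = i) → ∃ d ∈ D, ∀ i, c i = i →
      d i = if i ∈ S then x i else 1 := by
    intro S
    induction S using Finset.induction with
    | empty => exact fun _ => ⟨1, D.one_mem, by simp⟩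
    | insert j S hj ih =>
      intro hS
      obtain ⟨d, hd, hdi⟩ := ih fun i hi => hS i (Finset.mem_insert_of_mem hi)
      obtain ⟨y, hy, hy1, hyj⟩ := exists_isolating hT (D := D)
        (fun i t => ⟨lift i t, hlift i t, hlift' i t⟩) j
        (Finset.univ.filter fun i => c i = i ∧ i ≠ j) (fun i hi => by
          simp only [Finset.mem_filter, Finset.mem_univ, true_and] at hi
          have : ¬ r i j := fun h => hi.2 (by
            have h2 := (hcr i j).mpr h
            rwa [hi.1, hS j (Finset.mem_insert_self j S)] at h2)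
          by_contra! h3
          exact this fun z hz hzi => h3 z hz hzi) (x j)
      refine ⟨d * y, D.mul_mem hd hy, fun i hi => ?_⟩
      rw [Pi.mul_apply, hdi i hi]
      by_cases hij : i = j
      · subst hij; simp [hj, hyj]
      · simp [hij, hy1 i (by simp [hi, hij])]
  obtain ⟨d, hd, hdi⟩ := hd (Finset.univ.filter fun i => c i = i) (by simp)
  have hxd : x = d := by
    funext i
    have hci : c (c i) = c i := (hcr _ _).mpr (hc i)
    have h1 := hdi (c i) hci
    simp [hci] at h1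
    rw [hx i, MulEquiv.ofBijective_apply, hf i d hd, h1]
  exact hxd ▸ hd

end CfsgLib.SubdirectSimple
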