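import Cfsg.Agent.Lib.Perm.AltOnSet
import Cfsg.Agent.Lib.Layer.Basic
import Cfsg.Agent.Lib.Classical.A8Subgroups

/-!
Permutation groups with quasisimple generalized Fitting subgroup containing a three cycle.
-/

set_option autoImplicit false
set_option linter.style.haveILetI false
set_option linter.unusedSectionVars false

namespace CfsgLib.ThreeCycleFStar

open Cfsg Equiv CfsgLib.AltOnSet

variable {α : Type*} [Fintype α] [DecidableEq α]

theorem apply_inv' (e : Perm α) (z : α) : e (e⁻¹ z) = z := e.apply_symm_apply z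

theorem inv_apply' (e : Perm α) (z : α) : e⁻¹ (e z) = z := e.symm_apply_apply z

/-- A perfect group acting on a set of at most four points fixes it pointwise. -/
theorem perfect_fix {E : Subgroup (Perm α)} [Group.IsPerfect E] {Δ : Finset α} (h4 : Δ.card ≤ 4)
    (hst : ∀ e ∈ E, ∀ z, e z ∈ Δ ↔ z ∈ Δ) {e : Perm α} (he : e ∈ E) {z : α} (hz : z ∈ Δ) : e z = z := by
  let f : E →* Perm ↥Δ :=
    { toFun := fun e => (e : Perm α).subtypePerm (hst e.1 e.2)
      map_one' := Equiv.ext fun _ => rfl
      map_mul' := fun _ _ => Equiv.ext fun _ => rfl }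
  have hcard : Nat.card f.range < 60 := by
    refine lt_of_le_of_lt (Subgroup.card_le_card_group f.range) ?_
    rw [Nat.card_eq_fintype_card, Fintype.card_perm, Fintype.card_coe]
    exact lt_of_le_of_lt (Nat.factorial_le h4) (by decide)
  haveI : Group.IsPerfect f.range := Group.IsPerfect.ofSurjective f.rangeRestrict_surjective
  haveI := CfsgLib.AEightSub.isSolvable_of_card_lt hcard
  have h1 : f.range = ⊥ := by
    by_contra hne
    haveI : Nontrivial f.range := (Subgroup.nontrivial_iff_ne_bot _).mpr hne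
    exact (Group.IsSolvable.commutator_lt_top_of_nontrivial f.range).ne Group.IsPerfect.commutator_eq_top
  have h2 : f ⟨e, he⟩ = 1 := Subgroup.mem_bot.mp (h1 ▸ ⟨_, rfl⟩)
  exact congrArg Subtype.val (congrArg (fun P : Perm ↥Δ => P ⟨z, hz⟩) h2)

/-- The structure. -/
theorem exists_alt (H : Subgroup (Perm α)) (hF : IsQuasisimple ↥(generalizedFittingSubgroup ↥H))
    {Δ₀ : Finset α} (hΔ₀ : Good H Δ₀) :
    ∃ Δ : Finset α, 5 ≤ Δ.card ∧ (generalizedFittingSubgroup ↥H).map H.subtype = altOn Δ ∧
      ∀ D, Good H D → D ⊆ Δ := by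
  classical
  obtain ⟨E, hE⟩ : ∃ E, E = (generalizedFittingSubgroup ↥H).map H.subtype := ⟨_, rfl⟩
  have hEH : E ≤ H := hE ▸ Subgroup.map_subtype_le _
  have hqE : IsQuasisimple E := by
    subst hE
    exact CfsgLib.Layer.isQuasisimple_of_mulEquiv
      (Subgroup.equivMapOfInjective _ H.subtype Subtype.val_injective) hF
  haveI : Group.IsPerfect E := hqE.1
  have hEn : ∀ g ∈ H, ∀ e ∈ E, g * e * g⁻¹ ∈ E := by
    intro g hg e he
    rw [hE] at he ⊢
    obtain ⟨f, hf, rfl⟩ := he
    exact ⟨⟨g, hg⟩ * f * ⟨g, hg⟩⁻¹,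
      (CfsgLib.Layer.generalizedFitting_normal (G := ↥H)).conj_mem f hf _, rfl⟩
  have hcent : ∀ g ∈ H, (∀ e ∈ E, g * e = e * g) → g ∈ E := by
    intro g hg hc
    rw [hE]
    exact ⟨⟨g, hg⟩, CfsgLib.Layer.centralizer_generalizedFitting_le (Subgroup.mem_centralizer_iff.mpr
      fun y hy => Subtype.ext (hc y (hE ▸ ⟨y, hy, rfl⟩)).symm), rfl⟩
  have hdisj : ∀ {D D' : Finset α}, MaxGood H D → MaxGood H D' → D ≠ D' → Disjoint D D' := by
    intro D D' hD hD' hne
    rw [Finset.disjoint_left]
    intro a ha ha'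
    exact hne (Finset.Subset.antisymm (hD'.subset hD.1 ha' ha) (hD.subset hD'.1 ha ha'))
  by_cases hbig : ∃ Δ, MaxGood H Δ ∧ 5 ≤ Δ.card
  · obtain ⟨Δ, hΔ, h5⟩ := hbig
    haveI := isSimpleGroup_altOn h5
    have hAH := hΔ.1.2
    -- `A` lies in `E`
    have hnc : ¬ ∀ x ∈ altOn Δ, ∀ y ∈ altOn Δ, x * y = y * x := by
      obtain ⟨a, ha, b, hb, c, hc, d, hd, hab, hac, had, hbc, hbd, hcd⟩ :
          ∃ a ∈ Δ, ∃ b ∈ Δ, ∃ c ∈ Δ, ∃ d ∈ Δ, a ≠ b ∧ a ≠ c ∧ a ≠ d ∧ b ≠ c ∧ b ≠ d ∧ c ≠ d := by
        obtain ⟨a, ha⟩ : Δ.Nonempty := Finset.card_pos.mp (by omega)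
        have h4 : 2 < (Δ.erase a).card := by rw [Finset.card_erase_of_mem ha]; omega
        obtain ⟨b, c, d, hb, hc, hd, hbc, hbd, hcd⟩ := Finset.two_lt_card_iff.mp h4
        simp only [Finset.mem_erase] at hb hc hd
        exact ⟨a, ha, b, hb.2, c, hc.2, d, hd.2, hb.1.symm, hc.1.symm, hd.1.symm, hbc, hbd, hcd⟩
      intro h
      have := congrArg (fun P : Perm α => P d) (h _ (swap_mul_swap_mem ha hb hc hab hac) _
        (swap_mul_swap_mem ha hb hd hab had))
      simp [swap_apply_of_ne_of_ne, hab, hac, had, hbc, hbd, hcd, hab.symm, hac.symm, had.symm, hbc.symm,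
        hbd.symm, hcd.symm] at this
    have hAE : altOn Δ ≤ E := by
      have hN : ((E ⊓ altOn Δ).subgroupOf (altOn Δ)).Normal :=
        ⟨fun n hn g => ⟨hEn _ (hAH g.2) _ hn.1, (g * n * g⁻¹).2⟩⟩
      rcases IsSimpleGroup.eq_bot_or_eq_top_of_normal _ hN with h | h
      · exfalso
        have htriv : ∀ u ∈ E, u ∈ altOn Δ → u = 1 := fun u hu hu' => by
          have : (⟨u, hu'⟩ : altOn Δ) ∈ (E ⊓ altOn Δ).subgroupOf (altOn Δ) := ⟨hu, hu'⟩
          rw [h, Subgroup.mem_bot] at this
          exact congrArg Subtype.val this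
        have hcomm : ∀ a ∈ altOn Δ, ∀ e ∈ E, e * a * e⁻¹ * a⁻¹ ∈ E := fun a ha e he => by
          rw [show e * a * e⁻¹ * a⁻¹ = e * (a * e⁻¹ * a⁻¹) by group]
          exact mul_mem he (hEn _ (hAH ha) _ (inv_mem he))
        refine hnc fun x hx y hy => ?_
        suffices hall : ∀ a ∈ altOn Δ, ∀ e ∈ E, e * a = a * e by
          have hxE : x ∈ E := hcent x (hAH hx) fun e he => (hall x hx e he).symm
          rw [htriv x hxE hx, one_mul, mul_one]
        intro a ha e he
        by_cases heΔ : Δ.image e = Δ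
        · have hmem : e * a * e⁻¹ ∈ altOn Δ := by
            refine ⟨fun z hz => ?_, by rw [map_mul, map_mul, map_inv, ha.2, mul_one, mul_inv_cancel]⟩
            rw [Perm.mul_apply, Perm.mul_apply, ha.1 _ (fun hm => hz (by
              rw [← heΔ]; exact Finset.mem_image.mpr ⟨_, hm, apply_inv' e z⟩))]
            exact apply_inv' e z
          have := htriv _ (hcomm a ha e he) (mul_mem hmem (inv_mem ha))
          rwa [mul_inv_eq_one, mul_inv_eq_iff_eq_mul] at this
        · exfalso
          have hd := hdisj hΔ (maxGood_image hΔ (hEH he)) (Ne.symm heΔ)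
          have hconjmem : ∀ u ∈ altOn Δ, e * u * e⁻¹ ∈ altOn (Δ.image e) := fun u hu => by
            refine ⟨fun z hz => ?_, by rw [map_mul, map_mul, map_inv, hu.2, mul_one, mul_inv_cancel]⟩
            rw [Perm.mul_apply, Perm.mul_apply, hu.1 _ (fun hm => hz
              (Finset.mem_image.mpr ⟨_, hm, apply_inv' e z⟩))]
            exact apply_inv' e z
          refine hnc fun x hx y hy => ?_
          have hw := hcomm x hx e he
          have hin : y * (e * x * e⁻¹ * x⁻¹) * y⁻¹ * (e * x * e⁻¹ * x⁻¹)⁻¹ ∈ E :=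
            mul_mem (hEn _ (hAH hy) _ hw) (inv_mem hw)
          have heq : y * (e * x * e⁻¹ * x⁻¹) * y⁻¹ * (e * x * e⁻¹ * x⁻¹)⁻¹ = y * x⁻¹ * y⁻¹ * x := by
            have e1 := altOn_commute hd hy (hconjmem x hx)
            have e2 := altOn_commute hd (mul_mem (mul_mem hy (inv_mem hx)) (inv_mem hy)) (hconjmem x hx)
            obtain ⟨w, hw⟩ : ∃ w, w = e * x * e⁻¹ := ⟨_, rfl⟩
            rw [← hw] at e1 e2 ⊢
            calc y * (w * x⁻¹) * y⁻¹ * (w * x⁻¹)⁻¹ = (y * w) * x⁻¹ * y⁻¹ * x * w⁻¹ := by group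
              _ = w * (y * x⁻¹ * y⁻¹) * x * w⁻¹ := by rw [e1]; group
              _ = (y * x⁻¹ * y⁻¹) * (w * x * w⁻¹) := by rw [← e2]; group
              _ = y * x⁻¹ * y⁻¹ * x := by rw [← altOn_commute hd hx (hw ▸ hconjmem x hx)]; group
          have := htriv _ (heq ▸ hin) (mul_mem (mul_mem (mul_mem hy (inv_mem hx)) (inv_mem hy)) hx)
          rw [mul_eq_one_iff_eq_inv, mul_inv_eq_iff_eq_mul] at this
          calc x * y = x * (y * x⁻¹) * x := by group
            _ = y * x := by rw [this]; group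
      · intro a ha
        have : (⟨a, ha⟩ : altOn Δ) ∈ (E ⊓ altOn Δ).subgroupOf (altOn Δ) := h ▸ Subgroup.mem_top _
        exact this.1
    -- `A` is normal in `E`
    have hEfix : ∀ e ∈ E, Δ.image e = Δ := by
      intro e₀ he₀
      let K : Subgroup E := Subgroup.normalClosure ((altOn Δ).subgroupOf E : Set E)
      rcases CfsgLib.Layer.eq_top_or_le_center_of_normal hqE K with h | h
      · -- the stabiliser of `Δ` contains the normal closure
        have hconjfix : ∀ (x : E) (y : E), (y : Perm α) ∈ altOn Δ →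
            Δ.image ((x * y * x⁻¹ : E) : Perm α) = Δ := by
          intro x y hy
          have hx' := maxGood_image hΔ (hEH x.2)
          by_cases hxd : Δ.image (x : Perm α) = Δ
          · apply Finset.eq_of_subset_of_card_le
            · intro z hz
              obtain ⟨w, hw, rfl⟩ := Finset.mem_image.mp hz
              show (x : Perm α) ((y : Perm α) ((x : Perm α)⁻¹ w)) ∈ Δ
              rw [← hxd]
              refine Finset.mem_image.mpr ⟨_, ?_, rfl⟩
              have hw' : (x : Perm α)⁻¹ w ∈ Δ := by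
                rw [← hxd] at hw
                obtain ⟨v, hv, rfl⟩ := Finset.mem_image.mp hw
                rw [inv_apply']; exact hv
              by_contra hn'
              rw [(y : Perm α).injective (hy.1 _ hn')] at hn'
              exact hn' hw'
            · exact (Finset.card_image_of_injective _ (Equiv.injective _)).ge
          · have hd := hdisj hΔ hx' (Ne.symm hxd)
            have : ∀ z ∈ Δ, ((x * y * x⁻¹ : E) : Perm α) z = z := fun z hz => by
              show (x : Perm α) ((y : Perm α) ((x : Perm α)⁻¹ z)) = z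
              rw [hy.1 _ fun hm => Finset.disjoint_left.mp hd hz
                (Finset.mem_image.mpr ⟨_, hm, apply_inv' _ z⟩), apply_inv']
            exact (Finset.image_congr this).trans Finset.image_id'
        let S : Subgroup E :=
          { carrier := {u | Δ.image (u : Perm α) = Δ}
            one_mem' := Finset.image_id'
            mul_mem' := fun {u v} hu hv => by
              show Δ.image ((u : Perm α) * (v : Perm α)) = Δ
              rw [Perm.coe_mul, ← Finset.image_image]
              exact (congrArg _ hv).trans hu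
            inv_mem' := fun {u} hu => by
              show Δ.image ((u : Perm α)⁻¹ : Perm α) = Δ
              conv_lhs => rw [← (hu : Δ.image (u : Perm α) = Δ)]
              rw [Finset.image_image]
              ext z; simp }
        have hK : K ≤ S := by
          refine (Subgroup.closure_le _).mpr fun u hu => ?_
          obtain ⟨y, hy, hyu⟩ := Group.mem_conjugatesOfSet_iff.mp hu
          obtain ⟨x, rfl⟩ := isConj_iff.mp hyu
          exact hconjfix x y hy
        exact hK (h ▸ Subgroup.mem_top (⟨e₀, he₀⟩ : E))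
      · exfalso
        refine hnc fun x hx y hy => ?_
        exact congrArg Subtype.val ((Subgroup.mem_center_iff.mp
          (h (Subgroup.subset_normalClosure (show (⟨x, hAE hx⟩ : E) ∈ (altOn Δ).subgroupOf E from hx))))
          ⟨y, hAE hy⟩).symm
    have hEeq : E = altOn Δ := by
      refine le_antisymm ?_ hAE
      have hN : ((altOn Δ).subgroupOf E).Normal := ⟨fun y hy x => by
        have hy' := mem_altOn.mp (Subgroup.mem_subgroupOf.mp hy)
        rw [Subgroup.mem_subgroupOf, mem_altOn]
        refine ⟨fun z hz => ?_, by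
          show Perm.sign ((x : Perm α) * (y : Perm α) * (x : Perm α)⁻¹) = 1
          rw [map_mul, map_mul, map_inv, hy'.2, mul_one, mul_inv_cancel]⟩
        show (x : Perm α) ((y : Perm α) ((x : Perm α)⁻¹ z)) = z
        rw [hy'.1 _ (fun hm => hz (by
          rw [← hEfix x x.2]; exact Finset.mem_image.mpr ⟨_, hm, apply_inv' _ z⟩)),
          apply_inv']⟩
      haveI := hN
      rcases CfsgLib.Layer.eq_top_or_le_center_of_normal hqE ((altOn Δ).subgroupOf E) with h | h
      · exact Subgroup.subgroupOf_eq_top.mp h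
      · exfalso
        refine hnc fun x hx y hy => ?_
        exact congrArg Subtype.val ((Subgroup.mem_center_iff.mp
          (h (show (⟨x, hAE hx⟩ : E) ∈ (altOn Δ).subgroupOf E from hx))) ⟨y, hAE hy⟩).symm
    refine ⟨Δ, h5, hE ▸ hEeq, fun D hD => ?_⟩
    obtain ⟨D', hD', hsub⟩ := exists_maxGood hD
    by_cases hDΔ : D' = Δ
    · exact hDΔ ▸ hsub
    exfalso
    have hd := hdisj hΔ hD' (Ne.symm hDΔ)
    obtain ⟨a, b, c, ha, hb, hc, hab, hac, hbc⟩ := Finset.two_lt_card_iff.mp hD'.1.1
    have hmem := swap_mul_swap_mem ha hb hc hab hac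
    have hin := hcent _ (hD'.1.2 hmem) fun e he => (altOn_commute hd (hEeq ▸ he) hmem).symm
    rw [hEeq] at hin
    have := hin.1 a (fun h => Finset.disjoint_left.mp hd h ha)
    rw [Perm.mul_apply, swap_apply_left, swap_apply_of_ne_of_ne hac.symm hbc.symm] at this
    exact hac this.symm
  · exfalso
    push Not at hbig
    obtain ⟨D, hD, -⟩ := exists_maxGood hΔ₀
    let M : Subgroup (Perm α) := Subgroup.closure {u | ∃ D : {D : Finset α // MaxGood H D}, u ∈ altOn D.1}
    have hMn : ∀ g ∈ H, ∀ u ∈ M, g * u * g⁻¹ ∈ M := by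
      intro g hg u hu
      induction hu using Subgroup.closure_induction with
      | mem u hu =>
        obtain ⟨D, hu⟩ := hu
        refine Subgroup.subset_closure ⟨⟨_, maxGood_image D.2 hg⟩, fun z hz => ?_, ?_⟩
        · rw [Perm.mul_apply, Perm.mul_apply, hu.1 _ (fun hm => hz
            (Finset.mem_image.mpr ⟨_, hm, apply_inv' g z⟩))]
          exact apply_inv' g z
        · rw [map_mul, map_mul, map_inv, hu.2, mul_one, mul_inv_cancel]
      | one => simp
      | inv u _ hu => rw [show g * u⁻¹ * g⁻¹ = (g * u * g⁻¹)⁻¹ by group]; exact inv_mem hu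
      | mul u v _ _ hu hv => rw [show g * (u * v) * g⁻¹ = g * u * g⁻¹ * (g * v * g⁻¹) by group]; exact mul_mem hu hv
    have hNE : ((M ⊓ E).subgroupOf E).Normal :=
      ⟨fun y hy x => ⟨hMn _ (hEH x.2) _ hy.1, (x * y * x⁻¹).2⟩⟩
    have hMstab : ∀ u ∈ M, ∀ D, MaxGood H D → ∀ z, u z ∈ D ↔ z ∈ D := by
      intro u hu D hD
      induction hu using Subgroup.closure_induction with
      | mem u hu =>
        obtain ⟨D', hu⟩ := hu
        intro z
        by_cases hz : z ∈ D'.1
        · have hu' : u z ∈ D'.1 := by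
            by_contra hn'
            rw [u.injective (hu.1 _ hn')] at hn'
            exact hn' hz
          by_cases hDD : D = D'.1
          · subst hDD; exact iff_of_true hu' hz
          · exact iff_of_false (fun h => Finset.disjoint_left.mp (hdisj hD D'.2 hDD) h hu')
              fun h => Finset.disjoint_left.mp (hdisj hD D'.2 hDD) h hz
        · rw [hu.1 z hz]
      | one => exact fun z => Iff.rfl
      | inv u _ hu => exact fun z => by rw [← hu (u⁻¹ z), apply_inv']
      | mul u v _ _ hu hv => exact fun z => (hu (v z)).trans (hv z)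
    haveI := hNE
    rcases CfsgLib.Layer.eq_top_or_le_center_of_normal hqE ((M ⊓ E).subgroupOf E) with h | h
    · have hEM : E ≤ M := fun e he => by
        have : (⟨e, he⟩ : E) ∈ (M ⊓ E).subgroupOf E := h ▸ Subgroup.mem_top _
        exact this.1
      have hMfix : ∀ u ∈ M, ∀ z, (∀ D, MaxGood H D → z ∉ D) → u z = z := by
        intro u hu
        induction hu using Subgroup.closure_induction with
        | mem u hu => obtain ⟨D', hu⟩ := hu; exact fun z hz => hu.1 z (hz _ D'.2)
        | one => exact fun z _ => rfl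
        | inv u _ hu => exact fun z hz => Perm.inv_eq_iff_eq.mpr (hu z hz).symm
        | mul u v _ _ hu hv => exact fun z hz => by rw [Perm.mul_apply, hv z hz, hu z hz]
      haveI := CfsgLib.Layer.nontrivial_of_isQuasisimple hqE
      obtain ⟨e, he⟩ := exists_ne (1 : E)
      refine he (Subtype.ext (Equiv.ext fun z => ?_))
      by_cases hz : ∃ D, MaxGood H D ∧ z ∈ D
      · obtain ⟨D', hD', hzD⟩ := hz
        exact perfect_fix (by have := hbig D' hD'; omega)
          (fun f hf w => hMstab f (hEM hf) D' hD' w) e.2 hzD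
      · push Not at hz
        exact hMfix _ (hEM e.2) z hz
    · obtain ⟨a, b, c, ha, hb, hc, hab, hac, hbc⟩ := Finset.two_lt_card_iff.mp hD.1.1
      obtain ⟨t, ht⟩ : ∃ t, t = swap a b * swap a c := ⟨_, rfl⟩
      have htA : t ∈ altOn D := ht ▸ swap_mul_swap_mem ha hb hc hab hac
      have htH : t ∈ H := hD.1.2 htA
      have htM : t ∈ M := Subgroup.subset_closure ⟨⟨D, hD⟩, htA⟩
      have hk : ∀ e : E, (⟨(e : Perm α) * t * (e : Perm α)⁻¹ * t⁻¹, by
          rw [show (e : Perm α) * t * (e : Perm α)⁻¹ * t⁻¹ = e * (t * (e : Perm α)⁻¹ * t⁻¹) by group]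
          exact mul_mem e.2 (hEn _ htH _ (inv_mem e.2))⟩ : E) ∈ Subgroup.center E := fun e =>
        h (Subgroup.mem_subgroupOf.mpr (Subgroup.mem_inf.mpr ⟨Subgroup.mul_mem _ (hMn _ (hEH e.2) _ htM) (Subgroup.inv_mem _ htM), by
          show (e : Perm α) * t * (e : Perm α)⁻¹ * t⁻¹ ∈ E
          rw [show (e : Perm α) * t * (e : Perm α)⁻¹ * t⁻¹ = e * (t * (e : Perm α)⁻¹ * t⁻¹) by group]
          exact mul_mem e.2 (hEn _ htH _ (inv_mem e.2))⟩))
      let φ : E →* Subgroup.center E := MonoidHom.mk' (fun e => ⟨_, hk e⟩) fun e f => by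
        apply Subtype.ext
        apply Subtype.ext
        show (e : Perm α) * f * t * ((e : Perm α) * f)⁻¹ * t⁻¹ =
          (e : Perm α) * t * (e : Perm α)⁻¹ * t⁻¹ * ((f : Perm α) * t * (f : Perm α)⁻¹ * t⁻¹)
        have hcm : (e : Perm α) * ((f : Perm α) * t * (f : Perm α)⁻¹ * t⁻¹) =
            (f : Perm α) * t * (f : Perm α)⁻¹ * t⁻¹ * e :=
          congrArg Subtype.val (Subgroup.mem_center_iff.mp (hk f) e)
        have hcm2 : (e : Perm α) * t * (e : Perm α)⁻¹ * t⁻¹ * ((f : Perm α) * t * (f : Perm α)⁻¹ * t⁻¹) =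
            (f : Perm α) * t * (f : Perm α)⁻¹ * t⁻¹ * ((e : Perm α) * t * (e : Perm α)⁻¹ * t⁻¹) :=
          congrArg Subtype.val (Subgroup.mem_center_iff.mp (hk f)
            ⟨(e : Perm α) * t * (e : Perm α)⁻¹ * t⁻¹, (hk e |> fun _ => by
              rw [show (e : Perm α) * t * (e : Perm α)⁻¹ * t⁻¹ = e * (t * (e : Perm α)⁻¹ * t⁻¹) by group]
              exact mul_mem e.2 (hEn _ htH _ (inv_mem e.2)))⟩)
        rw [hcm2]
        calc (e : Perm α) * f * t * ((e : Perm α) * f)⁻¹ * t⁻¹
            = (e : Perm α) * ((f : Perm α) * t * (f : Perm α)⁻¹ * t⁻¹) * (t * (e : Perm α)⁻¹ * t⁻¹) := by group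
          _ = _ := by rw [hcm]; group
      have hφ : φ.range = ⊥ := by
        by_contra hne
        haveI : Group.IsPerfect φ.range := Group.IsPerfect.ofSurjective φ.rangeRestrict_surjective
        haveI : Nontrivial φ.range := (Subgroup.nontrivial_iff_ne_bot _).mpr hne
        haveI : IsMulCommutative φ.range := inferInstance
        exact (Group.IsSolvable.commutator_lt_top_of_nontrivial φ.range).ne Group.IsPerfect.commutator_eq_top
      have hcm : ∀ e ∈ E, t * e = e * t := fun e he => by
        have : φ ⟨e, he⟩ = 1 := Subgroup.mem_bot.mp (hφ ▸ ⟨_, rfl⟩)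
        have : e * t * e⁻¹ * t⁻¹ = 1 := congrArg (fun u : Subgroup.center E => ((u : E) : Perm α)) this
        rw [mul_inv_eq_one, mul_inv_eq_iff_eq_mul] at this
        exact this.symm
      have htfix : ∀ z, z ∈ ({a, b, c} : Finset α) ↔ t z ≠ z := by
        intro z
        rw [ht]
        simp only [Finset.mem_insert, Finset.mem_singleton, Perm.mul_apply]
        constructor
        · rintro (rfl | rfl | rfl) <;>
            simp [swap_apply_of_ne_of_ne, hab, hac, hbc, hab.symm, hac.symm, hbc.symm]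
        · intro hz
          by_contra hall
          push Not at hall
          exact hz (by rw [swap_apply_of_ne_of_ne hall.1 hall.2.2, swap_apply_of_ne_of_ne hall.1 hall.2.1])
      have hEst : ∀ e ∈ E, ∀ z, e z ∈ ({a, b, c} : Finset α) ↔ z ∈ ({a, b, c} : Finset α) := fun e he z => by
        rw [htfix, htfix]
        have : t (e z) = e (t z) := congrArg (fun P : Perm α => P z) (hcm e he)
        rw [this]
        exact e.injective.ne_iff
      have htE : t ∈ E := hcent t htH hcm
      have := perfect_fix (Finset.card_le_three.trans (by norm_num)) hEst htE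
        (Finset.mem_insert_self a {b, c})
      exact (htfix a).mp (Finset.mem_insert_self a {b, c}) this

end CfsgLib.ThreeCycleFStar
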