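import Cfsg.Agent.Lib.Perm.AltOnSet

/-!
Degrees of alternating groups in which a `3`-subgroup lies in one maximal subgroup.
-/

set_option autoImplicit false
set_option linter.style.haveILetI false
set_option linter.unusedSectionVars false

namespace CfsgLib.ThreeMinimal

open Equiv CfsgLib.AltOnSet

variable {α : Type*} [Fintype α] [DecidableEq α]

/-- The cycle through three points. -/
def c3 (a b c : α) : Perm α := swap a b * swap b c

theorem c3_fst {a b c : α} (hab : a ≠ b) (hac : a ≠ c) : c3 a b c a = b := by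
  rw [c3, Perm.mul_apply, swap_apply_of_ne_of_ne hab hac, swap_apply_left]

theorem c3_snd {a b c : α} (hac : a ≠ c) (hbc : b ≠ c) : c3 a b c b = c := by
  rw [c3, Perm.mul_apply, swap_apply_left, swap_apply_of_ne_of_ne hac.symm hbc.symm]

theorem c3_thd {a b c : α} : c3 a b c c = a := by
  rw [c3, Perm.mul_apply, swap_apply_right, swap_apply_right]

theorem c3_of_ne {a b c z : α} (ha : z ≠ a) (hb : z ≠ b) (hc : z ≠ c) : c3 a b c z = z := by
  rw [c3, Perm.mul_apply, swap_apply_of_ne_of_ne hb hc, swap_apply_of_ne_of_ne ha hb]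

theorem sign_c3 {a b c : α} (hab : a ≠ b) (hbc : b ≠ c) : Perm.sign (c3 a b c) = 1 := by
  rw [c3, map_mul, Perm.sign_swap hab, Perm.sign_swap hbc]; decide

theorem conj_c3 (f : Perm α) (a b c : α) : f * c3 a b c * f⁻¹ = c3 (f a) (f b) (f c) := by
  have h : ∀ u v, f * swap u v * f⁻¹ = swap (f u) (f v) := fun u v => by
    rw [Equiv.mul_swap_eq_swap_mul, mul_inv_cancel_right]
  rw [c3, c3, ← h, ← h]; group

/-- A permutation centralizing `z` moving one point of `Δ` out and keeping another. -/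
theorem mix {z : Perm α} (hz : z * z * z = 1) (hfree : ∀ a, z a ≠ a) {Δ : Finset α} (h4 : 4 ≤ Δ.card)
    (hne : ∃ d, d ∉ Δ) :
    ∃ g : Perm α, Perm.sign g = 1 ∧ z * g = g * z ∧ (∃ b ∈ Δ, g b ∉ Δ) ∧ ∃ w ∈ Δ, g w ∈ Δ := by
  have hzzz : ∀ a, z (z (z a)) = a := fun a => by
    have := congrArg (fun P : Perm α => P a) hz
    simpa using this
  have hzne : ∀ a, z (z a) ≠ a := fun a h => hfree a (by
    calc z a = z (z (z a)) := by rw [h]
      _ = a := hzzz a)
  by_cases hinv : ∀ b ∈ Δ, z b ∈ Δ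
  · -- `Δ` is a union of cycles
    obtain ⟨d, hd⟩ := hne
    obtain ⟨b, hb⟩ : Δ.Nonempty := Finset.card_pos.mp (by omega)
    obtain ⟨c, hc, hcb⟩ : ∃ c ∈ Δ, c ∉ ({b, z b, z (z b)} : Finset α) := by
      by_contra hall
      push Not at hall
      have := (Finset.card_le_card (fun x hx => hall x hx)).trans Finset.card_le_three
      omega
    simp only [Finset.mem_insert, Finset.mem_singleton, not_or] at hcb
    obtain ⟨hcb0, hcb1, hcb2⟩ := hcb
    have hout : ∀ u, u ∉ Δ → z u ∉ Δ := fun u hu h => hu (by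
      rw [← hzzz u]; exact hinv _ (hinv _ h))
    have hbd : ∀ u v, u ∈ Δ → v ∉ Δ → u ≠ v := fun u v hu hv e => hv (e ▸ hu)
    obtain ⟨t, ht⟩ : ∃ t, t = c3 b d c := ⟨_, rfl⟩
    have hbc : b ≠ c := Ne.symm hcb0
    have hdc : d ≠ c := fun e => hd (e ▸ hc)
    have hbd' : b ≠ d := hbd b d hb hd
    have hsupp : ∀ u, t u ≠ u → u = b ∨ u = d ∨ u = c := fun u hu => by
      by_contra h
      push Not at h
      exact hu (ht ▸ c3_of_ne h.1 h.2.1 h.2.2)
    have hzb : z b ≠ b := hfree b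
    have hzd : z d ≠ d := hfree d
    have hzc : z c ≠ c := hfree c
    have n1 : ∀ u, u = b ∨ u = d ∨ u = c → z u ≠ b ∧ z u ≠ d ∧ z u ≠ c := by
      rintro u (rfl | rfl | rfl)
      · exact ⟨hzb, hbd _ _ (hinv _ hb) hd, Ne.symm hcb1⟩
      · exact ⟨(hbd _ _ hb (hout _ hd)).symm, hzd, (hbd _ _ hc (hout _ hd)).symm⟩
      · exact ⟨fun e => hcb2 (by rw [← e, hzzz]), hbd _ _ (hinv _ hc) hd, hzc⟩
    have n2 : ∀ u, u = b ∨ u = d ∨ u = c → z (z u) ≠ b ∧ z (z u) ≠ d ∧ z (z u) ≠ c := by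
      rintro u (rfl | rfl | rfl)
      · exact ⟨hzne _, hbd _ _ (hinv _ (hinv _ hb)) hd, Ne.symm hcb2⟩
      · exact ⟨(hbd _ _ hb (hout _ (hout _ hd))).symm, hzne _, (hbd _ _ hc (hout _ (hout _ hd))).symm⟩
      · exact ⟨fun e => hcb1 (by rw [← e, hzzz]), hbd _ _ (hinv _ (hinv _ hc)) hd, hzne _⟩
    obtain ⟨t1, ht1⟩ : ∃ t1, t1 = z * t * z⁻¹ := ⟨_, rfl⟩
    obtain ⟨t2, ht2⟩ : ∃ t2, t2 = z * t1 * z⁻¹ := ⟨_, rfl⟩
    have e1 : ∀ u, t1 u ≠ u → ∃ v, (v = b ∨ v = d ∨ v = c) ∧ u = z v := fun u hu => by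
      refine ⟨z⁻¹ u, hsupp _ fun h => hu ?_, (z.apply_symm_apply u).symm⟩
      rw [ht1, Perm.mul_apply, Perm.mul_apply, h]
      exact z.apply_symm_apply u
    have e2 : ∀ u, t2 u ≠ u → ∃ v, (v = b ∨ v = d ∨ v = c) ∧ u = z (z v) := fun u hu => by
      obtain ⟨v, hv, hv'⟩ := e1 (z⁻¹ u) (fun h => hu (by
        rw [ht2, Perm.mul_apply, Perm.mul_apply, h]; exact z.apply_symm_apply u))
      exact ⟨v, hv, by rw [← hv']; exact (z.apply_symm_apply u).symm⟩
    have d01 : Perm.Disjoint t t1 := fun u => by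
      by_contra h
      push Not at h
      obtain ⟨v, hv, rfl⟩ := e1 u h.2
      have := n1 v hv
      rcases hsupp _ h.1 with e | e | e <;> simp_all
    have d02 : Perm.Disjoint t t2 := fun u => by
      by_contra h
      push Not at h
      obtain ⟨v, hv, rfl⟩ := e2 u h.2
      have := n2 v hv
      rcases hsupp _ h.1 with e | e | e <;> simp_all
    have t2fix : ∀ u, u = b ∨ u = c → t1 u = u ∧ t2 u = u := fun u hu => by
      refine ⟨by_contra fun h => ?_, by_contra fun h => ?_⟩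
      · obtain ⟨v, hv, rfl⟩ := e1 u h
        have := n1 v hv
        rcases hu with e | e <;> simp_all
      · obtain ⟨v, hv, rfl⟩ := e2 u h
        have := n2 v hv
        rcases hu with e | e <;> simp_all
    have hz3 : z * t2 * z⁻¹ = t := by
      rw [ht2, ht1, show z * (z * (z * t * z⁻¹) * z⁻¹) * z⁻¹ = (z * z * z) * t * (z * z * z)⁻¹ by group, hz]
      simp
    refine ⟨t * t1 * t2, ?_, ?_, ⟨b, hb, ?_⟩, c, hc, ?_⟩
    · have hs : Perm.sign t = 1 := ht ▸ sign_c3 hbd' hdc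
      simp only [map_mul, ht2, ht1, map_inv, hs, mul_one, mul_inv_cancel]
    · calc z * (t * t1 * t2) = (z * t * z⁻¹) * (z * t1 * z⁻¹) * (z * t2 * z⁻¹) * z := by group
        _ = t1 * t2 * t * z := by rw [← ht1, ← ht2, hz3]
        _ = t * t1 * t2 * z := by
          rw [mul_assoc t1 t2 t, ← d02.commute.eq, ← mul_assoc, ← d01.commute.eq]
    · rw [Perm.mul_apply, Perm.mul_apply, (t2fix b (Or.inl rfl)).2, (t2fix b (Or.inl rfl)).1, ht,
        c3_fst hbd' hbc]
      exact hd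
    · rw [Perm.mul_apply, Perm.mul_apply, (t2fix c (Or.inr rfl)).2, (t2fix c (Or.inr rfl)).1, ht, c3_thd]
      exact hb
  · push Not at hinv
    obtain ⟨b, hb, hzb⟩ := hinv
    have n01 : b ≠ z b := (hfree b).symm
    have n02 : b ≠ z (z b) := (hzne b).symm
    have n12 : z b ≠ z (z b) := (hfree (z b)).symm
    obtain ⟨w, hw, hwn⟩ : ∃ w ∈ Δ, w ∉ ({b, z b, z (z b)} : Finset α) := by
      by_contra hall
      push Not at hall
      have := (Finset.card_le_card (fun x hx => hall x hx)).trans Finset.card_le_three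
      omega
    simp only [Finset.mem_insert, Finset.mem_singleton, not_or] at hwn
    refine ⟨c3 b (z b) (z (z b)), sign_c3 n01 n12, ?_, ⟨b, hb, by rwa [c3_fst n01 n02]⟩, w, hw, ?_⟩
    · rw [← mul_inv_eq_iff_eq_mul, conj_c3, hzzz]
      refine Equiv.ext fun u => ?_
      by_cases h0 : u = b
      · subst h0; rw [c3_fst n01 n02, c3_thd]
      by_cases h1 : u = z b
      · subst h1; rw [c3_fst n12 n01.symm, c3_snd n02 n12]
      by_cases h2 : u = z (z b)
      · subst h2; rw [c3_thd, c3_snd n01.symm n02.symm]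
      rw [c3_of_ne h1 h2 h0, c3_of_ne h0 h1 h2]
    · rw [c3_of_ne hwn.1 hwn.2.1 hwn.2.2]
      exact hw

/-- The setting: every proper overgroup of `S` in the alternating group lies in `M`. -/
structure Setup (S M : Subgroup (Perm α)) : Prop where
  pgroup : IsPGroup 3 S
  le_alt : S ≤ alternatingGroup α
  not_le : ¬ alternatingGroup α ≤ M
  uniq : ∀ K : Subgroup (Perm α), S ≤ K → K ≤ alternatingGroup α → K ≠ alternatingGroup α → K ≤ M

variable {S M : Subgroup (Perm α)}

theorem Setup.mem (h : Setup S M) (K : Subgroup (Perm α)) (hS : S ≤ K) (hne : ∃ g, Perm.sign g = 1 ∧ g ∉ K)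
    {g : Perm α} (hg : g ∈ K) (hs : Perm.sign g = 1) : g ∈ M := by
  refine h.uniq (K ⊓ alternatingGroup α) (le_inf hS h.le_alt) inf_le_right (fun e => ?_) ⟨hg, hs⟩
  obtain ⟨f, hf, hfK⟩ := hne
  exact hfK ((e.symm ▸ (Perm.mem_alternatingGroup.mpr hf : f ∈ alternatingGroup α) : f ∈ K ⊓ alternatingGroup α).1)

theorem Setup.not_univ (h : Setup S M) {Δ : Finset α} (hΔ : MaxGood M Δ) : ∃ d, d ∉ Δ := by
  by_contra hall
  push Not at hall
  exact h.not_le fun g hg => hΔ.1.2 ⟨fun z hz => absurd (hall z) hz, Perm.mem_alternatingGroup.mp hg⟩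

/-- A central element of order three gives a mixing element. -/
theorem Setup.maxGood_grows (h : Setup S M) {z : Perm α} (hz : z * z * z = 1) (hfree : ∀ a, z a ≠ a)
    (hn : 4 ≤ Fintype.card α) (hcomm : ∀ s ∈ S, z * s = s * z) {B : Finset α} (hB : Good M B) (h4 : 4 ≤ B.card)
    (hne : ∃ d, d ∉ B) {Δ : Finset α} (hΔ : MaxGood M Δ) (hsub : B ⊆ Δ) : ∃ d ∈ Δ, d ∉ B := by
  obtain ⟨g, hgs, hgc, ⟨b, hb, hbg⟩, w, hw, hwg⟩ := mix hz hfree h4 hne
  let K : Subgroup (Perm α) := Subgroup.centralizer {z}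
  have hSK : S ≤ K := fun s hs => Subgroup.mem_centralizer_singleton_iff.mpr (hcomm s hs).symm
  have hgM : g ∈ M := by
    refine h.mem K hSK ?_ (Subgroup.mem_centralizer_singleton_iff.mpr hgc.symm) hgs
    obtain ⟨a⟩ : Nonempty α := Fintype.card_pos_iff.mp (by omega)
    have n01 : a ≠ z a := (hfree a).symm
    obtain ⟨d, hd⟩ : ∃ d, d ∉ ({a, z a, z (z a)} : Finset α) := by
      by_contra hall
      push Not at hall
      have := (Finset.card_le_card (fun x (_ : x ∈ (Finset.univ : Finset α)) => hall x)).trans Finset.card_le_three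
      rw [Finset.card_univ] at this
      omega
    simp only [Finset.mem_insert, Finset.mem_singleton, not_or] at hd
    refine ⟨c3 a (z a) d, sign_c3 n01 (Ne.symm hd.2.1), fun hm => ?_⟩
    have := congrArg (fun P : Perm α => P a) (Subgroup.mem_centralizer_singleton_iff.mp hm)
    rw [Perm.mul_apply, Perm.mul_apply, c3_snd (Ne.symm hd.1) (Ne.symm hd.2.1),
      c3_fst n01 (Ne.symm hd.1)] at this
    exact hd.2.2 this
  exact ⟨g b, hΔ.subset (good_image hB hgM) (hsub hwg) (Finset.mem_image_of_mem g hw)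
    (Finset.mem_image_of_mem g hb), hbg⟩

/-- The orbit of a point. -/
noncomputable def orb (S : Subgroup (Perm α)) (x : α) : Finset α :=
  (Set.toFinite (MulAction.orbit ↥S x)).toFinset

theorem mem_orb {x y : α} : y ∈ orb S x ↔ ∃ s ∈ S, s x = y := by
  rw [orb, Set.Finite.mem_toFinset, MulAction.mem_orbit_iff]
  exact ⟨fun ⟨s, h⟩ => ⟨s, s.2, h⟩, fun ⟨s, hs, h⟩ => ⟨⟨s, hs⟩, h⟩⟩

theorem self_mem_orb (x : α) : x ∈ orb S x := mem_orb.mpr ⟨1, one_mem S, rfl⟩

theorem orb_eq {x y : α} (h : y ∈ orb S x) : orb S y = orb S x := by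
  obtain ⟨s, hs, rfl⟩ := mem_orb.mp h
  ext w
  simp only [mem_orb]
  exact ⟨fun ⟨u, hu, e⟩ => ⟨u * s, mul_mem hu hs, by rw [Perm.mul_apply]; exact e⟩,
    fun ⟨u, hu, e⟩ => ⟨u * s⁻¹, mul_mem hu (inv_mem hs), by
      rw [Perm.mul_apply, show s⁻¹ (s x) = x from s.symm_apply_apply x]; exact e⟩⟩

theorem card_orb (hS : IsPGroup 3 S) (x : α) : ∃ a, (orb S x).card = 3 ^ a := by
  haveI : Fact (Nat.Prime 3) := ⟨Nat.prime_three⟩
  obtain ⟨a, ha⟩ := hS.card_orbit x
  exact ⟨a, by rw [orb, ← Nat.card_eq_card_finite_toFinset, ha]⟩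

theorem smul_mem_orb {x w : α} {s : Perm α} (hs : s ∈ S) : s w ∈ orb S x ↔ w ∈ orb S x := by
  constructor <;> intro h <;> obtain ⟨u, hu, e⟩ := mem_orb.mp h
  · exact mem_orb.mpr ⟨s⁻¹ * u, mul_mem (inv_mem hs) hu, by
      rw [Perm.mul_apply, e]; exact s.symm_apply_apply w⟩
  · exact mem_orb.mpr ⟨s * u, mul_mem hs hu, by rw [Perm.mul_apply, e]⟩

/-- The complement of an orbit carries an alternating group in `M`. -/
theorem Setup.good_compl (h : Setup S M) (x : α) (h3 : 3 ≤ (orb S x)ᶜ.card) (h5 : 5 ≤ Fintype.card α) :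
    Good M (orb S x)ᶜ := by
  refine ⟨h3, fun g hg => ?_⟩
  let K : Subgroup (Perm α) :=
    { carrier := {f | ∀ w, f w ∈ orb S x ↔ w ∈ orb S x}
      one_mem' := fun _ => Iff.rfl
      mul_mem' := fun {f f'} hf hf' w => (hf _).trans (hf' w)
      inv_mem' := fun {f} hf w => by rw [← hf, show f (f⁻¹ w) = w from f.apply_symm_apply w] }
  refine h.mem K (fun s hs w => smul_mem_orb hs) ?_ (fun w => ?_) hg.2
  · obtain ⟨d, hd, e, he, hde⟩ := Finset.one_lt_card.mp (by omega : 1 < (orb S x)ᶜ.card)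
    have hxd : x ≠ d := fun q => Finset.mem_compl.mp hd (q ▸ self_mem_orb x)
    refine ⟨c3 x d e, sign_c3 hxd hde, fun hm => ?_⟩
    have h1 := (hm x).mpr (self_mem_orb x)
    rw [c3_fst hxd (show x ≠ e from fun q => Finset.mem_compl.mp he (q ▸ self_mem_orb x))] at h1
    exact Finset.mem_compl.mp hd h1
  · by_cases hw : w ∈ orb S x
    · rw [hg.1 w (fun q => Finset.mem_compl.mp q hw)]
    · refine iff_of_false (fun q => hw ?_) hw
      have := hg.1 (g w) (fun r => Finset.mem_compl.mp r q)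
      rwa [g.injective this] at q

/-- A central element of the group induced on an orbit. -/
theorem exists_central (hS : IsPGroup 3 S) (x : α) (hx : (orb S x).card ≠ 1) :
    ∃ z : Perm α, z * z * z = 1 ∧ (∀ w, w ∉ orb S x → z w = w) ∧ (∀ w ∈ orb S x, z w ≠ w) ∧
      ∀ s ∈ S, z * s = s * z := by
  haveI : Fact (Nat.Prime 3) := ⟨Nat.prime_three⟩
  let ρ : S →* Perm ↥(orb S x) :=
    { toFun := fun s => (s : Perm α).subtypePerm fun w => smul_mem_orb s.2
      map_one' := Equiv.ext fun _ => rfl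
      map_mul' := fun _ _ => Equiv.ext fun _ => rfl }
  have hR : IsPGroup 3 ρ.range := hS.of_surjective ρ.rangeRestrict ρ.rangeRestrict_surjective
  have hnt : Nontrivial ρ.range := by
    rw [Subgroup.nontrivial_iff_ne_bot]
    intro e
    refine hx (Finset.card_eq_one.mpr ⟨x, Finset.eq_singleton_iff_unique_mem.mpr ⟨self_mem_orb x, fun w hw => ?_⟩⟩)
    obtain ⟨s, hs, rfl⟩ := mem_orb.mp hw
    have : ρ ⟨s, hs⟩ = 1 := Subgroup.mem_bot.mp (e ▸ ⟨_, rfl⟩)
    exact congrArg Subtype.val (congrArg (fun P : Perm ↥(orb S x) => P ⟨x, self_mem_orb x⟩) this)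
  haveI := hR.center_nontrivial
  obtain ⟨k, hk⟩ := IsPGroup.iff_card.mp (hR.to_subgroup (Subgroup.center ρ.range))
  have hk0 : k ≠ 0 := fun e => by
    rw [e, pow_zero] at hk
    exact absurd (Finite.one_lt_card (α := Subgroup.center ρ.range)) (by omega)
  obtain ⟨w, hw⟩ := exists_prime_orderOf_dvd_card' 3 (G := Subgroup.center ρ.range) (hk ▸ dvd_pow_self 3 hk0)
  obtain ⟨v, hvdef⟩ : ∃ v : Perm ↥(orb S x), v = ((w : ρ.range) : Perm ↥(orb S x)) := ⟨_, rfl⟩
  have hv3 : v * v * v = 1 := by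
    have h1 : w * w * w = 1 := by
      have := pow_orderOf_eq_one w
      rw [hw, pow_succ, pow_two] at this
      exact this
    rw [hvdef]
    exact congrArg (fun u : Subgroup.center ρ.range => ((u : ρ.range) : Perm ↥(orb S x))) h1
  have hv1 : v ≠ 1 := fun e => by
    have hw1 : w = 1 := Subtype.ext (Subtype.ext (hvdef ▸ e))
    rw [hw1, orderOf_one] at hw
    omega
  have hvc : ∀ s : S, v * ρ s = ρ s * v := fun s => by
    rw [hvdef]
    exact congrArg Subtype.val (Subgroup.mem_center_iff.mp w.2 ⟨ρ s, ⟨s, rfl⟩⟩).symm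
  refine ⟨Perm.ofSubtype v, by rw [← map_mul, ← map_mul, hv3, map_one],
    fun w hw => Perm.ofSubtype_apply_of_not_mem _ hw, fun w hw e => ?_, fun s hs => Equiv.ext fun w => ?_⟩
  · rw [Perm.ofSubtype_apply_of_mem _ hw] at e
    refine hv1 (Equiv.ext fun u => ?_)
    obtain ⟨s, hs, hsu⟩ := mem_orb.mp (show (u : α) ∈ orb S w by rw [orb_eq hw]; exact u.2)
    have hu : ρ ⟨s, hs⟩ ⟨w, hw⟩ = u := Subtype.ext hsu
    calc v u = v (ρ ⟨s, hs⟩ ⟨w, hw⟩) := by rw [hu]
      _ = ρ ⟨s, hs⟩ (v ⟨w, hw⟩) := congrArg (fun P : Perm ↥(orb S x) => P ⟨w, hw⟩) (hvc ⟨s, hs⟩)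
      _ = u := by rw [show v ⟨w, hw⟩ = ⟨w, hw⟩ from Subtype.ext e, hu]
  · rw [Perm.mul_apply, Perm.mul_apply]
    by_cases hw : w ∈ orb S x
    · rw [Perm.ofSubtype_apply_of_mem _ hw, Perm.ofSubtype_apply_of_mem _ ((smul_mem_orb hs).mpr hw)]
      exact congrArg Subtype.val (congrArg (fun P : Perm ↥(orb S x) => P ⟨w, hw⟩) (hvc ⟨s, hs⟩))
    · rw [Perm.ofSubtype_apply_of_not_mem _ hw,
        Perm.ofSubtype_apply_of_not_mem _ (fun q => hw ((smul_mem_orb hs).mp q))]

/-- Two orbits cannot both be proper and large. -/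
theorem Setup.two_orbits (h : Setup S M) (h5 : 5 ≤ Fintype.card α) {x y : α} (hy : y ∉ orb S x)
    (huniv : ∀ w, w ∈ orb S x ∨ w ∈ orb S y) (hx9 : 4 ≤ (orb S x).card) (hy3 : 3 ≤ (orb S y).card) : False := by
  have hdisj : ∀ w, w ∈ orb S x → w ∉ orb S y := fun w h1 h2 => hy (by
    rw [← orb_eq h1, orb_eq h2]; exact self_mem_orb y)
  have hcx : (orb S x)ᶜ = orb S y := by
    ext w
    rw [Finset.mem_compl]
    exact ⟨fun q => (huniv w).resolve_left q, fun q q' => hdisj w q' q⟩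
  have hcy : (orb S y)ᶜ = orb S x := by
    ext w
    rw [Finset.mem_compl]
    exact ⟨fun q => (huniv w).resolve_right q, hdisj w⟩
  have gy : Good M (orb S y) := hcx ▸ h.good_compl x (by rw [hcx]; exact hy3) h5
  have gx : Good M (orb S x) := hcy ▸ h.good_compl y (by rw [hcy]; omega) h5
  obtain ⟨zx, hx3, hxo, hxi, hxc⟩ := exists_central h.pgroup x (by omega)
  obtain ⟨zy, hy3', hyo, hyi, hyc⟩ := exists_central h.pgroup y (by omega)
  have hd : Perm.Disjoint zx zy := fun w => by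
    rcases huniv w with q | q
    · exact Or.inr (hyo w (hdisj w q))
    · exact Or.inl (hxo w fun q' => hdisj w q' q)
  have hc := hd.commute.eq
  obtain ⟨Δ, hΔ, hsub⟩ := exists_maxGood gx
  obtain ⟨d, hd1, hd2⟩ := h.maxGood_grows (z := zx * zy) (by
      rw [show zx * zy * (zx * zy) * (zx * zy) = zx * (zy * zx) * (zy * zx) * zy by group, ← hc,
        show zx * (zx * zy) * (zx * zy) * zy = zx * zx * (zy * zx) * (zy * zy) by group, ← hc,
        show zx * zx * (zx * zy) * (zy * zy) = zx * zx * zx * (zy * zy * zy) by group, hx3, hy3', one_mul])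
    (fun a e => by
      rw [Perm.mul_apply] at e
      rcases huniv a with q | q
      · rw [hyo a (hdisj a q)] at e; exact hxi a q e
      · have hzy : zy a ∈ orb S y := by
          by_contra r
          exact hyi a q (zy.injective (hyo _ r))
        rw [hxo _ (fun q' => hdisj _ q' hzy)] at e; exact hyi a q e)
    (by omega) (fun s hs => by rw [mul_assoc, hyc s hs, ← mul_assoc, hxc s hs, mul_assoc])
    gx hx9 ⟨y, hy⟩ hΔ hsub
  obtain ⟨e, he⟩ := h.not_univ hΔ
  rcases huniv e with q | q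
  · exact he (hsub q)
  · exact he (hΔ.subset gy hd1 ((huniv d).resolve_left hd2) q)

/-- One orbit: the degree is at most nine. -/
theorem Setup.one_orbit (h : Setup S M) {x : α} (huniv : ∀ w, w ∈ orb S x) (h27 : 27 ≤ Fintype.card α) : False := by
  haveI : Fact (Nat.Prime 3) := ⟨Nat.prime_three⟩
  obtain ⟨z, hz3, -, hzi, hzc⟩ := exists_central h.pgroup x (by
    rw [Finset.eq_univ_iff_forall.mpr huniv, Finset.card_univ]; omega)
  -- a normal subgroup of index three above the stabiliser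
  obtain ⟨N, hNn, hN3, hNx⟩ : ∃ N : Subgroup S, N.Normal ∧ N.index = 3 ∧ MulAction.stabilizer S x ≤ N := by
    obtain ⟨m, hm⟩ := IsPGroup.iff_card.mp h.pgroup
    obtain ⟨j, hj⟩ := IsPGroup.iff_card.mp (h.pgroup.to_subgroup (MulAction.stabilizer S x))
    have horb : MulAction.orbit S x = Set.univ := Set.eq_univ_iff_forall.mpr fun w => by
      obtain ⟨s, hs, e⟩ := mem_orb.mp (huniv w)
      exact ⟨⟨s, hs⟩, e⟩
    have hidx : (MulAction.stabilizer S x).index = Fintype.card α := by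
      rw [MulAction.index_stabilizer, horb, Set.ncard_univ, Nat.card_eq_fintype_card]
    have hmul := Subgroup.card_mul_index (MulAction.stabilizer S x)
    rw [hidx, hj, hm] at hmul
    have hjm : j + 1 ≤ m := by
      by_contra hc
      have h1 : 3 ^ m ≤ 3 ^ j := Nat.pow_le_pow_right (by norm_num) (by omega)
      have h2 : 3 ^ j * 27 ≤ 3 ^ j * Fintype.card α := Nat.mul_le_mul_left _ h27
      have : 0 < 3 ^ j := by positivity
      omega
    obtain ⟨N, hN, hle⟩ := Sylow.exists_subgroup_card_pow_prime_le 3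
      (show 3 ^ (m - 1) ∣ Nat.card S from hm ▸ pow_dvd_pow 3 (by omega)) _ hj (by omega)
    have hNi : N.index = 3 := by
      have := Subgroup.card_mul_index N
      rw [hN, hm, show 3 ^ m = 3 ^ (m - 1) * 3 by rw [← pow_succ]; congr 1; omega] at this
      exact Nat.eq_of_mul_eq_mul_left (by positivity) this
    refine ⟨N, Subgroup.normal_of_index_eq_minFac_card ?_, hNi, hle⟩
    rw [hNi, hm, Nat.pow_minFac (by omega), Nat.prime_three.minFac_eq]
  let R : α → α → Prop := fun u v => ∃ k ∈ N, ((k : S) : Perm α) u = v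
  have Rrefl : ∀ u, R u u := fun u => ⟨1, one_mem N, rfl⟩
  have Rsymm : ∀ {u v}, R u v → R v u := fun {u v} ⟨k, hk, e⟩ => ⟨k⁻¹, inv_mem hk, by
    rw [← e, Subgroup.coe_inv]; exact ((k : S) : Perm α).symm_apply_apply u⟩
  have Rtrans : ∀ {u v w}, R u v → R v w → R u w := fun {u v w} ⟨k, hk, e⟩ ⟨l, hl, e'⟩ =>
    ⟨l * k, mul_mem hl hk, by rw [Subgroup.coe_mul, Perm.mul_apply, e, e']⟩
  have RS : ∀ (s : S) {u v}, R u v → R ((s : Perm α) u) ((s : Perm α) v) := fun s {u v} ⟨k, hk, e⟩ =>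
    ⟨s * k * s⁻¹, hNn.conj_mem k hk s, by
      rw [Subgroup.coe_mul, Subgroup.coe_mul, Subgroup.coe_inv, Perm.mul_apply, Perm.mul_apply,
        show (s : Perm α)⁻¹ ((s : Perm α) u) = u from (s : Perm α).symm_apply_apply u, e]⟩
  classical
  obtain ⟨B, hB⟩ : ∃ B, B = (Finset.univ : Finset α).filter (R x) := ⟨_, rfl⟩
  have hmB : ∀ w, w ∈ B ↔ R x w := fun w => by simp [hB]
  obtain ⟨s, hs⟩ : ∃ s : S, s ∉ N := by
    by_contra hall
    push Not at hall
    have hNt : N = ⊤ := eq_top_iff.mpr fun u _ => hall u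
    rw [hNt, Subgroup.index_top] at hN3
    omega
  have hsx : ¬ R x ((s : Perm α) x) := fun ⟨k, hk, e⟩ => hs (by
    have hst : k⁻¹ * s ∈ MulAction.stabilizer S x := by
      rw [MulAction.mem_stabilizer_iff, Subgroup.smul_def, Perm.smul_def, Subgroup.coe_mul,
        Subgroup.coe_inv, Perm.mul_apply, ← e]
      exact ((k : S) : Perm α).symm_apply_apply x
    have := mul_mem hk (hNx hst)
    rwa [mul_inv_cancel_left] at this)
  have hS3 : ∀ t : S, t ∈ N ∨ s⁻¹ * t ∈ N ∨ (s * s)⁻¹ * t ∈ N := fun t => by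
    haveI := hNn
    have hc : Nat.card (S ⧸ N) = 3 := hN3
    have hsne : QuotientGroup.mk' N s ≠ 1 := fun e => hs ((QuotientGroup.eq_one_iff s).mp e)
    have htop := zpowers_eq_top_of_prime_card hc hsne
    obtain ⟨k, hk⟩ := Subgroup.mem_zpowers_iff.mp (htop ▸ Subgroup.mem_top (QuotientGroup.mk' N t))
    have h3 : (QuotientGroup.mk' N s) ^ (3 : ℤ) = 1 := by
      rw [zpow_ofNat, ← hc]; exact pow_card_eq_one'
    rw [← Int.emod_add_mul_ediv k 3, zpow_add, zpow_mul, h3, one_zpow, mul_one] at hk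
    rcases (show k % 3 = 0 ∨ k % 3 = 1 ∨ k % 3 = 2 by omega) with e | e | e <;> rw [e] at hk
    · exact Or.inl ((QuotientGroup.eq_one_iff t).mp (by rw [zpow_zero] at hk; exact hk.symm))
    · exact Or.inr (Or.inl (QuotientGroup.eq.mp (by simpa using hk)))
    · exact Or.inr (Or.inr (QuotientGroup.eq.mp (by
        rw [zpow_ofNat, pow_two] at hk; simpa using hk)))
  have hcov : (Finset.univ : Finset α) ⊆ B ∪ B.image (s : Perm α) ∪ B.image ((s : Perm α) * (s : Perm α)) := fun w _ => by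
    obtain ⟨t, ht, rfl⟩ := mem_orb.mp (huniv w)
    simp only [Finset.mem_union, Finset.mem_image, hmB]
    rcases hS3 ⟨t, ht⟩ with q | q | q
    · exact Or.inl (Or.inl ⟨_, q, rfl⟩)
    · exact Or.inl (Or.inr ⟨_, ⟨_, q, rfl⟩, by
        simp [Perm.mul_apply, Perm.inv_def]⟩)
    · exact Or.inr ⟨_, ⟨_, q, rfl⟩, by simp [Perm.mul_apply, Perm.inv_def]⟩
  have hB9 : 9 ≤ B.card := by
    have h1 := Finset.card_le_card hcov
    have h2 := Finset.card_union_le (B ∪ B.image (s : Perm α)) (B.image ((s : Perm α) * (s : Perm α)))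
    have h3 := Finset.card_union_le B (B.image (s : Perm α))
    rw [Finset.card_image_of_injective _ (Equiv.injective _)] at h3
    rw [Finset.card_image_of_injective _ (Equiv.injective _)] at h2
    rw [Finset.card_univ] at h1
    omega
  have hBgood : Good M B := by
    refine ⟨by omega, fun g hg => ?_⟩
    let K : Subgroup (Perm α) :=
      { carrier := {f | ∀ u v, R (f u) (f v) ↔ R u v}
        one_mem' := fun u v => Iff.rfl
        mul_mem' := fun {f f'} hf hf' u v => (hf _ _).trans (hf' u v)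
        inv_mem' := fun {f} hf u v => by
          rw [← hf, show f (f⁻¹ u) = u from f.apply_symm_apply u, show f (f⁻¹ v) = v from f.apply_symm_apply v] }
    have hgR : ∀ u, R u (g u) := fun u => by
      by_cases hu : u ∈ B
      · refine Rtrans (Rsymm ((hmB u).mp hu)) ((hmB _).mp ?_)
        by_contra q
        rw [g.injective (hg.1 _ q)] at q
        exact q hu
      · rw [hg.1 u hu]; exact Rrefl u
    have hSK : S ≤ K := fun t ht u v => ⟨fun q => by
      have := RS (⟨t, ht⟩ : S)⁻¹ q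
      simp only [Subgroup.coe_inv, show ∀ w, t⁻¹ (t w) = w from t.symm_apply_apply] at this
      exact this, RS ⟨t, ht⟩⟩
    refine h.mem K hSK ?_ (fun u v => ⟨fun q => Rtrans (Rtrans (hgR u) q) (Rsymm (hgR v)),
      fun q => Rtrans (Rtrans (Rsymm (hgR u)) q) (hgR v)⟩) hg.2
    obtain ⟨w, hw, hwx⟩ := Finset.exists_mem_ne (s := B) (by omega) x
    obtain ⟨w', hw', hwne⟩ := Finset.exists_mem_ne (s := B.image (s : Perm α)) (by
      rw [Finset.card_image_of_injective _ (Equiv.injective _)]; omega) ((s : Perm α) x)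
    obtain ⟨v, hv, rfl⟩ := Finset.mem_image.mp hw'
    have hvy : R ((s : Perm α) x) ((s : Perm α) v) := RS s ((hmB v).mp hv)
    have hxy : x ≠ (s : Perm α) x := fun e => hsx (by rw [← e]; exact Rrefl x)
    have hxv : x ≠ (s : Perm α) v := fun e => hsx (Rsymm (by rw [← e] at hvy; exact hvy))
    have hwy : w ≠ (s : Perm α) x := fun e => hsx (e ▸ (hmB w).mp hw)
    have hwv : w ≠ (s : Perm α) v := fun e => hsx (Rtrans (e ▸ (hmB w).mp hw) (Rsymm hvy))
    refine ⟨c3 x ((s : Perm α) x) ((s : Perm α) v), sign_c3 hxy hwne.symm, fun hm => hsx ?_⟩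
    have := (hm x w).mpr ((hmB w).mp hw)
    rw [c3_fst hxy hxv, c3_of_ne hwx hwy hwv] at this
    exact Rsymm (Rtrans this (Rsymm ((hmB w).mp hw)))
  have hxs : (s : Perm α) x ∉ B := fun q => hsx ((hmB _).mp q)
  obtain ⟨Δ, hΔ, hsub⟩ := exists_maxGood hBgood
  obtain ⟨d, hdΔ, hdB⟩ := h.maxGood_grows hz3 (fun a => hzi a (huniv a)) (by omega) hzc hBgood (by omega)
    ⟨_, hxs⟩ hΔ hsub
  obtain ⟨t, ht, htd⟩ := mem_orb.mp (huniv d)
  obtain ⟨e, he⟩ := h.not_univ hΔ
  -- `S` lies in `M`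
  have hSM : ∀ u ∈ S, u ∈ M := fun u hu => by
    refine h.uniq S le_rfl h.le_alt (fun q => ?_) hu
    have hA : IsPGroup 3 (alternatingGroup α) := q ▸ h.pgroup
    haveI : Nontrivial α := Fintype.one_lt_card_iff_nontrivial.mp (by omega)
    obtain ⟨m, hm⟩ := IsPGroup.iff_card.mp hA
    have h2 := two_mul_nat_card_alternatingGroup (α := α)
    rw [hm, Nat.card_eq_fintype_card, Fintype.card_perm] at h2
    have h4 : 2 * 2 ∣ 2 * 3 ^ m := h2 ▸ (show 2 * 2 ∣ (4 : ℕ).factorial by decide).trans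
      (Nat.factorial_dvd_factorial (by omega : 4 ≤ Fintype.card α))
    have h5 : (2 : ℕ) ∣ 3 := Nat.prime_two.dvd_of_dvd_pow (Nat.dvd_of_mul_dvd_mul_left two_pos h4)
    omega
  -- the stabiliser of `Δ` is all of `S`
  let T : Subgroup S :=
    { carrier := {u | Δ.image (u : Perm α) = Δ}
      one_mem' := by simp
      mul_mem' := fun {u v} hu hv => by
        show Δ.image (((u : Perm α) * (v : Perm α)) : Perm α) = Δ
        rw [Perm.coe_mul, ← Finset.image_image, hv, hu]
      inv_mem' := fun {u} hu => by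
        show Δ.image ((u : Perm α)⁻¹ : Perm α) = Δ
        conv_lhs => rw [← (hu : Δ.image (u : Perm α) = Δ)]
        rw [Finset.image_image]
        ext w; simp }
  have hstab : ∀ u : S, (u : Perm α) x ∈ Δ → u ∈ T := fun u hu => by
    refine Finset.eq_of_subset_of_card_le (hΔ.subset (good_image hΔ.1 (hSM u u.2)) hu ?_) ?_
    · exact Finset.mem_image_of_mem _ (hsub ((hmB x).mpr (Rrefl x)))
    · rw [Finset.card_image_of_injective _ (Equiv.injective _)]
  have hNT : N ≤ T := fun k hk => hstab k (hsub ((hmB _).mpr ⟨k, hk, rfl⟩))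
  have htT : (⟨t, ht⟩ : S) ∈ T := hstab ⟨t, ht⟩ (htd ▸ hdΔ)
  have htN : (⟨t, ht⟩ : S) ∉ N := fun q => hdB ((hmB _).mpr ⟨_, q, htd⟩)
  have hT : T = ⊤ := by
    rw [← Subgroup.index_eq_one]
    have hd := Subgroup.index_dvd_of_le hNT
    rw [hN3] at hd
    rcases (Nat.dvd_prime Nat.prime_three).mp hd with q | q
    · exact q
    · exfalso
      have hTN : N = T := Subgroup.eq_of_le_of_card_ge hNT (by
        have h1 := Subgroup.card_mul_index T
        have h2 := Subgroup.card_mul_index N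
        rw [q] at h1; rw [hN3] at h2
        omega)
      exact htN (hTN ▸ htT)
  obtain ⟨u, hu, hue⟩ := mem_orb.mp (huniv e)
  have := (show (⟨u, hu⟩ : S) ∈ T from hT ▸ Subgroup.mem_top _ : Δ.image u = Δ)
  exact he (this ▸ hue ▸ Finset.mem_image_of_mem _ (hsub ((hmB x).mpr (Rrefl x))))

/-- The degree. -/
theorem Setup.degree (h : Setup S M) (h5 : 5 ≤ Fintype.card α) :
    Fintype.card α = 6 ∨ Fintype.card α = 9 ∨ ∃ a, 2 ≤ a ∧ Fintype.card α = 3 ^ a + 1 := by
  obtain ⟨x⟩ : Nonempty α := Fintype.card_pos_iff.mp (by omega)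
  by_cases h1 : ∀ w, w ∈ orb S x
  · obtain ⟨a, ha⟩ := card_orb h.pgroup x
    rw [Finset.eq_univ_iff_forall.mpr h1, Finset.card_univ] at ha
    have ha3 : ¬ 3 ≤ a := fun q => h.one_orbit h1 (by
      rw [ha]; calc 27 = 3 ^ 3 := by norm_num
        _ ≤ 3 ^ a := Nat.pow_le_pow_right (by norm_num) q)
    interval_cases a <;> omega
  push Not at h1
  obtain ⟨y, hy⟩ := h1
  have hxy : ∀ w, w ∈ orb S x → w ∉ orb S y := fun w q r => hy (by
    rw [← orb_eq q, orb_eq r]; exact self_mem_orb y)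
  by_cases h2 : ∀ w, w ∈ orb S x ∨ w ∈ orb S y
  · have hsum : Fintype.card α = (orb S x).card + (orb S y).card := by
      rw [← Finset.card_union_of_disjoint (Finset.disjoint_left.mpr hxy), ← Finset.card_univ]
      congr 1
      ext w
      simpa using h2 w
    obtain ⟨a, ha⟩ := card_orb h.pgroup x
    obtain ⟨b, hb⟩ := card_orb h.pgroup y
    rw [ha, hb] at hsum
    rcases Nat.eq_zero_or_pos a with ha0 | ha0
    · subst ha0
      refine Or.inr (Or.inr ⟨b, ?_, by rw [hsum, pow_zero, add_comm]⟩)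
      by_contra hb2
      interval_cases b <;> simp at hsum <;> omega
    rcases Nat.eq_zero_or_pos b with hb0 | hb0
    · subst hb0
      refine Or.inr (Or.inr ⟨a, ?_, by rw [hsum, pow_zero]⟩)
      by_contra ha2
      interval_cases a
      simp at hsum; omega
    have ha3 : 3 ≤ 3 ^ a := Nat.le_self_pow (by omega) 3
    have hb3 : 3 ≤ 3 ^ b := Nat.le_self_pow (by omega) 3
    by_cases ha9 : 2 ≤ a
    · have : 3 ^ 2 ≤ 3 ^ a := Nat.pow_le_pow_right (by norm_num) ha9
      exact (h.two_orbits h5 hy h2 (by rw [ha]; omega) (by rw [hb]; exact hb3)).elim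
    by_cases hb9 : 2 ≤ b
    · have : 3 ^ 2 ≤ 3 ^ b := Nat.pow_le_pow_right (by norm_num) hb9
      exact (h.two_orbits h5 (x := y) (y := x) (fun q => hxy x (self_mem_orb x) q) (fun w => (h2 w).symm)
        (by rw [hb]; omega) (by rw [ha]; exact ha3)).elim
    obtain rfl : a = 1 := by omega
    obtain rfl : b = 1 := by omega
    exact Or.inl (by rw [hsum]; norm_num)
  push Not at h2
  obtain ⟨u, hux, huy⟩ := h2
  exfalso
  have key : ∀ p q r : α, q ∉ orb S p → r ∉ orb S p → r ∉ orb S q →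
      3 ≤ (orb S p)ᶜ.card → 3 ≤ (orb S q)ᶜ.card → False := by
    intro p q r hq hr hr' hp3 hq3
    obtain ⟨Δ, hΔ, hsub⟩ := exists_maxGood (h.good_compl p hp3 h5)
    have hs2 : (orb S q)ᶜ ⊆ Δ :=
      hΔ.subset (h.good_compl q hq3 h5) (hsub (Finset.mem_compl.mpr hr)) (Finset.mem_compl.mpr hr')
    obtain ⟨e, he⟩ := h.not_univ hΔ
    by_cases hep : e ∈ orb S p
    · refine he (hs2 (Finset.mem_compl.mpr fun heq => hq ?_))
      rw [← orb_eq hep, orb_eq heq]; exact self_mem_orb q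
    · exact he (hsub (Finset.mem_compl.mpr hep))
  have hbad : ∀ p : α, ¬ 3 ≤ (orb S p)ᶜ.card → Fintype.card α ≤ (orb S p).card + 2 := fun p q => by
    rw [Finset.card_compl] at q; omega
  have hpair : ∀ p q : α, q ∉ orb S p → (orb S p).card + (orb S q).card ≤ Fintype.card α := fun p q hq => by
    rw [← Finset.card_union_of_disjoint (Finset.disjoint_left.mpr fun w r r' => hq (by
      rw [← orb_eq r, orb_eq r']; exact self_mem_orb q))]
    exact Finset.card_le_univ _
  have hsym : ∀ p q : α, q ∉ orb S p → p ∉ orb S q := fun p q hq r => hq (by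
    rw [orb_eq r]; exact self_mem_orb q)
  by_cases px : 3 ≤ (orb S x)ᶜ.card
  · by_cases py : 3 ≤ (orb S y)ᶜ.card
    · exact key x y u hy hux huy px py
    · refine key x u y hux hy (hsym _ _ huy) px ?_
      by_contra pu
      have := hbad y py; have := hbad u pu; have := hpair y u huy; omega
  · refine key y u x huy (hsym _ _ hy) (hsym _ _ hux) ?_ ?_ <;> by_contra pu
    · have := hbad x px; have := hbad y pu; have := hpair x y hy; omega
    · have := hbad x px; have := hbad u pu; have := hpair x u hux; omega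

end CfsgLib.ThreeMinimal
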