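/-
Maximal overgroups of Sylow 2-subgroups of symmetric and alternating groups.
-/
import Mathlib

set_option autoImplicit false
set_option linter.style.haveILetI false
set_option linter.unusedSectionVars false

open Equiv MulAction
open scoped Pointwise Nat

namespace CfsgLib.TwoOvergroups

/-! ### Parities -/

theorem odd_choose_add : ∀ (a m : ℕ), m < 2 ^ a → Odd ((2 ^ a + m).choose m)
  | 0, m, hm => by simp at hm; subst hm; simp
  | a + 1, m, hm => by
    haveI : Fact (Nat.Prime 2) := ⟨Nat.prime_two⟩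
    have h := Choose.choose_modEq_choose_mod_mul_choose_div_nat (n := 2 ^ (a + 1) + m) (k := m) (p := 2)
    have hm2 : m / 2 < 2 ^ a := by rw [pow_succ] at hm; omega
    have h1 : (2 ^ (a + 1) + m) % 2 = m % 2 := by rw [pow_succ]; omega
    have h2 : (2 ^ (a + 1) + m) / 2 = 2 ^ a + m / 2 := by rw [pow_succ]; omega
    rw [h1, h2, Nat.choose_self, one_mul] at h
    unfold Nat.ModEq at h
    have hIH := odd_choose_add a (m / 2) hm2
    rw [Nat.odd_iff] at hIH ⊢
    exact h.trans hIH

theorem factorial_two_mul : ∀ m : ℕ, ∃ o, Odd o ∧ (2 * m)! = 2 ^ m * m ! * o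
  | 0 => ⟨1, odd_one, by simp⟩
  | m + 1 => by
    obtain ⟨o, ho, he⟩ := factorial_two_mul m
    refine ⟨(2 * m + 1) * o, (odd_two_mul_add_one m).mul ho, ?_⟩
    rw [show 2 * (m + 1) = 2 * m + 1 + 1 by ring, Nat.factorial_succ, Nat.factorial_succ, he,
      Nat.factorial_succ, pow_succ]
    ring

theorem even_choose_succ_two_pow {k r : ℕ} (hr : 2 ≤ r) (hrk : r < 2 ^ k) :
    2 ∣ (2 ^ k + 1).choose r := by
  obtain ⟨r, rfl⟩ := Nat.exists_eq_add_of_le hr
  rw [show 2 + r = (r + 1) + 1 by ring, Nat.choose_succ_succ]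
  exact dvd_add (Nat.prime_two.dvd_choose_pow (by omega) (by omega))
    (Nat.prime_two.dvd_choose_pow (by omega) (by omega))

/-! ### Alternating groups on subsets -/

variable {α : Type*} [Fintype α] [DecidableEq α]

/-- `K` contains all products of two transpositions on `U`. -/
def AltOn (K : Subgroup (Perm α)) (U : Set α) : Prop :=
  ∀ a b c d, a ∈ U → b ∈ U → c ∈ U → d ∈ U → a ≠ b → c ≠ d → swap a b * swap c d ∈ K

theorem AltOn.union {K : Subgroup (Perm α)} {U V : Set α} (hU : AltOn K U) (hV : AltOn K V)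
    {p q : α} (hpq : p ≠ q) (hp : p ∈ U ∩ V) (hq : q ∈ U ∩ V) : AltOn K (U ∪ V) := by
  have base : ∀ z ∈ U ∪ V, z ≠ p → swap p q * swap p z ∈ K := fun z hz hzp => by
    rcases hz with hz | hz
    · exact hU p q p z hp.1 hq.1 hp.1 hz hpq (Ne.symm hzp)
    · exact hV p q p z hp.2 hq.2 hp.2 hz hpq (Ne.symm hzp)
  have pair : ∀ y ∈ U ∪ V, ∀ z ∈ U ∪ V, y ≠ p → z ≠ p → swap p y * swap p z ∈ K :=
    fun y hy z hz hyp hzp => by
    have h := K.mul_mem (K.inv_mem (base y hy hyp)) (base z hz hzp)
    rwa [mul_inv_rev, swap_inv, swap_inv, mul_assoc, swap_mul_self_mul] at h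
  have conjswap : ∀ a b, a ≠ p → b ≠ p → a ≠ b →
      swap a b = swap p a * swap p b * swap p a := fun a b ha hb hab => by
    rw [swap_comm p b]
    exact (swap_mul_swap_mul_swap hb (Ne.symm hab)).symm
  intro a b c d ha hb hc hd hab hcd
  -- each transposition is a product of an odd number of transpositions at `p`
  have key : ∀ a b, a ∈ U ∪ V → b ∈ U ∪ V → a ≠ b →
      ∀ z ∈ U ∪ V, z ≠ p → swap a b * swap p z ∈ K ∧ swap p z * swap a b ∈ K := by
    intro a b ha hb hab z hz hzp
    by_cases hap : a = p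
    · subst hap
      exact ⟨pair b hb z hz (fun h => hab h.symm) hzp, pair z hz b hb hzp (fun h => hab h.symm)⟩
    by_cases hbp : b = p
    · subst hbp
      rw [swap_comm a b]
      exact ⟨pair a ha z hz hap hzp, pair z hz a ha hzp hap⟩
    rw [conjswap a b hap hbp hab]
    constructor
    · rw [mul_assoc (swap p a * swap p b)]
      exact K.mul_mem (pair a ha b hb hap hbp) (pair a ha z hz hap hzp)
    · rw [mul_assoc (swap p a) (swap p b), ← mul_assoc (swap p z)]
      exact K.mul_mem (pair z hz a ha hzp hap) (pair b hb a ha hbp hap)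
  by_cases hcp : c = p
  · subst hcp; exact (key a b ha hb hab d hd (Ne.symm hcd)).1
  by_cases hdp : d = p
  · subst hdp; rw [swap_comm c d]; exact (key a b ha hb hab c hc hcd).1
  rw [conjswap c d hcp hdp hcd, mul_assoc (swap p c), ← mul_assoc (swap a b)]
  exact K.mul_mem (key a b ha hb hab c hc hcp).1 (pair d hd c hc hdp hcp)

theorem alternatingGroup_le_of_altOn {K : Subgroup (Perm α)} (h : AltOn K Set.univ) :
    alternatingGroup α ≤ K := by
  have key : ∀ g : Perm α, if Perm.sign g = 1 then g ∈ K else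
      ∀ a b : α, a ≠ b → swap a b * g ∈ K := by
    intro g
    induction g using Perm.swap_induction_on with
    | one => simp [K.one_mem]
    | swap_mul g x y hxy ih =>
      rw [Perm.sign_mul, Perm.sign_swap hxy]
      rcases Int.units_eq_one_or (Perm.sign g) with hs | hs
      · rw [hs, if_pos rfl] at ih
        rw [hs, if_neg (by decide)]
        intro a b hab
        rw [← mul_assoc]
        exact K.mul_mem (h a b x y trivial trivial trivial trivial hab hxy) ih
      · rw [hs, if_neg (by decide)] at ih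
        rw [hs, if_pos (by decide)]
        exact ih x y hxy
  intro g hg
  have := key g
  rwa [if_pos (Perm.mem_alternatingGroup.mp hg)] at this

theorem swap_mul_swap_mem_alt {a b c d : α} (hab : a ≠ b) (hcd : c ≠ d) :
    swap a b * swap c d ∈ alternatingGroup α := by
  rw [Perm.mem_alternatingGroup, Perm.sign_mul, Perm.sign_swap hab, Perm.sign_swap hcd]
  rfl

theorem swap_mem_stabilizer' {X : Set α} {a b : α} (ha : a ∈ X) (hb : b ∈ X) :
    swap a b ∈ stabilizer (Perm α) X := by
  rw [mem_stabilizer_set]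
  intro x
  rw [Perm.smul_def]
  by_cases h1 : x = a
  · subst h1; simp [ha, hb]
  by_cases h2 : x = b
  · subst h2; simp [ha, hb]
  rw [swap_apply_of_ne_of_ne h1 h2]

/-! ### Odd index overgroups of a Sylow subgroup -/

theorem exists_conj_mem {G : Type*} [Group G] [Finite G] (P : Sylow 2 G) {K : Subgroup G}
    (hK : Odd K.index) : ∃ g : G, ∀ x ∈ (P : Subgroup G), g⁻¹ * x * g ∈ K := by
  haveI : Fact (Nat.Prime 2) := ⟨Nat.prime_two⟩
  obtain ⟨Q⟩ : Nonempty (Sylow 2 K) := inferInstance
  have hQi : ¬ 2 ∣ ((Q : Subgroup K).map K.subtype).index := by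
    rw [Subgroup.index_map_subtype]
    exact Nat.prime_two.not_dvd_mul Q.not_dvd_index hK.not_two_dvd_nat
  let Q' : Sylow 2 G := (Q.isPGroup'.map K.subtype).toSylow hQi
  obtain ⟨g, hg⟩ := exists_smul_eq G Q' P
  refine ⟨g, fun x hx => ?_⟩
  have hx' : x ∈ ((g • Q' : Sylow 2 G) : Subgroup G) := by rw [hg]; exact hx
  rw [Sylow.coe_subgroup_smul, Subgroup.mem_pointwise_smul_iff_inv_smul_mem] at hx'
  obtain ⟨k, -, hk⟩ := hx'
  have : g⁻¹ * x * g = k := by
    have hk' : (k : G) = (MulAut.conj g)⁻¹ • x := hk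
    rw [hk', MulAut.smul_def, MulAut.inv_apply, MulAut.conj_symm_apply]
  rw [this]; exact k.2

theorem index_stab (X : Set α) :
    (stabilizer (Perm α) X).index = (Fintype.card α).choose X.ncard := by
  classical
  haveI := Set.powersetCard.isPretransitive (α := α) (n := X.ncard)
  let s : Set.powersetCard α X.ncard := ⟨X.toFinset, by
    rw [Set.powersetCard.mem_iff, Set.ncard_eq_toFinset_card']⟩
  have h := index_stabilizer_of_transitive (Perm α) s
  rw [Set.powersetCard.card, Nat.card_eq_fintype_card] at h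
  rw [← h]
  congr 1
  ext g
  rw [mem_stabilizer_iff, mem_stabilizer_iff, ← Subtype.coe_inj, Set.powersetCard.coe_smul]
  show g • X = X ↔ g • X.toFinset = X.toFinset
  rw [← Finset.coe_inj, Finset.coe_smul_finset, Set.coe_toFinset]

theorem odd_index_centralizer {σ : Perm α} {m : ℕ} (hσ : σ.cycleType = Multiset.replicate m 2)
    (hn : Fintype.card α = 2 * m ∨ Fintype.card α = 2 * m + 1) :
    Odd (Subgroup.centralizer ({σ} : Set (Perm α))).index := by
  have hc := Perm.nat_card_centralizer σ
  have hprod : ∏ n ∈ σ.cycleType.toFinset, (σ.cycleType.count n)! = m ! := by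
    rw [hσ]
    rcases Nat.eq_zero_or_pos m with h | h
    · subst h; simp
    · rw [Multiset.toFinset_replicate, if_neg h.ne', Finset.prod_singleton,
        Multiset.count_replicate_self]
  rw [hprod, hσ, Multiset.sum_replicate, Multiset.prod_replicate, smul_eq_mul] at hc
  obtain ⟨o, ho, he⟩ := factorial_two_mul m
  have hmul := (Subgroup.centralizer ({σ} : Set (Perm α))).card_mul_index
  rw [hc, Nat.card_perm, Nat.card_eq_fintype_card] at hmul
  rcases hn with hn | hn <;> rw [hn] at hmul
  · rw [show 2 * m - m * 2 = 0 by omega, Nat.factorial_zero, one_mul, he] at hmul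
    rw [Nat.eq_of_mul_eq_mul_left (by positivity) hmul]
    exact ho
  · rw [show 2 * m + 1 - m * 2 = 1 by omega, Nat.factorial_one, one_mul, Nat.factorial_succ, he,
      show (2 * m + 1) * (2 ^ m * m ! * o) = 2 ^ m * m ! * ((2 * m + 1) * o) by ring] at hmul
    rw [Nat.eq_of_mul_eq_mul_left (by positivity) hmul]
    exact (odd_two_mul_add_one m).mul ho

theorem odd_index_halves {X : Set α} {c : ℕ} (hX : X.ncard = 2 ^ c)
    (hn : Fintype.card α = 2 ^ (c + 1)) :
    Odd (stabilizer (Perm α) ({X, Xᶜ} : Set (Set α))).index := by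
  classical
  set H := stabilizer (Perm α) ({X, Xᶜ} : Set (Set α)) with hH
  have hle : stabilizer (Perm α) X ≤ H := by
    intro g hg
    rw [hH, mem_stabilizer_iff, Set.smul_set_insert, Set.smul_set_singleton, Set.smul_set_compl,
      mem_stabilizer_iff.mp hg]
  have hXc : Xᶜ.ncard = X.ncard := by
    have := Set.ncard_add_ncard_compl X
    rw [Nat.card_eq_fintype_card, hn, hX, pow_succ] at this
    omega
  have hne : X ≠ Xᶜ := fun h => by
    have h0 : 0 < X.ncard := by rw [hX]; positivity
    obtain ⟨x, hx⟩ := Set.nonempty_of_ncard_ne_zero h0.ne'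
    exact (h ▸ hx : x ∈ Xᶜ) hx
  haveI := Set.powersetCard.isPretransitive (α := α) (n := X.ncard)
  obtain ⟨τ, hτ⟩ : ∃ τ : Perm α, τ • X = Xᶜ := by
    obtain ⟨τ, hτ⟩ := exists_smul_eq (Perm α)
      (⟨X.toFinset, by rw [Set.powersetCard.mem_iff, Set.ncard_eq_toFinset_card']⟩ :
        Set.powersetCard α X.ncard)
      (⟨Xᶜ.toFinset, by
        rw [Set.powersetCard.mem_iff, ← Set.ncard_eq_toFinset_card', hXc]⟩ :
        Set.powersetCard α X.ncard)
    refine ⟨τ, ?_⟩
    have := congrArg (fun s : Set.powersetCard α X.ncard => ((s : Finset α) : Set α)) hτ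
    simpa using this
  have hτ' : τ • Xᶜ = X := by rw [Set.smul_set_compl, hτ, compl_compl]
  have hτH : τ ∈ H := by
    rw [hH, mem_stabilizer_iff, Set.smul_set_insert, Set.smul_set_singleton, hτ, hτ', Set.pair_comm]
  have h2 : (stabilizer (Perm α) X).relIndex H = 2 := by
    rw [Subgroup.relIndex, Subgroup.index_eq_two_iff]
    refine ⟨⟨τ, hτH⟩, fun b => ?_⟩
    simp only [Subgroup.mem_subgroupOf, Subgroup.coe_mul, mem_stabilizer_iff, mul_smul, hτ]
    have hb : (b : Perm α) • X = X ∨ (b : Perm α) • X = Xᶜ := by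
      have : (b : Perm α) • X ∈ (b : Perm α) • ({X, Xᶜ} : Set (Set α)) :=
        Set.smul_mem_smul_set (by simp)
      rw [mem_stabilizer_iff.mp b.2] at this
      simpa using this
    rw [Set.smul_set_compl]
    rcases hb with hb | hb <;> rw [hb]
    · exact Or.inr ⟨rfl, fun h => hne h.symm⟩
    · exact Or.inl ⟨compl_compl X, fun h => hne h.symm⟩
  have h := Subgroup.relIndex_mul_index hle
  rw [h2, index_stab, hn, hX] at h
  have h1 : (2 ^ (c + 1)).choose (2 ^ c) = 2 * (2 ^ c + (2 ^ c - 1)).choose (2 ^ c - 1) := by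
    obtain ⟨d, hd⟩ : ∃ d, 2 ^ c = d + 1 := ⟨2 ^ c - 1, by have := Nat.one_le_two_pow (n := c); omega⟩
    rw [pow_succ, hd, show (d + 1) * 2 = (2 * d + 1) + 1 by ring, Nat.choose_succ_succ,
      show d + 1 + (d + 1 - 1) = 2 * d + 1 by omega, show d + 1 - 1 = d by omega,
      Nat.choose_symm_of_eq_add (n := 2 * d + 1) (a := d + 1) (b := d) (by ring)]
    ring
  rw [h1] at h
  rw [Nat.eq_of_mul_eq_mul_left two_pos h]
  exact odd_choose_add c _ (by have := Nat.one_le_two_pow (n := c); omega)

/-! ### Pair-preserving permutations -/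

theorem apply_apply_of_sq {σ : Perm α} (hσ : σ * σ = 1) (x : α) : σ (σ x) = x := by
  rw [← Perm.mul_apply, hσ, Perm.one_apply]

theorem mul_self_of_pairs {σ g : Perm α} (hσ : σ * σ = 1) (hc : g * σ = σ * g)
    (hg : ∀ x, g x = x ∨ g x = σ x) : g * g = 1 := by
  ext x
  rw [Perm.mul_apply, Perm.one_apply]
  rcases hg x with h | h
  · rw [h, h]
  · rw [h, ← Perm.mul_apply, hc, Perm.mul_apply, h, apply_apply_of_sq hσ]

/-- Permutations commuting with the involution `σ` and fixing each of its orbits. -/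
def pairFix (σ : Perm α) (hσ : σ * σ = 1) : Subgroup (Perm α) where
  carrier := {g | g * σ = σ * g ∧ ∀ x, g x = x ∨ g x = σ x}
  one_mem' := ⟨by simp, fun x => Or.inl rfl⟩
  mul_mem' := fun {g h} hg hh => ⟨by rw [mul_assoc, hh.1, ← mul_assoc, hg.1, mul_assoc], fun x => by
    rcases hh.2 x with h1 | h1
    · rw [Perm.mul_apply, h1]; exact hg.2 x
    · rw [Perm.mul_apply, h1, ← Perm.mul_apply, hg.1, Perm.mul_apply]
      rcases hg.2 x with h2 | h2 <;> rw [h2]
      · exact Or.inr rfl
      · exact Or.inl (apply_apply_of_sq hσ x)⟩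
  inv_mem' := fun {g} hg => by
    have h := mul_self_of_pairs hσ hg.1 hg.2
    rw [inv_eq_of_mul_eq_one_right h]
    exact hg

theorem pairFix_le_sylow {σ : Perm α} (hσ : σ * σ = 1) (P : Sylow 2 (Perm α))
    (hP : (P : Subgroup (Perm α)) ≤ Subgroup.centralizer {σ}) :
    pairFix σ hσ ≤ (P : Subgroup (Perm α)) := by
  have hE : IsPGroup 2 (pairFix σ hσ) := fun g => ⟨1, Subtype.ext (by
    simpa [pow_two] using mul_self_of_pairs hσ g.2.1 g.2.2)⟩
  have hPN : (P : Subgroup (Perm α)) ≤ Subgroup.normalizer (pairFix σ hσ : Set (Perm α)) := by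
    intro c hc
    have key : ∀ c : Perm α, c ∈ Subgroup.centralizer ({σ} : Set (Perm α)) →
        ∀ g ∈ pairFix σ hσ, c * g * c⁻¹ ∈ pairFix σ hσ := by
      intro c hc g hg
      have hcσ := Subgroup.mem_centralizer_singleton_iff.mp hc
      have hc' := Subgroup.mem_centralizer_singleton_iff.mp (inv_mem hc)
      refine ⟨?_, fun x => ?_⟩
      · rw [mul_assoc, hc', ← mul_assoc, mul_assoc c g, hg.1, ← mul_assoc, hcσ]
        group
      · rw [Perm.mul_apply, Perm.mul_apply]
        rcases hg.2 (c⁻¹ x) with h | h <;> rw [h]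
        · exact Or.inl (by simp)
        · rw [← Perm.mul_apply c σ, hcσ, Perm.mul_apply]
          exact Or.inr (by simp)
    refine Subgroup.mem_normalizer_iff.mpr fun g => ⟨key c (hP hc) g, fun h => ?_⟩
    have := key c⁻¹ (inv_mem (hP hc)) _ h
    simpa [mul_assoc] using this
  have h := P.is_maximal' (P.isPGroup'.to_sup_of_normal_right' hE hPN) le_sup_left
  exact le_sup_right.trans h.le

/-! ### Setting: a group between the alternating and the symmetric group -/

variable {H : Type*} [Group H] [Finite H]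

/-- An embedding with image containing the alternating group and with maximal set stabilisers. -/
structure Big (f : H →* Perm α) : Prop where
  inj : Function.Injective f
  alt : alternatingGroup α ≤ f.range
  coat : ∀ X : Set α, X.Nonempty → Xᶜ.Nonempty → Fintype.card α ≠ 2 * X.ncard →
    IsCoatom ((stabilizer (Perm α) X).comap f)

theorem exists_alt_moves {X : Set α} (hα : 3 ≤ Fintype.card α) (hne : X.Nonempty)
    (hnc : Xᶜ.Nonempty) : ∃ g ∈ alternatingGroup α, g • X ≠ X := by
  obtain ⟨x, hx⟩ := hne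
  obtain ⟨y, hy⟩ := hnc
  have hxy : x ≠ y := fun h => hy (h ▸ hx)
  have h2 : ({x, y} : Finset α).card < (Finset.univ : Finset α).card := by
    rw [Finset.card_pair hxy, Finset.card_univ]; omega
  obtain ⟨z, -, hz⟩ := Finset.exists_mem_notMem_of_card_lt_card h2
  simp only [Finset.mem_insert, Finset.mem_singleton, not_or] at hz
  refine ⟨swap x y * swap y z, swap_mul_swap_mem_alt hxy (Ne.symm hz.2), fun h => ?_⟩
  have : (swap x y * swap y z) • x ∈ (swap x y * swap y z) • X := Set.smul_mem_smul_set hx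
  rw [h, Perm.smul_def, Perm.mul_apply, swap_apply_of_ne_of_ne hxy (Ne.symm hz.1),
    swap_apply_left] at this
  exact hy this

theorem odd_index_of_sylow {G : Type*} [Group G] [Finite G] {R : Sylow 2 G} {M : Subgroup G}
    (h : (R : Subgroup G) ≤ M) : Odd M.index := by
  haveI : Fact (Nat.Prime 2) := ⟨Nat.prime_two⟩
  rw [← Nat.not_even_iff_odd, even_iff_two_dvd]
  exact fun hd => R.not_dvd_index (hd.trans (Subgroup.index_dvd_of_le h))

theorem eq_top_of_alt_le {f : H →* Perm α} (B : Big f) [Nontrivial α] {R : Sylow 2 H}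
    {M : Subgroup H} (hR : (R : Subgroup H) ≤ M) (hA : alternatingGroup α ≤ M.map f) : M = ⊤ := by
  have hle : (alternatingGroup α).comap f ≤ M := fun h hh => by
    obtain ⟨m, hm, he⟩ := hA (Subgroup.mem_comap.mp hh)
    exact B.inj he ▸ hm
  have hd : M.index ∣ 2 := by
    refine (Subgroup.index_dvd_of_le hle).trans ?_
    rw [Subgroup.index_comap]
    refine (Subgroup.relIndex_dvd_index_of_normal _ _).trans ?_
    rw [alternatingGroup.index_eq_two]
  rw [← Subgroup.index_eq_one]
  rcases (Nat.dvd_prime Nat.prime_two).mp hd with h | h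
  · exact h
  · exact absurd (odd_index_of_sylow hR) (by rw [h]; decide)

/-- The unique maximal overgroup contains every proper overgroup. -/
theorem le_of_unique {R : Sylow 2 H} {M K : Subgroup H}
    (huni : ∀ M', (IsCoatom M' ∧ (R : Subgroup H) ≤ M') → M' = M) (hK : K ≠ ⊤)
    (hRK : (R : Subgroup H) ≤ K) : K ≤ M := by
  obtain ⟨M', hM', hle⟩ := (eq_top_or_exists_le_coatom K).resolve_left hK
  exact (huni M' ⟨hM', hRK.trans hle⟩) ▸ hle

theorem comap_ne_top {f : H →* Perm α} (B : Big f) {K : Subgroup (Perm α)} {g : Perm α}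
    (hg : g ∈ alternatingGroup α) (hK : g ∉ K) : K.comap f ≠ ⊤ := fun h => by
  obtain ⟨r, rfl⟩ := B.alt hg
  exact hK (Subgroup.mem_comap.mp (h ▸ Subgroup.mem_top r))

theorem conj_cycleType (g σ : Perm α) : (g * σ * g⁻¹).cycleType = σ.cycleType := Perm.cycleType_conj

theorem exists_pairing {m : ℕ} (hn : 2 * m ≤ Fintype.card α) (P : Sylow 2 (Perm α))
    (hn' : Fintype.card α ≤ 2 * m + 1) : ∃ σ : Perm α, σ.cycleType = Multiset.replicate m 2 ∧
      σ * σ = 1 ∧ σ.support.card = 2 * m ∧ (P : Subgroup (Perm α)) ≤ Subgroup.centralizer {σ} := by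
  obtain ⟨σ₀, hσ₀⟩ := (Perm.exists_with_cycleType_iff (α := α) (m := Multiset.replicate m 2)).mpr
    ⟨by rw [Multiset.sum_replicate, smul_eq_mul, mul_comm]; exact hn, fun a ha => by
      rw [Multiset.eq_of_mem_replicate ha]⟩
  obtain ⟨g, hg⟩ := exists_conj_mem P (odd_index_centralizer hσ₀ (by omega))
  have hct : (g * σ₀ * g⁻¹).cycleType = Multiset.replicate m 2 := by rw [conj_cycleType, hσ₀]
  refine ⟨g * σ₀ * g⁻¹, hct, ?_, ?_, fun x hx => ?_⟩
  · have : orderOf (g * σ₀ * g⁻¹) ∣ 2 := by
      rw [← Perm.lcm_cycleType, hct, Multiset.lcm_dvd]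
      intro b hb; rw [Multiset.eq_of_mem_replicate hb]
    rw [← pow_two]
    exact orderOf_dvd_iff_pow_eq_one.mp this
  · rw [← Perm.sum_cycleType, hct, Multiset.sum_replicate, smul_eq_mul, mul_comm]
  · have := Subgroup.mem_centralizer_singleton_iff.mp (hg x hx)
    rw [Subgroup.mem_centralizer_singleton_iff]
    calc x * (g * σ₀ * g⁻¹) = g * ((g⁻¹ * x * g) * σ₀) * g⁻¹ := by group
      _ = g * (σ₀ * (g⁻¹ * x * g)) * g⁻¹ := by rw [this]
      _ = (g * σ₀ * g⁻¹) * x := by group

theorem exists_invariant_set (P : Sylow 2 (Perm α)) {r : ℕ} (hr : r ≤ Fintype.card α)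
    (hodd : Odd ((Fintype.card α).choose r)) :
    ∃ X : Set α, X.ncard = r ∧ (P : Subgroup (Perm α)) ≤ stabilizer (Perm α) X := by
  obtain ⟨s, -, hs⟩ := Finset.exists_subset_card_eq (s := (Finset.univ : Finset α)) (n := r)
    (by rwa [Finset.card_univ])
  obtain ⟨g, hg⟩ := exists_conj_mem P (K := stabilizer (Perm α) (s : Set α))
    (by rwa [index_stab, Set.ncard_coe_finset, hs])
  refine ⟨g • (s : Set α), by rw [Set.ncard_smul_set, Set.ncard_coe_finset, hs], fun x hx => ?_⟩
  have h := mem_stabilizer_iff.mp (hg x hx)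
  rw [mul_smul, mul_smul, inv_smul_eq_iff] at h
  exact mem_stabilizer_iff.mpr h

/-! ### Pairs of transpositions commuting with an involution -/

theorem disjoint_comm {x y z t : α} (hxz : x ≠ z) (hxt : x ≠ t) (hyz : y ≠ z) (hyt : y ≠ t) :
    swap x y * swap z t = swap z t * swap x y := by
  have hx : swap z t x = x := swap_apply_of_ne_of_ne hxz hxt
  have hy : swap z t y = y := swap_apply_of_ne_of_ne hyz hyt
  conv_rhs => rw [mul_swap_eq_swap_mul, hx, hy]

theorem commute_pairswap {σ : Perm α} (hσ : σ * σ = 1) {x y : α} (h1 : x ≠ σ x) (h2 : x ≠ σ y)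
    (h3 : y ≠ σ x) (h4 : y ≠ σ y) :
    swap x y * swap (σ x) (σ y) ∈ Subgroup.centralizer ({σ} : Set (Perm α)) := by
  rw [Subgroup.mem_centralizer_singleton_iff]
  have h : σ * (swap x y * swap (σ x) (σ y)) = swap (σ x) (σ y) * swap x y * σ := by
    rw [← mul_assoc, mul_swap_eq_swap_mul σ x y, mul_assoc, mul_swap_eq_swap_mul σ (σ x) (σ y),
      apply_apply_of_sq hσ, apply_apply_of_sq hσ, ← mul_assoc]
  rw [h, disjoint_comm h1 h2 h3 h4]

/-- The product of the two transpositions of `σ` at `x` and at `y`. -/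
def flips (σ : Perm α) (x y : α) : Perm α := swap x (σ x) * swap y (σ y)

theorem flips_mem_pairFix {σ : Perm α} (hσ : σ * σ = 1) {x y : α} (hxy : x ≠ y) (hxy' : x ≠ σ y) :
    flips σ x y ∈ pairFix σ hσ := by
  have key : ∀ z : α, swap z (σ z) ∈ pairFix σ hσ := fun z => by
    refine ⟨?_, fun w => ?_⟩
    · rw [mul_swap_eq_swap_mul σ z (σ z), apply_apply_of_sq hσ, swap_comm]
    · by_cases h1 : w = z
      · subst h1; exact Or.inr (swap_apply_left _ _)
      by_cases h2 : w = σ z
      · subst h2; exact Or.inr (by rw [swap_apply_right, apply_apply_of_sq hσ])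
      exact Or.inl (swap_apply_of_ne_of_ne h1 h2)
  exact mul_mem (key x) (key y)

/-- Commutator of two involutions whose supports meet in exactly one point. -/
theorem commutator_isThreeCycle {t t' : Perm α} (ht : t * t = 1) (ht' : t' * t' = 1) {x : α}
    (hx : t x ≠ x) (hx' : t' x ≠ x) (h : ∀ w, t w ≠ w → t' w ≠ w → w = x) :
    (t * t' * (t * t')).IsThreeCycle := by
  have tt : ∀ w, t (t w) = w := fun w => by rw [← Perm.mul_apply, ht, Perm.one_apply]
  have tt' : ∀ w, t' (t' w) = w := fun w => by rw [← Perm.mul_apply, ht', Perm.one_apply]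
  set u := t x with hu
  set v := t' x with hv
  have htu : t u = x := by rw [hu, tt]
  have htv : t' v = x := by rw [hv, tt']
  have hu' : t' u = u := by
    by_contra hc
    exact hx (h u (fun e => hx (e.symm.trans htu)) hc)
  have hv' : t v = v := by
    by_contra hc
    exact hx' (h v hc (fun e => hx' (e.symm.trans htv)))
  have huv : u ≠ v := fun e => hx (by
    have := htu
    rw [e, hv'] at this
    rw [e, this])
  have hc : t * t' * (t * t') = swap u x * swap u v := by
    ext w
    simp only [Perm.mul_apply]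
    by_cases h1 : w = x
    · subst h1
      rw [← hv, hv', htv, ← hu, swap_apply_of_ne_of_ne (Ne.symm hx) (Ne.symm hx'), swap_apply_right]
    by_cases h2 : w = u
    · subst h2
      rw [hu', htu, ← hv, hv', swap_apply_left, swap_apply_of_ne_of_ne (Ne.symm huv) hx']
    by_cases h3 : w = v
    · subst h3
      rw [htv, ← hu, hu', htu, swap_apply_right, swap_apply_left]
    rw [swap_apply_of_ne_of_ne h2 h3, swap_apply_of_ne_of_ne h2 h1]
    by_cases h4 : t w = w
    · by_cases h5 : t' w = w
      · rw [h5, h4, h5, h4]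
      · have h6 : t (t' w) = t' w := by
          by_contra hcc
          have := h (t' w) hcc (fun e => h5 (t'.injective e))
          exact h3 (by rw [← tt' w, this, hv])
        rw [h6, tt', h4]
    · have h5 : t' w = w := by
        by_contra hcc
        exact h1 (h w h4 hcc)
      have h6 : t' (t w) = t w := by
        by_contra hcc
        have := h (t w) (fun e => h4 (t.injective e)) hcc
        exact h2 (by rw [← tt w, this, hu])
      rw [h5, h6, tt]
  rw [hc]
  exact Perm.isThreeCycle_swap_mul_swap_same hx huv (Ne.symm hx')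

/-! ### The two directions -/

/-- If `card α` is not `2 ^ k + 1`, there is no unique maximal overgroup. -/
theorem exists_eq_of_unique {f : H →* Perm α} (B : Big f) (hn : 5 ≤ Fintype.card α) (R : Sylow 2 H)
    (huni : ∃! M : Subgroup H, IsCoatom M ∧ (R : Subgroup H) ≤ M) :
    ∃ k : ℕ, 2 ≤ k ∧ Fintype.card α = 2 ^ k + 1 := by
  haveI : Fact (Nat.Prime 2) := ⟨Nat.prime_two⟩
  haveI : Nontrivial α := Fintype.one_lt_card_iff_nontrivial.mp (by omega)
  obtain ⟨M, ⟨hM, hRM⟩, hu⟩ := huni
  have huniq : ∀ M', (IsCoatom M' ∧ (R : Subgroup H) ≤ M') → M' = M := hu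
  obtain ⟨P, hP⟩ := (R.isPGroup'.map f).exists_le_sylow
  have overP : ∀ {K : Subgroup (Perm α)}, (P : Subgroup (Perm α)) ≤ K → (R : Subgroup H) ≤ K.comap f :=
    fun hPK x hx => hPK (hP ⟨x, hx, rfl⟩)
  by_contra hk
  push Not at hk
  set n := Fintype.card α with hnd
  set a := Nat.log 2 n with ha
  have h2a : 2 ^ a ≤ n := Nat.pow_log_le_self 2 (by omega)
  have hlt : n < 2 ^ (a + 1) := Nat.lt_pow_succ_log_self one_lt_two n
  have ha2 : 2 ≤ a := Nat.le_log_of_pow_le one_lt_two (by omega)
  set m := n - 2 ^ a with hm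
  have hnm : n = 2 ^ a + m := by omega
  have hm1 : m ≠ 1 := fun h => hk a ha2 (by omega)
  have hma : m < 2 ^ a := by rw [pow_succ] at hlt; omega
  obtain ⟨X, hXc, hPX⟩ := exists_invariant_set P (r := 2 ^ a) h2a (by
    rw [← hnd, hnm, Nat.choose_symm_add]; exact odd_choose_add a m hma)
  have hXne : X.Nonempty := Set.nonempty_of_ncard_ne_zero (by rw [hXc]; positivity)
  have hXcc := Set.ncard_add_ncard_compl X
  rw [Nat.card_eq_fintype_card, ← hnd, hXc] at hXcc
  by_cases hpar : n % 2 = 1
  · -- two different maximal set stabilisers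
    have hm3 : 3 ≤ m := by
      have : 2 ^ a % 2 = 0 := by
        obtain ⟨a, ha'⟩ := Nat.exists_eq_add_of_le ha2
        rw [ha', pow_add]; omega
      omega
    have hXcne : Xᶜ.Nonempty := Set.nonempty_of_ncard_ne_zero (by omega)
    obtain ⟨Y, hY1, hPY⟩ := exists_invariant_set P (r := 1) (by omega)
      (by rw [Nat.choose_one_right]; exact Nat.odd_iff.mpr hpar)
    obtain ⟨p, rfl⟩ := Set.ncard_eq_one.mp hY1
    have e1 := huniq _ ⟨B.coat X hXne hXcne (by omega), overP hPX⟩
    have e2 := huniq _ ⟨B.coat {p} ⟨p, rfl⟩ (Set.nonempty_of_ncard_ne_zero (by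
      have := Set.ncard_add_ncard_compl ({p} : Set α)
      rw [Nat.card_eq_fintype_card, ← hnd, hY1] at this
      omega)) (by rw [hY1]; omega), overP hPY⟩
    obtain ⟨b, hbX, hbp⟩ := Set.exists_ne_of_one_lt_ncard (s := X) (by omega) p
    obtain ⟨c, hcX, hcp⟩ := Set.exists_ne_of_one_lt_ncard (s := Xᶜ) (by omega) p
    obtain ⟨d, hdX, hd⟩ := Set.exists_mem_notMem_of_ncard_lt_ncard (s := ({p, c} : Set α)) (t := Xᶜ)
      ((Set.ncard_insert_le p {c}).trans_lt (by rw [Set.ncard_singleton]; omega))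
    simp only [Set.mem_insert_iff, Set.mem_singleton_iff, not_or] at hd
    have hbc : b ≠ c := fun e => hcX (e ▸ hbX)
    have hbd : b ≠ d := fun e => hdX (e ▸ hbX)
    obtain ⟨r, hr⟩ := B.alt (swap_mul_swap_mem_alt hbc hbd)
    have hrp : r ∈ (stabilizer (Perm α) ({p} : Set α)).comap f := by
      rw [Subgroup.mem_comap, hr, mem_stabilizer_iff, Set.smul_set_singleton, Perm.smul_def,
        Perm.mul_apply, swap_apply_of_ne_of_ne (Ne.symm hbp) (Ne.symm hd.1),
        swap_apply_of_ne_of_ne (Ne.symm hbp) (Ne.symm hcp)]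
    rw [e2, ← e1, Subgroup.mem_comap, hr, mem_stabilizer_set] at hrp
    have := (hrp c).mpr
    have h' := hrp c
    rw [Perm.smul_def, Perm.mul_apply, swap_apply_of_ne_of_ne (Ne.symm hbc) (Ne.symm hd.2),
      swap_apply_right] at h'
    exact hcX (h'.mp hbX)
  · -- a pairing
    obtain ⟨m', hm'⟩ : ∃ m', n = 2 * m' := ⟨n / 2, by omega⟩
    obtain ⟨σ, -, hσ, hσc, hPσ⟩ := exists_pairing (α := α) (m := m') (by omega) P (by omega)
    have hfix : ∀ x, σ x ≠ x := by
      intro x
      rw [← Perm.mem_support, Finset.eq_univ_of_card σ.support (by rw [hσc, ← hnd, hm'])]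
      exact Finset.mem_univ x
    have inv : ∀ x, σ (σ x) = x := apply_apply_of_sq hσ
    set C := Subgroup.centralizer ({σ} : Set (Perm α)) with hC
    -- an even element outside the centralizer
    have hCne : C.comap f ≠ ⊤ := by
      obtain ⟨x⟩ : Nonempty α := inferInstance
      obtain ⟨y, -, hy⟩ := Finset.exists_mem_notMem_of_card_lt_card (s := ({x, σ x} : Finset α))
        (t := Finset.univ) (by rw [Finset.card_univ, ← hnd]; exact Finset.card_le_two.trans_lt (by omega))
      obtain ⟨z, -, hz⟩ := Finset.exists_mem_notMem_of_card_lt_card (s := ({x, σ x, y} : Finset α))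
        (t := Finset.univ) (by rw [Finset.card_univ, ← hnd]; exact Finset.card_le_three.trans_lt (by omega))
      simp only [Finset.mem_insert, Finset.mem_singleton, not_or] at hy hz
      refine comap_ne_top B (swap_mul_swap_mem_alt (Ne.symm hy.2) (Ne.symm hz.2.1)) fun h => ?_
      have h' := congrArg (fun p : Perm α => p x) (Subgroup.mem_centralizer_singleton_iff.mp h)
      simp only [Perm.mul_apply] at h'
      rw [swap_apply_left, swap_apply_of_ne_of_ne hz.2.1 hz.2.2,
        swap_apply_of_ne_of_ne (Ne.symm (hfix x)) (Ne.symm hz.1),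
        swap_apply_of_ne_of_ne (Ne.symm (hfix x)) (Ne.symm hy.1)] at h'
      exact hz.2.1 h'
    have hCM : C.comap f ≤ M := le_of_unique huniq hCne (overP hPσ)
    by_cases hm0 : m = 0
    · -- `n = 2 ^ a`
      obtain ⟨c, hc⟩ : ∃ c, a = c + 1 := ⟨a - 1, by omega⟩
      obtain ⟨W, hWc, -⟩ : ∃ W : Set α, W.ncard = 2 ^ c ∧ True := by
        obtain ⟨W, -, hW⟩ := Set.exists_subset_card_eq (s := (Set.univ : Set α)) (n := 2 ^ c)
          (by rw [Set.ncard_univ, Nat.card_eq_fintype_card, ← hnd]
              exact le_trans (Nat.pow_le_pow_right two_pos (by omega)) h2a)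
        exact ⟨W, hW, trivial⟩
      obtain ⟨g, hg⟩ := exists_conj_mem P (odd_index_halves hWc (by rw [← hnd, hnm, hm0, hc, add_zero] : Fintype.card α = 2 ^ (c + 1)) :
        Odd (stabilizer (Perm α) ({W, Wᶜ} : Set (Set α))).index)
      set X₀ := g • W with hX0
      have hX0c : X₀.ncard = 2 ^ c := by rw [hX0, Set.ncard_smul_set, hWc]
      have hX0cc : X₀ᶜ.ncard = 2 ^ c := by
        have := Set.ncard_add_ncard_compl X₀
        rw [Nat.card_eq_fintype_card, ← hnd, hX0c] at this
        rw [hc, pow_succ] at hnm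
        omega
      have hc4 : 4 ≤ 2 ^ c := by
        by_contra hh
        rw [hc, pow_succ] at hnm
        rcases c with _ | _ | c
        · omega
        · omega
        · rw [pow_succ, pow_succ] at hh; have := Nat.one_le_two_pow (n := c); omega
      set W₁ := stabilizer (Perm α) ({X₀, X₀ᶜ} : Set (Set α)) with hW1
      have hPW : (P : Subgroup (Perm α)) ≤ W₁ := by
        intro x hx
        have h := mem_stabilizer_iff.mp (hg x hx)
        rw [mul_smul, mul_smul, inv_smul_eq_iff] at h
        have e : g • ({W, Wᶜ} : Set (Set α)) = {X₀, X₀ᶜ} := by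
          rw [Set.smul_set_insert, Set.smul_set_singleton, Set.smul_set_compl]
        rw [e] at h
        exact mem_stabilizer_iff.mpr h
      have hswap : ∀ {p q : α}, (p ∈ X₀ ↔ q ∈ X₀) → swap p q ∈ W₁ := by
        intro p q hpq
        have hs : swap p q • X₀ = X₀ := by
          rw [← mem_stabilizer_iff]
          by_cases hp : p ∈ X₀
          · exact swap_mem_stabilizer' hp (hpq.mp hp)
          · rw [← stabilizer_compl]; exact swap_mem_stabilizer' hp (fun hq => hp (hpq.mpr hq))
        rw [hW1, mem_stabilizer_iff, Set.smul_set_insert, Set.smul_set_singleton, Set.smul_set_compl, hs]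
      have hW1ne : W₁.comap f ≠ ⊤ := by
        obtain ⟨x, hx⟩ := Set.nonempty_of_ncard_ne_zero (s := X₀) (by omega)
        obtain ⟨y, hy⟩ := Set.nonempty_of_ncard_ne_zero (s := X₀ᶜ) (by omega)
        obtain ⟨z, hz, hzx⟩ := Set.exists_ne_of_one_lt_ncard (s := X₀) (by omega) x
        obtain ⟨w, hw, hw'⟩ := Set.exists_mem_notMem_of_ncard_lt_ncard (s := ({x, z} : Set α)) (t := X₀)
          ((Set.ncard_insert_le x {z}).trans_lt (by rw [Set.ncard_singleton]; omega))
        simp only [Set.mem_insert_iff, Set.mem_singleton_iff, not_or] at hw'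
        have hxy : x ≠ y := fun e => hy (e ▸ hx)
        have hzy : z ≠ y := fun e => hy (e ▸ hz)
        refine comap_ne_top B (swap_mul_swap_mem_alt hxy hzy.symm) fun h => ?_
        rw [hW1, mem_stabilizer_iff, Set.smul_set_insert, Set.smul_set_singleton] at h
        have hmem : (swap x y * swap y z) • X₀ ∈ ({X₀, X₀ᶜ} : Set (Set α)) := by
          rw [← h]; exact Set.mem_insert _ _
        have hwm : (swap x y * swap y z) • w ∈ (swap x y * swap y z) • X₀ := Set.smul_mem_smul_set hw
        have hxm : (swap x y * swap y z) • x ∈ (swap x y * swap y z) • X₀ := Set.smul_mem_smul_set hx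
        have hwy : w ≠ y := fun e => hy (e ▸ hw)
        rw [Perm.smul_def, Perm.mul_apply, swap_apply_of_ne_of_ne hwy hw'.2,
          swap_apply_of_ne_of_ne hw'.1 hwy] at hwm
        rw [Perm.smul_def, Perm.mul_apply, swap_apply_of_ne_of_ne hxy (Ne.symm hzx),
          swap_apply_left] at hxm
        rcases hmem with hm' | hm'
        · rw [hm'] at hxm; exact hy hxm
        · rw [Set.mem_singleton_iff] at hm'; rw [hm'] at hwm; exact hwm hw
      have hWM : W₁.comap f ≤ M := le_of_unique huniq hW1ne (overP hPW)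
      set K := M.map f with hK
      have hW1K : ∀ p q r s, p ≠ q → r ≠ s → (p ∈ X₀ ↔ q ∈ X₀) → (r ∈ X₀ ↔ s ∈ X₀) →
          swap p q * swap r s ∈ K := fun p q r s hpq hrs h1 h2 => by
        obtain ⟨x, hx⟩ := B.alt (swap_mul_swap_mem_alt hpq hrs)
        exact ⟨x, hWM (Subgroup.mem_comap.mpr (hx ▸ mul_mem (hswap h1) (hswap h2))), hx⟩
      have hA1 : AltOn K X₀ := fun p q r s hp hq hr hs h1 h2 =>
        hW1K p q r s h1 h2 ⟨fun _ => hq, fun _ => hp⟩ ⟨fun _ => hs, fun _ => hr⟩
      have hA2 : AltOn K X₀ᶜ := fun p q r s hp hq hr hs h1 h2 =>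
        hW1K p q r s h1 h2 ⟨fun h => absurd h hp, fun h => absurd h hq⟩
          ⟨fun h => absurd h hr, fun h => absurd h hs⟩
      -- an element of the centralizer mixing the halves
      obtain ⟨g₀, hg0C, hg0A, p₁, p₂, hp12, hp1, hp2, q₁, q₂, hq12, hq1, hq2⟩ :
          ∃ g₀ : Perm α, g₀ ∈ C ∧ g₀ ∈ alternatingGroup α ∧
            ∃ p₁ p₂, p₁ ≠ p₂ ∧ p₁ ∈ X₀ ∩ g₀ • X₀ ∧ p₂ ∈ X₀ ∩ g₀ • X₀ ∧
            ∃ q₁ q₂, q₁ ≠ q₂ ∧ q₁ ∈ X₀ᶜ ∩ g₀ • X₀ ∧ q₂ ∈ X₀ᶜ ∩ g₀ • X₀ := by
        by_cases hin : ∃ x ∈ X₀, σ x ∈ X₀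
        · obtain ⟨x, hx, hσx⟩ := hin
          obtain ⟨y, hy, hσy⟩ : ∃ y ∉ X₀, σ y ∉ X₀ := by
            by_contra hcon
            push Not at hcon
            have hsub : σ '' X₀ᶜ ⊆ X₀ \ {x} := by
              rintro _ ⟨y, hy, rfl⟩
              exact ⟨hcon y hy, fun e => hy (by rw [← inv y, Set.mem_singleton_iff.mp e]; exact hσx)⟩
            have hle := Set.ncard_le_ncard hsub
            rw [Set.ncard_image_of_injective _ σ.injective, Set.ncard_sdiff_singleton_of_mem hx] at hle
            omega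
          have hxy : x ≠ y := fun e => hy (e ▸ hx)
          have h2 : x ≠ σ y := fun e => hσy (e ▸ hx)
          have h3 : y ≠ σ x := fun e => hy (e ▸ hσx)
          have hσxy : σ x ≠ σ y := fun e => hxy (σ.injective e)
          set g₀ := swap x y * swap (σ x) (σ y) with hg0
          have gx : g₀ x = y := by
            rw [hg0, Perm.mul_apply, swap_apply_of_ne_of_ne (Ne.symm (hfix x)) h2, swap_apply_left]
          have gσx : g₀ (σ x) = σ y := by
            rw [hg0, Perm.mul_apply, swap_apply_left, swap_apply_of_ne_of_ne (Ne.symm h2) (hfix y)]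
          obtain ⟨p₁, hp1, hp1'⟩ := Set.exists_mem_notMem_of_ncard_lt_ncard (s := ({x, σ x} : Set α))
            (t := X₀) ((Set.ncard_insert_le x {σ x}).trans_lt (by rw [Set.ncard_singleton]; omega))
          obtain ⟨p₂, hp2, hp2'⟩ := Set.exists_mem_notMem_of_ncard_lt_ncard (s := ({x, σ x, p₁} : Set α))
            (t := X₀) (((Set.ncard_insert_le x _).trans (Nat.add_le_add_right
              (Set.ncard_insert_le (σ x) {p₁}) 1)).trans_lt (by rw [Set.ncard_singleton]; omega))
          simp only [Set.mem_insert_iff, Set.mem_singleton_iff, not_or] at hp1' hp2'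
          have fixp : ∀ p ∈ X₀, p ≠ x → p ≠ σ x → p ∈ g₀ • X₀ := fun p hp h1 h2' => by
            refine ⟨p, hp, ?_⟩
            show g₀ p = p
            have n1 : p ≠ σ y := fun e => hσy (e ▸ hp)
            have n2 : p ≠ y := fun e => hy (e ▸ hp)
            rw [hg0, Perm.mul_apply, swap_apply_of_ne_of_ne h2' n1, swap_apply_of_ne_of_ne h1 n2]
          exact ⟨g₀, commute_pairswap hσ (Ne.symm (hfix x)) h2 h3 (Ne.symm (hfix y)),
            swap_mul_swap_mem_alt hxy hσxy, p₁, p₂, Ne.symm hp2'.2.2,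
            ⟨hp1, fixp p₁ hp1 hp1'.1 hp1'.2⟩, ⟨hp2, fixp p₂ hp2 hp2'.1 hp2'.2.1⟩,
            y, σ y, Ne.symm (hfix y), ⟨hy, ⟨x, hx, gx⟩⟩, ⟨hσy, ⟨σ x, hσx, gσx⟩⟩⟩
        · push Not at hin
          obtain ⟨x, hx⟩ := Set.nonempty_of_ncard_ne_zero (s := X₀) (by omega)
          obtain ⟨y, hy, hyx⟩ := Set.exists_ne_of_one_lt_ncard (s := X₀) (by omega) x
          obtain ⟨p₁, hp1, hp1'⟩ := Set.exists_mem_notMem_of_ncard_lt_ncard (s := ({x, y} : Set α))
            (t := X₀) ((Set.ncard_insert_le x {y}).trans_lt (by rw [Set.ncard_singleton]; omega))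
          obtain ⟨p₂, hp2, hp2'⟩ := Set.exists_mem_notMem_of_ncard_lt_ncard (s := ({x, y, p₁} : Set α))
            (t := X₀) (((Set.ncard_insert_le x _).trans (Nat.add_le_add_right
              (Set.ncard_insert_le y {p₁}) 1)).trans_lt (by rw [Set.ncard_singleton]; omega))
          simp only [Set.mem_insert_iff, Set.mem_singleton_iff, not_or] at hp1' hp2'
          have h2 : x ≠ σ y := fun e => hin y hy (e ▸ hx)
          have h3 : y ≠ σ x := fun e => hin x hx (e ▸ hy)
          have hp : pairFix σ hσ ≤ C := fun g hg => Subgroup.mem_centralizer_singleton_iff.mpr hg.1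
          have fixp : ∀ p ∈ X₀, p ≠ x → p ≠ y → p ∈ flips σ x y • X₀ := fun p hp h1 h2' => by
            refine ⟨p, hp, ?_⟩
            show flips σ x y p = p
            have n1 : p ≠ σ y := fun e => hin y hy (e ▸ hp)
            have n2 : p ≠ σ x := fun e => hin x hx (e ▸ hp)
            rw [flips, Perm.mul_apply, swap_apply_of_ne_of_ne h2' n1, swap_apply_of_ne_of_ne h1 n2]
          have gy : flips σ x y y = σ y := by
            rw [flips, Perm.mul_apply, swap_apply_left,
              swap_apply_of_ne_of_ne (Ne.symm h2) (fun e => hyx (σ.injective e))]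
          have gx : flips σ x y x = σ x := by
            rw [flips, Perm.mul_apply, swap_apply_of_ne_of_ne (Ne.symm hyx) h2, swap_apply_left]
          exact ⟨flips σ x y, hp (flips_mem_pairFix hσ (Ne.symm hyx) h2),
            swap_mul_swap_mem_alt (Ne.symm (hfix x)) (Ne.symm (hfix y)), p₁, p₂, Ne.symm hp2'.2.2,
            ⟨hp1, fixp p₁ hp1 hp1'.1 hp1'.2⟩, ⟨hp2, fixp p₂ hp2 hp2'.1 hp2'.2.1⟩,
            σ x, σ y, fun e => hyx (σ.injective e).symm, ⟨hin x hx, ⟨x, hx, gx⟩⟩,
            ⟨hin y hy, ⟨y, hy, gy⟩⟩⟩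
      obtain ⟨r, hr⟩ := B.alt hg0A
      have hg0K : g₀ ∈ K := ⟨r, hCM (Subgroup.mem_comap.mpr (hr ▸ hg0C)), hr⟩
      have hA3 : AltOn K (g₀ • X₀) := by
        rintro _ _ _ _ ⟨p, hp, rfl⟩ ⟨q, hq, rfl⟩ ⟨u, hu, rfl⟩ ⟨s, hs, rfl⟩ h1 h2
        show swap (g₀ p) (g₀ q) * swap (g₀ u) (g₀ s) ∈ K
        have := K.mul_mem (K.mul_mem hg0K (hA1 p q u s hp hq hu hs (fun e => h1 (by rw [e]))
          (fun e => h2 (by rw [e])))) (K.inv_mem hg0K)
        rw [show g₀ * (swap p q * swap u s) * g₀⁻¹ = (g₀ * swap p q * g₀⁻¹) * (g₀ * swap u s * g₀⁻¹)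
          by group, ← swap_apply_apply, ← swap_apply_apply] at this
        exact this
      have hall := AltOn.union (AltOn.union hA1 hA3 hp12 hp1 hp2) hA2 hq12
        ⟨Or.inr hq1.2, hq1.1⟩ ⟨Or.inr hq2.2, hq2.1⟩
      have huniv : X₀ ∪ g₀ • X₀ ∪ X₀ᶜ = Set.univ := by
        ext z; simp only [Set.mem_union, Set.mem_compl_iff, Set.mem_univ, iff_true]; tauto
      rw [huniv] at hall
      exact hM.1 (eq_top_of_alt_le B hRM (alternatingGroup_le_of_altOn hall))
    · -- the set stabiliser is maximal, the centralizer moves the set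
      have hXcne : Xᶜ.Nonempty := Set.nonempty_of_ncard_ne_zero (by omega)
      have e1 := huniq _ ⟨B.coat X hXne hXcne (by omega), overP hPX⟩
      obtain ⟨g, hgC, hgA, w, hw, hgw⟩ : ∃ g : Perm α, g ∈ C ∧ g ∈ alternatingGroup α ∧
          ∃ w ∈ X, g w ∉ X := by
        obtain ⟨x, hx⟩ := hXne
        obtain ⟨y, hy⟩ := hXcne
        have hxy : x ≠ y := fun e => hy (e ▸ hx)
        by_cases he : y = σ x
        · obtain ⟨z, -, hz⟩ := Finset.exists_mem_notMem_of_card_lt_card (s := ({x, σ x} : Finset α))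
            (t := Finset.univ) (by rw [Finset.card_univ, ← hnd]; exact Finset.card_le_two.trans_lt (by omega))
          simp only [Finset.mem_insert, Finset.mem_singleton, not_or] at hz
          have h2 : x ≠ σ z := fun e => hz.2 (by rw [e, inv])
          refine ⟨flips σ x z, Subgroup.mem_centralizer_singleton_iff.mpr
            (flips_mem_pairFix hσ (Ne.symm hz.1) h2).1, swap_mul_swap_mem_alt (Ne.symm (hfix x))
            (Ne.symm (hfix z)), x, hx, ?_⟩
          rw [flips, Perm.mul_apply, swap_apply_of_ne_of_ne (Ne.symm hz.1) h2, swap_apply_left, ← he]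
          exact hy
        · have h2 : x ≠ σ y := fun e => he (by rw [e, inv])
          refine ⟨swap x y * swap (σ x) (σ y), commute_pairswap hσ (Ne.symm (hfix x)) h2 he
            (Ne.symm (hfix y)), swap_mul_swap_mem_alt hxy (fun e => hxy (σ.injective e)), x, hx, ?_⟩
          rw [Perm.mul_apply, swap_apply_of_ne_of_ne (Ne.symm (hfix x)) h2, swap_apply_left]
          exact hy
      obtain ⟨r, hr⟩ := B.alt hgA
      have hrM : r ∈ M := hCM (Subgroup.mem_comap.mpr (hr ▸ hgC))
      rw [← e1, Subgroup.mem_comap, hr, mem_stabilizer_set] at hrM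
      exact hgw ((hrM w).mpr hw)

/-- For `card α = 2 ^ k + 1` the point stabiliser is the only maximal overgroup. -/
theorem unique_of_eq {f : H →* Perm α} (B : Big f) {k : ℕ} (hk : 2 ≤ k)
    (hn : Fintype.card α = 2 ^ k + 1) (R : Sylow 2 H) :
    ∃! M : Subgroup H, IsCoatom M ∧ (R : Subgroup H) ≤ M := by
  haveI : Fact (Nat.Prime 2) := ⟨Nat.prime_two⟩
  haveI : Nontrivial α := Fintype.one_lt_card_iff_nontrivial.mp (by have := Nat.one_le_two_pow (n := k); omega)
  have h4 : 4 ≤ 2 ^ k := le_trans (by norm_num) (Nat.pow_le_pow_right two_pos hk)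
  obtain ⟨m, hm⟩ : ∃ m, 2 ^ k = 2 * m := ⟨2 ^ (k - 1), by rw [← pow_succ']; congr 1; omega⟩
  obtain ⟨P, hP⟩ := (R.isPGroup'.map f).exists_le_sylow
  obtain ⟨σ, -, hσ, hσc, hPσ⟩ := exists_pairing (α := α) (m := m) (by omega) P (by omega)
  have inv : ∀ x, σ (σ x) = x := apply_apply_of_sq hσ
  obtain ⟨a, ha⟩ := Finset.card_eq_one.mp (show σ.supportᶜ.card = 1 by
    rw [Finset.card_compl, hσc]; omega)
  have hfa : ∀ x, σ x = x ↔ x = a := fun x => by
    rw [← Perm.notMem_support, ← Finset.mem_compl, ha, Finset.mem_singleton]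
  have hfix : ∀ x, x ≠ a → σ x ≠ x := fun x hx h => hx ((hfa x).mp h)
  have hne_a : ∀ x, x ≠ a → σ x ≠ a := fun x hx h => hfix x hx (by
    have := congrArg σ h
    rw [inv, (hfa a).mpr rfl] at this
    rw [h]; exact this.symm)
  have hRa : ∀ r ∈ (R : Subgroup H), f r a = a := fun r hr => by
    have h := congrArg (fun p : Perm α => p a)
      (Subgroup.mem_centralizer_singleton_iff.mp (hPσ (hP ⟨r, hr, rfl⟩)))
    simp only [Perm.mul_apply, (hfa a).mpr rfl] at h
    exact (hfa _).mp h.symm
  -- the even elements of the pair fixing group come from `R`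
  have hRpre : (P : Subgroup (Perm α)).comap f = R :=
    R.is_maximal' (P.isPGroup'.comap_of_injective f B.inj) (fun r hr => hP ⟨r, hr, rfl⟩)
  have hflip : ∀ x y, x ≠ a → y ≠ a → x ≠ y → x ≠ σ y →
      ∃ r ∈ (R : Subgroup H), f r = flips σ x y := fun x y hx hy hxy hxy' => by
    obtain ⟨r, hr⟩ := B.alt (swap_mul_swap_mem_alt (Ne.symm (hfix x hx)) (Ne.symm (hfix y hy)))
    refine ⟨r, ?_, hr⟩
    rw [← hRpre, Subgroup.mem_comap, hr]
    exact pairFix_le_sylow hσ P hPσ (flips_mem_pairFix hσ hxy hxy')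
  -- transitivity away from `a`
  have htrans : ∀ b c, b ≠ a → c ≠ a → ∃ r ∈ (R : Subgroup H), f r b = c := by
    intro b c hb hc
    set S : Subgroup (Perm α) := (R : Subgroup H).map f with hS
    by_contra hcon
    push Not at hcon
    set X := orbit S b with hX
    have hXp : ∃ j, X.ncard = 2 ^ j := by
      obtain ⟨j, hj⟩ := (R.isPGroup'.map f).card_orbit b
      exact ⟨j, by rw [← hj, ← Nat.card_coe_set_eq]⟩
    obtain ⟨j, hj⟩ := hXp
    have hmemX : ∀ z, z ∈ X ↔ ∃ r ∈ (R : Subgroup H), f r b = z := fun z => by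
      rw [hX, mem_orbit_iff]
      constructor
      · rintro ⟨⟨_, r, hr, rfl⟩, rfl⟩; exact ⟨r, hr, rfl⟩
      · rintro ⟨r, hr, rfl⟩; exact ⟨⟨f r, r, hr, rfl⟩, rfl⟩
    have haX : a ∉ X := fun h => by
      obtain ⟨r, hr, he⟩ := (hmemX a).mp h
      exact hb ((f r).injective (he.trans (hRa r hr).symm))
    have hσb : σ b ∈ X := by
      obtain ⟨y, -, hy⟩ := Finset.exists_mem_notMem_of_card_lt_card (s := ({b, σ b, a} : Finset α))
        (t := Finset.univ) (by rw [Finset.card_univ]; exact Finset.card_le_three.trans_lt (by omega))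
      simp only [Finset.mem_insert, Finset.mem_singleton, not_or] at hy
      have h2 : b ≠ σ y := fun e => hy.2.1 (by rw [e, inv])
      obtain ⟨r, hr, he⟩ := hflip b y hb hy.2.2 (Ne.symm hy.1) h2
      exact (hmemX _).mpr ⟨r, hr, by
        rw [he, flips, Perm.mul_apply, swap_apply_of_ne_of_ne (Ne.symm hy.1) h2, swap_apply_left]⟩
    have hj2 : 2 ≤ X.ncard := (Set.one_lt_ncard (Set.toFinite _)).mpr
      ⟨b, mem_orbit_self _, σ b, hσb, Ne.symm (hfix b hb)⟩
    have hjk : X.ncard + 2 ≤ 2 ^ k + 1 := by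
      have h1 : ({a, c} : Set α) ⊆ Xᶜ := by
        rintro z (rfl | hz)
        · exact haX
        · rw [Set.mem_singleton_iff] at hz; subst hz
          exact fun h => by obtain ⟨r, hr, he⟩ := (hmemX _).mp h; exact hcon r hr he
      have h2 := Set.ncard_le_ncard h1
      rw [Set.ncard_pair (Ne.symm hc)] at h2
      have := Set.ncard_add_ncard_compl X
      rw [Nat.card_eq_fintype_card, hn] at this
      omega
    -- parity
    have hle : (R : Subgroup H) ≤ (stabilizer (Perm α) X).comap f := fun r hr => by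
      rw [Subgroup.mem_comap, mem_stabilizer_iff]
      exact smul_orbit (⟨f r, r, hr, rfl⟩ : S) b
    have hodd := odd_index_of_sylow hle
    rw [Subgroup.index_comap] at hodd
    haveI hN : f.range.Normal := by
      have h2 : f.range.index ∣ 2 := by
        rw [← alternatingGroup.index_eq_two (α := α)]
        exact Subgroup.index_dvd_of_le B.alt
      rcases (Nat.dvd_prime Nat.prime_two).mp h2 with h | h
      · rw [Subgroup.index_eq_one.mp h]; infer_instance
      · exact Subgroup.normal_of_index_eq_two h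
    obtain ⟨x, hx, y, hy, hxy⟩ := (Set.one_lt_ncard (Set.toFinite _)).mp (show 1 < X.ncard by omega)
    have htop : stabilizer (Perm α) X ⊔ f.range = ⊤ := by
      rw [eq_top_iff]
      intro g _
      rcases Int.units_eq_one_or (Perm.sign g) with hs | hs
      · exact Subgroup.mem_sup_right (B.alt (Perm.mem_alternatingGroup.mpr hs))
      · rw [← swap_mul_self_mul x y g]
        refine mul_mem (Subgroup.mem_sup_left (swap_mem_stabilizer' hx hy))
          (Subgroup.mem_sup_right (B.alt (Perm.mem_alternatingGroup.mpr ?_)))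
        rw [Perm.sign_mul, Perm.sign_swap hxy, hs]; rfl
    have hidx : (stabilizer (Perm α) X).relIndex f.range = (stabilizer (Perm α) X).index := by
      have h1 := Subgroup.relIndex_sup_right (H := stabilizer (Perm α) X) (K := f.range)
      rw [htop, Subgroup.relIndex_top_right] at h1
      -- `h1` compares the range with the stabiliser
      have h2 := Subgroup.relIndex_mul_index (inf_le_right : stabilizer (Perm α) X ⊓ f.range ≤ f.range)
      have h3 := Subgroup.relIndex_mul_index (inf_le_left : stabilizer (Perm α) X ⊓ f.range ≤ stabilizer (Perm α) X)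
      rw [Subgroup.inf_relIndex_right] at h2
      rw [Subgroup.inf_relIndex_left, ← h1, ← h2, mul_comm] at h3
      exact (Nat.eq_of_mul_eq_mul_right (Nat.pos_of_ne_zero Subgroup.index_ne_zero_of_finite) h3).symm
    rw [hidx, index_stab, hn, Nat.odd_iff] at hodd
    have := even_choose_succ_two_pow (k := k) hj2 (by omega)
    omega
  -- uniqueness
  have hcoat := B.coat {a} ⟨a, rfl⟩ (Set.nonempty_of_ncard_ne_zero (by
    have := Set.ncard_add_ncard_compl ({a} : Set α)
    rw [Nat.card_eq_fintype_card, hn, Set.ncard_singleton] at this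
    omega)) (by rw [Set.ncard_singleton]; omega)
  have hmemA : ∀ r : H, r ∈ (stabilizer (Perm α) ({a} : Set α)).comap f ↔ f r a = a := fun r => by
    rw [Subgroup.mem_comap, mem_stabilizer_iff, Set.smul_set_singleton, Set.singleton_eq_singleton_iff,
      Perm.smul_def]
  refine ⟨_, ⟨hcoat, fun r hr => (hmemA r).mpr (hRa r hr)⟩, fun M ⟨hM, hRM⟩ => ?_⟩
  by_cases hfixM : ∀ r ∈ M, f r a = a
  · exact ((hM.le_iff).mp (fun r hr => (hmemA r).mpr (hfixM r hr) : M ≤ _)).resolve_left hcoat.1 |>.symm
  exfalso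
  push Not at hfixM
  obtain ⟨r₀, hr₀, hr0a⟩ := hfixM
  apply hM.1
  apply eq_top_of_alt_le B hRM
  set K := M.map f with hK
  have hRK : ∀ r ∈ (R : Subgroup H), f r ∈ K := fun r hr => ⟨r, hRM hr, rfl⟩
  have htransK : ∀ x, ∃ g ∈ K, g a = x := by
    intro x
    by_cases hx : x = a
    · exact ⟨1, one_mem _, by simp [hx]⟩
    · obtain ⟨r, hr, he⟩ := htrans (f r₀ a) x hr0a hx
      exact ⟨f r * f r₀, mul_mem (hRK r hr) ⟨r₀, hr₀, rfl⟩, by rw [Perm.mul_apply, he]⟩
  haveI : IsPretransitive K α := IsPretransitive.of_orbit (x₀ := a) fun x => by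
    obtain ⟨g, hg, he⟩ := htransK x
    exact ⟨⟨g, hg⟩, he⟩
  by_cases hk3 : 3 ≤ k
  · have h8 : 8 ≤ 2 ^ k := le_trans (by norm_num) (Nat.pow_le_pow_right two_pos hk3)
    haveI : IsPreprimitive K α := by
      refine IsPreprimitive.of_isTrivialBlock_base a fun {B'} haB hB => ?_
      by_cases hsub : B' ⊆ {a}
      · exact Or.inl (Set.subsingleton_singleton.anti hsub)
      · right
        obtain ⟨b, hbB, hba⟩ := Set.not_subset.mp hsub
        rw [Set.eq_univ_iff_forall]
        intro c
        by_cases hc : c = a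
        · exact hc ▸ haB
        obtain ⟨r, hr, he⟩ := htrans b c hba hc
        have hkB : (⟨f r, hRK r hr⟩ : K) • B' = B' := hB.smul_eq_of_mem haB (by
          show f r a ∈ B'; rw [hRa r hr]; exact haB)
        rw [← hkB]
        exact ⟨b, hbB, he⟩
    -- a conjugate of a flip moving `a`
    obtain ⟨g, hgK, hga⟩ : ∃ g ∈ K, g a ≠ a := ⟨f r₀, ⟨r₀, hr₀, rfl⟩, hr0a⟩
    set b := g⁻¹ a with hb
    have hba : b ≠ a := fun e => hga (by
      have := congrArg g e
      rw [hb, ← Perm.mul_apply, mul_inv_cancel, Perm.one_apply] at this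
      exact this.symm)
    obtain ⟨b₂, -, hb2⟩ := Finset.exists_mem_notMem_of_card_lt_card (s := ({b, σ b, a} : Finset α))
      (t := Finset.univ) (by rw [Finset.card_univ]; exact Finset.card_le_three.trans_lt (by omega))
    simp only [Finset.mem_insert, Finset.mem_singleton, not_or] at hb2
    have hbb : b ≠ σ b₂ := fun e => hb2.2.1 (by rw [e, inv])
    obtain ⟨r, hr, her⟩ := hflip b b₂ hba hb2.2.2 (Ne.symm hb2.1) hbb
    set t' := g * flips σ b b₂ * g⁻¹ with ht'
    have ht'K : t' ∈ K := mul_mem (mul_mem hgK (her ▸ hRK r hr)) (inv_mem hgK)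
    have hgb : g b = a := by rw [hb, ← Perm.mul_apply, mul_inv_cancel, Perm.one_apply]
    have hsq : ∀ x y : α, x ≠ a → y ≠ a → x ≠ y → x ≠ σ y → flips σ x y * flips σ x y = 1 :=
      fun x y _ _ h1 h2 => mul_self_of_pairs hσ (flips_mem_pairFix hσ h1 h2).1 (flips_mem_pairFix hσ h1 h2).2
    have ht'2 : t' * t' = 1 := by
      rw [ht', show g * flips σ b b₂ * g⁻¹ * (g * flips σ b b₂ * g⁻¹) =
        g * (flips σ b b₂ * flips σ b b₂) * g⁻¹ by group, hsq b b₂ hba hb2.2.2 (Ne.symm hb2.1) hbb]
      group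
    set Z : Finset α := {g (σ b), g b₂, g (σ b₂)} with hZ
    have hmove : ∀ w, flips σ b b₂ w ≠ w ↔ w = b ∨ w = σ b ∨ w = b₂ ∨ w = σ b₂ := by
      intro w
      constructor
      · intro h
        by_contra hh
        simp only [not_or] at hh
        exact h (by rw [flips, Perm.mul_apply, swap_apply_of_ne_of_ne hh.2.2.1 hh.2.2.2,
          swap_apply_of_ne_of_ne hh.1 hh.2.1])
      · have n1 : σ b ≠ σ b₂ := fun e => hb2.1 (σ.injective e).symm
        rintro (rfl | rfl | rfl | rfl) <;> rw [flips, Perm.mul_apply]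
        · rw [swap_apply_of_ne_of_ne (Ne.symm hb2.1) hbb, swap_apply_left]; exact hfix _ hba
        · rw [swap_apply_of_ne_of_ne (fun e => hb2.2.1 e.symm) n1, swap_apply_right]
          exact Ne.symm (hfix _ hba)
        · rw [swap_apply_left, swap_apply_of_ne_of_ne (Ne.symm hbb) n1.symm]; exact hfix _ hb2.2.2
        · rw [swap_apply_right, swap_apply_of_ne_of_ne hb2.1 hb2.2.1]
          exact Ne.symm (hfix _ hb2.2.2)
    have hmove' : ∀ w, t' w ≠ w ↔ w = a ∨ w ∈ Z := by
      intro w
      have : t' w ≠ w ↔ flips σ b b₂ (g⁻¹ w) ≠ g⁻¹ w := by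
        rw [ht', Perm.mul_apply, Perm.mul_apply, ne_eq, ne_eq, Perm.eq_inv_iff_eq]
      rw [this, hmove, hZ]
      simp only [Finset.mem_insert, Finset.mem_singleton, Perm.inv_eq_iff_eq, hgb]
    have haZ : a ∉ Z := by
      rw [hZ, ← hgb]
      simp only [Finset.mem_insert, Finset.mem_singleton, g.injective.eq_iff, not_or]
      exact ⟨Ne.symm (hfix _ hba), Ne.symm hb2.1, hbb⟩
    have hZ3 : Z.card = 3 := by
      rw [hZ, Finset.card_eq_three]
      exact ⟨_, _, _, fun e => hb2.2.1 (g.injective e).symm,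
        fun e => hb2.1 (σ.injective (g.injective e)).symm,
        fun e => hfix _ hb2.2.2 (g.injective e).symm, rfl⟩
    obtain ⟨x, hxZ, hσxZ⟩ : ∃ x ∈ Z, σ x ∉ Z := by
      by_contra hh
      push Not at hh
      -- an involution without fixed points on three points
      obtain ⟨z, hz⟩ : Z.Nonempty := Finset.card_pos.mp (by omega)
      have hza : z ≠ a := fun e => haZ (e ▸ hz)
      obtain ⟨u, huZ, hu⟩ := Finset.exists_mem_notMem_of_card_lt_card (s := ({z, σ z} : Finset α))
        (t := Z) (Finset.card_le_two.trans_lt (by omega))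
      simp only [Finset.mem_insert, Finset.mem_singleton, not_or] at hu
      have hua : u ≠ a := fun e => haZ (e ▸ huZ)
      have hsub : ({z, σ z, u, σ u} : Finset α) ⊆ Z := by
        intro w hw
        simp only [Finset.mem_insert, Finset.mem_singleton] at hw
        rcases hw with rfl | rfl | rfl | rfl
        exacts [hz, hh _ hz, huZ, hh _ huZ]
      have h4' : ({z, σ z, u, σ u} : Finset α).card = 4 := by
        rw [Finset.card_insert_of_notMem, Finset.card_insert_of_notMem, Finset.card_pair (Ne.symm (hfix u hua))]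
        · simp only [Finset.mem_insert, Finset.mem_singleton, not_or]
          exact ⟨Ne.symm hu.2, fun e => hu.1 (σ.injective e).symm⟩
        · simp only [Finset.mem_insert, Finset.mem_singleton, not_or]
          exact ⟨Ne.symm (hfix z hza), Ne.symm hu.1, fun e => hu.2 (by rw [e, inv])⟩
      have := Finset.card_le_card hsub
      omega
    obtain ⟨y, -, hy⟩ := Finset.exists_mem_notMem_of_card_lt_card
      (s := insert a (Z ∪ Z.image σ)) (t := Finset.univ) (by
        refine (Finset.card_insert_le _ _).trans_lt ?_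
        have := Finset.card_union_le Z (Z.image σ)
        have := Finset.card_image_le (s := Z) (f := (σ : α → α))
        rw [Finset.card_univ]; omega)
    simp only [Finset.mem_insert, Finset.mem_union, Finset.mem_image, not_or, not_exists, not_and] at hy
    have hxa : x ≠ a := fun e => haZ (e ▸ hxZ)
    have hxy : x ≠ y := fun e => hy.2.1 (e ▸ hxZ)
    have hxy' : x ≠ σ y := fun e => hy.2.2 x hxZ (by rw [e, inv])
    obtain ⟨r', hr', her'⟩ := hflip x y hxa hy.1 hxy hxy'
    have ht0 : flips σ x y x = σ x := by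
      rw [flips, Perm.mul_apply, swap_apply_of_ne_of_ne hxy hxy', swap_apply_left]
    have h3 := commutator_isThreeCycle (hsq x y hxa hy.1 hxy hxy') ht'2 (x := x)
      (by rw [ht0]; exact hfix x hxa) ((hmove' x).mpr (Or.inr hxZ)) (by
        intro w hw hw'
        have hcases : w = x ∨ w = σ x ∨ w = y ∨ w = σ y := by
          by_contra hh
          simp only [not_or] at hh
          exact hw (by rw [flips, Perm.mul_apply, swap_apply_of_ne_of_ne hh.2.2.1 hh.2.2.2,
            swap_apply_of_ne_of_ne hh.1 hh.2.1])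
        rcases (hmove' w).mp hw' with hwa | hwZ
        · subst hwa
          rcases hcases with h | h | h | h
          · exact h
          · exact absurd h.symm (hne_a x hxa)
          · exact absurd h.symm hy.1
          · exact absurd h.symm (hne_a y hy.1)
        · rcases hcases with h | h | h | h
          · exact h
          · exact absurd (h ▸ hwZ) hσxZ
          · exact absurd (h ▸ hwZ) hy.2.1
          · exact (hy.2.2 w hwZ (by rw [h, inv])).elim)
    exact Equiv.Perm.alternatingGroup_le_of_isPreprimitive_of_isThreeCycle_mem inferInstance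
      (g := flips σ x y * t' * (flips σ x y * t')) h3
      (mul_mem (mul_mem (her' ▸ hRK r' hr') ht'K) (mul_mem (her' ▸ hRK r' hr') ht'K))
  · -- five points
    obtain rfl : k = 2 := by omega
    have hα5 : Fintype.card α = 5 := hn
    have h5 : 5 ∣ Nat.card M := by
      refine dvd_trans ?_ (Subgroup.card_map_dvd M f)
      show 5 ∣ Nat.card K
      have := Nat.card_congr (MulAction.orbitEquivQuotientStabilizer K a)
      rw [orbit_eq_univ K a, Nat.card_congr (Equiv.Set.univ α), Nat.card_eq_fintype_card, hα5] at this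
      rw [this]
      exact Subgroup.index_dvd_card _
    have hR5 : (Nat.card R).Coprime 5 := by
      obtain ⟨e, he⟩ := R.isPGroup'.exists_card_eq
      rw [he]; exact Nat.Coprime.pow_left _ (by norm_num)
    have hdvd : Nat.card R * 5 ∣ Nat.card M :=
      hR5.mul_dvd_of_dvd_of_dvd (Subgroup.card_dvd_of_le hRM) h5
    have hH : Nat.card H ∣ 120 := by
      rw [show (120 : ℕ) = (Fintype.card α)! by rw [hα5]; rfl, ← Nat.card_eq_fintype_card, ← Nat.card_perm]
      exact Subgroup.card_dvd_of_injective f B.inj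
    have hMi : M.index ≤ 3 := by
      have hRi : (R : Subgroup H).index ∣ 15 := by
        have h1 : (R : Subgroup H).index ∣ 8 * 15 :=
          (Subgroup.index_dvd_card _).trans hH
        refine Nat.Coprime.dvd_of_dvd_mul_left ?_ h1
        exact Nat.Coprime.pow_right 3 ((Nat.prime_two.coprime_iff_not_dvd.mpr R.not_dvd_index).symm)
      have h2 := (R : Subgroup H).card_mul_index
      rw [← M.card_mul_index] at h2
      obtain ⟨e, he⟩ := hdvd
      rw [he, mul_assoc (Nat.card R), mul_assoc (Nat.card R)] at h2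
      have hpos : 0 < Nat.card R := Nat.card_pos
      have h3 : (R : Subgroup H).index = 5 * (e * M.index) := by
        rw [← mul_assoc]; exact Nat.eq_of_mul_eq_mul_left hpos (by rw [h2, mul_assoc])
      rw [h3, show (15 : ℕ) = 5 * 3 from rfl, Nat.mul_dvd_mul_iff_left (by norm_num)] at hRi
      exact Nat.le_of_dvd (by norm_num) ((dvd_mul_left _ _).trans hRi)
    let e : alternatingGroup α →* H :=
      (MonoidHom.ofInjective B.inj).symm.toMonoidHom.comp (Subgroup.inclusion B.alt)
    have he : ∀ x, f (e x) = x := fun x => by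
      show f ((MonoidHom.ofInjective B.inj).symm ⟨x, B.alt x.2⟩) = x
      rw [MonoidHom.apply_ofInjective_symm]
    let ψ := (MulAction.toPermHom H (H ⧸ M)).comp e
    haveI : IsSimpleGroup (alternatingGroup α) :=
      alternatingGroup.isSimpleGroup (by rw [Nat.card_eq_fintype_card]; omega)
    rcases IsSimpleGroup.eq_bot_or_eq_top_of_normal ψ.ker inferInstance with h | h
    · exfalso
      have h1 := Nat.card_le_card_of_injective ψ ((MonoidHom.ker_eq_bot_iff ψ).mp h)
      rw [nat_card_alternatingGroup, Nat.card_eq_fintype_card (α := α), hα5, Nat.card_perm,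
        ← Subgroup.index_eq_card] at h1
      have h6 := h1.trans (Nat.factorial_le hMi)
      revert h6; decide
    · intro x hx
      refine ⟨e ⟨x, hx⟩, ?_, he ⟨x, hx⟩⟩
      have h1 : ψ ⟨x, hx⟩ = 1 := MonoidHom.mem_ker.mp (h ▸ Subgroup.mem_top _)
      have h2 := congrArg (fun p : Perm (H ⧸ M) => p ((1 : H) : H ⧸ M)) h1
      simp only [ψ, MonoidHom.comp_apply, MulAction.toPermHom_apply, MulAction.toPerm_apply,
        Perm.one_apply, Quotient.smul_coe, smul_eq_mul, mul_one] at h2
      rwa [QuotientGroup.eq, mul_one, inv_mem_iff] at h2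

end CfsgLib.TwoOvergroups
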